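import Groth.Agent.H29Omega.SmoothInvertible
import Groth.Agent.H22Alg.KExists
import Groth.Agent.H17.KoszTwist.Stalk
import Groth.Agent.H29Omega.ConormalDiffStalk

/-!
# Differentials of a smooth morphism; exact sequences of bundles
-/

set_option autoImplicit false
set_option linter.style.haveILetI false
set_option backward.isDefEq.respectTransparency.types false

universe u

open CategoryTheory CategoryTheory.Limits AlgebraicGeometry TopologicalSpace Opposite
open Groth.Agent.H06Mod

namespace Groth.Agent.H28RR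

variable {X S : Scheme.{u}} (f : X ⟶ S) [QuasiSeparated f] (n : ℕ) [SmoothOfRelativeDimension n f]

theorem isFinLocFreeOfRank_omega : FlatMod.IsFinLocFreeOfRank n (Omega.sheaf f) := fun x => by
  obtain ⟨V, hV, U, hU, hxU, e, h⟩ :=
    SmoothOfRelativeDimension.exists_isStandardSmoothOfRelativeDimension (n := n) (f := f) x
  haveI : Nonempty U := ⟨⟨x, hxU⟩⟩
  have hiso := H17.OmegaLocal.isIso_toSect f hU hV e
  let E := (asIso (OmAff.toSect f V U e)).toLinearEquiv
  let α := f.appLE V U e
  algebraize [α.hom]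
  haveI : Algebra.IsStandardSmoothOfRelativeDimension n Γ(S, V) Γ(X, U) := h
  haveI : Algebra.IsStandardSmooth Γ(S, V) Γ(X, U) :=
    Algebra.IsStandardSmoothOfRelativeDimension.isStandardSmooth n
  let β : Module.Basis (Fin n) Γ(X, U) Ω[Γ(X, U)⁄Γ(S, V)] := Module.finBasisOfFinrankEq _ _
    (Module.finrank_eq_of_rank_eq (Algebra.IsStandardSmoothOfRelativeDimension.rank_kaehlerDifferential n))
  let β' : Module.Basis (Fin n) Γ(X, U) Γ(Omega.sheaf f, U) := β.map E
  let one : Γ(X, U) := 1
  haveI := H8Props.FinLocFree.isIso_basicHom (Omega.sheaf f) (H29Omega.isQCoh_sheaf f) hU one (r := n)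
    (fun j => β' j)
    (fun y => ⟨1, one_mem _, by
      rw [one_smul, ← β'.sum_repr y]
      exact Submodule.sum_mem _ fun j _ => Submodule.smul_mem _ _ (Submodule.subset_span ⟨j, rfl⟩)⟩)
    (fun c hc j => ⟨1, one_mem _, by
      rw [one_mul]; exact Fintype.linearIndependent_iff.1 β'.linearIndependent c hc j⟩)
  refine ⟨X.basicOpen one, ?_, ⟨(asIso (H29Fitt.basicHom (Omega.sheaf f) one fun j => β' j)).symm⟩⟩
  rw [Scheme.basicOpen_one]; exact hxU

theorem injective_of_exact_rank {R A B C : Type u} [CommRing R] [Nontrivial R] [AddCommGroup A] [Module R A]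
    [AddCommGroup B] [Module R B] [AddCommGroup C] [Module R C] [Module.Free R A] [Module.Finite R A]
    [Module.Free R B] [Module.Finite R B] [Module.Free R C] [Module.Finite R C]
    (φ : A →ₗ[R] B) (c : B →ₗ[R] C) (hex : ∀ b, c b = 0 → ∃ a, φ a = b) (hc : Function.Surjective c)
    (h : Module.finrank R B = Module.finrank R A + Module.finrank R C) : Function.Injective φ := by
  obtain ⟨l, hl⟩ := Module.projective_lifting_property c LinearMap.id hc
  let s : A × C →ₗ[R] B := φ.coprod l
  have hs : Function.Surjective s := fun b => by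
    obtain ⟨a, ha⟩ := hex (b - l (c b)) (by
      rw [map_sub, show c (l (c b)) = c b from congr($hl (c b)), sub_self])
    exact ⟨(a, c b), by simp [s, ha]⟩
  let e : B ≃ₗ[R] A × C := LinearEquiv.ofFinrankEq _ _ (by rw [Module.finrank_prod]; exact h)
  have hi : Function.Injective (s ∘ₗ e.toLinearMap) :=
    OrzechProperty.injective_of_surjective_endomorphism _ (hs.comp e.surjective)
  intro a a' ha
  have h1 : s (a, 0) = s (a', 0) := by simp [s, ha]
  obtain ⟨b, hb⟩ := e.surjective (a, (0 : C))
  obtain ⟨b', hb'⟩ := e.surjective (a', (0 : C))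
  have := hi (a₁ := b) (a₂ := b') (by simp [hb, hb', h1])
  rw [this] at hb
  exact (Prod.mk.injEq _ _ _ _ ▸ hb.symm.trans hb').1

/-- A right exact sequence of bundles with additive ranks is short exact. -/
theorem shortExact_of_rank {S : ShortComplex X.Modules} (hex : S.Exact) [Epi S.g] {a b c : ℕ}
    (hA : FlatMod.IsFinLocFreeOfRank a S.X₁) (hB : FlatMod.IsFinLocFreeOfRank b S.X₂)
    (hC : FlatMod.IsFinLocFreeOfRank c S.X₃) (h : b = a + c) : S.ShortExact := by
  haveI : Mono S.f := by
    refine H17.KoszTwist.mono_of_stalk_injective _ fun x => ?_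
    have fr : ∀ {m : ℕ} {M : X.Modules}, FlatMod.IsFinLocFreeOfRank m M →
        Module.Free (X.presheaf.stalk x) (M.presheaf.stalk x) ∧
          Module.Finite (X.presheaf.stalk x) (M.presheaf.stalk x) ∧
          Module.finrank (X.presheaf.stalk x) (M.presheaf.stalk x) = m := fun {m M} hM => by
      obtain ⟨r, ⟨β⟩⟩ := H22Alg.KExists.stalk_free (H22Alg.KModel.finLocFree_of_rank hM) x
      exact ⟨Module.Free.of_basis β, Module.Finite.of_basis β, H22Alg.KExists.rk_of_rank hM x⟩
    obtain ⟨i1, i2, r1⟩ := fr hA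
    obtain ⟨j1, j2, r2⟩ := fr hB
    obtain ⟨k1, k2, r3⟩ := fr hC
    let K := ShortComplex.mk (kernel.ι S.g) S.g (kernel.condition _)
    have hK : K.ShortExact := { exact := ShortComplex.exact_kernel _ }
    haveI : Epi (kernel.lift S.g S.f S.zero) := hex.epi_kernelLift
    refine injective_of_exact_rank _ (stalkLin S.g x) (fun v hv => ?_) (surjective_stalk_of_epi S.g x)
      (by rw [r1, r2, r3, h])
    obtain ⟨w, rfl⟩ := ((stalk_exact K hK x) v).1 hv
    obtain ⟨u, rfl⟩ := surjective_stalk_of_epi (kernel.lift S.g S.f S.zero) x w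
    exact ⟨u, by
      show stalkLin S.f x u = stalkLin (kernel.ι S.g) x (stalkLin (kernel.lift S.g S.f S.zero) x u)
      rw [← H29Omega.stalkLin_comp, kernel.lift_ι]⟩
  exact { exact := hex }

end Groth.Agent.H28RR
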