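import Groth.Agent.H25Euler.Additive

/-!
# The connecting map in dimensions
-/

set_option autoImplicit false
set_option linter.style.haveILetI false
set_option backward.isDefEq.respectTransparency.types false

universe u

open CategoryTheory CategoryTheory.Limits AlgebraicGeometry Opposite TopologicalSpace

namespace Groth.Agent.H28RR

/-- If the middle term has no cohomology in two consecutive degrees, the connecting map is bijective. -/
theorem finrank_connect {k : Type u} [Field k] {X : Scheme.{u}} [X.Over (Spec (CommRingCat.of k))]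
    {S : ShortComplex X.Modules} (hS : S.ShortExact) (n : ℕ) (h₀ : Subsingleton (Coh.HH X S.X₂ n))
    (h₁ : Subsingleton (Coh.HH X S.X₂ (n + 1))) :
    Module.finrank k (Coh.HH X S.X₃ n) = Module.finrank k (Coh.HH X S.X₁ (n + 1)) := by
  let σ := H10Coh.actSeq (H10Coh.globA (A := k) (X := X)) S
  have hs := H10Coh.shortExact_sh hS
  rw [H25Euler.finrank_HH, H25Euler.finrank_HH]
  letI := σ.a₁.mod (n + 1) (⊤ : X.Opens)
  letI := σ.a₂.mod n (⊤ : X.Opens)
  letI := σ.a₂.mod (n + 1) (⊤ : X.Opens)
  letI := σ.a₃.mod n (⊤ : X.Opens)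
  haveI := (H10Coh.HHEquiv S.X₂ n).symm.toEquiv.subsingleton
  haveI := (H10Coh.HHEquiv S.X₂ (n + 1)).symm.toEquiv.subsingleton
  refine (LinearEquiv.ofBijective (σ.delta hs n ⊤) ⟨?_, fun x => ?_⟩).finrank_eq
  · rw [injective_iff_map_eq_zero]
    intro x hx
    obtain ⟨y, rfl⟩ := Abelian.Ext.covariant_sequence_exact₃ _ hs x rfl hx
    obtain rfl : y = 0 := (inferInstance : Subsingleton (H10Coh.HnM S.X₂ n ⊤)).elim _ _
    exact map_zero (H10Coh.ActSh.map σ.comm₂₃ n ⊤)
  · exact Abelian.Ext.covariant_sequence_exact₁ _ hs x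
      ((inferInstance : Subsingleton (H10Coh.HnM S.X₂ (n + 1) ⊤)).elim _ _) rfl

end Groth.Agent.H28RR
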