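import Groth.Agent.H28RR.Omega
import Groth.Agent.H22Alg.ExtPowTwist
import Groth.Agent.H22Alg.PB.Local
import Groth.Agent.H29CurveDual.Duality
import Groth.Agent.S9371
import Groth.Agent.H29RR.Degree

/-!
# The determinant of an extension of line bundles
-/

set_option autoImplicit false
set_option linter.style.haveILetI false
set_option backward.isDefEq.respectTransparency.types false

universe u

open CategoryTheory CategoryTheory.Limits AlgebraicGeometry TopologicalSpace Opposite exteriorPower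
open Groth.Agent.H11Tilde Groth.Agent.H11Ample

noncomputable section

namespace Groth.Agent.H28RR

variable {X : Scheme.{u}}

/-- The tensor of two sections of an invertible module is symmetric. -/
theorem tm_comm {B : X.Modules} (hB : PicF.IsInvertible B) {U : X.Opens} (b b' : Γ(B, U)) : tm b b' = tm b' b := by
  refine H11Tilde.eq_of_locally _ _ fun x hx => ?_
  obtain ⟨V, e, hxV, he⟩ := exists_gen hB x
  refine ⟨U ⊓ V, inf_le_left, ⟨hx, hxV⟩, ?_⟩
  have he' := he.res (inf_le_right : U ⊓ V ≤ V)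
  rw [tm_res, tm_res]
  obtain ⟨r, hr⟩ := exists_coeff he' (B.presheaf.map (homOfLE (inf_le_left : U ⊓ V ≤ U)).op b)
  obtain ⟨s, hs⟩ := exists_coeff he' (B.presheaf.map (homOfLE (inf_le_left : U ⊓ V ≤ U)).op b')
  rw [hr, hs, tm_smul_left, tm_smul_right, tm_smul_left, tm_smul_right, smul_smul, smul_smul, mul_comm]

variable {E B : X.Modules} (c : E ⟶ B)

/-- `(e, e') ↦ e' ⊗ c e - e ⊗ c e'`. -/
def swapAlt (U : X.Opens) : Γ(E, U) [⋀^Fin 2]→ₗ[Γ(X, U)] Γ(CohB1.tensorMod E B, U) where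
  toFun v := tm (v 1) (c.app U (v 0)) - tm (v 0) (c.app U (v 1))
  map_update_add' {_} v i x y := by
    fin_cases i <;> simp [map_add, tm_add_left, tm_add_right] <;> abel
  map_update_smul' {_} v i r x := by
    fin_cases i <;> simp [Scheme.Modules.Hom.app_smul, tm_smul_left, tm_smul_right, smul_sub]
  map_eq_zero_of_eq' v i j h hij := by
    fin_cases i <;> fin_cases j <;> simp_all

theorem swapAlt_apply (U : X.Opens) (v : Fin 2 → Γ(E, U)) :
    swapAlt c U v = tm (v 1) (c.app U (v 0)) - tm (v 0) (c.app U (v 1)) := rfl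

theorem epi_invertible_isIso {M N : X.Modules} (φ : M ⟶ N) [Epi φ] (hM : FlatMod.IsFinLocFreeOfRank 1 M)
    (hN : FlatMod.IsFinLocFreeOfRank 1 N) : IsIso φ := by
  haveI : Mono φ := by
    refine H17.KoszTwist.mono_of_stalk_injective _ fun x => ?_
    obtain ⟨a, ⟨ba⟩⟩ := H22Alg.KExists.stalk_free (H22Alg.KModel.finLocFree_of_rank hM) x
    obtain ⟨b, ⟨bb⟩⟩ := H22Alg.KExists.stalk_free (H22Alg.KModel.finLocFree_of_rank hN) x
    haveI := Module.Free.of_basis ba
    haveI := Module.Finite.of_basis ba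
    haveI := Module.Free.of_basis bb
    haveI := Module.Finite.of_basis bb
    let e : N.presheaf.stalk x ≃ₗ[X.presheaf.stalk x] M.presheaf.stalk x := LinearEquiv.ofFinrankEq _ _
      (by rw [show Module.finrank _ _ = H22Alg.KExists.rk x N from rfl, H22Alg.KExists.rk_of_rank hN x,
        show Module.finrank _ _ = H22Alg.KExists.rk x M from rfl, H22Alg.KExists.rk_of_rank hM x])
    have h := OrzechProperty.injective_of_surjective_endomorphism (H06Mod.stalkLin φ x ∘ₗ e.toLinearMap)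
      ((H06Mod.surjective_stalk_of_epi φ x).comp e.surjective)
    intro a a' ha
    obtain ⟨p, rfl⟩ := e.surjective a
    obtain ⟨q, rfl⟩ := e.surjective a'
    exact congrArg e (h ha)
  exact isIso_of_mono_of_epi φ

/-- The determinant of an extension of line bundles is the tensor product of the two. -/
theorem nonempty_det_iso {S : ShortComplex X.Modules} (hS : S.ShortExact) (h₁ : PicF.IsInvertible S.X₁)
    (h₂ : FlatMod.IsFinLocFreeOfRank 2 S.X₂) (h₃ : PicF.IsInvertible S.X₃) {L : X.Modules}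
    (hL : ExtPow.IsExtPow 2 S.X₂ L) (hL1 : FlatMod.IsFinLocFreeOfRank 1 L) :
    Nonempty (L ≅ CohB1.tensorMod S.X₁ S.X₃) := by
  haveI := hS.mono_f
  haveI := hS.epi_g
  obtain ⟨φ, g, hg⟩ := H22Alg.ExtPowHom.exists_hom hL (M := CohB1.tensorMod S.X₂ S.X₃)
    (fun U => exteriorPower.alternatingMapLinearEquiv (swapAlt S.g U.1)) fun U V h v => by
      rw [exteriorPower.alternatingMapLinearEquiv_apply_ιMulti, exteriorPower.alternatingMapLinearEquiv_apply_ιMulti,
        swapAlt_apply, swapAlt_apply, map_sub, tm_res, tm_res, app_map_apply, app_map_apply]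
  have hgen : ∀ (U : X.affineOpens) (v : Fin 2 → Γ(S.X₂, U.1)),
      g.app U.1 ((φ U).symm (ιMulti _ 2 v)) = tm (v 1) (S.g.app U.1 (v 0)) - tm (v 0) (S.g.app U.1 (v 1)) := by
    intro U v
    rw [hg, LinearEquiv.apply_symm_apply, exteriorPower.alternatingMapLinearEquiv_apply_ιMulti, swapAlt_apply]
  have hS' := H10Coh.Tw.shortExact_seq hS h₃
  haveI := hS'.mono_f
  haveI : Mono (LimSh.tensorModMap S.f S.X₃) := hS'.mono_f
  have h0 : g ≫ (H10Coh.Tw.seq S h₃).g = 0 := by
    refine H17.AffHom.hom_ext fun U x => ?_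
    obtain ⟨y, rfl⟩ := (φ U).symm.surjective x
    show (LimSh.tensorModMap S.g S.X₃).app U.1 (g.app U.1 ((φ U).symm y)) = 0
    induction y using H22Alg.ExtPowAlg.induction with
    | hgen v =>
      rw [hgen, map_sub, H10Coh.Tw.map_tm, H10Coh.Tw.map_tm, tm_comm h₃, sub_self]
    | h0 => simp
    | hadd x y hx hy => simp only [map_add, hx, hy, add_zero]
    | hsmul r x hx => simp only [map_smul, Scheme.Modules.Hom.app_smul, hx, smul_zero]
  let γ : L ⟶ CohB1.tensorMod S.X₁ S.X₃ := hS'.exact.lift g h0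
  have hγ : γ ≫ LimSh.tensorModMap S.f S.X₃ = g := hS'.exact.lift_f g h0
  haveI : Epi γ := by
    refine H11Tilde.epi_of_locally_surjective _ fun W t x hx => ?_
    obtain ⟨V, hV, l, m, hxV, hl, hm⟩ := H10Coh.Tw.exists_eq_tm h₃ t hx
    obtain ⟨V', hV', hxV', e, he⟩ := H10Coh.exists_nhds_lift_of_epi S.g V l x hxV
    obtain ⟨A, hA, hxA, hAV⟩ := exists_isAffineOpen_mem_and_subset (x := x) (U := V') hxV'
    have hAV₁ : A ≤ V := fun y hy => hV' (hAV hy)
    let e₁ := S.X₂.presheaf.map (homOfLE (show A ≤ V' from hAV)).op e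
    let m₁ := S.X₁.presheaf.map (homOfLE hAV₁).op m
    refine ⟨A, hAV₁.trans hV, hxA,
      (φ ⟨A, hA⟩).symm (ιMulti _ 2 ![e₁, S.f.app A m₁]), ?_⟩
    refine S9371.app_injective_of_mono (LimSh.tensorModMap S.f S.X₃) A ?_
    have h1 : (LimSh.tensorModMap S.f S.X₃).app A (γ.app A ((φ ⟨A, hA⟩).symm (ιMulti _ 2 ![e₁, S.f.app A m₁]))) =
        g.app A ((φ ⟨A, hA⟩).symm (ιMulti _ 2 ![e₁, S.f.app A m₁])) := by
      exact congr($(congrArg (fun z => Scheme.Modules.Hom.app z A) hγ) _)
    rw [h1, hgen ⟨A, hA⟩]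
    have hm' : (CohB1.tensorMod S.X₁ S.X₃).presheaf.map (homOfLE (hAV₁.trans hV)).op t =
        tm m₁ (S.X₃.presheaf.map (homOfLE hAV₁).op l) := by
      rw [← tm_res, ← hm, H10Coh.mres_mres]
    rw [hm', H10Coh.Tw.map_tm]
    have hc : S.g.app A e₁ = S.X₃.presheaf.map (homOfLE hAV₁).op l := by
      show S.g.app A (S.X₂.presheaf.map _ e) = _
      rw [app_map_apply, he, H10Coh.mres_mres]
    have hz : S.g.app A (S.f.app A m₁) = 0 :=
      congr($(congrArg (fun z => Scheme.Modules.Hom.app z A) S.zero) m₁)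
    show tm (S.f.app A m₁) (S.g.app A e₁) - tm e₁ (S.g.app A (S.f.app A m₁)) = _
    rw [hc, hz, ← zero_smul Γ(X, A) (0 : Γ(S.X₃, A)), tm_smul_right, zero_smul, sub_zero]
  haveI := epi_invertible_isIso γ hL1 (H29RR.rank_one_of_isInvertible (H11Ample.isInvertible_tensor h₁ h₃))
  exact ⟨asIso γ⟩

end Groth.Agent.H28RR
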