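import Groth.Agent.H28RR.Cor
import Groth.Agent.H28RR.Det
import Groth.Agent.H28RR.Connect
import Groth.Agent.H22Alg.ESZ
import Groth.Agent.H22Alg.CurveAmple
import Groth.Agent.H10Coh.SerreVanishing2
import Groth.Agent.H10Coh.TensorBasics
import Groth.Agent.H8Props.FieldDimEquidim

/-!
# Serre duality in top degree on a smooth surface, in dimensions
-/

set_option autoImplicit false
set_option linter.style.haveILetI false
set_option linter.unusedSectionVars false
set_option backward.isDefEq.respectTransparency.types false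

universe u

open CategoryTheory CategoryTheory.Limits AlgebraicGeometry TopologicalSpace Opposite
open Groth.Agent.H28Surf

namespace Groth.Agent.H28RR

variable {X : Scheme.{u}} (k : Type u) [Field k] [X.Over (Spec (CommRingCat.of k))]
  [IsProper (X ↘ Spec (CommRingCat.of k))] [Smooth (X ↘ Spec (CommRingCat.of k))] [IsIntegral X]

include k in
/-- An invertible module on a smooth surface has depth two at closed points. -/
theorem one_lt_depth (hdim : topologicalKrullDim X = 2) {M : X.Modules} (hM : PicF.IsInvertible M) (x : X)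
    (hx : IsClosed ({x} : Set X)) : (1 : ℕ∞) < LocCoh.depth (X.presheaf.stalk x) (M.presheaf.stalk x) := by
  let f := X ↘ Spec (CommRingCat.of k)
  haveI := H28Int.isNoetherian k (X := X)
  haveI := H19Grp.isRegularLocalRing_stalk_of_smooth f x
  have hd : ringKrullDim (X.presheaf.stalk x) = 2 := by
    have h := H8Props.FieldDim.localDim_eq_stalk_add_cdim (k := k) f x
    rw [H8Props.FieldDim.localDim_eq_dim_of_irreducible (k := k) f x, hdim] at h
    have hc : H8Props.FieldDim.cdim x = 0 := by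
      show topologicalKrullDim (closure ({x} : Set X)) = 0
      rw [hx.closure_eq]
      refine le_antisymm (topologicalKrullDim_zero_of_discreteTopology ({x} : Set X)) ?_
      haveI : Nonempty (TopologicalSpace.IrreducibleCloseds ({x} : Set X)) :=
        ⟨⟨{⟨x, rfl⟩}, isIrreducible_singleton, isClosed_discrete _⟩⟩
      exact Order.krullDim_nonneg (α := TopologicalSpace.IrreducibleCloseds ({x} : Set X))
    rw [hc, add_zero] at h
    exact h.symm
  haveI := H29Ref.finite_stalk _ (H11Ample.isCoh_of_isInvertible hM).2 x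
  obtain ⟨p, ⟨b⟩⟩ := H22Alg.KExists.stalk_free
    (H22Alg.KModel.finLocFree_of_rank (H29RR.rank_one_of_isInvertible hM)) x
  refine lt_of_lt_of_le (b := LocCoh.depth (X.presheaf.stalk x) (X.presheaf.stalk x)) ?_
    ((H4Depth.idealDepth_le_idealDepth_pi _ p).trans (H4Depth.idealDepth_congr _ b.equivFun.symm).le)
  have h := H4Depth.depth_self_eq_ringKrullDim_of_regular (X.presheaf.stalk x)
  rw [hd] at h
  rw [show LocCoh.depth (X.presheaf.stalk x) (X.presheaf.stalk x) = 2 from WithBot.coe_inj.1 h]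
  norm_num

variable [IsAlgClosed k]

/-- The adjunction isomorphism for a smooth curve. -/
theorem nonempty_omega_curve (hdim : topologicalKrullDim X = 2) {W : X.Modules}
    (hW : ExtPow.IsExtPow 2 (Omega.sheaf (X ↘ Spec (CommRingCat.of k))) W)
    {C : Scheme.{u}} (i : C ⟶ X) [IsClosedImmersion i] [IsIntegral C] (hC : topologicalKrullDim C = 1)
    [Smooth (i ≫ (X ↘ Spec (CommRingCat.of k)))] :
    Nonempty ((Scheme.Modules.pullback i).obj W ≅
      CohB1.tensorMod (Omega.conormal i) (Omega.sheaf (i ≫ (X ↘ Spec (CommRingCat.of k))))) := by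
  letI : C.Over (Spec (CommRingCat.of k)) := ⟨i ≫ (X ↘ Spec (CommRingCat.of k))⟩
  haveI : IsProper (C ↘ Spec (CommRingCat.of k)) := show IsProper (i ≫ _) from inferInstance
  haveI := H28Int.isNoetherian k (X := X)
  haveI := H28Int.isNoetherian k (X := C)
  let f := X ↘ Spec (CommRingCat.of k)
  haveI := H27CurveDiv.smoothOfRelativeDimension_of_dim f 2 hdim
  haveI := H27CurveDiv.smoothOfRelativeDimension_of_dim (i ≫ f) 1 hC
  have hΩX := isFinLocFreeOfRank_omega f 2
  have hΩC := isFinLocFreeOfRank_omega (i ≫ f) 1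
  have hI := H28Int.isInvertible_idealMod_curve k hdim i hC
  have hWi := isInvertible_canonical k hdim hW
  have hB := H26Gr.isFinLocFreeOfRank_pullback i hΩX
  have hA : FlatMod.IsFinLocFreeOfRank 1 (Omega.conormal i) :=
    H26Gr.isFinLocFreeOfRank_pullback i (H29RR.rank_one_of_isInvertible hI)
  obtain ⟨φ, hφ⟩ := H26Def.exists_isConormalDiff i (OmegaSh.dOmega f)
  obtain ⟨c, hc, -⟩ := S9370.result f (i ≫ f) i (𝟙 _) (Category.comp_id _) _ _ (H17.PrinOmega.isUniversal_dOmega f)
    _ _ (H17.PrinOmega.isUniversal_dOmega (i ≫ f))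
  obtain ⟨w, hex, hepi⟩ := H17.Conormal.exact_conormalDiffSeq f i (H17.PrinOmega.isUniversal_dOmega f)
    (H17.PrinOmega.isUniversal_dOmega (i ≫ f)) hφ hc
  haveI := hepi
  exact nonempty_det_iso (shortExact_of_rank (S := ShortComplex.mk _ _ w) hex hA hB hΩC rfl)
    (H22Alg.PB.isInvertible_of_rank_one hA) hB (H22Alg.PB.isInvertible_of_rank_one hΩC)
    (H22Alg.ExtPowHom.isExtPow_pullback i (H8Props.FinLocFree.isQCoh_of_isFinLocFree _
      (H22Alg.KModel.finLocFree_of_rank hΩX)) hW)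
    (H26Gr.isFinLocFreeOfRank_pullback i (H29RR.rank_one_of_isInvertible hWi))

/-- `h²(L) = h⁰(W ⊗ L⁻¹)`. -/
theorem finrank_h2 (hdim : topologicalKrullDim X = 2) {W : X.Modules}
    (hW : ExtPow.IsExtPow 2 (Omega.sheaf (X ↘ Spec (CommRingCat.of k))) W)
    {L N : X.Modules} (hL : PicF.IsInvertible L) (hN : PicF.IsInvertible N)
    (eLN : CohB1.tensorMod L N ≅ Coh.structureModule X) :
    Module.finrank k (Coh.HH X L 2) = Module.finrank k (Coh.HH X (CohB1.tensorMod W N) 0) := by
  haveI := H28Int.isNoetherian k (X := X)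
  let f := X ↘ Spec (CommRingCat.of k)
  obtain ⟨H, hH⟩ := exists_ample k hdim
  have hHi := (H11Ample.isAmple_iff.1 hH).1
  obtain ⟨H', hH', ⟨eH₀⟩⟩ := H11Sym.exists_inverse hHi
  have eH : CohB1.tensorMod H H' ≅ Coh.structureModule X := H10Coh.Tw.commIso H H' ≪≫ eH₀
  have hWi := isInvertible_canonical k hdim hW
  let M := CohB1.tensorMod W N
  have hM : PicF.IsInvertible M := H11Ample.isInvertible_tensor hWi hN
  obtain ⟨a, ha⟩ := H22Alg.ESZ.exists_bound_ample k hH ⟨eH⟩ (H11Ample.isCoh_of_isInvertible hM) 1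
    fun x hx => one_lt_depth k hdim hM x hx
  obtain ⟨b, hb⟩ := H10Coh.Tw.exists_vanishing_ample f hH L (H11Ample.isCoh_of_isInvertible hL)
  obtain ⟨m₀, hm₀⟩ := Embed.eventually_closedImmersion f hH
  obtain ⟨m, hma, hmb, hmc⟩ : ∃ m : ℕ, a ≤ m ∧ b ≤ m ∧ m₀ ≤ m := ⟨a + b + m₀, by omega, by omega, by omega⟩
  obtain ⟨n, r, hr, hrq, ⟨τ⟩⟩ := hm₀ m hmc
  haveI := hr
  obtain ⟨C, hC, hsm, ⟨e⟩⟩ := exists_hyperplane_curve k hdim r hrq
  haveI := hsm
  haveI := hC.int
  have hCd : topologicalKrullDim C.subscheme = 1 := (dim_subscheme C).trans hC.dim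
  have hCe := isEffCartier_curve k hdim hC
  let I := ClSub.idealMod C
  let A := CohB1.tensorPow H m
  have hI : PicF.IsInvertible I := isInvertible_ideal k hCe
  have hA : PicF.IsInvertible A := H11Ample.isInvertible_tensorPow hHi m
  let eIA : CohB1.tensorMod I A ≅ Coh.structureModule X := PicGrp.tensorModIso (Iso.refl _) τ.symm ≪≫ e
  haveI := H10Coh.epi_toSubscheme C
  have hSk := H10Coh.shortExact_kernel (ClSub.toSubscheme C)
  -- sections of `M` restrict bijectively
  have hMrest : Module.finrank k (Coh.HH X M 0) =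
      Module.finrank k (Coh.HH X (CohB1.tensorMod (ClSub.quotMod C) M) 0) := by
    let S := H10Coh.Tw.seq (ShortComplex.mk _ (ClSub.toSubscheme C) (kernel.condition _)) hM
    have hS : S.ShortExact := H10Coh.Tw.shortExact_seq hSk hM
    obtain ⟨P⟩ := H10Coh.Tw.nonempty_tensorPow_inverse eH hHi hH' m
    let ε : CohB1.tensorMod M (CohB1.tensorPow H' m) ≅ S.X₁ :=
      PicGrp.tensorModIso (Iso.refl M)
        ((H10Coh.Tw.leftUnitIso _).symm ≪≫ PicGrp.tensorModIso eIA.symm (Iso.refl _) ≪≫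
          H10Coh.Tw.assoc I A _ ≪≫ PicGrp.tensorModIso (Iso.refl I) P ≪≫ H10Coh.Tw.rightUnitIso I) ≪≫
        H10Coh.Tw.commIso M I
    have hv : ∀ i ≤ 1, Subsingleton (Coh.HH X S.X₁ i) := fun i hi => by
      haveI := ha m hma i hi
      exact (H29RR.hhIso (k := k) ε i).symm.toEquiv.subsingleton
    have h1 : Function.Bijective (Canon.HHlin k S.g 0) := by
      refine ⟨?_, H29Serre.surjective_lin hS (hv 1 le_rfl)⟩
      rw [← LinearMap.ker_eq_bot, H25Par.hhlin_exact (k := k) hS, LinearMap.range_eq_bot]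
      haveI := hv 0 zero_le_one
      exact LinearMap.ext fun x => by rw [Subsingleton.elim x 0, map_zero, map_zero]
    exact (H22Alg.CurveAmple.finrank_HH_congr (k := k) (H10Coh.Tw.leftUnitIso M) 0).symm.trans
      (LinearEquiv.ofBijective _ h1).finrank_eq
  -- the connecting map
  let T := CohB1.tensorMod L A
  have hT : PicF.IsInvertible T := H11Ample.isInvertible_tensor hL hA
  let S := H10Coh.Tw.seq (ShortComplex.mk _ (ClSub.toSubscheme C) (kernel.condition _)) hT
  have hS : S.ShortExact := H10Coh.Tw.shortExact_seq hSk hT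
  have hTv : ∀ p, 0 < p → Subsingleton (Coh.HH X S.X₂ p) := fun p hp => by
    haveI : Subsingleton (Coh.HH X T p) := (H10Coh.HHEquiv T p).toEquiv.subsingleton_congr.2 (hb m hmb p hp)
    exact (H29RR.hhIso (k := k) (H10Coh.Tw.leftUnitIso T) p).toEquiv.subsingleton
  let ε₂ : S.X₁ ≅ L :=
    (H10Coh.Tw.assoc I L A).symm ≪≫ PicGrp.tensorModIso (H10Coh.Tw.commIso I L) (Iso.refl A) ≪≫
      H10Coh.Tw.assoc L I A ≪≫ PicGrp.tensorModIso (Iso.refl L) eIA ≪≫ H10Coh.Tw.rightUnitIso L
  have hcon := finrank_connect (k := k) hS 1 (hTv 1 one_pos) (hTv 2 (by omega))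
  rw [H22Alg.CurveAmple.finrank_HH_congr (k := k) ε₂ 2] at hcon
  rw [← hcon]
  show Module.finrank k (Coh.HH X (CohB1.tensorMod (ClSub.quotMod C) T) 1) = _
  rw [hMrest, finrank_quot_tensor k hC hT 1, finrank_quot_tensor k hC hM 0]
  -- duality on the curve
  letI : C.subscheme.Over (Spec (CommRingCat.of k)) := ⟨C.subschemeι ≫ f⟩
  haveI : IsProper (C.subscheme ↘ Spec (CommRingCat.of k)) := show IsProper (C.subschemeι ≫ _) from inferInstance
  haveI : Smooth (C.subscheme ↘ Spec (CommRingCat.of k)) := hsm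
  let i := C.subschemeι
  let pb := Scheme.Modules.pullback i
  have pT : ∀ P Q : X.Modules, Nonempty (pb.obj (CohB1.tensorMod P Q) ≅ CohB1.tensorMod (pb.obj P) (pb.obj Q)) :=
    fun P Q => ⟨(H16Derived.KFlat.Stalk.pullTensorLIso i Q).app P⟩
  obtain ⟨adj⟩ := nonempty_omega_curve k hdim hW i hCd
  have hcn : Omega.conormal i ≅ pb.obj I := eqToIso (by
    show pb.obj (ClSub.idealMod i.ker) = _
    rw [C.ker_subschemeι])
  obtain ⟨q1⟩ := pT L A
  obtain ⟨q2⟩ := pT N I
  obtain ⟨q3⟩ := pT W N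
  obtain ⟨q4⟩ := pT (CohB1.tensorMod L A) (CohB1.tensorMod N I)
  -- `(L ⊗ A) ⊗ (N ⊗ I) ≅ O`
  let eTI : CohB1.tensorMod (CohB1.tensorMod L A) (CohB1.tensorMod N I) ≅ Coh.structureModule X :=
    H10Coh.Tw.assoc L A _ ≪≫ PicGrp.tensorModIso (Iso.refl L) ((H10Coh.Tw.assoc A N I).symm ≪≫
      PicGrp.tensorModIso (H10Coh.Tw.commIso A N) (Iso.refl I) ≪≫ H10Coh.Tw.assoc N A I ≪≫
      PicGrp.tensorModIso (Iso.refl N) (H10Coh.Tw.commIso A I ≪≫ eIA) ≪≫ H10Coh.Tw.rightUnitIso N) ≪≫ eLN
  let eC : CohB1.tensorMod (pb.obj T) (CohB1.tensorMod (pb.obj N) (pb.obj I)) ≅ Coh.structureModule C.subscheme :=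
    PicGrp.tensorModIso (Iso.refl _) q2.symm ≪≫ q4.symm ≪≫ pb.mapIso eTI ≪≫
      H16Derived.KFlat.Stalk.structurePullbackIso i
  rw [H29CurveDual.finrank_h1_invertible (k := k) hCd (H11Ample.isInvertible_pullback i hT)
    (H11Ample.isInvertible_tensor (H11Ample.isInvertible_pullback i hN) (H11Ample.isInvertible_pullback i hI)) eC]
  refine H22Alg.CurveAmple.finrank_HH_congr (k := k) ?_ 0
  exact PicGrp.tensorModIso (Iso.refl _) (H10Coh.Tw.commIso _ _) ≪≫ (H10Coh.Tw.assoc _ _ _).symm ≪≫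
    PicGrp.tensorModIso (H10Coh.Tw.commIso _ _ ≪≫ PicGrp.tensorModIso hcn.symm (Iso.refl _) ≪≫ adj.symm)
      (Iso.refl _) ≪≫ q3.symm

end Groth.Agent.H28RR
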