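import Groth.Agent.H28Surf.Laufer
import Groth.Agent.H28Surf.Twist
import Groth.Agent.H28Surf.DivisorH1
import Groth.Agent.H02CA.VBPn.SerreSeq
import Groth.Agent.H16Derived.ProjFormula.ClosedImm
import Groth.Agent.H17.FPExt.Colimit
import Groth.Agent.H22Alg.ESZPush

/-!
# Sections of modules of nonpositive degrees on numerically connected cycles
-/

set_option autoImplicit false
set_option linter.style.haveILetI false
set_option linter.unusedSectionVars false
set_option backward.isDefEq.respectTransparency.types false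
universe u

open CategoryTheory CategoryTheory.Limits AlgebraicGeometry Opposite TopologicalSpace
open Groth.Agent.H28Surf

namespace Groth.Agent.H28RR

/-- A section of a quotient of an invertible module is a generator when it generates a nonzero quotient at every
point. -/
theorem epi_of_epi_quot {X : Scheme.{u}} [IsLocallyNoetherian X] {L N : X.Modules} (hL : PicF.IsInvertible L) (π : L ⟶ N) [Epi π]
    (s : Coh.structureModule X ⟶ N)
    (h : ∀ x ∈ CohB1.support N, ∃ (N₀ : X.Modules) (q : N ⟶ N₀), Epi (s ≫ q) ∧ x ∈ CohB1.support N₀) :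
    Epi s := by
  refine Preadditive.epi_of_isZero_cokernel _ (H17.FPExt.isZero_of_stalk _ fun x => ?_)
  let T := DerSch.stalkFunctor X x
  have hc : Function.Surjective (T.map (cokernel.π s)).hom :=
    (ModuleCat.epi_iff_surjective _).1 inferInstance
  have hsurj : Function.Surjective (T.map s).hom := by
    by_cases hx : x ∈ CohB1.support N
    swap
    · haveI : Subsingleton (N.presheaf.stalk x) := not_not.1 hx
      intro n
      exact ⟨0, @Subsingleton.elim (N.presheaf.stalk x) _ _ _⟩
    obtain ⟨hf, hfin, hr⟩ := H25Par.finrank_stalk (H29RR.rank_one_of_isInvertible hL) x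
    haveI := hf
    obtain ⟨e, -, he⟩ := finrank_eq_one_iff'.1 hr
    have hπ : Function.Surjective (T.map π).hom := (ModuleCat.epi_iff_surjective _).1 inferInstance
    have hgen : ∀ n : T.obj N, ∃ a : X.presheaf.stalk x, a • (T.map π).hom e = n := fun n => by
      obtain ⟨l, rfl⟩ := hπ n
      obtain ⟨a, rfl⟩ := he l
      exact ⟨a, (map_smul (T.map π).hom a e).symm⟩
    obtain ⟨N₀, q, hq, hx₀⟩ := h x hx
    haveI := hq
    haveI : Epi q := epi_of_epi s q
    have hv : Function.Surjective (T.map q).hom := (ModuleCat.epi_iff_surjective _).1 inferInstance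
    have hsq : Function.Surjective (T.map (s ≫ q)).hom := (ModuleCat.epi_iff_surjective _).1 inferInstance
    obtain ⟨y, hy⟩ := hsq ((T.map q).hom ((T.map π).hom e))
    rw [T.map_comp, ModuleCat.hom_comp, LinearMap.comp_apply] at hy
    obtain ⟨a, ha⟩ := hgen ((T.map s).hom y)
    rw [← ha, map_smul] at hy
    have hu : IsUnit a := by
      by_contra hna
      refine hx₀ ⟨fun m₁ m₂ => ?_⟩
      have h1 := IsLocalRing.isUnit_one_sub_self_of_mem_nonunits a hna
      have h2 : (T.map q).hom ((T.map π).hom e) = 0 := h1.smul_eq_zero.1 (by rw [sub_smul, one_smul, hy, sub_self])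
      have h3 : ∀ m : T.obj N₀, m = 0 := fun m => by
        obtain ⟨n, rfl⟩ := hv m
        obtain ⟨b, rfl⟩ := hgen n
        rw [map_smul, h2, smul_zero]
      exact (h3 m₁).trans (h3 m₂).symm
    obtain ⟨b, hb⟩ := hu.exists_left_inv
    intro n
    obtain ⟨c, rfl⟩ := hgen n
    exact ⟨(c * b) • y, by rw [map_smul, ← ha, smul_smul, mul_assoc, hb, mul_one]⟩
  refine ⟨fun m₁ m₂ => ?_⟩
  have h3 : ∀ m : T.obj (cokernel s), m = 0 := fun m => by
    obtain ⟨n, rfl⟩ := hc m
    obtain ⟨y, rfl⟩ := hsurj n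
    rw [← LinearMap.comp_apply, ← ModuleCat.hom_comp, ← T.map_comp, cokernel.condition, T.map_zero]
    rfl
  exact (h3 m₁).trans (h3 m₂).symm

theorem homOfGlobal_comp {X : Scheme.{u}} {M N : X.Modules} (g : Γ(M, ⊤)) (f : M ⟶ N) :
    H11Tilde.homOfGlobal M g ≫ f = H11Tilde.homOfGlobal N (f.app ⊤ g) := by
  refine Scheme.Modules.hom_ext _ _ fun V => ?_
  ext r
  show f.app V ((H11Tilde.homOfGlobal M g).app V r) = (H11Tilde.homOfGlobal N (f.app ⊤ g)).app V r
  rw [H11Tilde.homOfGlobal_app, H11Tilde.homOfGlobal_app, Scheme.Modules.Hom.app_smul, H11Tilde.app_map_apply]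

/-- An epimorphism between invertible modules is an isomorphism. -/
theorem isIso_of_epi_invertible {X : Scheme.{u}} [IsLocallyNoetherian X] {L M : X.Modules} (hL : PicF.IsInvertible L)
    (hM : PicF.IsInvertible M) (s : L ⟶ M) [Epi s] : IsIso s := by
  refine H16Derived.KFlat.Stalk.isIso_of_stalk _ fun x => ?_
  let T := DerSch.stalkFunctor X x
  rw [ConcreteCategory.isIso_iff_bijective]
  obtain ⟨hf, hfin, hr⟩ := H25Par.finrank_stalk (H29RR.rank_one_of_isInvertible hL) x
  obtain ⟨hf', hfin', hr'⟩ := H25Par.finrank_stalk (H29RR.rank_one_of_isInvertible hM) x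
  haveI := hf
  haveI := hf'
  haveI := hfin
  haveI := hfin'
  let φ : M.presheaf.stalk x ≃ₗ[X.presheaf.stalk x] L.presheaf.stalk x :=
    (Module.finBasisOfFinrankEq (X.presheaf.stalk x) (M.presheaf.stalk x) hr').equiv
      (Module.finBasisOfFinrankEq (X.presheaf.stalk x) (L.presheaf.stalk x) hr) (Equiv.refl _)
  have hs : Function.Surjective (Algz.stalkMapₗ s x) := (ModuleCat.epi_iff_surjective (T.map s)).1 inferInstance
  exact (Function.Bijective.of_comp_iff' φ.bijective _).1
    (OrzechProperty.bijective_of_surjective_endomorphism (φ.toLinearMap.comp (Algz.stalkMapₗ s x))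
      (φ.surjective.comp hs))

variable {X : Scheme.{u}} (k : Type u) [Field k] [IsAlgClosed k] [X.Over (Spec (CommRingCat.of k))]
  [IsProper (X ↘ Spec (CommRingCat.of k))] [Smooth (X ↘ Spec (CommRingCat.of k))] [IsIntegral X]

include k

/-- A nonzero section of the functions on a curve generates them. -/
theorem epi_of_ne_zero_quot {C : X.IdealSheafData} (hC : IsCurve C) (r : Coh.structureModule X ⟶ ClSub.quotMod C)
    (hr : r ≠ 0) : Epi r := by
  haveI := hC.int
  haveI : Nonempty C.subscheme := inferInstance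
  haveI : ConnectedSpace C.subscheme := inferInstance
  let g : Γ(C.subscheme, ⊤) := r.app ⊤ (1 : Γ(X, ⊤))
  let f := C.subschemeι ≫ (X ↘ Spec (CommRingCat.of k))
  haveI : IsProper f := inferInstance
  obtain ⟨c, hc⟩ := surjective_toGlobal f g
  have hc0 : c ≠ 0 := fun h => hr (by
    rw [H02CA.VBPn.eq_homOfGlobal r, show r.app ⊤ (1 : Γ(X, ⊤)) = 0 from hc.symm.trans (by rw [h, map_zero]; rfl)]
    exact ((H02CA.VBPn.eq_homOfGlobal (0 : Coh.structureModule X ⟶ ClSub.quotMod C))).symm)
  let b : Γ(X, ⊤) := Coh.toGlobal (X ↘ Spec (CommRingCat.of k)) c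
  have hb : IsUnit b := (Ne.isUnit hc0).map _
  have hiso : IsIso (H11Tilde.homOfGlobal (Coh.structureModule X) b) := H11Tilde.isIso_homOfGlobal _ _ fun V => by
    obtain ⟨u, hu⟩ := hb.map (X.presheaf.map (homOfLE (le_top : V ≤ ⊤)).op).hom
    show Function.Bijective fun r : Γ(X, V) => r * X.presheaf.map (homOfLE (le_top : V ≤ ⊤)).op b
    erw [← hu]
    exact (Units.mulRight u).bijective
  have he : r = H11Tilde.homOfGlobal (Coh.structureModule X) b ≫ ClSub.toSubscheme C := by
    rw [homOfGlobal_comp, H02CA.VBPn.eq_homOfGlobal r]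
    congr 1
    refine hc.symm.trans ?_
    show Coh.toGlobal f c = C.subschemeι.appTop b
    rfl
  rw [he]
  haveI := H10Coh.epi_toSubscheme C
  infer_instance

variable (hdim : topologicalKrullDim X = 2)

include hdim

/-- The kernel of restriction to any component of a numerically connected cycle has no sections. -/
theorem exists_complement {M : Multiset X.IdealSheafData} (hM : ∀ C ∈ M, IsCurve C) (hsteps : HasSteps k M)
    {L : X.Modules} (hL : PicF.IsInvertible L) (hdeg : ∀ C ∈ M, degOn k C L ≤ 0) {C₀ : X.IdealSheafData}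
    (hC₀ : C₀ ∈ M) : ∃ B : X.IdealSheafData, FGA.IsEffCartier B ∧ M.prod = C₀ * B ∧ Subsingleton
      (Coh.HH X (CohB1.tensorMod (ClSub.quotMod B) (CohB1.tensorMod (ClSub.idealMod C₀) L)) 0) := by
  haveI := H28Int.isNoetherian k (X := X)
  have hC₀e := isEffCartier_curve k hdim (hM C₀ hC₀)
  have hL' := H11Ample.isInvertible_tensor (isInvertible_ideal k hC₀e) hL
  refine chain_induction k hsteps hC₀ (fun A => ∃ B : X.IdealSheafData, FGA.IsEffCartier B ∧ A = C₀ * B ∧
    Subsingleton (Coh.HH X (CohB1.tensorMod (ClSub.quotMod B) (CohB1.tensorMod (ClSub.idealMod C₀) L)) 0)) ?_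
    fun N C hle hN0 hd hP => ?_
  · refine ⟨⊤, H29Blow.isEffCartierIdeal_top, (Scheme.IdealSheafData.mul_top _).symm,
      H22Alg.ESZ.subsingleton_HH_of_isZero (H17.FPExt.isZero_of_stalk _ fun x => not_not.1 fun hx => ?_) 0⟩
    have h1 := (support_quot k (⊤ : X.IdealSheafData)).subset (H25Euler.support_tensor_subset _ _ hx)
    simp at h1
  obtain ⟨B, hB, hNB, hBv⟩ := hP
  have hC := hM C (Multiset.mem_of_le hle (Multiset.mem_cons_self C N))
  have hCe := isEffCartier_curve k hdim hC
  refine ⟨B * C, H28Vert.isEffCartierIdeal_mul hB hCe, by rw [← mul_assoc, ← hNB], ?_⟩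
  obtain ⟨S, hS, ⟨e₁⟩, e₂, e₃⟩ := exists_seq k C B hCe hB hL'
  have hI := isInvertible_ideal k hB
  have h1 := subsingleton_zero_of_neg k hC (H11Ample.isInvertible_tensor hI hL') (by
    rw [degOn_tensor k hdim hCe hI hL', degOn_tensor k hdim hCe (isInvertible_ideal k hC₀e) hL,
      degOn_ideal k hdim hB hCe, degOn_ideal k hdim hC₀e hCe]
    rw [hNB, dot_mul_left k hdim hC₀e hB hCe] at hd
    have := hdeg C (Multiset.mem_of_le hle (Multiset.mem_cons_self C N))
    omega)
  have h := subsingleton_HH_ext k hS 0 (H29RR.hhIso (k := k) e₁ 0).toEquiv.subsingleton (e₃ ▸ hBv)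
  rw [e₂] at h
  exact h

/-- A module with a section on a numerically connected cycle is trivial when its degrees are nonpositive. -/
theorem nonempty_trivial_of_section {M : Multiset X.IdealSheafData} (hM : ∀ C ∈ M, IsCurve C) (hsteps : HasSteps k M)
    {L : X.Modules} (hL : PicF.IsInvertible L) (hdeg : ∀ C ∈ M, degOn k C L ≤ 0)
    (hne : Nontrivial (Coh.HH X (CohB1.tensorMod (ClSub.quotMod M.prod) L) 0)) :
    Nonempty (CohB1.tensorMod (ClSub.quotMod M.prod) L ≅ ClSub.quotMod M.prod) := by
  haveI := H28Int.isNoetherian k (X := X)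
  obtain ⟨R, hR, r₁, r₂, r₃⟩ := exists_restrict_seq k M.prod hL
  obtain ⟨π, hπ⟩ : ∃ π : L ⟶ CohB1.tensorMod (ClSub.quotMod M.prod) L, Epi π := by
    haveI := hR.epi_g
    exact ⟨(H10Coh.Tw.leftUnitIso L).inv ≫ eqToHom r₂.symm ≫ R.g ≫ eqToHom r₃, inferInstance⟩
  obtain ⟨g, hg⟩ := H29RR.exists_global_ne_zero _ hne
  have hs0 := H29RR.homOfGlobal_ne_zero' hg
  generalize hsdef : H11Tilde.homOfGlobal (CohB1.tensorMod (ClSub.quotMod M.prod) L) g = s at hs0
  have hs : Epi s := by
    refine epi_of_epi_quot hL π s fun x hx => ?_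
    have hxM : x ∈ (M.prod.support : Set X) :=
      (support_quot k _).subset (H25Euler.support_tensor_subset _ _ hx)
    obtain ⟨C₀, hC₀, hx₀⟩ := (mem_support_prod k).1 hxM
    have hC := hM C₀ hC₀
    have hC₀e := isEffCartier_curve k hdim hC
    obtain ⟨B, hB, hMB, hBv⟩ := exists_complement k hdim hM hsteps hL hdeg hC₀
    obtain ⟨S, hS, ⟨e₁⟩, e₂, e₃⟩ := exists_seq k B C₀ hB hC₀e hL
    have e₂' : S.X₂ = CohB1.tensorMod (ClSub.quotMod M.prod) L := by rw [e₂, hMB]
    let q : CohB1.tensorMod (ClSub.quotMod M.prod) L ⟶ CohB1.tensorMod (ClSub.quotMod C₀) L :=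
      eqToHom e₂'.symm ≫ S.g ≫ eqToHom e₃
    have hsq : s ≫ q ≠ 0 := fun h => by
      have h1 : (s ≫ eqToHom e₂'.symm) ≫ S.g = 0 := by
        refine (cancel_mono (eqToHom e₃)).1 ?_
        simpa [q] using h
      haveI := hS.mono_f
      obtain ⟨t, ht⟩ := CategoryTheory.ShortComplex.Exact.lift' hS.exact _ h1
      have ht0 : t ≫ e₁.hom = 0 := by
        rw [H02CA.VBPn.eq_homOfGlobal (t ≫ e₁.hom), H02CA.VBPn.eq_homOfGlobal (0 : Coh.structureModule X ⟶ _)]
        congr 1
        exact (H10Coh.HH0Equiv _).symm.injective (Subsingleton.elim _ _)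
      rw [show t = 0 from (cancel_mono e₁.hom).1 (ht0.trans zero_comp.symm), zero_comp] at ht
      exact hs0 ((cancel_mono (eqToHom e₂'.symm)).1 (ht.symm.trans zero_comp.symm))
    -- the restriction of the module to the component is trivial
    letI : C₀.subscheme.Over (Spec (CommRingCat.of k)) := ⟨C₀.subschemeι ≫ (X ↘ Spec (CommRingCat.of k))⟩
    haveI : IsProper (C₀.subscheme ↘ Spec (CommRingCat.of k)) :=
      inferInstanceAs (IsProper (C₀.subschemeι ≫ (X ↘ Spec (CommRingCat.of k))))
    haveI := hC.int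
    obtain ⟨ι⟩ := nonempty_quot_tensor_iso k C₀ hL
    have hP := H11Ample.isInvertible_pullback C₀.subschemeι hL
    have hne₀ : Nontrivial (Coh.HH C₀.subscheme ((Scheme.Modules.pullback C₀.subschemeι).obj L) 0) := by
      refine Module.nontrivial_of_finrank_pos (R := k) ?_
      rw [← finrank_quot_tensor k hC hL 0]
      haveI := H10Coh.finite_HH_proper k X _ (H11Ample.isCoh_tensor (isCoh_quot k C₀) hL) 0
      refine Module.finrank_pos_iff.2 ?_
      rw [← not_subsingleton_iff_nontrivial]
      intro hsub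
      apply hsq
      rw [H02CA.VBPn.eq_homOfGlobal (s ≫ q), H02CA.VBPn.eq_homOfGlobal (0 : Coh.structureModule X ⟶ _)]
      congr 1
      exact (H10Coh.HH0Equiv _).symm.injective (Subsingleton.elim _ _)
    have hb := H29RR.bounds_of_section (k := k) ((dim_subscheme C₀).trans hC.dim).le hP hne₀
    have h0 := hdeg C₀ hC₀
    rw [degOn_eq_deg k hC hL] at h0
    obtain ⟨τ⟩ := hb.2.2.2 (le_antisymm h0 hb.1)
    let τ' : CohB1.tensorMod (ClSub.quotMod C₀) L ≅ ClSub.quotMod C₀ :=
      ι ≪≫ (Coh.push C₀.subschemeι).mapIso τ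
    refine ⟨ClSub.quotMod C₀, q ≫ τ'.hom, ?_, by rw [support_quot k C₀]; exact hx₀⟩
    rw [← Category.assoc]
    exact epi_of_ne_zero_quot k hC _ fun h => hsq ((cancel_mono τ'.hom).1 (h.trans zero_comp.symm))
  -- triviality on the subscheme
  obtain ⟨ι⟩ := nonempty_quot_tensor_iso k M.prod hL
  let c := (Scheme.Modules.pullbackPushforwardAdjunction M.prod.subschemeι).counit.app
    ((Scheme.Modules.pullback M.prod.subschemeι).obj L)
  haveI : IsIso c := H16Derived.ProjFormula.isIso_counit_of_isClosedImmersion _ _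
  haveI := hs
  haveI : Epi ((Scheme.Modules.pullback M.prod.subschemeι).map (s ≫ ι.hom)) :=
    (Scheme.Modules.pullback M.prod.subschemeι).map_epi _
  let σ := (H16Derived.KFlat.Stalk.structurePullbackIso M.prod.subschemeι).inv ≫
    (Scheme.Modules.pullback M.prod.subschemeι).map (s ≫ ι.hom) ≫ c
  haveI : Epi σ := inferInstance
  haveI : IsLocallyNoetherian M.prod.subscheme := LocallyOfFiniteType.isLocallyNoetherian M.prod.subschemeι
  haveI := isIso_of_epi_invertible (H11Ample.isInvertible_structureModule (X := M.prod.subscheme))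
    (H11Ample.isInvertible_pullback M.prod.subschemeι hL) σ
  exact ⟨ι ≪≫ (Coh.push M.prod.subschemeι).mapIso (asIso σ).symm⟩

end Groth.Agent.H28RR
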