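import Groth.Agent.H28RR.Cor
import Groth.Agent.H28RR.Duality
import Groth.Agent.H28RR.NumConnSect
import Groth.Agent.H28Surf.Pair
import Groth.Agent.H28Int.Push
import Groth.Agent.H24Hilb.ClosedCounit
import Groth.Agent.H17.StalkTransfer
import Groth.Agent.H29RR.PointAux
import Groth.Agent.H29Fitt.PullbackQCoh
import Groth.Agent.H10Coh.Bounded

/-!
# Decomposition of modules along a finite clopen partition
-/

set_option autoImplicit false
set_option linter.style.haveILetI false
set_option linter.unusedSectionVars false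
set_option backward.isDefEq.respectTransparency.types false

universe u

open CategoryTheory CategoryTheory.Limits AlgebraicGeometry TopologicalSpace Opposite
open Groth.Agent.H28Surf

namespace Groth.Agent.H28RR.Clopen

variable {X : Scheme.{u}}

theorem isClosedImmersion_ι (U : X.Opens) (hU : IsClosed (U : Set X)) : IsClosedImmersion U.ι :=
  IsClosedImmersion.of_isPreimmersion U.ι (by rw [Scheme.Opens.range_ι]; exact hU)

theorem bijective_unit (U : X.Opens) [IsClosedImmersion U.ι] (M : X.Modules) (x : X) (hx : x ∈ U) :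
    Function.Bijective (((DerSch.stalkFunctor X x).map
      ((Scheme.Modules.pullbackPushforwardAdjunction U.ι).unit.app M)).hom) := by
  obtain ⟨u, rfl⟩ : x ∈ Set.range U.ι := by rw [Scheme.Opens.range_ι]; exact hx
  show Function.Bijective ((TopCat.Presheaf.stalkFunctor Ab.{u} (U.ι.base u)).map
    ((Scheme.Modules.pullbackPushforwardAdjunction U.ι).unit.app M).mapPresheaf)
  refine ((H24Hilb.Closed.pushStalk_bijective U.ι _ u).of_comp_iff' _).1 ?_
  convert! H17.StalkTransfer.pullStalk_bijective U.ι M u using 1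
  funext a
  exact H24Hilb.Closed.pushStalk_unit U.ι M u a

variable {ι : Type} [Fintype ι] (U : ι → X.Opens) [∀ i, IsClosedImmersion (U i).ι]

/-- The canonical map to the pieces. -/
noncomputable def toPieces (M : X.Modules) :
    M ⟶ ⨁ fun i => (Coh.push (U i).ι).obj ((Scheme.Modules.pullback (U i).ι).obj M) :=
  biproduct.lift fun i => (Scheme.Modules.pullbackPushforwardAdjunction (U i).ι).unit.app M

theorem isIso_toPieces (hcov : ∀ x : X, ∃ i, x ∈ U i)
    (hdisj : ∀ i j, i ≠ j → Disjoint (U i : Set X) (U j : Set X)) (M : X.Modules) :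
    IsIso (toPieces U M) := by
  classical
  refine H16Derived.KFlat.Stalk.isIso_of_stalk _ fun x => ?_
  let T := DerSch.stalkFunctor X x
  obtain ⟨i, hi⟩ := hcov x
  let P := fun j => (Coh.push (U j).ι).obj ((Scheme.Modules.pullback (U j).ι).obj M)
  have hz : ∀ j, j ≠ i → IsZero (T.obj (P j)) := fun j hj => by
    haveI := H24Hilb.Closed.subsingleton_stalk_push (U j).ι ((Scheme.Modules.pullback (U j).ι).obj M) x (by
      rw [Scheme.Opens.range_ι]; exact fun h => Set.disjoint_left.1 (hdisj j i hj) h hi)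
    exact ModuleCat.isZero_of_iff_subsingleton.2 (inferInstanceAs (Subsingleton ((P j).presheaf.stalk x)))
  haveI : IsIso (T.map (biproduct.π P i)) := by
    refine ⟨T.map (biproduct.ι P i), ?_, by rw [← T.map_comp, biproduct.ι_π_self, T.map_id]⟩
    rw [← T.map_comp, ← T.map_id, ← biproduct.total (f := P), T.map_sum,
      Finset.sum_eq_single i (fun j _ hj => ?_) (fun h => absurd (Finset.mem_univ i) h)]
    rw [T.map_comp, (hz j hj).eq_of_tgt (T.map (biproduct.π P j)) 0, zero_comp]
  haveI : IsIso (T.map (toPieces U M) ≫ T.map (biproduct.π P i)) := by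
    rw [← T.map_comp]
    show IsIso (T.map (biproduct.lift _ ≫ biproduct.π P i))
    rw [biproduct.lift_π]
    exact (ConcreteCategory.isIso_iff_bijective _).2 (bijective_unit (U i) M x hi)
  exact IsIso.of_isIso_comp_right (T.map (toPieces U M)) (T.map (biproduct.π P i))

variable (k : Type u) [Field k] [X.Over (Spec (CommRingCat.of k))]

/-- Cohomology of a finite sum. -/
theorem finrank_hh_biproduct (P : ι → X.Modules) (q : ℕ) (hfin : ∀ i, Module.Finite k (Coh.HH X (P i) q)) :
    Module.finrank k (Coh.HH X (⨁ P) q) = ∑ i, Module.finrank k (Coh.HH X (P i) q) := by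
  classical
  let f : Coh.HH X (⨁ P) q →ₗ[k] ∀ i, Coh.HH X (P i) q :=
    LinearMap.pi fun i => Canon.HHlin k (biproduct.π P i) q
  let g : (∀ i, Coh.HH X (P i) q) →ₗ[k] Coh.HH X (⨁ P) q :=
    ∑ i, (Canon.HHlin k (biproduct.ι P i) q).comp (LinearMap.proj i)
  have hsum : ∀ (s : Finset ι) (φ : ι → (⨁ P ⟶ ⨁ P)) (v : Coh.HH X (⨁ P) q),
      Canon.HHlin k (∑ i ∈ s, φ i) q v = ∑ i ∈ s, Canon.HHlin k (φ i) q v := fun s φ v => by
    induction s using Finset.induction_on with
    | empty => simp [H29RR.hhlin_zero]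
    | insert a s ha ih => rw [Finset.sum_insert ha, Finset.sum_insert ha, H29RR.hhlin_add, ih]
  let e : Coh.HH X (⨁ P) q ≃ₗ[k] ∀ i, Coh.HH X (P i) q :=
    LinearEquiv.ofLinear f g
      (LinearMap.ext fun v => funext fun j => by
        simp only [f, g, LinearMap.comp_apply, LinearMap.pi_apply, LinearMap.coe_sum, Finset.sum_apply,
          LinearMap.proj_apply, map_sum, ← H29RR.hhlin_comp, LinearMap.id_apply]
        rw [Finset.sum_eq_single j (fun i _ hi => by rw [biproduct.ι_π_ne P hi, H29RR.hhlin_zero])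
          (fun h => absurd (Finset.mem_univ j) h), biproduct.ι_π_self, H29RR.hhlin_id])
      (LinearMap.ext fun v => by
        simp only [f, g, LinearMap.comp_apply, LinearMap.pi_apply, LinearMap.coe_sum, Finset.sum_apply,
          LinearMap.proj_apply, ← H29RR.hhlin_comp, LinearMap.id_apply]
        rw [← hsum, biproduct.total, H29RR.hhlin_id])
  haveI := hfin
  rw [e.finrank_eq, Module.finrank_pi_fintype]

variable [IsProper (X ↘ Spec (CommRingCat.of k))]

/-- Cohomology computed on the pieces. -/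
theorem finrank_hh_pieces (hcov : ∀ x : X, ∃ i, x ∈ U i)
    (hdisj : ∀ i j, i ≠ j → Disjoint (U i : Set X) (U j : Set X)) {M : X.Modules} (hM : Coh.IsCoh M) (q : ℕ) :
    letI : ∀ i, (U i).toScheme.Over (Spec (CommRingCat.of k)) := fun i => ⟨(U i).ι ≫ (X ↘ Spec (CommRingCat.of k))⟩
    Module.finrank k (Coh.HH X M q) =
      ∑ i, Module.finrank k (Coh.HH (U i).toScheme ((Scheme.Modules.pullback (U i).ι).obj M) q) := by
  letI : ∀ i, (U i).toScheme.Over (Spec (CommRingCat.of k)) := fun i => ⟨(U i).ι ≫ (X ↘ Spec (CommRingCat.of k))⟩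
  haveI := H28Int.isNoetherian k (X := X)
  haveI := isIso_toPieces U hcov hdisj M
  have hc : ∀ i, Coh.IsCoh ((Scheme.Modules.pullback (U i).ι).obj M) := fun i => ⟨H29Fitt.isQCoh_pullback _ M hM.1, H29Fitt.isFT_pullback _ M hM.1 hM.2⟩
  rw [(H29RR.hhIso (k := k) (asIso (toPieces U M)) q).finrank_eq,
    finrank_hh_biproduct k _ q (fun i => H10Coh.finite_HH_proper k X _
      (H10Coh.isCoh_push_of_isFinite (U i).ι _ (hc i)) q)]
  refine Finset.sum_congr rfl fun i _ => ?_
  haveI := (hc i).1
  exact H28Int.Push.finrank_HH_push k (U i).ι rfl _ q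

/-- Euler characteristics computed on the pieces. -/
theorem euler_pieces (hcov : ∀ x : X, ∃ i, x ∈ U i)
    (hdisj : ∀ i j, i ≠ j → Disjoint (U i : Set X) (U j : Set X)) {M : X.Modules} (hM : Coh.IsCoh M) :
    letI : ∀ i, (U i).toScheme.Over (Spec (CommRingCat.of k)) := fun i => ⟨(U i).ι ≫ (X ↘ Spec (CommRingCat.of k))⟩
    Curv2.euler k X M = ∑ i, Curv2.euler k (U i).toScheme ((Scheme.Modules.pullback (U i).ι).obj M) := by
  letI : ∀ i, (U i).toScheme.Over (Spec (CommRingCat.of k)) := fun i => ⟨(U i).ι ≫ (X ↘ Spec (CommRingCat.of k))⟩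
  haveI := H28Int.isNoetherian k (X := X)
  have hfs : ∀ (Y : Scheme.{u}) [Y.Over (Spec (CommRingCat.of k))] [IsProper (Y ↘ Spec (CommRingCat.of k))]
      (F : Y.Modules), Coh.IsCoh F → ∃ N, ∀ p, N ≤ p → Subsingleton (Coh.HH Y F p) := fun Y _ _ F hF => by
    haveI := H28Int.isNoetherian k (X := Y)
    obtain ⟨N, hN⟩ := H10Coh.exists_bound (X := Y)
    exact ⟨N, fun p hp => hN F hF.1 p hp⟩
  have hc : ∀ i, Coh.IsCoh ((Scheme.Modules.pullback (U i).ι).obj M) := fun i => ⟨H29Fitt.isQCoh_pullback _ M hM.1, H29Fitt.isFT_pullback _ M hM.1 hM.2⟩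
  haveI : ∀ i, IsProper ((U i).toScheme ↘ Spec (CommRingCat.of k)) := fun i =>
    show IsProper ((U i).ι ≫ _) from inferInstance
  obtain ⟨N, hN⟩ := hfs X M hM
  choose n hn using fun i => hfs (U i).toScheme _ (hc i)
  let B := N + ∑ i, n i
  rw [H25Euler.euler_eq_sum M B (fun p hp => hN p (by omega)),
    Finset.sum_congr rfl fun i _ => H25Euler.euler_eq_sum (k := k) ((Scheme.Modules.pullback (U i).ι).obj M) B
      (fun p hp => hn i p (le_trans ((Finset.single_le_sum (f := n) (fun _ _ => Nat.zero_le _) (Finset.mem_univ i)).trans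
        (Nat.le_add_left _ _)) hp)), Finset.sum_comm]
  refine Finset.sum_congr rfl fun p _ => ?_
  rw [finrank_hh_pieces U k hcov hdisj hM p, Nat.cast_sum, Finset.mul_sum]

end Groth.Agent.H28RR.Clopen
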