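import Groth.Agent.H28RR.NefSq
import Groth.Agent.S1684
import Groth.Agent.S8862
import Groth.Agent.H17.Image

/-!
# Fibres of a surface over a smooth curve are effective divisors
-/

set_option autoImplicit false
set_option linter.style.haveILetI false
set_option linter.unusedSectionVars false
set_option backward.isDefEq.respectTransparency.types false
universe u

open CategoryTheory CategoryTheory.Limits AlgebraicGeometry TopologicalSpace
open Groth.Agent.H8Props.FieldDim (cdim)
open Groth.Agent.H28Surf

namespace Groth.Agent.H28RR

variable (k : Type u) [Field k] {C : Scheme.{u}} [C.Over (Spec (CommRingCat.of k))]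
  [IsProper (C ↘ Spec (CommRingCat.of k))] [Smooth (C ↘ Spec (CommRingCat.of k))] [IsIntegral C]

include k

/-- A closed point of a smooth curve is an effective divisor. -/
theorem isEffCartier_point (hdim : topologicalKrullDim C = 1) {p : C} (hp : IsClosed ({p} : Set C)) :
    BlowUp.IsEffCartierIdeal (Scheme.IdealSheafData.vanishingIdeal ⟨{p}, hp⟩) := by
  haveI := H28Int.isNoetherian k (X := C)
  let f := C ↘ Spec (CommRingCat.of k)
  set J := Scheme.IdealSheafData.vanishingIdeal (⟨{p}, hp⟩ : Closeds C) with hJ
  haveI : IsReduced J.subscheme := H17.isReduced_vanishingIdeal_subscheme _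
  have hr : Set.range J.subschemeι = {p} := by
    rw [Scheme.IdealSheafData.range_subschemeι, hJ, Scheme.IdealSheafData.coe_support_vanishingIdeal]
    rfl
  haveI : Nonempty J.subscheme := Set.range_nonempty_iff_nonempty.1 (hr ▸ Set.singleton_nonempty p)
  haveI : Subsingleton J.subscheme := ⟨fun a b => J.subschemeι.isEmbedding.injective
    ((hr.le (Set.mem_range_self a)).trans (hr.le (Set.mem_range_self b)).symm)⟩
  haveI : IrreducibleSpace J.subscheme := (irreducibleSpace_def _).2 (by
    obtain ⟨a⟩ : Nonempty J.subscheme := inferInstance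
    rw [Set.top_eq_univ, show (Set.univ : Set J.subscheme) = {a} from
      Set.eq_singleton_iff_unique_mem.2 ⟨trivial, fun b _ => Subsingleton.elim b a⟩]
    exact isIrreducible_singleton)
  haveI := isIntegral_of_irreducibleSpace_of_isReduced J.subscheme
  refine S1684.result C J ?_ fun x _ => ?_
  · have hg : J.subschemeι (genericPoint J.subscheme) = p := hr.le (Set.mem_range_self _)
    rw [hg]
    have h := H8Props.FieldDim.localDim_eq_stalk_add_cdim f p
    rw [H8Props.FieldDim.localDim_eq_dim_of_irreducible f p, hdim, H28Int.Curves.cdim_closed hp, Nat.cast_zero,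
      add_zero] at h
    exact h.symm
  · haveI := H19Grp.isRegularLocalRing_stalk_of_smooth f x
    have hd : IsDomain (C.presheaf.stalk x) := H4Depth.isDomain_of_isRegularLocalRing _
    exact ⟨hd, H28Alg.ufd_of_regular _⟩

omit k in
/-- The ideal of a scheme-theoretic fibre. -/
theorem ker_fiberι {S C : Scheme.{u}} (f : S ⟶ C) {p : C} (hp : IsClosed ({p} : Set C)) :
    (f.fiberι p).ker = (Scheme.IdealSheafData.vanishingIdeal ⟨{p}, hp⟩).comap f := by
  haveI : IsClosedImmersion (C.fromSpecResidueField p) := isClosed_singleton_iff_isClosedImmersion.mp hp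
  have h := Scheme.IdealSheafData.ker_fst_of_isClosedImmersion (C.fromSpecResidueField p) f
  refine Eq.trans h ?_
  rw [H17.ker_eq_vanishingIdeal]
  congr 2
  refine Closeds.ext ?_
  show closure (Set.range (C.fromSpecResidueField p)) = {p}
  rw [Scheme.range_fromSpecResidueField, hp.closure_eq]

/-- A fibre over a smooth curve is an effective divisor. -/
theorem isEffCartier_fibre (hdim : topologicalKrullDim C = 1) {S : Scheme.{u}} [IsIntegral S] (f : S ⟶ C)
    [Surjective f] {p : C} (hp : IsClosed ({p} : Set C)) : FGA.IsEffCartier (f.fiberι p).ker := by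
  rw [ker_fiberι f hp]
  refine S8862.result f _ (isEffCartier_point k hdim hp) fun ξ hξ h => ?_
  obtain ⟨z, hz⟩ := f.surjective (genericPoint C)
  have hgen : f (genericPoint S) = genericPoint C := by
    have h1 := (genericPoint_specializes z).map f.continuous
    rw [hz] at h1
    exact (h1.antisymm (genericPoint_specializes _)).eq
  rw [← hξ _ (genericPoint_specializes ξ), hgen] at h
  exact H28Reg.genericPoint_notMem_of_isEffCartier (isEffCartier_point k hdim hp) h

end Groth.Agent.H28RR
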