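import Groth.Agent.H28RR.Duality

/-!
# Sections of modules of small degree; the Euler characteristic on a surface
-/

set_option autoImplicit false
set_option linter.style.haveILetI false
set_option linter.unusedSectionVars false
set_option backward.isDefEq.respectTransparency.types false

universe u

open CategoryTheory CategoryTheory.Limits AlgebraicGeometry TopologicalSpace Opposite
open Groth.Agent.H28Surf

namespace Groth.Agent.H28RR

variable {X : Scheme.{u}} (k : Type u) [Field k] [X.Over (Spec (CommRingCat.of k))]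
  [IsProper (X ↘ Spec (CommRingCat.of k))] [Smooth (X ↘ Spec (CommRingCat.of k))] [IsIntegral X]

include k

theorem subsingleton_top (hdim : topologicalKrullDim X = 2) {M : X.Modules} (hM : Coh.IsCoh M) (p : ℕ)
    (hp : 3 ≤ p) : Subsingleton (Coh.HH X M p) := by
  haveI := H28Int.isNoetherian k (X := X)
  haveI : X.IsSeparated := ⟨by
    rw [show terminal.from X = (X ↘ Spec (CommRingCat.of k)) ≫ terminal.from _ from terminal.hom_ext _ _]
    infer_instance⟩
  haveI := H28Int.subsingleton_HnM_of_support (⊤ : Closeds X) 2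
    (Topology.IsInducing.subtypeVal.topologicalKrullDim_le.trans hdim.le) M hM.1 (fun _ _ => trivial) p (by omega)
  exact (H10Coh.HHEquiv M p).toEquiv.subsingleton

theorem euler_eq_three (hdim : topologicalKrullDim X = 2) {M : X.Modules} (hM : Coh.IsCoh M) :
    Curv2.euler k X M = (Module.finrank k (Coh.HH X M 0) : ℤ) - Module.finrank k (Coh.HH X M 1) +
      Module.finrank k (Coh.HH X M 2) := by
  rw [H25Euler.euler_eq_sum M 3 fun p hp => subsingleton_top k hdim hM p hp, Finset.sum_range_succ,
    Finset.sum_range_succ, Finset.sum_range_one]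
  simp
  ring

variable [IsAlgClosed k]

/-- A module with a section has positive degree, unless it is trivial. -/
theorem iso_structure_or_pos (hdim : topologicalKrullDim X = 2) {H M : X.Modules} (hH : CohB1.IsAmple H)
    (hM : PicF.IsInvertible M) (hsec : Nontrivial (Coh.HH X M 0)) :
    Nonempty (M ≅ Coh.structureModule X) ∨ 0 < pr k M H := by
  obtain ⟨Z, hZ, ⟨e⟩⟩ := exists_divisor k hM hsec
  by_cases hne : Z = ⊤
  · subst hne
    obtain ⟨e₁⟩ := H28Reg.nonempty_idealMod_top (X := X)
    exact Or.inl ⟨(H10Coh.Tw.rightUnitIso M).symm ≪≫ PicGrp.tensorModIso (Iso.refl M) e₁.symm ≪≫ e⟩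
  have hHi := (H11Ample.isAmple_iff.1 hH).1
  obtain ⟨H', hH', ⟨e₀⟩⟩ := H11Sym.exists_inverse hHi
  have eH : CohB1.tensorMod H H' ≅ Coh.structureModule X := H10Coh.Tw.commIso H H' ≪≫ e₀
  have hI := isInvertible_ideal k hZ
  have h := H28Reg.pr_eff_ample_pos k
    (fun x => H19Grp.isRegularLocalRing_stalk_of_smooth (X ↘ Spec (CommRingCat.of k)) x) hdim hZ hne hH hH' eH
  rw [pr_inv_left k hdim hM hI hH' e, pr_symm k M, pr_inv_left k hdim hHi hH' hM eH, neg_neg, pr_symm k H] at h
  exact Or.inr h

theorem subsingleton_h0_of_neg (hdim : topologicalKrullDim X = 2) {H M : X.Modules} (hH : CohB1.IsAmple H)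
    (hM : PicF.IsInvertible M) (h : pr k M H < 0) : Subsingleton (Coh.HH X M 0) := by
  rcases subsingleton_or_nontrivial (Coh.HH X M 0) with hs | hs
  · exact hs
  rcases iso_structure_or_pos k hdim hH hM hs with ⟨⟨e⟩⟩ | hp
  · rw [pr_congr_left k (H11Ample.isAmple_iff.1 hH).1 e, pr_structure_left k (H11Ample.isAmple_iff.1 hH).1] at h
    omega
  · omega

/-- A numerically trivial module of positive Euler characteristic on a surface with trivial canonical
module is trivial. -/
theorem iso_structure_of_trivial_canonical (hdim : topologicalKrullDim X = 2)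
    (hK : ExtPow.IsExtPow 2 (Omega.sheaf (X ↘ Spec (CommRingCat.of k))) (Coh.structureModule X))
    (hq : Module.finrank k (Coh.HH X (Coh.structureModule X) 1) = 0) {L : X.Modules} (hL : PicF.IsInvertible L)
    (hnum : ∀ M : X.Modules, PicF.IsInvertible M → pr k L M = 0) : Nonempty (L ≅ Coh.structureModule X) := by
  haveI := H28Int.isNoetherian k (X := X)
  obtain ⟨H, hH⟩ := exists_ample k hdim
  have hHi := (H11Ample.isAmple_iff.1 hH).1
  have hO := H28Int.isInvertible_structureModule X
  obtain ⟨N, hN, ⟨e₀⟩⟩ := H11Sym.exists_inverse hL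
  have e : CohB1.tensorMod L N ≅ Coh.structureModule X := H10Coh.Tw.commIso L N ≪≫ e₀
  have hrr := riemann_roch' k hdim hK hL
  rw [hnum L hL, hnum _ hO, euler_eq_three k hdim (H10Coh.isCoh_structureModule' X), hq,
    S19352.finrank_structure k X,
    finrank_h2 k hdim hK hO hO (H10Coh.Tw.leftUnitIso _),
    H22Alg.CurveAmple.finrank_HH_congr (k := k) (H10Coh.Tw.leftUnitIso (Coh.structureModule X)) 0,
    S19352.finrank_structure k X, euler_eq_three k hdim (H11Ample.isCoh_of_isInvertible hL),
    finrank_h2 k hdim hK hL hN e,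
    H22Alg.CurveAmple.finrank_HH_congr (k := k) (H10Coh.Tw.leftUnitIso N) 0] at hrr
  haveI := H10Coh.finite_HH_proper k X L (H11Ample.isCoh_of_isInvertible hL) 0
  haveI := H10Coh.finite_HH_proper k X N (H11Ample.isCoh_of_isInvertible hN) 0
  have hpos : 0 < Module.finrank k (Coh.HH X L 0) ∨ 0 < Module.finrank k (Coh.HH X N 0) := by omega
  rcases hpos with hp | hp
  · rcases iso_structure_or_pos k hdim hH hL (Module.nontrivial_of_finrank_pos hp) with he | he
    · exact he
    · rw [hnum H hHi] at he; omega
  · rcases iso_structure_or_pos k hdim hH hN (Module.nontrivial_of_finrank_pos hp) with ⟨⟨eN⟩⟩ | he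
    · exact ⟨(H10Coh.Tw.rightUnitIso L).symm ≪≫ PicGrp.tensorModIso (Iso.refl L) eN.symm ≪≫ e⟩
    · rw [pr_inv_left k hdim hL hN hHi e, hnum H hHi] at he; omega

end Groth.Agent.H28RR
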