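import Groth.Agent.H28RR.LazMuk
import Groth.Agent.H28Vert.Symm
import Groth.Agent.H10Coh.ProjFormulaFLF
import Groth.Agent.H10Inj.SheafExt.DualTensor
import Groth.Agent.H10Coh.SheafHom.Flat
import Groth.Agent.H17.FLI.SmoothDual
import Groth.Agent.H26Gr.QuotBC
import Groth.Agent.H29RR.Consts
import Groth.Agent.H22Alg.DetDeg
import Groth.Agent.H22Alg.CurveProj
import Groth.Agent.H15Site.Invertible
import Groth.Agent.H29RR.PointAux
import Groth.Agent.H10Coh.AffineAmple
import Groth.Agent.H22Alg.KModel
import Groth.Agent.H10Coh.ExtPowFree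

/-! # The Euler characteristic of the endomorphisms of a Lazarsfeld-Mukai bundle on a K3 surface -/

set_option autoImplicit false
set_option backward.isDefEq.respectTransparency.types false
set_option linter.style.haveILetI false
set_option linter.unusedSectionVars false

universe u

open CategoryTheory CategoryTheory.Limits AlgebraicGeometry TopologicalSpace
open Groth.Agent

noncomputable section

namespace Groth.Agent.H28RR.LazMuk

section rank

variable {X : Scheme.{u}}

theorem isFinLocFree_dual {E : X.Modules} (hE : FlatMod.IsFinLocFree E) :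
    FlatMod.IsFinLocFree (RefHull.dual E) :=
  H10Coh.SheafHom.isFinLocFree_homSh hE (H28Pinch.isFinLocFree_of_isInvertible (H28Int.isInvertible_structureModule X))

theorem isIso_bidualMap {E : X.Modules} (hE : FlatMod.IsFinLocFree E) : IsIso (RefHull.bidualMap E) := by
  refine (H29Ref.isIso_iff_bijective_stalk _).2 fun x => ?_
  have hFP := H8Props.FinLocFree.isFP_of_isFinLocFree E hE
  have hFP' := H8Props.FinLocFree.isFP_of_isFinLocFree _ (isFinLocFree_dual hE)
  obtain ⟨n, ⟨b⟩⟩ := H22Alg.KExists.stalk_free hE x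
  haveI : Module.Free (X.presheaf.stalk x) (E.presheaf.stalk x) := Module.Free.of_basis b
  haveI : Module.Finite (X.presheaf.stalk x) (E.presheaf.stalk x) := Module.Finite.of_basis b
  exact (H29Ref.isReflexiveAt_iff E hFP hFP' x).1 (show Module.IsReflexive _ _ from inferInstance)

theorem finrank_generic_of_rank [IsIntegral X] {E : X.Modules} {n : ℕ} (hE : FlatMod.IsFinLocFreeOfRank n E) :
    Module.finrank (X.presheaf.stalk (genericPoint X)) (E.presheaf.stalk (genericPoint X)) = n := by
  obtain ⟨b⟩ := H8Props.FunDescent.stalkFree_of_isFreeOfRankNear E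
    (H8Props.FinLocFree.isQCoh_of_isFinLocFree E (H22Alg.KModel.finLocFree_of_rank hE)) (p := n)
    (x := genericPoint X) (hE _)
  rw [Module.finrank_eq_card_basis b, Fintype.card_fin]

theorem isFinLocFreeOfRank_of_generic [IsIntegral X] (E : X.Modules) (hE : FlatMod.IsFinLocFree E) {n : ℕ}
    (hn : Module.finrank (X.presheaf.stalk (genericPoint X)) (E.presheaf.stalk (genericPoint X)) = n) :
    FlatMod.IsFinLocFreeOfRank n E := fun x => by
  obtain ⟨U, m, hxU, he⟩ := hE x
  have hηU : genericPoint X ∈ U :=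
    ((genericPoint_spec X).mem_open_set_iff U.isOpen).2 ⟨x, trivial, hxU⟩
  obtain ⟨b⟩ := H8Props.FunDescent.stalkFree_of_isFreeOfRankNear E
    (H8Props.FinLocFree.isQCoh_of_isFinLocFree E hE) (p := m) ⟨U, hηU, he⟩
  rw [Module.finrank_eq_card_basis b, Fintype.card_fin] at hn
  subst hn
  exact ⟨U, hxU, he⟩

theorem idealSeq_shortExact (I : X.IdealSheafData) :
    (ShortComplex.mk (ClSub.idealModι I) (ClSub.toSubscheme I) (kernel.condition _)).ShortExact := by
  haveI : Epi (ShortComplex.mk (ClSub.idealModι I) (ClSub.toSubscheme I) (kernel.condition _)).g :=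
    H10Coh.epi_toSubscheme I
  haveI : Mono (ShortComplex.mk (ClSub.idealModι I) (ClSub.toSubscheme I) (kernel.condition _)).f :=
    inferInstanceAs (Mono (kernel.ι _))
  exact { exact := ShortComplex.exact_of_f_is_kernel _ (kernelIsKernel (ClSub.toSubscheme I)) }

theorem rank_freeMod (n : ℕ) : FlatMod.IsFinLocFreeOfRank n (FlatMod.freeMod X n) :=
  H16Derived.KFlat.Stalk.isFinLocFreeOfRank_of_rfd (H22Alg.KModel.finLocFree_free n) _ fun x =>
    H16Derived.KFlat.Stalk.rfd_freeMod n x

theorem rank_dual [IsIntegral X] {E : X.Modules} {n : ℕ} (hE : FlatMod.IsFinLocFreeOfRank n E) :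
    FlatMod.IsFinLocFreeOfRank n (RefHull.dual E) := by
  have hf := H22Alg.KModel.finLocFree_of_rank hE
  refine isFinLocFreeOfRank_of_generic _ (isFinLocFree_dual hf) ?_
  have hFP := H8Props.FinLocFree.isFP_of_isFinLocFree E hf
  obtain ⟨b⟩ := H8Props.FunDescent.stalkFree_of_isFreeOfRankNear E
    (H8Props.FinLocFree.isQCoh_of_isFinLocFree E hf) (p := n) (x := genericPoint X) (hE _)
  rw [(H29Ref.dualEquiv E hFP (genericPoint X)).finrank_eq,
    Module.finrank_eq_card_basis b.dualBasis, Fintype.card_fin]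

end rank

section tensors

variable {X : Scheme.{u}}

/-- The projection formula. -/
def projIso {Z : Scheme.{u}} (i : Z ⟶ X) {G : X.Modules} (hG : FlatMod.IsFinLocFree G) (M : Z.Modules) :
    CohB1.tensorMod ((Coh.push i).obj M) G ≅
      (Coh.push i).obj (CohB1.tensorMod M ((Scheme.Modules.pullback i).obj G)) :=
  @asIso _ _ _ _ (H10Coh.PF.ψT i G M) (H10Coh.PF.isIso_ψ_of_isFinLocFree i hG M)

/-- Endomorphisms of an invertible module. -/
def endIso {L : X.Modules} (hL : PicF.IsInvertible L) :
    (H10Inj.SheafExt.homFunctor L).obj L ≅ Coh.structureModule X :=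
  haveI : ((DCoh.tensorBi (X := X)).obj L).IsEquivalence :=
    H15Site.Invertible.isEquivalence_of_iso_unit (O := X.sheaf)
      (H29RR.exists_inverse_comm hL).choose_spec.2.some
  (H10Inj.SheafExt.homFunctor L).mapIso (H10Coh.Tw.rightUnitIso L).symm ≪≫
    (asIso ((H10Inj.SheafExt.homAdj L).unit.app (Coh.structureModule X))).symm

variable (k : Type u) [Field k] [X.Over (Spec (CommRingCat.of k))] [IsProper (X ↘ Spec (CommRingCat.of k))]

theorem euler_map_decomposition (T : X.Modules ⥤ X.Modules) [T.Additive] {A B G : X.Modules} {r : ℕ}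
    (e : T.obj A ≅ G) (a : Fin r → (A ⟶ B)) (b : Fin r → (B ⟶ A))
    (hself : ∀ i, a i ≫ b i = 𝟙 A) (hne : ∀ i j, i ≠ j → a i ≫ b j = 0) (htot : ∑ i, b i ≫ a i = 𝟙 B) :
    Curv2.euler k X (T.obj B) = r * Curv2.euler k X G := by
  refine H29RR.euler_of_decomposition (fun i => e.inv ≫ T.map (a i)) (fun i => T.map (b i) ≫ e.hom)
    (fun i => ?_) (fun i j h => ?_) ?_
  · rw [Category.assoc, ← T.map_comp_assoc, hself, T.map_id, Category.id_comp, Iso.inv_hom_id]
  · rw [Category.assoc, ← T.map_comp_assoc, hne i j h, T.map_zero, zero_comp, comp_zero]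
  · simp only [Category.assoc, Iso.hom_inv_id_assoc]
    simp_rw [← T.map_comp]
    rw [← T.map_sum, htot, T.map_id]

theorem euler_tensor_free (r : ℕ) (G : X.Modules) :
    Curv2.euler k X (CohB1.tensorMod (FlatMod.freeMod X r) G) = r * Curv2.euler k X G := by
  let eO : (H10Coh.PF.TR G).obj (Coh.structureModule X) ≅ G := H10Coh.Tw.leftUnitIso G
  refine euler_map_decomposition k (H10Coh.PF.TR G) (B := FlatMod.freeMod X r) eO
    (fun i => Sigma.ι (fun _ : Fin r => Coh.structureModule X) i)
    (fun i => Sigma.desc fun j => if j = i then 𝟙 _ else 0) (fun i => Sigma.ι_desc _ _ |>.trans (if_pos rfl))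
    (fun i j h => Sigma.ι_desc _ _ |>.trans (if_neg h)) ?_
  refine Sigma.hom_ext _ _ fun j => ?_
  rw [Preadditive.comp_sum, Finset.sum_eq_single j]
  · simp
  · intro i _ hij
    simp [Ne.symm hij]
  · intro h; exact absurd (Finset.mem_univ j) h

theorem h0_free : ∀ r, Module.finrank k (Coh.HH X (FlatMod.freeMod X r) 0) =
    r * Module.finrank k (Coh.HH X (Coh.structureModule X) 0) := by
  intro r
  haveI : IsLocallyNoetherian X := LocallyOfFiniteType.isLocallyNoetherian (X ↘ Spec (CommRingCat.of k))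
  induction r with
  | zero =>
    haveI : Subsingleton (Coh.HH X (FlatMod.freeMod X 0) 0) := H10Coh.ExtPowFree.subsingleton_HH_of_isZero (by
      rw [IsZero.iff_id_eq_zero]
      exact Sigma.hom_ext _ _ fun i => i.elim0) 0
    rw [Module.finrank_zero_of_subsingleton, Nat.zero_mul]
  | succ n ih =>
    haveI := H10Coh.finite_HH_proper k X _ (H16Derived.KFlat.Stalk.isCoh_of_isFinLocFree
      (H22Alg.KModel.finLocFree_free (X := X) n)) 0
    haveI := H10Coh.finite_HH_proper k X _
      (H11Ample.isCoh_of_isInvertible (H28Int.isInvertible_structureModule X)) 0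
    refine ((H29RR.hhIso (k := k) (H22Alg.KModel.freeSucc n) 0).finrank_eq).trans ?_
    refine (H29RR.finrank_hh_biprod (k := k) (Coh.structureModule X) (FlatMod.freeMod X n) 0).trans ?_
    rw [ih, Nat.succ_mul, Nat.add_comm]

theorem euler_seq0 {C : Scheme.{u}} [C.Over (Spec (CommRingCat.of k))] [IsLocallyNoetherian X]
    [IsLocallyNoetherian C] (i : C ⟶ X) [IsClosedImmersion i]
    (hi : i ≫ (X ↘ Spec (CommRingCat.of k)) = C ↘ Spec (CommRingCat.of k)) {r : ℕ} {A : C.Modules}
    {lam : FlatMod.freeMod X r ⟶ (Coh.push i).obj A}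
    (hS : (ShortComplex.mk (kernel.ι lam) lam (kernel.condition lam)).ShortExact)
    (hF : FlatMod.IsFinLocFree (kernel lam)) (hA : FlatMod.IsFinLocFree A) :
    Curv2.euler k X (FlatMod.freeMod X r) = Curv2.euler k X (kernel lam) + Curv2.euler k C A := by
  haveI : A.IsQuasicoherent := H8Props.FinLocFree.isQCoh_of_isFinLocFree A hA
  have hcM : Coh.IsCoh ((Coh.push i).obj A) := H22Alg.KPushCl.isCoh_push i hA
  have h := H25Euler.euler_add (k := k) hS (H16Derived.KFlat.Stalk.isCoh_of_isFinLocFree hF)
    (H16Derived.KFlat.Stalk.isCoh_of_isFinLocFree (H22Alg.KModel.finLocFree_free r)) hcM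
  exact h.trans (congrArg _ (H28Int.Push.euler_push k i hi A))

theorem euler_seqA {C : Scheme.{u}} [C.Over (Spec (CommRingCat.of k))] [IsLocallyNoetherian X]
    [IsLocallyNoetherian C] (i : C ⟶ X) [IsClosedImmersion i]
    (hi : i ≫ (X ↘ Spec (CommRingCat.of k)) = C ↘ Spec (CommRingCat.of k)) {r : ℕ} {A : C.Modules}
    {lam : FlatMod.freeMod X r ⟶ (Coh.push i).obj A}
    (hS : (ShortComplex.mk (kernel.ι lam) lam (kernel.condition lam)).ShortExact)
    (hF : FlatMod.IsFinLocFree (kernel lam)) (hA : FlatMod.IsFinLocFree A) {G : X.Modules}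
    (hG : FlatMod.IsFinLocFree G) :
    (r : ℤ) * Curv2.euler k X G = Curv2.euler k X (CohB1.tensorMod (kernel lam) G) +
      Curv2.euler k C (CohB1.tensorMod A ((Scheme.Modules.pullback i).obj G)) := by
  have hM := H10Coh.Tw.isFinLocFree_tensorMod hA (H16Derived.KFlat.Stalk.isFinLocFree_pullback i hG)
  haveI : (CohB1.tensorMod A ((Scheme.Modules.pullback i).obj G)).IsQuasicoherent :=
    H8Props.FinLocFree.isQCoh_of_isFinLocFree _ hM
  have h := H25Euler.euler_add (k := k)
    (H10Coh.PF.shortExact_TR (H16Derived.KFlat.Stalk.isFlat_of_isFinLocFree hG) hS)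
    (H16Derived.KFlat.Stalk.isCoh_of_isFinLocFree (H10Coh.Tw.isFinLocFree_tensorMod hF hG))
    (H16Derived.KFlat.Stalk.isCoh_of_isFinLocFree
      (H10Coh.Tw.isFinLocFree_tensorMod (H22Alg.KModel.finLocFree_free r) hG))
    (H10Coh.isCoh_of_iso (projIso i hG A).symm (H22Alg.KPushCl.isCoh_push i hM))
  exact (euler_tensor_free k r G).symm.trans (h.trans (congrArg _
    ((H25Euler.euler_congr (projIso i hG A)).trans (H28Int.Push.euler_push k i hi _))))

theorem euler_seqI {C : Scheme.{u}} [C.Over (Spec (CommRingCat.of k))] [IsLocallyNoetherian X]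
    [IsLocallyNoetherian C] (i : C ⟶ X) [IsClosedImmersion i]
    (hi : i ≫ (X ↘ Spec (CommRingCat.of k)) = C ↘ Spec (CommRingCat.of k))
    (hI : FlatMod.IsFinLocFree (ClSub.idealMod i.ker)) {G : X.Modules} (hG : FlatMod.IsFinLocFree G) :
    Curv2.euler k X G = Curv2.euler k X (CohB1.tensorMod (ClSub.idealMod i.ker) G) +
      Curv2.euler k C ((Scheme.Modules.pullback i).obj G) := by
  have hM := H10Coh.Tw.isFinLocFree_tensorMod
    (H28Pinch.isFinLocFree_of_isInvertible (H28Int.isInvertible_structureModule C))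
    (H16Derived.KFlat.Stalk.isFinLocFree_pullback i hG)
  haveI : (CohB1.tensorMod (Coh.structureModule C) ((Scheme.Modules.pullback i).obj G)).IsQuasicoherent :=
    H8Props.FinLocFree.isQCoh_of_isFinLocFree _ hM
  let eQ : CohB1.tensorMod (ClSub.quotMod i.ker) G ≅
      (Coh.push i).obj (CohB1.tensorMod (Coh.structureModule C) ((Scheme.Modules.pullback i).obj G)) :=
    PicGrp.tensorModIso (H28Vert.quotModKerIso i) (Iso.refl G) ≪≫ projIso i hG (Coh.structureModule C)
  have h := H25Euler.euler_add (k := k)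
    (H10Coh.PF.shortExact_TR (H16Derived.KFlat.Stalk.isFlat_of_isFinLocFree hG) (idealSeq_shortExact i.ker))
    (H16Derived.KFlat.Stalk.isCoh_of_isFinLocFree (H10Coh.Tw.isFinLocFree_tensorMod hI hG))
    (H16Derived.KFlat.Stalk.isCoh_of_isFinLocFree (H10Coh.Tw.isFinLocFree_tensorMod
      (H28Pinch.isFinLocFree_of_isInvertible (H28Int.isInvertible_structureModule X)) hG))
    (H10Coh.isCoh_of_iso eQ.symm (H22Alg.KPushCl.isCoh_push i hM))
  exact (H25Euler.euler_congr (H10Coh.Tw.leftUnitIso G)).symm.trans (h.trans (congrArg _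
    ((H25Euler.euler_congr eQ).trans ((H28Int.Push.euler_push k i hi _).trans
      (H25Euler.euler_congr (H10Coh.Tw.leftUnitIso _))))))

end tensors

section main

variable (k : Type u) [Field k] [IsAlgClosed k]
variable {X : Scheme.{u}} [X.Over (Spec (CommRingCat.of k))] [IsIntegral X]
  [Smooth (X ↘ Spec (CommRingCat.of k))] [IsProper (X ↘ Spec (CommRingCat.of k))]
  (hdim : topologicalKrullDim X = 2)
  {H : X.Modules} (hH : CohB1.IsAmple H)
  (hK : ExtPow.IsExtPow 2 (Omega.sheaf (X ↘ Spec (CommRingCat.of k))) (Coh.structureModule X))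

include hdim hH hK

/-- On a surface with trivial canonical sheaf a bundle and its dual have the same Euler characteristic. -/
theorem euler_dual {G : X.Modules} (hG : FlatMod.IsFinLocFree G) :
    Curv2.euler k X (RefHull.dual G) = Curv2.euler k X G := by
  haveI := H28Int.isNoetherian k (X := X)
  haveI := H27CurveDiv.smoothOfRelativeDimension_of_dim (X ↘ Spec (CommRingCat.of k)) 2 hdim
  haveI := H10Coh.SheafHom.hasSheafHom G
  obtain ⟨N, ι, hι, hιk⟩ := H22Alg.CurveProj.exists_closedImmersion k X hH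
  have hG' := H16Derived.KFlat.Stalk.isCoh_of_isFinLocFree hG
  have hD := H16Derived.KFlat.Stalk.isCoh_of_isFinLocFree (isFinLocFree_dual hG)
  have key : ∀ p, p ≤ 2 → Module.finrank k (Coh.HH X (RefHull.dual G) (2 - p)) =
      Module.finrank k (Coh.HH X G p) := fun p hp => by
    obtain ⟨e⟩ := H17.FLI.nonempty_dual_linearEquiv_vb ι hιk hK hG hp
    rw [← (H29RR.hhIso (k := k) (H10Coh.SheafHom.homShIso G (Coh.structureModule X)) (2 - p)).finrank_eq]
    exact e.finrank_eq.symm.trans Subspace.dual_finrank_eq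
  rw [euler_eq_three k hdim hD, euler_eq_three k hdim hG']
  have h0 := key 2 le_rfl
  have h1 := key 1 (by norm_num)
  have h2 := key 0 (by norm_num)
  norm_num at h0 h1 h2
  rw [h0, h1, h2]; ring

theorem euler_structure (hq : Module.finrank k (Coh.HH X (Coh.structureModule X) 1) = 0) :
    Curv2.euler k X (Coh.structureModule X) = 2 := by
  have hO := H28Int.isInvertible_structureModule X
  have h := finrank_h2 k hdim hK hO hO (H10Coh.Tw.rightUnitIso _)
  rw [(H29RR.hhIso (k := k) (H10Coh.Tw.rightUnitIso (Coh.structureModule X)) 0).finrank_eq,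
    H29RR.finrank_h0_structure k X] at h
  rw [euler_eq_three k hdim (H11Ample.isCoh_of_isInvertible hO), H29RR.finrank_h0_structure k X, hq, h]
  norm_num

set_option maxHeartbeats 1600000 in
theorem euler_end (hq : Module.finrank k (Coh.HH X (Coh.structureModule X) 1) = 0)
    {C : Scheme.{u}} [C.Over (Spec (CommRingCat.of k))] [IsIntegral C]
    (hC : topologicalKrullDim C = 1) (i : C ⟶ X) [IsClosedImmersion i]
    (hi : i ≫ (X ↘ Spec (CommRingCat.of k)) = C ↘ Spec (CommRingCat.of k))
    (A : C.Modules) (hA : PicF.IsInvertible A) (e : ℕ)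
    (lam : FlatMod.freeMod X e ⟶ (Coh.push i).obj A) [Epi lam]
    (hlam : Function.Bijective (Sheaf.H.map ((SheafOfModules.toSheaf _).map lam) 0)) :
    Curv2.euler k X (RefHull.homSh (kernel lam) (kernel lam)) =
      2 - 2 * ((Curv2.genus k C : ℤ) -
        (Module.finrank k (Coh.HH C A 0) : ℤ) * (Module.finrank k (Coh.HH C A 1) : ℤ)) := by
  haveI := H28Int.isNoetherian k (X := X)
  haveI : IsProper (C ↘ Spec (CommRingCat.of k)) := by rw [← hi]; infer_instance
  haveI := H28Int.isNoetherian k (X := C)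
  let O := Coh.structureModule X
  -- the ideal
  let I := ClSub.idealMod i.ker
  have hI : PicF.IsInvertible I := H28Int.isInvertible_idealMod_curve k hdim i hC
  have hIf := H28Pinch.isFinLocFree_of_isInvertible hI
  let F := kernel lam
  have hAf := H28Pinch.isFinLocFree_of_isInvertible hA
  have hAq : A.IsQuasicoherent := H8Props.FinLocFree.isQCoh_of_isFinLocFree A hAf
  have hEf : FlatMod.IsFinLocFree (FlatMod.freeMod X e) := H22Alg.KModel.finLocFree_free e
  have hF : FlatMod.IsFinLocFree F := finLocFree_kernel_push i hI hAf hEf lam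
  -- rank
  have hη : genericPoint X ∉ Set.range i.base := by
    intro hmem
    have hu : Set.range i.base = Set.univ := Set.eq_univ_of_univ_subset
      ((genericPoint_spec X).symm.le.trans
        (closure_minimal (Set.singleton_subset_iff.2 hmem) i.isClosedEmbedding.isClosed_range))
    haveI : Surjective i := ⟨Set.range_eq_univ.1 hu⟩
    haveI := isIso_of_isClosedImmersion_of_surjective i
    rw [IsHomeomorph.topologicalKrullDim_eq _ (Scheme.homeoOfIso (asIso i)).isHomeomorph] at hC
    rw [hC] at hdim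
    exact absurd hdim (by norm_num)
  have hS : (ShortComplex.mk (kernel.ι lam) lam (kernel.condition lam)).ShortExact :=
    { exact := ShortComplex.exact_of_f_is_kernel _ (kernelIsKernel lam) }
  have hFr : FlatMod.IsFinLocFreeOfRank e F := by
    refine isFinLocFreeOfRank_of_generic _ hF ?_
    haveI := H16Derived.ProjFormula.subsingleton_stalk_push i A _ hη
    have hbij : Function.Bijective (H06Mod.stalkLin (kernel.ι lam) (genericPoint X)) :=
      ⟨H06Mod.stalk_injective _ hS _, fun z => (H06Mod.stalk_exact _ hS _ z).1 (Subsingleton.elim _ _)⟩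
    exact (LinearEquiv.ofBijective _ hbij).finrank_eq.trans (finrank_generic_of_rank (rank_freeMod e))
  -- Euler characteristics
  have hA2 : ∀ {M : C.Modules}, Curv2.euler k C M =
      (Module.finrank k (Coh.HH C M 0) : ℤ) - (Module.finrank k (Coh.HH C M 1) : ℤ) :=
    fun {M} => H29RR.euler_eq_sub hC.le M
  have hcO : Curv2.euler k C (Coh.structureModule C) = 1 - (Curv2.genus k C : ℤ) := by
    rw [hA2, H29RR.finrank_h0_structure k C, Nat.cast_one]; rfl
  have hχO := euler_structure k hdim hH hK hq
  have he : e = Module.finrank k (Coh.HH C A 0) := by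
    have h := (LinearEquiv.ofBijective (Canon.HHlin k lam 0) hlam).finrank_eq
    rw [h0_free, H29RR.finrank_h0_structure k X, mul_one] at h
    exact h.trans (H28Int.Push.finrank_HH_push k i hi A 0)
  have seqA : ∀ {G : X.Modules}, FlatMod.IsFinLocFree G →
      (e : ℤ) * Curv2.euler k X G = Curv2.euler k X (CohB1.tensorMod F G) +
        Curv2.euler k C (CohB1.tensorMod A ((Scheme.Modules.pullback i).obj G)) :=
    fun {G} hG => euler_seqA k i hi hS hF hAf hG
  have seqI : ∀ {G : X.Modules}, FlatMod.IsFinLocFree G →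
      Curv2.euler k X G = Curv2.euler k X (CohB1.tensorMod I G) +
        Curv2.euler k C ((Scheme.Modules.pullback i).obj G) := fun {G} hG => euler_seqI k i hi hIf hG
  have curve : ∀ {G : X.Modules} {n : ℕ}, FlatMod.IsFinLocFreeOfRank n G →
      Curv2.euler k C (CohB1.tensorMod A ((Scheme.Modules.pullback i).obj G)) =
        n * (Curv2.euler k C A - Curv2.euler k C (Coh.structureModule C)) +
          Curv2.euler k C ((Scheme.Modules.pullback i).obj G) := fun {G n} hG => by
    have hr := H26Gr.isFinLocFreeOfRank_pullback i hG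
    rw [H29RR.euler_tensor_eq (k := k) (H29RR.rank_one_of_isInvertible hA) hC.le
      (H16Derived.KFlat.Stalk.isCoh_of_isFinLocFree (H22Alg.KModel.finLocFree_of_rank hr)),
      finrank_generic_of_rank hr, Curv2.deg]
    push_cast; ring
  -- the dual ideal
  let N := RefHull.dual I
  have hNf : FlatMod.IsFinLocFree N := isFinLocFree_dual hIf
  have hNr : FlatMod.IsFinLocFreeOfRank 1 N := rank_dual (H29RR.rank_one_of_isInvertible hI)
  have a1 : Curv2.euler k X N = Curv2.euler k X I := euler_dual k hdim hH hK hIf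
  have a2 : (2 : ℤ) = Curv2.euler k X I + (1 - (Curv2.genus k C : ℤ)) := by
    have h := seqI (H28Pinch.isFinLocFree_of_isInvertible (H28Int.isInvertible_structureModule X))
    rw [hχO, H25Euler.euler_congr (H10Coh.Tw.rightUnitIso I),
      H25Euler.euler_congr (H16Derived.KFlat.Stalk.structurePullbackIso i), hcO] at h
    exact h
  have eIN : CohB1.tensorMod I N ≅ Coh.structureModule X :=
    H10Coh.Tw.commIso _ _ ≪≫ ((H10Inj.SheafExt.dualHomIso I hIf).app I) ≪≫ endIso hI
  have a3 := seqI hNf
  rw [H25Euler.euler_congr eIN, hχO] at a3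
  -- the dual of F
  let G := RefHull.dual F
  have hGf : FlatMod.IsFinLocFree G := isFinLocFree_dual hF
  have hGr : FlatMod.IsFinLocFreeOfRank e G := rank_dual hFr
  have a4 : Curv2.euler k X G = Curv2.euler k X F := euler_dual k hdim hH hK hF
  have a5 : Curv2.euler k X (FlatMod.freeMod X e) = Curv2.euler k X F + Curv2.euler k C A := by
    exact euler_seq0 k i hi hS hF hAf
  rw [H22Alg.DetDeg.euler_freeMod, hχO] at a5
  have a6 := seqI hGf
  have a7 : Curv2.euler k X (CohB1.tensorMod I G) = Curv2.euler k X (CohB1.tensorMod F N) := by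
    rw [← euler_dual k hdim hH hK (H10Coh.Tw.isFinLocFree_tensorMod hIf hGf)]
    refine H25Euler.euler_congr ?_
    haveI := isIso_bidualMap hF
    exact (H10Inj.SheafExt.homTensorIso G I).app (Coh.structureModule X) ≪≫
      ((H10Inj.SheafExt.dualHomIso G hGf).app N).symm ≪≫
      PicGrp.tensorModIso (asIso (RefHull.bidualMap F)).symm (Iso.refl _)
  have a8 := seqA hNf
  rw [curve hNr] at a8
  have a9 := seqA hGf
  rw [curve hGr] at a9
  have a10 : Curv2.euler k X (RefHull.homSh F F) = Curv2.euler k X (CohB1.tensorMod F G) :=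
    H25Euler.euler_congr ((((H10Inj.SheafExt.dualHomIso F hF).app F).symm ≪≫ H10Coh.Tw.commIso _ _))
  rw [hA2 (M := A), ← he] at a5 a8 a9
  push_cast at a8 a9 ⊢
  rw [← he]
  rw [a10]
  have eN : Curv2.euler k X N = 1 + (Curv2.genus k C : ℤ) := by linarith
  have eG : Curv2.euler k X G = (e : ℤ) + (Module.finrank k (Coh.HH C A 1) : ℤ) := by linarith
  rw [eN] at a8
  rw [eG] at a9
  rw [hcO] at a8 a9
  ring_nf at a8 a9 a6 ⊢
  linarith

end main

end Groth.Agent.H28RR.LazMuk
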