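import Groth.Agent.H28RR.LazMukEuler
import Groth.Agent.H28RR.Connect
import Groth.Agent.H22Alg.NakaiGen

/-! # First cohomology attached to a Lazarsfeld-Mukai bundle -/

set_option autoImplicit false
set_option backward.isDefEq.respectTransparency.types false
set_option linter.style.haveILetI false
set_option linter.unusedSectionVars false

universe u

open CategoryTheory CategoryTheory.Limits AlgebraicGeometry TopologicalSpace Opposite
open Groth.Agent

noncomputable section

namespace Groth.Agent.H28RR.LazMuk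

attribute [local instance 10000] H10Coh.hasSheafifyAb H10Coh.hasWeakSheafifyAb H10Coh.hasExtAb H10Coh.enoughInjAb


theorem zero_of_comp_g {C : Type*} [Category C] [Abelian C] [HasExt C] {S : ShortComplex C} (hS : S.ShortExact)
    {A : C} {n : ℕ} (z : Abelian.Ext A S.X₂ n) :
    (z.comp (Abelian.Ext.mk₀ S.g) (add_zero n)).comp hS.extClass rfl = 0 := by
  rw [Abelian.Ext.comp_assoc_of_second_deg_zero, hS.comp_extClass, Abelian.Ext.comp_zero]

section lemmas

variable {X : Scheme.{u}} (k : Type u) [Field k] [X.Over (Spec (CommRingCat.of k))]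

/-- `Hⁿ⁺¹(f)` is injective when `Hⁿ(g)` is onto. -/
theorem hhlin_f_injective_of_surjective {S : ShortComplex X.Modules} (hS : S.ShortExact) (n : ℕ)
    (h : Function.Surjective (Canon.HHlin k S.g n)) : Function.Injective (Canon.HHlin k S.f (n + 1)) := by
  refine (injective_iff_map_eq_zero _).2 fun x hx => ?_
  obtain ⟨y, rfl⟩ := Abelian.Ext.covariant_sequence_exact₁ _ (H10Coh.shortExact_sh hS) x hx rfl
  obtain ⟨z, rfl⟩ := h y
  exact zero_of_comp_g (H10Coh.shortExact_sh hS) z

include k in
theorem subsingleton_of_decomposition {A G : X.Modules} {r : ℕ} (a : Fin r → (A ⟶ G)) (b : Fin r → (G ⟶ A))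
    (htot : ∑ i, b i ≫ a i = 𝟙 G) (n : ℕ) (h : Subsingleton (Coh.HH X A n)) : Subsingleton (Coh.HH X G n) := by
  refine ⟨fun x y => ?_⟩
  have key : ∀ x : Coh.HH X G n, x = 0 := fun x => by
    rw [← H29RR.hhlin_id (k := k) G n x, ← htot, H29RR.hhlin_sum]
    refine Finset.sum_eq_zero fun i _ => ?_
    rw [H29RR.hhlin_comp, h.elim (Canon.HHlin k (b i) n x) 0, map_zero]
  rw [key x, key y]

include k in
theorem subsingleton_tensor_free (r : ℕ) (G : X.Modules) (n : ℕ) (h : Subsingleton (Coh.HH X G n)) :
    Subsingleton (Coh.HH X (CohB1.tensorMod (FlatMod.freeMod X r) G) n) := by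
  let T := H10Coh.PF.TR G
  let eO : T.obj (Coh.structureModule X) ≅ G := H10Coh.Tw.leftUnitIso G
  let B := FlatMod.freeMod X r
  let a : Fin r → (Coh.structureModule X ⟶ B) := fun i => Sigma.ι (fun _ : Fin r => Coh.structureModule X) i
  let b : Fin r → (B ⟶ Coh.structureModule X) := fun i => Sigma.desc fun j => if j = i then 𝟙 _ else 0
  have htot : ∑ i, b i ≫ a i = 𝟙 B := by
    refine Sigma.hom_ext _ _ fun j => ?_
    rw [Preadditive.comp_sum, Finset.sum_eq_single j]
    · simp [a, b]
      rfl
    · intro i _ hij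
      simp [a, b, Ne.symm hij]
    · intro h; exact absurd (Finset.mem_univ j) h
  refine subsingleton_of_decomposition k (fun i => eO.inv ≫ T.map (a i)) (fun i => T.map (b i) ≫ eO.hom) ?_ n h
  simp only [Category.assoc, Iso.hom_inv_id_assoc]
  simp_rw [← T.map_comp]
  rw [← T.map_sum, htot, T.map_id]

end lemmas

section main

variable (k : Type u) [Field k] [IsAlgClosed k]
variable {X : Scheme.{u}} [X.Over (Spec (CommRingCat.of k))] [IsIntegral X]
  [Smooth (X ↘ Spec (CommRingCat.of k))] [IsProper (X ↘ Spec (CommRingCat.of k))]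
  (hdim : topologicalKrullDim X = 2)
  {H : X.Modules} (hH : CohB1.IsAmple H)
  (hK : ExtPow.IsExtPow 2 (Omega.sheaf (X ↘ Spec (CommRingCat.of k))) (Coh.structureModule X))

include hdim hH hK

/-- Serre duality for a bundle and its dual. -/
theorem finrank_dual {G : X.Modules} (hG : FlatMod.IsFinLocFree G) {p : ℕ} (hp : p ≤ 2) :
    Module.finrank k (Coh.HH X (RefHull.dual G) (2 - p)) = Module.finrank k (Coh.HH X G p) := by
  haveI := H28Int.isNoetherian k (X := X)
  haveI := H27CurveDiv.smoothOfRelativeDimension_of_dim (X ↘ Spec (CommRingCat.of k)) 2 hdim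
  haveI := H10Coh.SheafHom.hasSheafHom G
  obtain ⟨N, ι, hι, hιk⟩ := H22Alg.CurveProj.exists_closedImmersion k X hH
  obtain ⟨e⟩ := H17.FLI.nonempty_dual_linearEquiv_vb ι hιk hK hG hp
  rw [← (H29RR.hhIso (k := k) (H10Coh.SheafHom.homShIso G (Coh.structureModule X)) (2 - p)).finrank_eq]
  exact e.finrank_eq.symm.trans Subspace.dual_finrank_eq

/-- `h¹(F^∨ ⊗ i_* A) = 1` when the kernel is simple. -/
theorem h1_dual_tensor (hq : Module.finrank k (Coh.HH X (Coh.structureModule X) 1) = 0)
    {C : Scheme.{u}} [C.Over (Spec (CommRingCat.of k))] [IsIntegral C]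
    (hC : topologicalKrullDim C = 1) (i : C ⟶ X) [IsClosedImmersion i]
    (hi : i ≫ (X ↘ Spec (CommRingCat.of k)) = C ↘ Spec (CommRingCat.of k))
    (A : C.Modules) (hA : PicF.IsInvertible A) (e : ℕ)
    (lam : FlatMod.freeMod X e ⟶ (Coh.push i).obj A) [Epi lam]
    (hlam : Function.Bijective (Sheaf.H.map ((SheafOfModules.toSheaf _).map lam) 0))
    (hsimple : Module.finrank k (Coh.HH X (RefHull.homSh (kernel lam) (kernel lam)) 0) = 1) :
    Module.finrank k (Coh.HH X (CohB1.tensorMod (RefHull.dual (kernel lam)) ((Coh.push i).obj A)) 1) = 1 := by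
  haveI := H28Int.isNoetherian k (X := X)
  haveI : IsProper (C ↘ Spec (CommRingCat.of k)) := by rw [← hi]; infer_instance
  haveI := H28Int.isNoetherian k (X := C)
  have hI := H28Int.isInvertible_idealMod_curve k hdim i hC
  have hAf := H28Pinch.isFinLocFree_of_isInvertible hA
  haveI : A.IsQuasicoherent := H8Props.FinLocFree.isQCoh_of_isFinLocFree A hAf
  have hEf := H22Alg.KModel.finLocFree_free (X := X) e
  let F := kernel lam
  have hF : FlatMod.IsFinLocFree F := finLocFree_kernel_push i hI hAf hEf lam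
  let G := RefHull.dual F
  have hG : FlatMod.IsFinLocFree G := isFinLocFree_dual hF
  have hS : (ShortComplex.mk (kernel.ι lam) lam (kernel.condition lam)).ShortExact :=
    { exact := ShortComplex.exact_of_f_is_kernel _ (kernelIsKernel lam) }
  have hFc := H16Derived.KFlat.Stalk.isCoh_of_isFinLocFree hF
  have hO1 : Subsingleton (Coh.HH X (Coh.structureModule X) 1) := by
    haveI := H10Coh.finite_HH_proper k X _ (H11Ample.isCoh_of_isInvertible (H28Int.isInvertible_structureModule X)) 1
    exact Module.finrank_zero_iff.1 hq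
  -- the cohomology of the kernel
  have hF0 : Module.finrank k (Coh.HH X F 0) = 0 := by
    haveI : Subsingleton (Coh.HH X F 0) := ⟨fun x y => H28Surf.hhlin_injective k hS (hlam.1 (by
      refine Eq.trans (H29RR.hhlin_comp (k := k) (kernel.ι lam) lam 0 x).symm
        (Eq.trans ?_ (H29RR.hhlin_comp (k := k) (kernel.ι lam) lam 0 y))
      rw [kernel.condition, H29RR.hhlin_zero, H29RR.hhlin_zero]))⟩
    exact Module.finrank_zero_of_subsingleton
  have hF1 : Module.finrank k (Coh.HH X F 1) = 0 := by
    have hfree : Subsingleton (Coh.HH X (FlatMod.freeMod X e) 1) := by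
      let B := FlatMod.freeMod X e
      refine subsingleton_of_decomposition k (fun i => Sigma.ι (fun _ : Fin e => Coh.structureModule X) i)
        (fun i => Sigma.desc fun j => if j = i then 𝟙 _ else 0) ?_ 1 hO1
      refine Sigma.hom_ext _ _ fun j => ?_
      rw [Preadditive.comp_sum, Finset.sum_eq_single j]
      · simp
      · intro i _ hij
        simp [Ne.symm hij]
      · intro h; exact absurd (Finset.mem_univ j) h
    have hinj := hhlin_f_injective_of_surjective k hS 0 hlam.2
    haveI : Subsingleton (Coh.HH X F 1) := ⟨fun x y => hinj (hfree.elim _ _)⟩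
    exact Module.finrank_zero_of_subsingleton
  have hGc := H16Derived.KFlat.Stalk.isCoh_of_isFinLocFree hG
  have hG1 : Subsingleton (Coh.HH X G 1) := by
    haveI := H10Coh.finite_HH_proper k X _ hGc 1
    exact Module.finrank_zero_iff.1 ((finrank_dual k hdim hH hK hF (p := 1) (by norm_num)).trans hF1)
  have hG2 : Subsingleton (Coh.HH X G 2) := by
    haveI := H10Coh.finite_HH_proper k X _ hGc 2
    exact Module.finrank_zero_iff.1 ((finrank_dual k hdim hH hK hF (p := 0) (by norm_num)).trans hF0)
  -- the tensored sequence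
  have hT := H10Coh.PF.shortExact_TR (H16Derived.KFlat.Stalk.isFlat_of_isFinLocFree hG) hS
  have hc := finrank_connect (k := k) hT 1 (subsingleton_tensor_free k e G 1 hG1) (subsingleton_tensor_free k e G 2 hG2)
  refine ((H29RR.hhIso (k := k) (H10Coh.Tw.commIso G ((Coh.push i).obj A)) 1).finrank_eq).trans (hc.trans ?_)
  have hEnd : CohB1.tensorMod F G ≅ RefHull.homSh F F :=
    H10Coh.Tw.commIso _ _ ≪≫ (H10Inj.SheafExt.dualHomIso F hF).app F
  have hFG := H10Coh.Tw.isFinLocFree_tensorMod hF hG
  -- Serre duality for the endomorphisms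
  have hself : RefHull.dual (CohB1.tensorMod F G) ≅ RefHull.homSh F F := by
    haveI := isIso_bidualMap hF
    exact (H10Inj.SheafExt.homTensorIso G F).app (Coh.structureModule X) ≪≫
      ((H10Inj.SheafExt.dualHomIso G hG).app G).symm ≪≫
      PicGrp.tensorModIso (asIso (RefHull.bidualMap F)).symm (Iso.refl G) ≪≫ hEnd
  refine (finrank_dual k hdim hH hK hFG (p := 2) le_rfl).symm.trans ?_
  exact ((H29RR.hhIso (k := k) hself 0).finrank_eq).trans hsimple

end main

end Groth.Agent.H28RR.LazMuk
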