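import Groth.Agent.H28RR.BlowPic
import Groth.Agent.H29Omega.DerLocal
import Groth.Agent.H22Alg.ExtPowHom
import Groth.Agent.H22Alg.ExtPowSES
import Groth.Agent.H13CI.HartogsFree
import Groth.Agent.H26Base.FibreReg
import Groth.Agent.H06Geom.NoEmbedded
import Groth.Agent.H28Vert.VertGroup

/-!
# The canonical module of the blow-up of a surface in a closed point
-/

set_option autoImplicit false
set_option linter.style.haveILetI false
set_option linter.unusedSectionVars false
set_option backward.isDefEq.respectTransparency.types false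

universe u

open CategoryTheory CategoryTheory.Limits AlgebraicGeometry TopologicalSpace Opposite
open Groth.Agent.H28Surf

namespace Groth.Agent.H28RR

/-- Exterior powers of differentials agree on a common open piece. -/
theorem nonempty_pullback_extPow_iso {n : ℕ} {S X X' V : Scheme.{u}} (f : X ⟶ S) (f' : X' ⟶ S) (j : V ⟶ X)
    (j' : V ⟶ X') [IsOpenImmersion j] [IsOpenImmersion j'] [QuasiSeparated f] [QuasiSeparated f'] [QuasiSeparated (j ≫ f)] (h : j ≫ f = j' ≫ f')
    {W : X.Modules} {W' : X'.Modules} (hW : ExtPow.IsExtPow n (Omega.sheaf f) W)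
    (hW' : ExtPow.IsExtPow n (Omega.sheaf f') W') :
    Nonempty ((Scheme.Modules.pullback j).obj W ≅ (Scheme.Modules.pullback j').obj W') := by
  haveI : QuasiSeparated (j' ≫ f') := h ▸ inferInstance
  obtain ⟨e⟩ := H29Omega.nonempty_restrict_iso_sheaf (H17.PrinOmega.isUniversal_dOmega f) j
  obtain ⟨e'⟩ := H29Omega.nonempty_restrict_iso_sheaf (H17.PrinOmega.isUniversal_dOmega f') j'
  have h1 := H22Alg.ExtPowHom.isExtPow_pullback j (H29Omega.isQCoh_sheaf _) hW
  have h2 := H22Alg.ExtPowHom.isExtPow_pullback j' (H29Omega.isQCoh_sheaf _) hW'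
  refine H22Alg.ExtPowHom.nonempty_iso h1 (H22Alg.ExtPowSES.isExtPow_of_iso
    (((Scheme.Modules.restrictFunctorIsoPullback j').symm.app _) ≪≫ e' ≪≫ eqToIso (by rw [h]) ≪≫ e.symm ≪≫
      (Scheme.Modules.restrictFunctorIsoPullback j).app _) h2)

variable {X : Scheme.{u}} (k : Type u) [Field k] [X.Over (Spec (CommRingCat.of k))]
  [IsProper (X ↘ Spec (CommRingCat.of k))] [Smooth (X ↘ Spec (CommRingCat.of k))] [IsIntegral X]

include k in
/-- Invertible modules on a surface are determined outside a closed point. -/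
theorem nonempty_iso_of_punctured (hdim : topologicalKrullDim X = 2) {P : X} (hP : IsClosed ({P} : Set X))
    {L M : X.Modules} (hL : PicF.IsInvertible L) (hM : PicF.IsInvertible M) (U : X.Opens)
    (hU : (U : Set X) = {P}ᶜ) (e : L.restrict U.ι ≅ M.restrict U.ι) : Nonempty (L ≅ M) := by
  let f := X ↘ Spec (CommRingCat.of k)
  have hZ : H26Base.HartogsBig.HasPairsNhd U := fun z hz => by
    have hz' : z = P := by
      have : z ∈ ({P}ᶜ : Set X)ᶜ := hU ▸ hz
      simpa using this
    refine H26Base.FibreReg.exists_nhd_pair_of_smooth f z ?_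
    subst hz'
    haveI := H06Geom.isIso_fiberι_of_field f (f z)
    have e₁ := (asIso ((f.fiberι (f z)).stalkMap (f.asFiber z))).commRingCatIsoToRingEquiv
    have hd := dim_stalk_closed k hdim hP
    rw [Scheme.Hom.fiberι_asFiber] at e₁
    rw [show CInt.fiberStalk f z = (f.fiber (f z)).presheaf.stalk (f.asFiber z) from rfl,
      ← ringKrullDim_eq_of_ringEquiv e₁, hd]
  have hLf := H22Alg.KModel.finLocFree_of_rank (H29RR.rank_one_of_isInvertible hL)
  have hMf := H22Alg.KModel.finLocFree_of_rank (H29RR.rank_one_of_isInvertible hM)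
  haveI := H13HartogsFree.isIso_unit hLf hZ
  haveI := H13HartogsFree.isIso_unit hMf hZ
  exact ⟨asIso ((Scheme.Modules.restrictAdjunction U.ι).unit.app L) ≪≫
    (Scheme.Modules.pushforward U.ι).mapIso e ≪≫
    (asIso ((Scheme.Modules.restrictAdjunction U.ι).unit.app M)).symm⟩

variable [IsAlgClosed k]
variable {X' : Scheme.{u}} [X'.Over (Spec (CommRingCat.of k))] [IsProper (X' ↘ Spec (CommRingCat.of k))]
  [Smooth (X' ↘ Spec (CommRingCat.of k))] [IsIntegral X']
variable {π : X' ⟶ X} {P : X} {hP : IsClosed ({P} : Set X)}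

/-- The canonical module of the blow-up is the pullback twisted by the exceptional curve. -/
theorem canonical_blowup (hdim : topologicalKrullDim X = 2) (hdim' : topologicalKrullDim X' = 2)
    (hπk : π ≫ (X ↘ Spec (CommRingCat.of k)) = X' ↘ Spec (CommRingCat.of k))
    (hπ : BlowUp.IsBlowUp π (Scheme.IdealSheafData.vanishingIdeal ⟨{P}, hP⟩))
    {W : X.Modules} (hW : ExtPow.IsExtPow 2 (Omega.sheaf (X ↘ Spec (CommRingCat.of k))) W)
    {W' : X'.Modules} (hW' : ExtPow.IsExtPow 2 (Omega.sheaf (X' ↘ Spec (CommRingCat.of k))) W') :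
    Nonempty (CohB1.tensorMod W' (ClSub.idealMod (BlowUp.exceptional π (Scheme.IdealSheafData.vanishingIdeal ⟨{P}, hP⟩))) ≅
      (Scheme.Modules.pullback π).obj W) := by
  letI := H28Vert.picLaw X
  letI := H28Vert.picLaw X'
  have hm := H28Vert.pullMul π
  have hC := exc_isCurve k hdim hπ
  have hE := isEffCartier_curve k hdim' hC
  have hI := isInvertible_ideal k hE
  have hWi := isInvertible_canonical k hdim hW
  have hWi' := isInvertible_canonical k hdim' hW'
  have hdec := pic_decomp k hdim hdim' hπk hπ hI hm (PicGrp.cls W' hWi')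
  have hEE := pr_exc_self k hdim hdim' hπ
  have hLE := fun (L : X.Modules) (hL : PicF.IsInvertible L) => pr_pullback_exc k hdim hdim' hπk hπ hL
  have hq := euler_quot k hdim' hW' hE
  have hh1 : Curv2.euler k X' (ClSub.quotMod (BlowUp.exceptional π (Scheme.IdealSheafData.vanishingIdeal ⟨{P}, hP⟩))) = 1 := by
    refine (subsingleton_h1_iff k hdim' hC).1 ?_
    obtain ⟨⟨-, K, _, e, -⟩, -⟩ := exc_isExcCurve k hdim hπ
    obtain ⟨s'⟩ := H11Ample.nonempty_pullback_structureModule_iso e.hom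
    haveI : (Coh.structureModule (BlowUp.exceptional π (Scheme.IdealSheafData.vanishingIdeal ⟨{P}, hP⟩)).subscheme).IsQuasicoherent :=
      H10Coh.isQuasicoherent_unit
    exact H28Vert.subsingleton_HH_of_pullback_iso e _ 1 (H10Coh.subsingleton_HH_of_iso s'.symm 1
      (H10Coh.Pn.subsingleton_HH_structureModule 1 K 1 one_pos))
  have hsupp : ∀ z, z ∈ ((BlowUp.exceptional π (Scheme.IdealSheafData.vanishingIdeal ⟨{P}, hP⟩)).support : Set X') →
      π z = P := fun z hz => map_exc hz
  generalize BlowUp.exceptional π (Scheme.IdealSheafData.vanishingIdeal ⟨{P}, hP⟩) = E at hE hI hdec hEE hLE hq hh1 hsupp ⊢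
  obtain ⟨d, n, hdn⟩ := hdec
  obtain ⟨L, hL, rfl⟩ := PicGrp.exists_eq_cls d
  have hL' := H11Ample.isInvertible_pullback π hL
  rw [show PicGrp.pullHom π hm (PicGrp.cls L hL) = PicGrp.cls _ hL' from Subtype.ext rfl] at hdn
  -- the exponent
  have hn : n = -1 := by
    rcases Int.eq_nat_or_neg n with ⟨m, rfl | rfl⟩
    · exfalso
      have hIm := H11Ample.isInvertible_tensorPow hI m
      rw [zpow_natCast, show PicGrp.cls _ hI ^ m = PicGrp.cls _ hIm from Subtype.ext (PicGrp.cls_pow_val hI m)] at hdn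
      obtain ⟨φ⟩ := (PicGrp.cls_eq_cls_iff hWi' (H11Ample.isInvertible_tensor hL' hIm)).1
        (hdn.trans (Subtype.ext (PicGrp.cls_mul_cls_val hL' hIm)))
      rw [pr_symm k, pr_congr_left k hI φ, pr_tensor_left k hdim' hL' hIm hI, pr_pow_left k hdim' hI hI, hLE L hL,
        hEE, hh1] at hq
      omega
    · obtain ⟨J, hJ, ⟨ej⟩⟩ := H11Sym.exists_inverse hI
      have hJm := H11Ample.isInvertible_tensorPow hJ m
      rw [zpow_neg, zpow_natCast, ← inv_pow, PicGrp.cls_inv_eq_cls hI hJ ⟨H10Coh.Tw.commIso _ _ ≪≫ ej⟩,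
        show PicGrp.cls _ hJ ^ m = PicGrp.cls _ hJm from Subtype.ext (PicGrp.cls_pow_val hJ m)] at hdn
      obtain ⟨φ⟩ := (PicGrp.cls_eq_cls_iff hWi' (H11Ample.isInvertible_tensor hL' hJm)).1
        (hdn.trans (Subtype.ext (PicGrp.cls_mul_cls_val hL' hJm)))
      rw [pr_symm k, pr_congr_left k hI φ, pr_tensor_left k hdim' hL' hJm hI, pr_pow_left k hdim' hJ hI,
        pr_inv_left k hdim' hI hJ hI (H10Coh.Tw.commIso _ _ ≪≫ ej), hLE L hL, hEE, hh1] at hq
      omega
  subst hn
  rw [zpow_neg_one] at hdn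
  obtain ⟨φ⟩ : Nonempty (CohB1.tensorMod W' (ClSub.idealMod E) ≅ (Scheme.Modules.pullback π).obj L) := by
    refine (PicGrp.cls_eq_cls_iff (H11Ample.isInvertible_tensor hWi' hI) hL').1 ?_
    rw [show PicGrp.cls _ (H11Ample.isInvertible_tensor hWi' hI) = PicGrp.cls W' hWi' * PicGrp.cls _ hI from
      Subtype.ext (PicGrp.cls_mul_cls_val hWi' hI).symm, hdn, inv_mul_cancel_right]
  -- comparison outside the centre
  let U : X.Opens := ⟨{P}ᶜ, hP.isOpen_compl⟩
  haveI : IsIso (π ∣_ U) := H29Blow.isIso_morphismRestrict hπ U fun x hx hsupp' => by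
    rw [← SetLike.mem_coe, Scheme.IdealSheafData.coe_support_vanishingIdeal] at hsupp'
    exact hx hsupp'
  let j : (U : Scheme.{u}) ⟶ X' := inv (π ∣_ U) ≫ (π ⁻¹ᵁ U).ι
  have hj : j ≫ π = U.ι := by
    rw [Category.assoc, ← morphismRestrict_ι, IsIso.inv_hom_id_assoc]
  have hjk : j ≫ (X' ↘ Spec (CommRingCat.of k)) = U.ι ≫ (X ↘ Spec (CommRingCat.of k)) := by
    rw [← hπk, reassoc_of% hj]
  obtain ⟨w⟩ := nonempty_pullback_extPow_iso (X ↘ Spec (CommRingCat.of k)) (X' ↘ Spec (CommRingCat.of k)) U.ι j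
    hjk.symm hW hW'
  obtain ⟨t⟩ := H28Vert.nonempty_pullback_idealMod j hE fun c hc => by
    have h1 := hsupp _ hc
    rw [← Scheme.Hom.comp_apply, hj] at h1
    exact c.2 h1
  obtain ⟨p⟩ := H11Ample.exists_iso_pullback_tensor j hWi' hI
  obtain ⟨ψ⟩ := nonempty_iso_of_punctured k hdim hP hL hWi U rfl
    ((Scheme.Modules.restrictFunctorIsoPullback U.ι).app L ≪≫
      eqToIso (by rw [hj]) ≪≫ ((Scheme.Modules.pullbackComp j π).app L).symm ≪≫
      (Scheme.Modules.pullback j).mapIso φ.symm ≪≫ p ≪≫ PicGrp.tensorModIso (Iso.refl _) t ≪≫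
      H10Coh.Tw.rightUnitIso _ ≪≫ w.symm ≪≫ ((Scheme.Modules.restrictFunctorIsoPullback U.ι).app W).symm)
  exact ⟨φ ≪≫ (Scheme.Modules.pullback π).mapIso ψ⟩

end Groth.Agent.H28RR
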