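import Groth.Agent.H28RR.Blow
import Groth.Agent.H28Contr.Rational
import Groth.Agent.H28Bertini.Regular

/-!
# The blow-up of a smooth proper surface in a closed point is a smooth proper surface
-/

set_option autoImplicit false
set_option linter.style.haveILetI false
set_option linter.unusedSectionVars false
set_option backward.isDefEq.respectTransparency.types false
universe u

open CategoryTheory CategoryTheory.Limits AlgebraicGeometry TopologicalSpace Opposite
open Groth.Agent.H28Surf

namespace Groth.Agent.H28RR

variable {X : Scheme.{u}} (k : Type u) [Field k] [IsAlgClosed k] [X.Over (Spec (CommRingCat.of k))]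
  [IsProper (X ↘ Spec (CommRingCat.of k))] [Smooth (X ↘ Spec (CommRingCat.of k))] [IsIntegral X]
variable {X' : Scheme.{u}} {π : X' ⟶ X} {P : X} {hP : IsClosed ({P} : Set X)}

include k in
theorem isSurface_blowUp (hdim : topologicalKrullDim X = 2)
    (hπ : BlowUp.IsBlowUp π (Scheme.IdealSheafData.vanishingIdeal ⟨{P}, hP⟩)) :
    IsIntegral X' ∧ topologicalKrullDim X' = 2 ∧ IsProper (π ≫ (X ↘ Spec (CommRingCat.of k))) ∧
      Smooth (π ≫ (X ↘ Spec (CommRingCat.of k))) := by
  haveI := H28Int.isNoetherian k (X := X)
  have hX := H19Grp.isRegularLocalRing_stalk_of_smooth (X ↘ Spec (CommRingCat.of k))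
  have hdP := dim_stalk_closed k hdim hP
  haveI : IsProper π := (H28Contr.isExcCurve_and_isContractionOf hP (hX P) hdP hπ).2.2.1
  let U : X.Opens := ⟨{P}ᶜ, hP.isOpen_compl⟩
  haveI hiso : IsIso (π ∣_ U) := H29Blow.isIso_morphismRestrict hπ U fun x hx hsupp => by
    rw [← SetLike.mem_coe, Scheme.IdealSheafData.coe_support_vanishingIdeal] at hsupp
    exact hx hsupp
  have hstep : ∀ z, π z ∉ U → IsRegularLocalRing (X'.presheaf.stalk z) ∧ ringKrullDim (X'.presheaf.stalk z) ≤ 2 ∧
      H28Contr.StepHom (π.stalkMap z).hom := fun z hz => by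
    have hzP : π z = P := not_not.1 hz
    subst hzP
    exact H28Contr.stepHom_stalkMap hP (hX _) hdP hπ
  have huniv : ∀ {Z : Scheme.{u}} [IrreducibleSpace Z], H8Props.FieldDim.cdim (genericPoint Z) = topologicalKrullDim Z := by
    intro Z _
    show topologicalKrullDim (closure ({genericPoint Z} : Set Z)) = _
    rw [genericPoint_closure (α := Z), (Homeomorph.Set.univ Z).isHomeomorph.topologicalKrullDim_eq]
  have hne : genericPoint X ≠ P := fun h => by
    have h1 : topologicalKrullDim (closure ({genericPoint X} : Set X)) = 2 := huniv.trans hdim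
    have h2 := H28Int.Curves.cdim_closed hP
    change topologicalKrullDim (closure ({P} : Set X)) = _ at h2
    rw [h, h2] at h1
    exact absurd h1 (by decide)
  have hU : (U : Set X).Nonempty := ⟨_, hne⟩
  have hinv : H28Contr.Inv U π := by
    refine ⟨fun z hz => (hstep z hz).1, fun z hz => (hstep z hz).2.1, fun z hz Q hQ => ?_⟩
    rw [← Scheme.Hom.comp_apply, ← Scheme.SpecMap_stalkMap_fromSpecStalk, Scheme.Hom.comp_apply]
    haveI := hX (π z)
    haveI := H4Depth.isDomain_of_isRegularLocalRing (X.presheaf.stalk (π z))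
    have h0 : Spec.map (π.stalkMap z) Q = (⟨⊥, Ideal.isPrime_bot⟩ : PrimeSpectrum (X.presheaf.stalk (π z))) := by
      refine PrimeSpectrum.ext ?_
      show Ideal.comap (π.stalkMap z).hom Q.asIdeal = ⊥
      rw [hQ, Ideal.comap_bot_of_injective _ (hstep z hz).2.2.inj]
    rw [h0]
    obtain ⟨Q', hQ'⟩ : genericPoint X ∈ Set.range (X.fromSpecStalk (π z)) := by
      rw [Scheme.range_fromSpecStalk]; exact genericPoint_specializes _
    refine (((PrimeSpectrum.le_iff_specializes _ Q').1 ?_).map (X.fromSpecStalk (π z)).continuous).mem_open U.2 ?_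
    · exact bot_le
    · rw [hQ']; exact hne
  haveI : IsIntegral X' := hinv.isIntegral hU
  haveI : IsProper (π ≫ (X ↘ Spec (CommRingCat.of k))) := inferInstance
  refine ⟨inferInstance, ?_, inferInstance, H28Bertini.smooth_of_regular _ fun z => ?_⟩
  · have hinj : ∀ {z w : X'}, π z ∈ U → π z = π w → z = w := fun {z w} hz h => by
      have h2 : (π ∣_ U) ⟨z, hz⟩ = (π ∣_ U) ⟨w, show π w ∈ U from h ▸ hz⟩ := Subtype.ext
        ((morphismRestrict_base_coe π U ⟨z, hz⟩).trans (h.trans (morphismRestrict_base_coe π U ⟨w, _⟩).symm))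
      exact congrArg Subtype.val ((π ∣_ U).homeomorph.injective h2)
    obtain ⟨⟨w, hw⟩, hwη⟩ := (π ∣_ U).homeomorph.surjective ⟨genericPoint X, hne⟩
    have hw' : π w = genericPoint X := (morphismRestrict_base_coe π U ⟨w, hw⟩).symm.trans (congrArg Subtype.val hwη)
    have hgen : π (genericPoint X') = genericPoint X := by
      have h1 := (genericPoint_specializes w).map π.continuous
      rw [hw'] at h1
      exact (h1.antisymm (genericPoint_specializes _)).eq
    have h := H8Props.FieldDim.cdim_eq_add (π ≫ (X ↘ Spec (CommRingCat.of k))) (X ↘ Spec (CommRingCat.of k)) π rfl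
      (genericPoint X')
    rw [H28Int.Curves.cdim_closed (x := π.asFiber (genericPoint X')) ?_, Nat.cast_zero, zero_add, hgen] at h
    · exact (huniv (Z := X')).symm.trans (h.trans (huniv.trans hdim))
    refine closure_subset_iff_isClosed.1 fun v hv => ?_
    refine (π.fiberι _).isEmbedding.injective ((hinj (z := π.fiberι _ v) ?_ ?_).trans (π.fiberι_asFiber _).symm)
    · rw [show π (π.fiberι _ v) = π (genericPoint X') from (π.range_fiberι _).subset (Set.mem_range_self v), hgen]
      exact hne
    · exact (π.range_fiberι _).subset (Set.mem_range_self v)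
  · by_cases hz : π z ∈ U
    · haveI := H28Contr.isIso_stalkMap_of_restrict π U z hz
      haveI := hX (π z)
      exact IsRegularLocalRing.of_ringEquiv (asIso (π.stalkMap z)).commRingCatIsoToRingEquiv
    · exact (hstep z hz).1

end Groth.Agent.H28RR
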