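import Groth.Agent.H28RR.HodgeIndex
import Groth.Agent.H22Alg.IntPullback
import Groth.Agent.H22Alg.DevLength
import Groth.Agent.H26Blow.Proper
import Groth.Agent.H26Blow.Exists
import Groth.Agent.H17.Fibre
import Groth.Agent.S2348
import Groth.Agent.S8862

/-!
# The Hodge index theorem on irreducible proper two-dimensional schemes over a field

No reducedness, normality or projectivity: pass to the reduction, blow up the curve, and use Chow's lemma.
-/

set_option autoImplicit false
set_option linter.style.haveILetI false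
set_option linter.unusedSectionVars false
set_option backward.isDefEq.respectTransparency.types false

universe u

open CategoryTheory CategoryTheory.Limits AlgebraicGeometry TopologicalSpace Opposite
open Groth.Agent.H28Surf
open Groth.Agent.H22Alg
open Groth.Agent.H8Props.FieldDim (cdim)

namespace Groth.Agent.H28RR.HodgeProper

/-- The generic point of the reduced closure of a point. -/
theorem subschemeι_genericPoint {X : Scheme.{u}} (η : X)
    [IsIntegral (Scheme.IdealSheafData.vanishingIdeal (DevLength.cl η)).subscheme] :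
    (Scheme.IdealSheafData.vanishingIdeal (DevLength.cl η)).subschemeι
      (genericPoint (Scheme.IdealSheafData.vanishingIdeal (DevLength.cl η)).subscheme) = η := by
  set J := Scheme.IdealSheafData.vanishingIdeal (DevLength.cl η)
  have h1 : closure ({J.subschemeι (genericPoint J.subscheme)} : Set X) = closure {η} := by
    rw [← H22Alg.IntPullback.closure_range, H17.range_vanishingIdeal_subschemeι]
    exact closure_closure
  exact (Specializes.antisymm (specializes_iff_mem_closure.2 (h1.ge (subset_closure rfl)))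
    (specializes_iff_mem_closure.2 (h1.le (subset_closure rfl)))).eq

/-- An isomorphism of residue fields over the base preserves the dimension of closures. -/
theorem cdim_eq_of_residue {k : Type u} [Field k] {X Z : Scheme.{u}} (qX : X ⟶ Spec (CommRingCat.of k))
    (qZ : Z ⟶ Spec (CommRingCat.of k)) [LocallyOfFiniteType qX] [LocallyOfFiniteType qZ]
    (g : Z ⟶ X) (hg : g ≫ qX = qZ) (z : Z) (hbij : Function.Bijective (g.residueFieldMap z).hom) :
    cdim z = cdim (g z) := by
  let φ := Spec.preimage (Z.fromSpecResidueField z ≫ qZ)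
  letI : Algebra k (Z.residueField z) := φ.hom.toAlgebra
  haveI : IsIso (g.residueFieldMap z) := (ConcreteCategory.isIso_iff_bijective _).2 hbij
  let e : Spec (Z.residueField z) ⟶ X := Spec.map (g.residueFieldMap z) ≫ X.fromSpecResidueField (g z)
  have he : e = Z.fromSpecResidueField z ≫ g := Scheme.Hom.SpecMap_residueFieldMap_fromSpecResidueField g z
  haveI : IsPreimmersion e := inferInstance
  have hc : Spec.map (CommRingCat.ofHom (algebraMap k (Z.residueField z))) = Z.fromSpecResidueField z ≫ qZ :=
    Spec.map_preimage _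
  obtain ⟨s, hs, hst⟩ := H8Props.FieldDim.exists_trdeg qZ (L := Z.residueField z) (Z.fromSpecResidueField z)
    hc.symm (IsLocalRing.closedPoint _)
  obtain ⟨s', hs', hst'⟩ := H8Props.FieldDim.exists_trdeg qX (L := Z.residueField z) e
    (by rw [hc, ← hg, he]; simp only [Category.assoc]) (IsLocalRing.closedPoint _)
  have h1 : Z.fromSpecResidueField z (IsLocalRing.closedPoint _) = z := Scheme.fromSpecResidueField_apply z _
  have h2 : e (IsLocalRing.closedPoint _) = g z := by
    rw [he, Scheme.Hom.comp_apply]
    exact congrArg g h1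
  rw [h1] at hs
  rw [h2] at hs'
  rw [hs, hs', show s = s' from Nat.cast_injective (R := Cardinal) (hst.symm.trans hst')]

variable {X : Scheme.{u}} (k : Type u) [Field k] [X.Over (Spec (CommRingCat.of k))]
  [IsProper (X ↘ Spec (CommRingCat.of k))]

include k

/-- On an irreducible scheme the top intersection numbers are a multiple of those of the reduction. -/
theorem pr_eq_mul_red [IrreducibleSpace X] (hdim : topologicalKrullDim X = 2) {A B : X.Modules}
    (hA : PicF.IsInvertible A) (hB : PicF.IsInvertible B) :
    pr k A B = ((DevLength.len (Coh.structureModule X) (genericPoint X)).toNat : ℤ) *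
      H28Int.D k [A, B] (H25K.redMod (DevLength.cl (genericPoint X))) := by
  classical
  haveI := H28Int.isNoetherian k (X := X)
  have hl : ∀ M ∈ [A, B], PicF.IsInvertible M := by simp [hA, hB]
  have hO := H10Coh.isCoh_structureModule' X
  have hd2 : topologicalKrullDim (CohB1.support (Coh.structureModule X)) ≤ ((2 : ℕ) : WithBot ℕ∞) :=
    dim_support_structure_le k hdim
  show H28Int.D k [A, B] (Coh.structureModule X) = _
  rw [H22Alg.DevLength.eq_finsum (H28Int.isAddFn_D k [A, B] hl) (d := 2)
    (fun G hG h => H28Int.D_eq_zero k [A, B] hl G hG h) hO hd2]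
  have hη : topologicalKrullDim (closure ({genericPoint X} : Set X)) = ((2 : ℕ) : WithBot ℕ∞) := by
    show cdim (genericPoint X) = _
    rw [H22Alg.VarDim.cdim_genericPoint X, hdim]
    rfl
  rw [finsum_eq_single _ (genericPoint X), if_pos hη]
  intro ξ hξ
  rw [if_neg]
  intro hξd
  exact absurd hξd (H22Alg.DevLength.dim_closure_lt (genericPoint_specializes ξ) hξ hη.le).ne

/-- The Hodge index theorem on an irreducible proper surface: a class orthogonal to a class of positive square,
of nonnegative square, has degree zero on every curve. -/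
theorem D_curve_eq_zero [IrreducibleSpace X] (hdim : topologicalKrullDim X = 2) {P L : X.Modules}
    (hP : PicF.IsInvertible P) (hL : PicF.IsInvertible L) (hpos : 0 < pr k P P) (horth : pr k L P = 0)
    (hnn : 0 ≤ pr k L L) {Y : Scheme.{u}} (ι : Y ⟶ X) [IsClosedImmersion ι] [IsIntegral Y]
    (hY : topologicalKrullDim Y = 1) : H28Int.D k [L] (ClSub.quotMod ι.ker) = 0 := by
  classical
  let sk := Spec (CommRingCat.of k)
  haveI := H28Int.isNoetherian k (X := X)
  set η := genericPoint X
  let J := Scheme.IdealSheafData.vanishingIdeal (DevLength.cl η)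
  haveI : IsIntegral J.subscheme := H22Alg.isIntegral_vanishingIdeal_closure η
  let i := J.subschemeι
  letI : J.subscheme.Over sk := ⟨i ≫ (X ↘ sk)⟩
  haveI : IsProper (J.subscheme ↘ sk) := inferInstanceAs (IsProper (i ≫ (X ↘ sk)))
  haveI := H28Int.isNoetherian k (X := J.subscheme)
  have hJgen : i (genericPoint J.subscheme) = η := subschemeι_genericPoint η
  have hηd : cdim η = ((2 : ℕ) : WithBot ℕ∞) := by
    rw [H22Alg.VarDim.cdim_genericPoint X, hdim]; rfl
  have hJd : topologicalKrullDim J.subscheme = ((2 : ℕ) : WithBot ℕ∞) := by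
    rw [H22Alg.NakaiPos.dim_subscheme, Scheme.IdealSheafData.coe_support_vanishingIdeal]
    exact hηd
  -- the curve in the reduction
  let y := ι (genericPoint Y)
  have hyd : cdim y = ((1 : ℕ) : WithBot ℕ∞) := by
    show topologicalKrullDim (closure ({y} : Set X)) = _
    rw [← LeadDev.range_eq_closure ι (ξ := y) rfl,
      ← ι.isClosedEmbedding.isEmbedding.toHomeomorph.isHomeomorph.topologicalKrullDim_eq, hY]
    rfl
  obtain ⟨y', hy'⟩ : y ∈ Set.range i := by
    rw [H17.range_vanishingIdeal_subschemeι]
    exact (genericPoint_specializes y).mem_closure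
  let I := Scheme.IdealSheafData.vanishingIdeal (DevLength.cl y')
  have hy'ne : y' ≠ genericPoint J.subscheme := fun h => by
    have h2 : y = η := by rw [← hy', h, hJgen]
    rw [h2, hηd] at hyd
    exact absurd hyd (by norm_num)
  have hIsupp : (I.support : Set J.subscheme) = closure {y'} := Scheme.IdealSheafData.coe_support_vanishingIdeal _
  have hgenI : genericPoint J.subscheme ∉ (I.support : Set J.subscheme) := fun h => by
    rw [hIsupp] at h
    exact hy'ne ((specializes_iff_mem_closure.2 h).antisymm (genericPoint_specializes y')).eq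
  have hI : I ≠ ⊥ := fun h => hgenI (by rw [h, Scheme.IdealSheafData.support_bot]; trivial)
  -- blow up and apply Chow's lemma
  obtain ⟨Z, b, hb⟩ := H26Blow.exists_isBlowUp I
  haveI : IsProper b := H26Blow.isProper_of_isBlowUp hb fun x => by
    obtain ⟨U, hU, hxU, -⟩ := exists_isAffineOpen_mem_and_subset (U := (⊤ : J.subscheme.Opens)) (x := x) trivial
    haveI : IsNoetherianRing Γ(J.subscheme, U) := IsLocallyNoetherian.component_noetherian ⟨U, hU⟩
    exact ⟨⟨U, hU⟩, hxU, IsNoetherian.noetherian _⟩
  obtain ⟨hZint, hbgen, hbbij⟩ := S2348.result I hI b hb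
  haveI := hZint
  letI : Z.Over sk := ⟨b ≫ (J.subscheme ↘ sk)⟩
  haveI : IsProper (Z ↘ sk) := inferInstanceAs (IsProper (b ≫ (J.subscheme ↘ sk)))
  haveI := H28Int.isNoetherian k (X := Z)
  obtain ⟨W, hW, ρ, A, hρ, hA, hρgen, hρdeg, hWd⟩ := H22Alg.IntPullback.exists_birational_ample k (𝟙 Z)
  haveI := hW
  haveI := hρ
  have hZd : topologicalKrullDim Z = ((2 : ℕ) : WithBot ℕ∞) := by
    rw [← H22Alg.VarDim.cdim_genericPoint Z, cdim_eq_of_residue (J.subscheme ↘ sk) (Z ↘ sk) b rfl _ hbbij, hbgen,
      H22Alg.VarDim.cdim_genericPoint J.subscheme, hJd]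
  letI : W.Over sk := ⟨ρ ≫ (Z ↘ sk)⟩
  haveI : IsProper (W ↘ sk) := inferInstanceAs (IsProper (ρ ≫ (Z ↘ sk)))
  haveI := H28Int.isNoetherian k (X := W)
  let q := ρ ≫ b
  let f := q ≫ i
  have hfk : f ≫ (X ↘ sk) = W ↘ sk := by
    show ((ρ ≫ b) ≫ i) ≫ (X ↘ sk) = ρ ≫ b ≫ i ≫ (X ↘ sk)
    simp only [Category.assoc]
  have hWdim : topologicalKrullDim W = 2 := by rw [hWd, hZd]; rfl
  have hqgen : q (genericPoint W) = genericPoint J.subscheme := by
    rw [Scheme.Hom.comp_apply, hρgen]; exact hbgen
  have hbdeg : b.residueDegree (genericPoint Z) = 1 := by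
    letI := (b.residueFieldMap (genericPoint Z)).hom.toAlgebra
    exact ((AlgEquiv.ofBijective (Algebra.ofId (J.subscheme.residueField (b (genericPoint Z)))
      (Z.residueField (genericPoint Z))) hbbij).toLinearEquiv.finrank_eq.symm.trans (Module.finrank_self _))
  have hfdeg : f.residueDegree (genericPoint W) = 1 := by
    rw [H22Alg.CycBasic.residueDegree_comp, H22Alg.CycBasic.residueDegree_comp, hρgen, hbdeg, hρdeg,
      H22Alg.IntPullback.residueDegree_of_surjective i _ (i.stalkMap_surjective _)]
  have hfgen : f (genericPoint W) = η := by rw [Scheme.Hom.comp_apply, hqgen, hJgen]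
  let pb := Scheme.Modules.pullback f
  have hD : ∀ B C : X.Modules, PicF.IsInvertible B → PicF.IsInvertible C →
      pr k (pb.obj B) (pb.obj C) = H28Int.D k [B, C] (H25K.redMod (DevLength.cl η)) := fun B C hB hC => by
    have h := H22Alg.IntPush.D_pullback k f hfk hA [B, C] (by simp [hB, hC]) (by rw [hWdim]; rfl)
    rw [hfdeg, Nat.cast_one, one_mul, hfgen] at h
    exact h
  -- the classes on the modification
  set m := (DevLength.len (Coh.structureModule X) η).toNat
  have hm : 0 < (m : ℤ) := by
    rcases Nat.eq_zero_or_pos m with h | h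
    · rw [pr_eq_mul_red k hdim hP hP] at hpos
      change 0 < (m : ℤ) * _ at hpos
      rw [h, Nat.cast_zero, zero_mul] at hpos
      exact absurd hpos (lt_irrefl _)
    · exact_mod_cast h
  rw [pr_eq_mul_red k hdim hP hP] at hpos
  rw [pr_eq_mul_red k hdim hL hP] at horth
  rw [pr_eq_mul_red k hdim hL hL] at hnn
  have hPP : 0 < pr k (pb.obj P) (pb.obj P) := by rw [hD P P hP hP]; exact pos_of_mul_pos_right hpos hm.le
  have hPL : pr k (pb.obj P) (pb.obj L) = 0 := by
    rw [pr_symm k, hD L P hL hP]
    exact (mul_eq_zero.1 horth).resolve_left hm.ne'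
  have hLL : 0 ≤ pr k (pb.obj L) (pb.obj L) := by rw [hD L L hL hL]; exact nonneg_of_mul_nonneg_right hnn hm
  have hPi := H11Ample.isInvertible_pullback f hP
  have hLi := H11Ample.isInvertible_pullback f hL
  have hL0 : pr k (pb.obj L) (pb.obj L) = 0 :=
    le_antisymm (HodgeIndex.pr_self_nonpos_of_orth k hWdim hA hPi hLi hPP hPL) hLL
  -- the exceptional divisor
  let F := I.comap q
  have hF : BlowUp.IsEffCartierIdeal F := by
    show BlowUp.IsEffCartierIdeal (I.comap (ρ ≫ b))
    rw [Scheme.IdealSheafData.comap_comp]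
    refine S8862.result ρ (I.comap b) hb.1 fun ξ hξ => ?_
    rw [← hξ _ (genericPoint_specializes ξ), hρgen]
    intro h
    rw [Scheme.IdealSheafData.support_comap] at h
    exact hgenI (hbgen ▸ h)
  have hFi := H29Blow.isInvertible_of_isEffCartierIdeal F hF
  have hFsupp : (F.support : Set W) = q ⁻¹' closure {y'} := by
    rw [Scheme.IdealSheafData.support_comap]
    show q ⁻¹' (I.support : Set J.subscheme) = _
    rw [hIsupp]
  have h0 : H28Int.D k [pb.obj L] (ClSub.quotMod F) = 0 := by
    rw [← intNum_idealMod k hWdim.le F hFi hLi, intNum_eq_pr k hWdim hFi hLi, pr_symm k]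
    exact HodgeIndex.pr_eq_zero_of_orth k hWdim hA hPi hLi hPP hPL hL0 hFi
  -- its components
  have hQ : Coh.IsCoh (ClSub.quotMod F) := LeadDev.isCoh_push_structure F.subschemeι
  have hQs : CohB1.support (ClSub.quotMod F) ⊆ (F.support : Set W) := fun x hx => by
    by_contra h
    exact LeadDev.notMem_support_push F.subschemeι _ (by rwa [F.range_subschemeι]) hx
  have hQd : topologicalKrullDim (CohB1.support (ClSub.quotMod F)) ≤ ((1 : ℕ) : WithBot ℕ∞) := by
    have hlt := H28Int.dim_lt_of_notMem (C := Set.univ) (genericPoint_spec W) (n := 2)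
      (Topology.IsInducing.subtypeVal.topologicalKrullDim_le.trans hWdim.le) F.support.2 (fun _ _ => trivial)
      (by
        show genericPoint W ∉ (F.support : Set W)
        rw [hFsupp, Set.mem_preimage, hqgen, ← hIsupp]
        exact hgenI)
    refine (H28Int.dim_le_of_subset hQs).trans ?_
    rcases hd : topologicalKrullDim (F.support : Set W) with _ | n
    · exact bot_le
    · exact WithBot.coe_le_coe.2
        ((ENat.lt_natCast_add_one_iff (n := 1)).1 (WithBot.coe_lt_coe.1 (lt_of_eq_of_lt hd.symm hlt)))
  have hyS : ∀ z : W, q z ∈ closure ({y'} : Set J.subscheme) → f z ∈ closure ({y} : Set X) := fun z hz => by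
    rw [← hy', Scheme.Hom.comp_apply]
    exact specializes_iff_mem_closure.1 ((specializes_iff_mem_closure.2 hz).map i.continuous)
  let T := (H22Alg.DevLength.finite_points hQ hQd).toFinset
  have hT : ∀ z, z ∈ T ↔ z ∈ CohB1.support (ClSub.quotMod F) ∧
      topologicalKrullDim (closure ({z} : Set W)) = ((1 : ℕ) : WithBot ℕ∞) := fun z => Set.Finite.mem_toFinset _
  let c : W → ℤ := fun z =>
    if f z = y then ((DevLength.len (ClSub.quotMod F) z).toNat : ℤ) * (f.residueDegree z : ℤ) else 0
  have hLl : ∀ M ∈ [L], PicF.IsInvertible M := List.forall_mem_singleton.2 hL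
  have hquot : H25K.redMod (DevLength.cl y) = ClSub.quotMod ι.ker := (H22Alg.IntPullback.quotMod_ker ι).symm
  have hterm : ∀ z ∈ T, ((DevLength.len (ClSub.quotMod F) z).toNat : ℤ) *
      H28Int.D k [pb.obj L] (H25K.redMod (DevLength.cl z)) = c z * H28Int.D k [L] (ClSub.quotMod ι.ker) := by
    intro z hz
    obtain ⟨hzs, hzd⟩ := (hT z).1 hz
    let V := Scheme.IdealSheafData.vanishingIdeal (DevLength.cl z)
    haveI : IsIntegral V.subscheme := H22Alg.isIntegral_vanishingIdeal_closure z
    have hVd : topologicalKrullDim V.subscheme = ((1 : ℕ) : WithBot ℕ∞) := by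
      rw [H22Alg.NakaiPos.dim_subscheme, Scheme.IdealSheafData.coe_support_vanishingIdeal]; exact hzd
    have hVg : V.subschemeι (genericPoint V.subscheme) = z := subschemeι_genericPoint z
    have e := H22Alg.IntPullback.D_pullback_subscheme k V.subschemeι f hfk [L] hLl hVd
    rw [H22Alg.IntPullback.quotMod_ker V.subschemeι, H22Alg.CycBasic.residueDegree_comp,
      H22Alg.IntPullback.residueDegree_of_surjective V.subschemeι _ (V.subschemeι.stalkMap_surjective _), mul_one,
      H22Alg.IntPullback.quotMod_ker (V.subschemeι ≫ f), Scheme.Hom.comp_apply, hVg] at e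
    change H28Int.D k [pb.obj L] _ = _ at e
    rw [e]
    by_cases hzy : f z = y
    · simp only [c, if_pos hzy, hzy, hquot]
      ring
    · have hmem : f z ∈ closure ({y} : Set X) := hyS z (hFsupp.le (hQs hzs))
      have hlt := H22Alg.DevLength.dim_closure_lt (specializes_iff_mem_closure.2 hmem) hzy (d := 1) hyd.le
      have hz0 : H28Int.D k [L] (H25K.redMod (DevLength.cl (f z))) = 0 :=
        H28Int.D_eq_zero k [L] hLl _ (H25K.isCoh_redMod _)
          ((H28Int.dim_le_of_subset (H25K.support_redMod_subset _)).trans_lt hlt)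
      simp only [c, if_neg hzy, hz0]
      ring
  have hsum : H28Int.D k [pb.obj L] (ClSub.quotMod F) = (∑ z ∈ T, c z) * H28Int.D k [L] (ClSub.quotMod ι.ker) := by
    have hlW : ∀ M ∈ [pb.obj L], PicF.IsInvertible M := List.forall_mem_singleton.2 hLi
    rw [H22Alg.DevLength.eq_finsum (H28Int.isAddFn_D k _ hlW) (d := 1)
      (fun G hG h => H28Int.D_eq_zero k _ hlW G hG h) hQ hQd, Finset.sum_mul,
      finsum_eq_sum_of_support_subset _ (s := T) fun z hz => ?_]
    · exact Finset.sum_congr rfl fun z hz => by rw [if_pos ((hT z).1 hz).2]; exact hterm z hz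
    · rw [Function.mem_support] at hz
      by_cases hd : topologicalKrullDim (closure ({z} : Set W)) = ((1 : ℕ) : WithBot ℕ∞)
      · rw [if_pos hd] at hz
        refine (hT z).2 ⟨?_, hd⟩
        by_contra hn
        rw [H22Alg.DevLength.len_eq_zero hn] at hz
        simp at hz
      · rw [if_neg hd] at hz
        exact absurd rfl hz
  -- some component dominates the curve
  haveI : LocallyOfFiniteType f := by
    haveI : LocallyOfFiniteType (f ≫ (X ↘ sk)) := by rw [hfk]; infer_instance
    exact locallyOfFiniteType_of_comp f (X ↘ sk)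
  have hne : Nonempty (f.fiber y) := by
    haveI : IsProper q := inferInstanceAs (IsProper (ρ ≫ b))
    obtain ⟨w, hw⟩ : y' ∈ Set.range q :=
      q.isClosedMap.isClosed_range.closure_subset_iff.2 (Set.singleton_subset_iff.2 ⟨_, hqgen⟩)
        (genericPoint_specializes y').mem_closure
    obtain ⟨v, -⟩ : w ∈ Set.range (f.fiberι y) := by
      rw [f.range_fiberι y, Set.mem_preimage, Scheme.Hom.comp_apply, hw, hy']; rfl
    exact ⟨v⟩
  haveI := hne
  haveI : LocallyOfFiniteType (f.fiberToSpecResidueField y) := H8Props.FieldDim.locallyOfFiniteType_fiberToSpec f y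
  haveI : JacobsonSpace ↥(f.fiber y) := LocallyOfFiniteType.jacobsonSpace (f.fiberToSpecResidueField y)
  obtain ⟨v, -, hv⟩ := nonempty_inter_closedPoints (X := ↥(f.fiber y)) (Z := Set.univ) Set.univ_nonempty
    isClosed_univ.isLocallyClosed
  let w := f.fiberι y v
  have hw : f w = y := (f.range_fiberι y).subset (Set.mem_range_self v)
  have hcl : IsClosed ({f.asFiber w} : Set ↥(f.fiber (f w))) := by
    have : ∀ (y₀ : X) (h₀ : f w = y₀) (v' : ↥(f.fiber y₀)), IsClosed ({v'} : Set ↥(f.fiber y₀)) →
        f.fiberι y₀ v' = w → IsClosed ({f.asFiber w} : Set ↥(f.fiber (f w))) := by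
      rintro y₀ rfl v' hv' hvw
      rwa [show f.asFiber w = v' from (f.fiberι _).isEmbedding.injective ((f.fiberι_asFiber w).trans hvw.symm)]
    exact this y hw v hv rfl
  have hwdeg : 0 < f.residueDegree w := by
    letI : Algebra (X.residueField (f w)) (W.residueField w) := (f.residueFieldMap w).hom.toAlgebra
    haveI : Module.Finite (X.residueField (f w)) (W.residueField w) := H17.finite_residueFieldMap f w hcl
    exact Module.finrank_pos
  have hwd : cdim w = ((1 : ℕ) : WithBot ℕ∞) := by
    rw [H8Props.FieldDim.cdim_eq_add (W ↘ sk) (X ↘ sk) f hfk w, H28Int.Curves.cdim_closed hcl, hw, hyd,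
      Nat.cast_zero, zero_add]
  have hwF : w ∈ (F.support : Set W) := by
    rw [hFsupp, Set.mem_preimage]
    have h : i (q w) = i y' := by rw [hy', ← Scheme.Hom.comp_apply]; exact hw
    rw [i.isClosedEmbedding.injective h]
    exact subset_closure rfl
  have hws : w ∈ CohB1.support (ClSub.quotMod F) := by
    obtain ⟨u, hu⟩ : w ∈ Set.range F.subschemeι := by rw [F.range_subschemeι]; exact hwF
    exact hu ▸ H28Int.Curves.mem_support_push_structure F.subschemeι u
  have hwlen : 0 < (DevLength.len (ClSub.quotMod F) w).toNat := by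
    have h1 := H22Alg.DevLength.len_ne_top hQ hQ subset_rfl hQd (ξ := w) hwd
    have h2 : DevLength.len (ClSub.quotMod F) w ≠ 0 := fun h => hws (Module.length_eq_zero_iff.1 h)
    exact Nat.pos_of_ne_zero fun h => (ENat.toNat_eq_zero.1 h).elim h2 h1
  have hcpos : 0 < ∑ z ∈ T, c z := by
    refine Finset.sum_pos' (fun z _ => ?_) ⟨w, (hT w).2 ⟨hws, hwd⟩, ?_⟩
    · simp only [c]; split_ifs <;> positivity
    · simp only [c, if_pos hw]; positivity
  exact (mul_eq_zero.1 (hsum.symm.trans h0)).resolve_left hcpos.ne'

end Groth.Agent.H28RR.HodgeProper
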