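import Groth.Agent.H28RR.Clopen
import Groth.Agent.H28Int.FieldExt
import Groth.Agent.H18Et.FEtNormal
import Groth.Agent.H8Props.FieldDimSmooth
import Groth.Agent.S11777

/-!
# Riemann–Roch and duality for smooth proper surfaces over any field
-/

set_option autoImplicit false
set_option linter.style.haveILetI false
set_option linter.unusedSectionVars false
set_option backward.isDefEq.respectTransparency.types false

universe u

open CategoryTheory CategoryTheory.Limits AlgebraicGeometry TopologicalSpace Opposite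
open Groth.Agent.H28Surf

namespace Groth.Agent.H28RR.AnyField

/-- An epimorphism between finite locally free modules of the same rank is an isomorphism. -/
theorem isIso_of_epi_rank {X : Scheme.{u}} [IsLocallyNoetherian X] {r : ℕ} {L M : X.Modules}
    (hL : FlatMod.IsFinLocFreeOfRank r L) (hM : FlatMod.IsFinLocFreeOfRank r M) (s : L ⟶ M) [Epi s] : IsIso s := by
  refine H16Derived.KFlat.Stalk.isIso_of_stalk _ fun x => ?_
  let T := DerSch.stalkFunctor X x
  rw [ConcreteCategory.isIso_iff_bijective]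
  obtain ⟨hf, hfin, hr⟩ := H25Par.finrank_stalk hL x
  obtain ⟨hf', hfin', hr'⟩ := H25Par.finrank_stalk hM x
  haveI := hf
  haveI := hf'
  haveI := hfin
  haveI := hfin'
  let φ : M.presheaf.stalk x ≃ₗ[X.presheaf.stalk x] L.presheaf.stalk x :=
    (Module.finBasisOfFinrankEq (X.presheaf.stalk x) (M.presheaf.stalk x) hr').equiv
      (Module.finBasisOfFinrankEq (X.presheaf.stalk x) (L.presheaf.stalk x) hr) (Equiv.refl _)
  have hs : Function.Surjective (Algz.stalkMapₗ s x) := (ModuleCat.epi_iff_surjective (T.map s)).1 inferInstance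
  exact (Function.Bijective.of_comp_iff' φ.bijective _).1
    (OrzechProperty.bijective_of_surjective_endomorphism (φ.toLinearMap.comp (Algz.stalkMapₗ s x))
      (φ.surjective.comp hs))

variable (k : Type u) [Field k] {X : Scheme.{u}} [X.Over (Spec (CommRingCat.of k))]
  [IsProper (X ↘ Spec (CommRingCat.of k))] [Smooth (X ↘ Spec (CommRingCat.of k))]

include k

/-- A smooth proper scheme is a finite disjoint union of integral ones. -/
theorem exists_components' :
    ∃ (n : ℕ) (U : Fin n → X.Opens), (∀ i, IsClosed (U i : Set X)) ∧ (∀ x : X, ∃ i, x ∈ U i) ∧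
      (∀ i j, i ≠ j → Disjoint (U i : Set X) (U j : Set X)) ∧
      (∀ i, IsIntegral (U i).toScheme) ∧ (∀ i, (U i : Set X) ∈ irreducibleComponents (X : Type u)) ∧
      (∀ Z ∈ irreducibleComponents (X : Type u), ∃ i, (U i : Set X) = Z) := by
  haveI := H28Int.isNoetherian k (X := X)
  let f := X ↘ Spec (CommRingCat.of k)
  have hdom : ∀ x : X, IsDomain (X.presheaf.stalk x) := fun x => by
    haveI := H19Grp.isRegularLocalRing_stalk_of_smooth f x
    exact H4Depth.isDomain_of_isRegularLocalRing _
  haveI : ∀ x : X, _root_.IsReduced (X.presheaf.stalk x) := fun x => by have := hdom x; infer_instance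
  haveI : AlgebraicGeometry.IsReduced X := isReduced_of_isReduced_stalk X
  let S := irreducibleComponents (X : Type u)
  have hfin : S.Finite := NoetherianSpace.finite_irreducibleComponents
  have huniq : ∀ Z ∈ S, ∀ Z' ∈ S, ∀ x ∈ Z, x ∈ Z' → Z = Z' := by
    intro Z hZ Z' hZ' x hx hx'
    haveI := hdom x
    obtain ⟨w, hw, hwmax⟩ := H18Et.FEtNormal.exists_maximal_generalization x
    have key : ∀ W ∈ S, x ∈ W → W = closure {w} := by
      intro W hW hxW
      have hWc := isClosed_of_mem_irreducibleComponents W hW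
      obtain ⟨η, hη⟩ := QuasiSober.sober hW.1 hWc
      have h1 : w ⤳ η := hwmax η (hη.specializes hxW)
      have h2 : W ⊆ closure {w} := by
        rw [← hη.def]
        exact closure_minimal (Set.singleton_subset_iff.2 h1.mem_closure) isClosed_closure
      exact Set.Subset.antisymm h2 (hW.2 isIrreducible_singleton.closure h2)
    rw [key Z hZ hx, key Z' hZ' hx']
  haveI := hfin.fintype
  let e := (Fintype.equivFin S).symm
  have hcl : ∀ Z ∈ S, IsClosed Z := fun Z hZ => isClosed_of_mem_irreducibleComponents Z hZ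
  have hop : ∀ Z ∈ S, IsOpen Z := fun Z hZ => by
    rw [← isClosed_compl_iff, show Zᶜ = ⋃ W ∈ S \ {Z}, W from ?_]
    · exact (hfin.sdiff).isClosed_biUnion fun W hW => hcl W hW.1
    ext x
    simp only [Set.mem_compl_iff, Set.mem_iUnion, exists_prop]
    constructor
    · intro hx
      have h : irreducibleComponent x ∈ S := irreducibleComponent_mem_irreducibleComponents x
      exact ⟨_, ⟨h, fun hW => hx (Set.mem_singleton_iff.1 hW ▸ mem_irreducibleComponent)⟩, mem_irreducibleComponent⟩
    · rintro ⟨W, ⟨hW, hne⟩, hxW⟩ hxZ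
      exact hne (huniq W hW Z hZ x hxW hxZ)
  refine ⟨Fintype.card S, fun i => ⟨(e i).1, hop _ (e i).2⟩, fun i => hcl _ (e i).2, fun x => ?_, fun i j hij => ?_,
    fun i => ?_, fun i => (e i).2, fun Z hZ => ⟨e.symm ⟨Z, hZ⟩, show (e (e.symm _)).1 = Z by rw [e.apply_symm_apply]⟩⟩
  · exact ⟨e.symm ⟨irreducibleComponent x, irreducibleComponent_mem_irreducibleComponents x⟩,
      show x ∈ (e (e.symm _)).1 by rw [e.apply_symm_apply]; exact mem_irreducibleComponent⟩
  · exact Set.disjoint_left.2 fun x hi hj => hij (e.injective (Subtype.ext (huniq _ (e i).2 _ (e j).2 x hi hj)))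
  · let U : X.Opens := ⟨(e i).1, hop _ (e i).2⟩
    haveI : IrreducibleSpace U.toScheme := by
      haveI : Nonempty U.toScheme := by
        obtain ⟨x, hx⟩ := (e i).2.1.nonempty
        exact ⟨⟨x, hx⟩⟩
      haveI : PreirreducibleSpace U.toScheme := Subtype.preirreducibleSpace (e i).2.1.isPreirreducible
      exact ⟨inferInstance⟩
    exact isIntegral_of_irreducibleSpace_of_isReduced U.toScheme

theorem exists_components (hdim : ∀ Z ∈ irreducibleComponents (X : Type u), topologicalKrullDim Z = 2) :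
    ∃ (n : ℕ) (U : Fin n → X.Opens), (∀ i, IsClosed (U i : Set X)) ∧ (∀ x : X, ∃ i, x ∈ U i) ∧
      (∀ i j, i ≠ j → Disjoint (U i : Set X) (U j : Set X)) ∧
      (∀ i, IsIntegral (U i).toScheme) ∧ (∀ i, topologicalKrullDim (U i).toScheme = 2) := by
  obtain ⟨n, U, h1, h2, h3, h4, h5, -⟩ := exists_components' k (X := X)
  exact ⟨n, U, h1, h2, h3, h4, fun i => hdim _ (h5 i)⟩

omit [IsProper (X ↘ Spec (CommRingCat.of k))] in
/-- An integral open piece of a scheme smooth of relative dimension `n` has dimension `n`. -/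
theorem dim_piece (d : ℕ) [hsd : SmoothOfRelativeDimension d (X ↘ Spec (CommRingCat.of k))] (U : X.Opens)
    [IsIntegral U.toScheme] : topologicalKrullDim U.toScheme = d := by
  haveI : SmoothOfRelativeDimension d (U.ι ≫ (X ↘ Spec (CommRingCat.of k))) := IsZariskiLocalAtSource.comp (P := @SmoothOfRelativeDimension d) hsd U.ι
  haveI := SmoothOfRelativeDimension.smooth d (U.ι ≫ (X ↘ Spec (CommRingCat.of k)))
  obtain ⟨u⟩ := (inferInstance : Nonempty U.toScheme)
  rw [← H8Props.FieldDim.localDim_eq_dim_of_irreducible (U.ι ≫ (X ↘ Spec (CommRingCat.of k))) u]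
  exact H8Props.FieldDim.localDim_eq_of_smooth (U.ι ≫ (X ↘ Spec (CommRingCat.of k))) d u

/-- A pure surface is smooth of relative dimension two. -/
theorem smoothOfRelativeDimension (hdim : ∀ Z ∈ irreducibleComponents (X : Type u), topologicalKrullDim Z = 2) :
    SmoothOfRelativeDimension 2 (X ↘ Spec (CommRingCat.of k)) := by
  obtain ⟨n, U, hcl, hcov, -, hint, hd⟩ := exists_components k hdim
  have hU : iSup U = ⊤ := eq_top_iff.2 fun x _ => by
    obtain ⟨i, hi⟩ := hcov x
    exact Opens.mem_iSup.2 ⟨i, hi⟩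
  refine IsZariskiLocalAtSource.of_openCover (X.openCoverOfIsOpenCover U hU) fun i => ?_
  haveI : IsIntegral (U i).toScheme := hint i
  exact H27CurveDiv.smoothOfRelativeDimension_of_dim ((U i).ι ≫ (X ↘ Spec (CommRingCat.of k))) 2 (hd i)

/-- The canonical module restricts to open and closed pieces. -/
theorem isExtPow_restrict (hdim : ∀ Z ∈ irreducibleComponents (X : Type u), topologicalKrullDim Z = 2)
    {W : X.Modules} (hW : ExtPow.IsExtPow 2 (Omega.sheaf (X ↘ Spec (CommRingCat.of k))) W)
    (U : X.Opens) [IsClosedImmersion U.ι] :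
    ExtPow.IsExtPow 2 (Omega.sheaf (U.ι ≫ (X ↘ Spec (CommRingCat.of k)))) ((Scheme.Modules.pullback U.ι).obj W) := by
  haveI := H28Int.isNoetherian k (X := X)
  haveI := smoothOfRelativeDimension k hdim
  let f := X ↘ Spec (CommRingCat.of k)
  let i := U.ι
  haveI : IsLocallyNoetherian U.toScheme := inferInstance
  haveI : SmoothOfRelativeDimension 2 (i ≫ f) := IsZariskiLocalAtSource.comp ‹_› i
  have hΩX := isFinLocFreeOfRank_omega f 2
  have hΩU := isFinLocFreeOfRank_omega (i ≫ f) 2
  obtain ⟨φ, hφ⟩ := H26Def.exists_isConormalDiff i (OmegaSh.dOmega f)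
  obtain ⟨c, hc, -⟩ := S9370.result f (i ≫ f) i (𝟙 _) (Category.comp_id _) _ _ (H17.PrinOmega.isUniversal_dOmega f)
    _ _ (H17.PrinOmega.isUniversal_dOmega (i ≫ f))
  obtain ⟨w, -, hepi⟩ := H17.Conormal.exact_conormalDiffSeq f i (H17.PrinOmega.isUniversal_dOmega f)
    (H17.PrinOmega.isUniversal_dOmega (i ≫ f)) hφ hc
  haveI := hepi
  haveI := isIso_of_epi_rank (H26Gr.isFinLocFreeOfRank_pullback i hΩX) hΩU c
  exact H22Alg.ExtPowSES.isExtPow_of_iso (asIso c) (H22Alg.ExtPowHom.isExtPow_pullback i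
    (H8Props.FinLocFree.isQCoh_of_isFinLocFree _ (H22Alg.KModel.finLocFree_of_rank hΩX)) hW)

theorem isInvertible_canonical (hdim : ∀ Z ∈ irreducibleComponents (X : Type u), topologicalKrullDim Z = 2)
    {W : X.Modules} (hW : ExtPow.IsExtPow 2 (Omega.sheaf (X ↘ Spec (CommRingCat.of k))) W) : PicF.IsInvertible W := by
  haveI := H28Int.isNoetherian k (X := X)
  haveI := smoothOfRelativeDimension k hdim
  have hΩ := isFinLocFreeOfRank_omega (X ↘ Spec (CommRingCat.of k)) 2
  have hf := H22Alg.KModel.finLocFree_of_rank hΩ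
  have hWf := H22Alg.ExtPowHom.finLocFree_of_isExtPow hf hW
  refine H22Alg.PB.isInvertible_of_rank_one fun x => ?_
  have h1 : H22Alg.KExists.rk x W = 1 := by
    rw [H22Alg.KExists.rk_extPow hf hW x, H22Alg.KExists.rk_of_rank hΩ x]; rfl
  obtain ⟨U, n, hx, ⟨e⟩⟩ := hWf x
  obtain ⟨V, hV, hxV, hle⟩ := exists_isAffineOpen_mem_and_subset (x := x) (U := U) hx
  obtain ⟨b⟩ := H8Props.FinLocFree.exists_basis_of_chart W e hle
  obtain ⟨b'⟩ := H22Alg.ExtPowSum.exists_stalkBasis (H8Props.FinLocFree.isQCoh_of_isFinLocFree _ hWf) hV b hxV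
  have hn : n = 1 := by
    rw [← h1, H22Alg.KExists.rk, Module.finrank_eq_card_basis b', Fintype.card_fin]
  subst hn
  exact ⟨U, hx, ⟨e⟩⟩

theorem pr_eq_euler (A B : X.Modules) : pr k A B = Curv2.euler k X (CohB1.tensorMod A B) - Curv2.euler k X A -
    Curv2.euler k X B + Curv2.euler k X (Coh.structureModule X) := by
  have := H28RR.euler_tensor k A B
  omega

section closed

variable [IsAlgClosed k]

theorem riemann_roch_closed (hdim : ∀ Z ∈ irreducibleComponents (X : Type u), topologicalKrullDim Z = 2)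
    {W : X.Modules} (hW : ExtPow.IsExtPow 2 (Omega.sheaf (X ↘ Spec (CommRingCat.of k))) W)
    {L : X.Modules} (hL : PicF.IsInvertible L) :
    2 * Curv2.euler k X L = pr k L L - pr k L W + 2 * Curv2.euler k X (Coh.structureModule X) := by
  haveI := H28Int.isNoetherian k (X := X)
  obtain ⟨n, U, hcl, hcov, hdisj, hint, hd⟩ := exists_components k hdim
  haveI := fun i => Clopen.isClosedImmersion_ι (U i) (hcl i)
  letI : ∀ i, (U i).toScheme.Over (Spec (CommRingCat.of k)) := fun i => ⟨(U i).ι ≫ (X ↘ Spec (CommRingCat.of k))⟩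
  have hWi := isInvertible_canonical k hdim hW
  have hco : ∀ {M : X.Modules}, PicF.IsInvertible M → Coh.IsCoh M := fun h => H11Ample.isCoh_of_isInvertible h
  rw [pr_eq_euler, pr_eq_euler, Clopen.euler_pieces U k hcov hdisj (hco hL),
    Clopen.euler_pieces U k hcov hdisj (hco (H11Ample.isInvertible_tensor hL hL)),
    Clopen.euler_pieces U k hcov hdisj (hco (H11Ample.isInvertible_tensor hL hWi)),
    Clopen.euler_pieces U k hcov hdisj (hco hWi),
    Clopen.euler_pieces U k hcov hdisj (hco H11Ample.isInvertible_structureModule)]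
  simp only [Finset.mul_sum, ← Finset.sum_sub_distrib, ← Finset.sum_add_distrib]
  refine Finset.sum_congr rfl fun i _ => ?_
  haveI := hint i
  haveI : IsProper ((U i).toScheme ↘ Spec (CommRingCat.of k)) := show IsProper ((U i).ι ≫ _) from inferInstance
  haveI : Smooth ((U i).toScheme ↘ Spec (CommRingCat.of k)) := show Smooth ((U i).ι ≫ _) from inferInstance
  let pb := Scheme.Modules.pullback (U i).ι
  have pT : ∀ P Q : X.Modules, pb.obj (CohB1.tensorMod P Q) ≅ CohB1.tensorMod (pb.obj P) (pb.obj Q) :=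
    fun P Q => (H16Derived.KFlat.Stalk.pullTensorLIso (U i).ι Q).app P
  show 2 * Curv2.euler k (U i).toScheme (pb.obj L) = _
  rw [H25Euler.euler_congr (pT L L), H25Euler.euler_congr (pT L W),
    H25Euler.euler_congr (H16Derived.KFlat.Stalk.structurePullbackIso (U i).ι)]
  have hWc : ExtPow.IsExtPow 2 (Omega.sheaf ((U i).toScheme ↘ Spec (CommRingCat.of k))) (pb.obj W) :=
    isExtPow_restrict k hdim hW (U i)
  have h := H28RR.riemann_roch' k (hd i) hWc (H11Ample.isInvertible_pullback (U i).ι hL)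
  rw [pr_eq_euler, pr_eq_euler] at h
  linarith

theorem finrank_h2_closed (hdim : ∀ Z ∈ irreducibleComponents (X : Type u), topologicalKrullDim Z = 2)
    {W : X.Modules} (hW : ExtPow.IsExtPow 2 (Omega.sheaf (X ↘ Spec (CommRingCat.of k))) W)
    {L N : X.Modules} (hL : PicF.IsInvertible L) (hN : PicF.IsInvertible N)
    (eLN : CohB1.tensorMod L N ≅ Coh.structureModule X) :
    Module.finrank k (Coh.HH X L 2) = Module.finrank k (Coh.HH X (CohB1.tensorMod W N) 0) := by
  haveI := H28Int.isNoetherian k (X := X)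
  obtain ⟨n, U, hcl, hcov, hdisj, hint, hd⟩ := exists_components k hdim
  haveI := fun i => Clopen.isClosedImmersion_ι (U i) (hcl i)
  letI : ∀ i, (U i).toScheme.Over (Spec (CommRingCat.of k)) := fun i => ⟨(U i).ι ≫ (X ↘ Spec (CommRingCat.of k))⟩
  have hWi := isInvertible_canonical k hdim hW
  rw [Clopen.finrank_hh_pieces U k hcov hdisj (H11Ample.isCoh_of_isInvertible hL),
    Clopen.finrank_hh_pieces U k hcov hdisj (H11Ample.isCoh_of_isInvertible (H11Ample.isInvertible_tensor hWi hN))]
  refine Finset.sum_congr rfl fun i _ => ?_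
  haveI := hint i
  haveI : IsProper ((U i).toScheme ↘ Spec (CommRingCat.of k)) := show IsProper ((U i).ι ≫ _) from inferInstance
  haveI : Smooth ((U i).toScheme ↘ Spec (CommRingCat.of k)) := show Smooth ((U i).ι ≫ _) from inferInstance
  let pb := Scheme.Modules.pullback (U i).ι
  have pT : ∀ P Q : X.Modules, pb.obj (CohB1.tensorMod P Q) ≅ CohB1.tensorMod (pb.obj P) (pb.obj Q) :=
    fun P Q => (H16Derived.KFlat.Stalk.pullTensorLIso (U i).ι Q).app P
  have hWc : ExtPow.IsExtPow 2 (Omega.sheaf ((U i).toScheme ↘ Spec (CommRingCat.of k))) (pb.obj W) :=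
    isExtPow_restrict k hdim hW (U i)
  rw [H22Alg.CurveAmple.finrank_HH_congr (k := k) (pT W N) 0]
  exact H28RR.finrank_h2 k (hd i) hWc (H11Ample.isInvertible_pullback (U i).ι hL)
    (H11Ample.isInvertible_pullback (U i).ι hN)
    ((pT L N).symm ≪≫ pb.mapIso eLN ≪≫ H16Derived.KFlat.Stalk.structurePullbackIso (U i).ι)

end closed

/-- The base change to an algebraic closure. -/
theorem baseChange_data (hdim : ∀ Z ∈ irreducibleComponents (X : Type u), topologicalKrullDim Z = 2)
    {W : X.Modules} (hW : ExtPow.IsExtPow 2 (Omega.sheaf (X ↘ Spec (CommRingCat.of k))) W)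
    {K : Type u} [Field K] [Algebra k K] {X' : Scheme.{u}} [X'.Over (Spec (CommRingCat.of K))] {q : X' ⟶ X}
    (hsq : IsPullback q (X' ↘ Spec (CommRingCat.of K)) (X ↘ Spec (CommRingCat.of k))
      (Spec.map (CommRingCat.ofHom (algebraMap k K)))) :
    IsProper (X' ↘ Spec (CommRingCat.of K)) ∧ Smooth (X' ↘ Spec (CommRingCat.of K)) ∧
      (∀ Z ∈ irreducibleComponents (X' : Type u), topologicalKrullDim Z = 2) ∧
      ExtPow.IsExtPow 2 (Omega.sheaf (X' ↘ Spec (CommRingCat.of K))) ((Scheme.Modules.pullback q).obj W) := by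
  haveI := smoothOfRelativeDimension k hdim
  haveI hp : IsProper (X' ↘ Spec (CommRingCat.of K)) := MorphismProperty.of_isPullback hsq ‹_›
  haveI hsd : SmoothOfRelativeDimension 2 (X' ↘ Spec (CommRingCat.of K)) := (smoothOfRelativeDimension_isStableUnderBaseChange (n := 2)).of_isPullback hsq ‹_›
  haveI := SmoothOfRelativeDimension.smooth 2 (X' ↘ Spec (CommRingCat.of K))
  haveI := H28Int.isNoetherian K (X := X')
  refine ⟨hp, inferInstance, fun Z hZ => ?_, ?_⟩
  · obtain ⟨n, U, -, -, -, hint, -, hall⟩ := exists_components' K (X := X')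
    obtain ⟨i, hi⟩ := hall Z hZ
    haveI := hint i
    rw [← hi]
    exact dim_piece K 2 (U i)
  · obtain ⟨e⟩ := S11777.nonempty_iso_omega_baseChange _ _ q _ hsq
    have hΩX := isFinLocFreeOfRank_omega (X ↘ Spec (CommRingCat.of k)) 2
    exact H22Alg.ExtPowSES.isExtPow_of_iso e (H22Alg.ExtPowHom.isExtPow_pullback q
      (H8Props.FinLocFree.isQCoh_of_isFinLocFree _ (H22Alg.KModel.finLocFree_of_rank hΩX)) hW)

/-- Riemann–Roch on a smooth proper surface over any field. -/
theorem riemann_roch (hdim : ∀ Z ∈ irreducibleComponents (X : Type u), topologicalKrullDim Z = 2)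
    {W : X.Modules} (hW : ExtPow.IsExtPow 2 (Omega.sheaf (X ↘ Spec (CommRingCat.of k))) W)
    {L : X.Modules} (hL : PicF.IsInvertible L) :
    2 * Curv2.euler k X L = pr k L L - pr k L W + 2 * Curv2.euler k X (Coh.structureModule X) := by
  haveI := H28Int.isNoetherian k (X := X)
  let K := AlgebraicClosure k
  let X' := pullback (X ↘ Spec (CommRingCat.of k)) (Spec.map (CommRingCat.ofHom (algebraMap k K)))
  letI : X'.Over (Spec (CommRingCat.of K)) := ⟨pullback.snd _ _⟩
  let q : X' ⟶ X := pullback.fst _ _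
  have hsq : IsPullback q (X' ↘ Spec (CommRingCat.of K)) (X ↘ Spec (CommRingCat.of k))
      (Spec.map (CommRingCat.ofHom (algebraMap k K))) := IsPullback.of_hasPullback _ _
  obtain ⟨hp, hs, hd, hW'⟩ := baseChange_data k hdim hW hsq
  haveI := hp
  haveI := hs
  have hWi := isInvertible_canonical k hdim hW
  have h := riemann_roch_closed K hd hW' (H11Ample.isInvertible_pullback q hL)
  let pb := Scheme.Modules.pullback q
  have pT : ∀ P Q : X.Modules, CohB1.tensorMod (pb.obj P) (pb.obj Q) ≅ pb.obj (CohB1.tensorMod P Q) :=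
    fun P Q => ((H16Derived.KFlat.Stalk.pullTensorLIso q Q).app P).symm
  have hbc : ∀ {M : X.Modules}, PicF.IsInvertible M → Curv2.euler K X' (pb.obj M) = Curv2.euler k X M :=
    fun hM => H28Int.FieldExt.euler_bc K hsq (H11Ample.isCoh_of_isInvertible hM)
  rw [pr_eq_euler, pr_eq_euler, H25Euler.euler_congr (pT L L), H25Euler.euler_congr (pT L W),
    H25Euler.euler_congr (H16Derived.KFlat.Stalk.structurePullbackIso q).symm, hbc hL, hbc hWi,
    hbc (H11Ample.isInvertible_tensor hL hL), hbc (H11Ample.isInvertible_tensor hL hWi),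
    hbc H11Ample.isInvertible_structureModule] at h
  rw [pr_eq_euler, pr_eq_euler]
  exact h

/-- `h²(L) = h⁰(W ⊗ L⁻¹)` over any field. -/
theorem finrank_h2 (hdim : ∀ Z ∈ irreducibleComponents (X : Type u), topologicalKrullDim Z = 2)
    {W : X.Modules} (hW : ExtPow.IsExtPow 2 (Omega.sheaf (X ↘ Spec (CommRingCat.of k))) W)
    {L N : X.Modules} (hL : PicF.IsInvertible L) (hN : PicF.IsInvertible N)
    (eLN : CohB1.tensorMod L N ≅ Coh.structureModule X) :
    Module.finrank k (Coh.HH X L 2) = Module.finrank k (Coh.HH X (CohB1.tensorMod W N) 0) := by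
  haveI := H28Int.isNoetherian k (X := X)
  let K := AlgebraicClosure k
  let X' := pullback (X ↘ Spec (CommRingCat.of k)) (Spec.map (CommRingCat.ofHom (algebraMap k K)))
  letI : X'.Over (Spec (CommRingCat.of K)) := ⟨pullback.snd _ _⟩
  let q : X' ⟶ X := pullback.fst _ _
  have hsq : IsPullback q (X' ↘ Spec (CommRingCat.of K)) (X ↘ Spec (CommRingCat.of k))
      (Spec.map (CommRingCat.ofHom (algebraMap k K))) := IsPullback.of_hasPullback _ _
  obtain ⟨hp, hs, hd, hW'⟩ := baseChange_data k hdim hW hsq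
  haveI := hp
  haveI := hs
  have hWi := isInvertible_canonical k hdim hW
  let pb := Scheme.Modules.pullback q
  have pT : ∀ P Q : X.Modules, pb.obj (CohB1.tensorMod P Q) ≅ CohB1.tensorMod (pb.obj P) (pb.obj Q) :=
    fun P Q => (H16Derived.KFlat.Stalk.pullTensorLIso q Q).app P
  rw [← H28Int.FieldExt.finrank_HH_bc K hsq (H11Ample.isCoh_of_isInvertible hL) 2,
    ← H28Int.FieldExt.finrank_HH_bc K hsq (H11Ample.isCoh_of_isInvertible (H11Ample.isInvertible_tensor hWi hN)) 0,
    H22Alg.CurveAmple.finrank_HH_congr (k := K) (pT W N) 0]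
  exact finrank_h2_closed K hd hW' (H11Ample.isInvertible_pullback q hL) (H11Ample.isInvertible_pullback q hN)
    ((pT L N).symm ≪≫ pb.mapIso eLN ≪≫ H16Derived.KFlat.Stalk.structurePullbackIso q)

end Groth.Agent.H28RR.AnyField
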