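import Groth.Agent.H28RR.ContractCurve
import Groth.Agent.H11Proj.ProperQProj
import Groth.Agent.H7Lim.NormalizationNormal
import Groth.Agent.H28Vert.Degree
import Groth.Agent.H29Curve.Morphism
import Groth.Agent.H17.Image
import Groth.Agent.H28Contr.RelMin
import Groth.Prelude.Def_Curv2
import Groth.Prelude.Def_ArSurf

/-! # Contractions of vertical curves by globally generated modules: generalities -/

set_option autoImplicit false
set_option linter.style.haveILetI false
set_option linter.unusedSectionVars false
set_option backward.isDefEq.respectTransparency.types false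

universe u

open CategoryTheory CategoryTheory.Limits AlgebraicGeometry TopologicalSpace

noncomputable section

namespace Groth.Agent.H28RR.ContractVert

/-- A Noetherian sober connected space without proper specializations is a point. -/
theorem subsingleton_of_no_specialization {T : Type*} [TopologicalSpace T] [NoetherianSpace T] [QuasiSober T]
    [PreconnectedSpace T] (h : ∀ a b : T, a ⤳ b → a = b) : Subsingleton T := by
  have hcl : ∀ a : T, closure ({a} : Set T) = {a} := fun a =>
    Set.eq_singleton_iff_unique_mem.2 ⟨subset_closure rfl, fun b hb =>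
      (h a b (specializes_iff_mem_closure.2 hb)).symm⟩
  haveI : T1Space T := ⟨fun a => hcl a ▸ isClosed_closure⟩
  haveI : Finite T := by
    rw [← Set.finite_univ_iff]
    refine ((NoetherianSpace.finite_irreducibleComponents (α := T)).biUnion (t := id) fun Z hZ => ?_).subset
      fun a _ => Set.mem_biUnion (irreducibleComponent_mem_irreducibleComponents a) mem_irreducibleComponent
    obtain ⟨g, hg⟩ := QuasiSober.sober hZ.1 (isClosed_of_mem_irreducibleComponents Z hZ)
    show Z.Finite
    rw [← hg.def, hcl]
    exact Set.finite_singleton g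
  exact PreconnectedSpace.trivial_of_discrete

/-- In a space of dimension at most two there are no chains of three proper specializations. -/
theorem not_chain_three {T : Type*} [TopologicalSpace T] [T0Space T] (hd : topologicalKrullDim T ≤ 2)
    {a b c d : T} (h1 : a ⤳ b) (n1 : a ≠ b) (h2 : b ⤳ c) (n2 : b ≠ c) (h3 : c ⤳ d) (n3 : c ≠ d) : False := by
  let C : T → IrreducibleCloseds T := fun x => ⟨closure {x}, isIrreducible_singleton.closure, isClosed_closure⟩
  have hlt : ∀ x y : T, x ⤳ y → x ≠ y → C y < C x := fun x y h n => by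
    refine lt_of_le_of_ne (fun z hz => closure_minimal (Set.singleton_subset_iff.2
      (specializes_iff_mem_closure.1 h)) isClosed_closure hz) fun e => n ?_
    have h' : x ∈ (C y : Set T) := e ▸ subset_closure rfl
    exact (h.antisymm (specializes_iff_mem_closure.2 h')).eq
  let p : LTSeries (IrreducibleCloseds T) :=
    ((RelSeries.singleton _ (C d)).snoc (C c) (hlt c d h3 n3)).snoc (C b)
      (by simpa using hlt b c h2 n2) |>.snoc (C a) (by simpa using hlt a b h1 n1)
  have hp := (Order.LTSeries.length_le_krullDim p).trans hd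
  have e : p.length = 3 := rfl
  rw [e] at hp
  exact absurd hp (by decide)

theorem two_le_dim {T : Type*} [TopologicalSpace T] [T0Space T]
    {a b c : T} (h1 : a ⤳ b) (n1 : a ≠ b) (h2 : b ⤳ c) (n2 : b ≠ c) : 2 ≤ topologicalKrullDim T := by
  let C : T → IrreducibleCloseds T := fun x => ⟨closure {x}, isIrreducible_singleton.closure, isClosed_closure⟩
  have hlt : ∀ x y : T, x ⤳ y → x ≠ y → C y < C x := fun x y h n => by
    refine lt_of_le_of_ne (fun z hz => closure_minimal (Set.singleton_subset_iff.2
      (specializes_iff_mem_closure.1 h)) isClosed_closure hz) fun e => n ?_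
    have h' : x ∈ (C y : Set T) := e ▸ subset_closure rfl
    exact (h.antisymm (specializes_iff_mem_closure.2 h')).eq
  let p : LTSeries (IrreducibleCloseds T) :=
    ((RelSeries.singleton _ (C c)).snoc (C b) (hlt b c h2 n2)).snoc (C a) (by simpa using hlt a b h1 n1)
  exact (le_of_eq (by simp [p])).trans (Order.LTSeries.length_le_krullDim p)

theorem one_le_dim_closure {T : Type*} [TopologicalSpace T] [T0Space T] {a b : T} (h : a ⤳ b) (n : a ≠ b) :
    1 ≤ topologicalKrullDim (closure ({a} : Set T)) := by
  let a' : closure ({a} : Set T) := ⟨a, subset_closure rfl⟩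
  let b' : closure ({a} : Set T) := ⟨b, specializes_iff_mem_closure.1 h⟩
  let C : closure ({a} : Set T) → IrreducibleCloseds (closure ({a} : Set T)) := fun x =>
    ⟨closure {x}, isIrreducible_singleton.closure, isClosed_closure⟩
  have hlt : C b' < C a' := by
    have hab : a' ⤳ b' := (subtype_specializes_iff a' b').2 h
    refine lt_of_le_of_ne (fun z hz => closure_minimal (Set.singleton_subset_iff.2
      (specializes_iff_mem_closure.1 hab)) isClosed_closure hz) fun e => n ?_
    have h' : a' ∈ (C b' : Set _) := e ▸ subset_closure rfl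
    exact congrArg Subtype.val (hab.antisymm (specializes_iff_mem_closure.2 h')).eq
  let p : LTSeries (IrreducibleCloseds (closure ({a} : Set T))) := (RelSeries.singleton _ (C b')).snoc (C a') hlt
  exact (le_of_eq (by simp [p])).trans (Order.LTSeries.length_le_krullDim p)

/-- An invertible module pulled back by a morphism with constant image is trivial. -/
theorem nonempty_trivial_of_const {X Y : Scheme.{u}} (h : X ⟶ Y) {A : Y.Modules} (hA : PicF.IsInvertible A)
    {q : Y} (hq : ∀ x, h x = q) : Nonempty ((Scheme.Modules.pullback h).obj A ≅ Coh.structureModule X) := by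
  obtain ⟨U, hxU, ⟨e⟩⟩ := hA q
  let j : X ⟶ U := IsOpenImmersion.lift U.ι h (by
    rintro _ ⟨y, rfl⟩
    rw [Scheme.Opens.range_ι]
    exact (hq y).symm ▸ hxU)
  have hj : j ≫ U.ι = h := IsOpenImmersion.lift_fac _ _ _
  exact ⟨eqToIso (by rw [hj]) ≪≫ ((Scheme.Modules.pullbackComp j U.ι).app A).symm ≪≫
    (Scheme.Modules.pullback j).mapIso ((Scheme.Modules.restrictFunctorIsoPullback U.ι).symm.app A ≪≫ e) ≪≫
    H16Derived.KFlat.Stalk.structurePullbackIso j⟩

theorem curveDeg_eq_zero (k : Type u) [Field k] (Y : Scheme.{u}) [Y.Over (Spec (CommRingCat.of k))]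
    {M : Y.Modules} (e : M ≅ Coh.structureModule Y) : ArSurf.curveDeg k Y M = 0 := by
  rw [ArSurf.curveDeg, FGA.eulerCharLE, FGA.eulerCharLE, sub_eq_zero]
  exact Finset.sum_congr rfl fun i _ => by rw [(H29RR.hhIso (k := k) e i).finrank_eq]

theorem isIso_restrict_of_le {X Y : Scheme.{u}} (g : X ⟶ Y) {U V : Y.Opens} (hle : U ≤ V) [IsIso (g ∣_ V)] :
    IsIso (g ∣_ U) := by
  have h1 : IsIso ((g ∣_ V) ∣_ (V.ι ⁻¹ᵁ U)) := inferInstance
  have h2 := morphismRestrictRestrict g V (V.ι ⁻¹ᵁ U)
  have h3 : V.ι ''ᵁ (V.ι ⁻¹ᵁ U) = U := by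
    rw [Scheme.Hom.image_preimage_eq_opensRange_inf, Scheme.Opens.opensRange_ι, inf_eq_right.2 hle]
  have h4 : IsIso (g ∣_ (V.ι ''ᵁ (V.ι ⁻¹ᵁ U))) := by
    rw [← MorphismProperty.isomorphisms.iff] at h1 ⊢
    exact ((MorphismProperty.isomorphisms Scheme).arrow_mk_iso_iff h2).1 h1
  rwa [h3] at h4

/-- Sections of a normal integral scheme over a nonempty open form an integrally closed domain. -/
theorem isIntegrallyClosed_sections {X : Scheme.{u}} [IsIntegral X]
    (hN : ∀ x : X, IsIntegrallyClosed (X.presheaf.stalk x)) {O : X.Opens} (hη : genericPoint X ∈ O) :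
    IsIntegrallyClosed Γ(X, O) := by
  haveI : Nonempty (O : Scheme.{u}) := ⟨⟨_, hη⟩⟩
  letI : Algebra Γ(X, O) X.functionField := (X.presheaf.germ O (genericPoint X) hη).hom.toAlgebra
  have hinj : Function.Injective (algebraMap Γ(X, O) X.functionField) :=
    germ_injective_of_isIntegral X (genericPoint X) hη
  refine (isIntegrallyClosed_iff (FractionRing Γ(X, O))).2 fun {x} hx => ?_
  let φ : FractionRing Γ(X, O) →ₐ[Γ(X, O)] X.functionField := IsFractionRing.liftAlgHom (g := Algebra.ofId _ _) hinj
  obtain ⟨w, hw⟩ := H7Lim.exists_germ_eq_of_isIntegralElem hN hη (z := φ x) (hx.map φ)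
  exact ⟨w, φ.toRingHom.injective ((φ.commutes w).trans hw)⟩

/-- The target of a morphism with `g_*O = O` from a normal integral scheme is normal. -/
theorem isIntegrallyClosed_stalk_of_app {X Y : Scheme.{u}} [IsIntegral X] [IsIntegral Y]
    (hN : ∀ x : X, IsIntegrallyClosed (X.presheaf.stalk x)) (g : X ⟶ Y)
    (hgen : g (genericPoint X) = genericPoint Y) (happ : ∀ U : Y.Opens, IsIso (g.app U)) (y : Y) :
    IsIntegrallyClosed (Y.presheaf.stalk y) := by
  obtain ⟨W, hW, hyW, -⟩ := exists_isAffineOpen_mem_and_subset (x := y) (U := (⊤ : Y.Opens)) trivial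
  haveI : Nonempty (W : Scheme.{u}) := ⟨⟨y, hyW⟩⟩
  have hη : genericPoint X ∈ g ⁻¹ᵁ W := by
    show g (genericPoint X) ∈ W
    rw [hgen]
    exact ((genericPoint_spec Y).specializes trivial).mem_open W.2 hyW
  haveI := isIntegrallyClosed_sections hN hη
  haveI := happ W
  haveI : IsIntegrallyClosed Γ(Y, W) :=
    IsIntegrallyClosed.of_equiv (asIso (g.app W)).commRingCatIsoToRingEquiv.symm
  letI := TopCat.Presheaf.algebra_section_stalk Y.presheaf ⟨y, hyW⟩
  haveI := hW.isLocalization_stalk ⟨y, hyW⟩
  exact isIntegrallyClosed_of_isLocalization (R := Γ(Y, W)) (Y.presheaf.stalk y)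
    (hW.primeIdealOf ⟨y, hyW⟩).asIdeal.primeCompl (Ideal.primeCompl_le_nonZeroDivisors _)

end Groth.Agent.H28RR.ContractVert
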