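import Groth.Agent.H28Vert.SmoothModel
import Groth.Agent.H28Vert.PicInter
import Groth.Agent.H05EGA4.DimFibre
import Groth.Agent.H28RR.ContractVert
import Groth.Agent.H29Ref.Hartogs
import Groth.Agent.H17.DualSh.Dim
import Groth.Agent.S7624

/-! # Regular proper models of curves are integral surfaces -/

set_option autoImplicit false
set_option linter.style.haveILetI false
set_option linter.unusedSectionVars false
set_option backward.isDefEq.respectTransparency.types false

universe u

open CategoryTheory CategoryTheory.Limits AlgebraicGeometry TopologicalSpace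

noncomputable section

namespace Groth.Agent.H28RR.ModelArith

variable {R : Type u} [CommRing R] [IsDomain R] [IsDiscreteValuationRing R] {C X : Scheme.{u}}
  {f : C ⟶ Spec (CommRingCat.of (FractionRing R))} {p : X ⟶ Spec (CommRingCat.of R)}

theorem isIntegral_model' (hC : IsProper f ∧ IsIntegral C ∧ topologicalKrullDim C = 1)
    (hX : Models.IsRegularProperModel R X p C f) : IsIntegral X := by
  obtain ⟨⟨hfl, hlft, -, g, hg⟩, hp, hreg⟩ := hX
  obtain ⟨-, hint, -⟩ := hC
  haveI := hint
  haveI := hfl
  haveI : ∀ x : X, IsDomain (X.presheaf.stalk x) := fun x => (H29Ref.isNormalScheme_of_regular hreg x).1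
  haveI : IsReduced X := isReduced_of_isReduced_stalk X
  haveI := H28Vert.irreducibleSpace_of_model g hg
  exact isIntegral_of_irreducibleSpace_of_isReduced _

/-- A regular proper model of a smooth curve is integral. -/
theorem isIntegral_model (hC : Curve.IsSmoothProperCurve (FractionRing R) C f)
    (hX : Models.IsRegularProperModel R X p C f) : IsIntegral X :=
  isIntegral_model' ⟨hC.1, hC.2.2.1, hC.2.2.2⟩ hX

theorem dim_model' (hC : IsProper f ∧ IsIntegral C ∧ topologicalKrullDim C = 1)
    (hX : Models.IsRegularProperModel R X p C f) : topologicalKrullDim X = 2 := by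
  classical
  haveI := isIntegral_model' hC hX
  obtain ⟨⟨hfl, hlft, -, g, hg⟩, hp, hreg⟩ := hX
  obtain ⟨-, hint, hdimC⟩ := hC
  haveI := hint
  haveI := hfl
  haveI := hlft
  haveI := hp
  haveI := H28Vert.isOpenImmersion_generic (R := R)
  haveI : IsOpenImmersion g := MorphismProperty.of_isPullback hg.flip inferInstance
  let η : Spec (CommRingCat.of R) := (⟨⊥, Ideal.bot_prime⟩ : PrimeSpectrum R)
  let s : Spec (CommRingCat.of R) := IsLocalRing.closedPoint R
  have hne : η ≠ s := fun h => IsDiscreteValuationRing.not_a_field R (congrArg PrimeSpectrum.asIdeal h).symm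
  have htwo : ∀ t : Spec (CommRingCat.of R), t = η ∨ t = s := fun t => by
    by_cases h : t.asIdeal = ⊥
    · exact Or.inl (PrimeSpectrum.ext h)
    · exact Or.inr (PrimeSpectrum.ext (IsLocalRing.eq_maximalIdeal (Ideal.IsPrime.isMaximal t.isPrime h)))
  have hφ : ∀ z, Spec.map (CommRingCat.ofHom (algebraMap R (FractionRing R))) z = η := fun z =>
    PrimeSpectrum.ext ((congrArg (Ideal.comap (algebraMap R (FractionRing R))) (Ideal.eq_bot_of_prime
      (PrimeSpectrum.asIdeal (R := FractionRing R) z))).trans
        (Ideal.comap_bot_of_injective _ (IsFractionRing.injective R (FractionRing R))))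
  have hrange : Set.range g = p ⁻¹' {η} := by
    ext x
    refine ⟨?_, fun hx => ?_⟩
    · rintro ⟨c, rfl⟩
      show p (g c) = η
      rw [← Scheme.Hom.comp_apply, hg.w, Scheme.Hom.comp_apply, hφ]
    · exact H28Vert.mem_opensRange_of_isPullback hg x (⟨⊥, Ideal.isPrime_bot⟩ : PrimeSpectrum (FractionRing R))
        ((show p x = η from hx).trans (hφ _).symm)
  have hdη : topologicalKrullDim ↥(p.fiber η) = 1 := by
    rw [(p.fiberHomeo η).isHomeomorph.topologicalKrullDim_eq]
    show topologicalKrullDim ↥(p ⁻¹' {η}) = 1
    rw [← hrange, ← g.isOpenEmbedding.isEmbedding.toHomeomorph.isHomeomorph.topologicalKrullDim_eq, hdimC]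
  obtain ⟨c₀⟩ : Nonempty C := inferInstance
  have hc₀ : p (g c₀) = η := hrange.le ⟨c₀, rfl⟩
  haveI : Surjective p := ⟨fun t => by
    rcases htwo t with rfl | rfl
    · exact ⟨_, hc₀⟩
    · exact ((IsLocalRing.specializes_closedPoint (p (g c₀))).mem_closed p.isClosedMap.isClosed_range ⟨g c₀, rfl⟩)⟩
  haveI : IrreducibleSpace ↥X := inferInstance
  have hds : topologicalKrullDim ↥(p.fiber s) ≤ 1 := by
    refine H17.DualSh.dim_le_of_components fun Z hZ => ?_
    exact (S7624.result R X p Z hZ).trans hdη
  refine le_antisymm ?_ ?_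
  · have h := H05EGA4.DimFibre.dim_le_add p (1 : WithBot ℕ∞) (fun t => by
      rcases htwo t with rfl | rfl
      · exact hdη.le
      · exact hds)
    refine h.trans ?_
    rw [show topologicalKrullDim ↥(Spec (CommRingCat.of R)) = topologicalKrullDim (PrimeSpectrum R) from rfl,
      PrimeSpectrum.topologicalKrullDim_eq_ringKrullDim, IsDiscreteValuationRing.ringKrullDim_eq_one R]
    exact le_of_eq one_add_one_eq_two
  · obtain ⟨c, hc, hcc⟩ : ∃ c : C, c ≠ genericPoint C ∧ IsClosed ({c} : Set C) := by
      haveI := CompactSpace.mk (show IsCompact (Set.univ : Set C) from by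
        haveI : IsProper f := MorphismProperty.of_isPullback hg inferInstance
        haveI : CompactSpace C := QuasiCompact.compactSpace_of_compactSpace f
        exact isCompact_univ)
      obtain ⟨c, -, hc⟩ := (isClosed_univ (X := C)).exists_closed_singleton ⟨c₀, trivial⟩
      refine ⟨c, fun e => ?_, hc⟩
      have huniv : (Set.univ : Set C) ⊆ {c} := fun z _ => (e ▸ genericPoint_specializes z : c ⤳ z).mem_closed hc rfl
      haveI : Subsingleton C := ⟨fun a b => (huniv trivial).trans (huniv (Set.mem_univ b)).symm⟩
      haveI : Subsingleton (IrreducibleCloseds C) := ⟨fun a b => SetLike.coe_injective (by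
        ext w
        obtain ⟨p₁, h₁⟩ := a.isIrreducible'.nonempty
        obtain ⟨p₂, h₂⟩ := b.isIrreducible'.nonempty
        exact ⟨fun _ => Subsingleton.elim p₂ w ▸ h₂, fun _ => Subsingleton.elim p₁ w ▸ h₁⟩)⟩
      have h0 : topologicalKrullDim C ≤ 0 := Order.krullDim_nonpos_of_subsingleton
      rw [hdimC] at h0
      exact absurd h0 (by decide)
    obtain ⟨d, hd, hds'⟩ : ∃ d, g c ⤳ d ∧ p d = s := by
      obtain ⟨d, hd, hpd⟩ := p.isClosedMap.specializingMap (IsLocalRing.specializes_closedPoint (p (g c)))
      exact ⟨d, hd, hpd⟩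
    refine ContractVert.two_le_dim ((genericPoint_specializes c).map g.continuous) (fun e => ?_) hd fun e => ?_
    · exact hc (g.isOpenEmbedding.injective e).symm
    · exact hne ((hrange.le ⟨c, rfl⟩).symm.trans ((congrArg p e).trans hds'))

/-- A regular proper model of a smooth curve has dimension two. -/
theorem dim_model (hC : Curve.IsSmoothProperCurve (FractionRing R) C f)
    (hX : Models.IsRegularProperModel R X p C f) : topologicalKrullDim X = 2 :=
  dim_model' ⟨hC.1, hC.2.2.1, hC.2.2.2⟩ hX

end Groth.Agent.H28RR.ModelArith
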