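import Groth.Agent.H28RR.Omega
import Groth.Agent.H27CurveDiv.RelDim
import Groth.Agent.H26Def.LiftExist
import Groth.Agent.H17.PrinOmega
import Groth.Agent.H17.Conormal.DiffSeq
import Groth.Agent.H29CurveDual.Canonical
import Groth.Agent.H26Gr.QuotBC
import Groth.Agent.H28Surf.Pair
import Groth.Agent.S7638
import Groth.Agent.S9370
import Groth.Agent.S19352

/-!
# Adjunction for a smooth curve on a smooth surface
-/

set_option autoImplicit false
set_option linter.style.haveILetI false
set_option backward.isDefEq.respectTransparency.types false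

universe u

open CategoryTheory CategoryTheory.Limits AlgebraicGeometry TopologicalSpace Opposite
open Groth.Agent.H28Surf

namespace Groth.Agent.H28RR

variable {X : Scheme.{u}} (k : Type u) [Field k] [X.Over (Spec (CommRingCat.of k))]
  [IsProper (X ↘ Spec (CommRingCat.of k))] [Smooth (X ↘ Spec (CommRingCat.of k))] [IsIntegral X]

theorem isInvertible_canonical (hdim : topologicalKrullDim X = 2) {W : X.Modules}
    (hW : ExtPow.IsExtPow 2 (Omega.sheaf (X ↘ Spec (CommRingCat.of k))) W) : PicF.IsInvertible W := by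
  haveI := H28Int.isNoetherian k (X := X)
  haveI := H27CurveDiv.smoothOfRelativeDimension_of_dim (X ↘ Spec (CommRingCat.of k)) 2 hdim
  have hΩ := isFinLocFreeOfRank_omega (X ↘ Spec (CommRingCat.of k)) 2
  have hf := H22Alg.KModel.finLocFree_of_rank hΩ
  have hWf := H22Alg.ExtPowHom.finLocFree_of_isExtPow hf hW
  let x := genericPoint X
  have h1 : H22Alg.KExists.rk x W = 1 := by
    rw [H22Alg.KExists.rk_extPow hf hW x, H22Alg.KExists.rk_of_rank hΩ x]; rfl
  exact H22Alg.PB.isInvertible_of_rank_one (h1 ▸ H22Alg.KExists.ofRank_rk hWf x)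

/-- Adjunction for a smooth curve. -/
theorem adjunction_smooth [IsAlgClosed k] (hdim : topologicalKrullDim X = 2) {W : X.Modules}
    (hW : ExtPow.IsExtPow 2 (Omega.sheaf (X ↘ Spec (CommRingCat.of k))) W)
    {C : Scheme.{u}} (i : C ⟶ X) [IsClosedImmersion i] [IsIntegral C] (hC : topologicalKrullDim C = 1)
    [Smooth (i ≫ (X ↘ Spec (CommRingCat.of k)))] :
    letI : C.Over (Spec (CommRingCat.of k)) := ⟨i ≫ (X ↘ Spec (CommRingCat.of k))⟩
    2 * (Curv2.genus k C : ℤ) - 2 =
      pr k (ClSub.idealMod i.ker) (ClSub.idealMod i.ker) - pr k (ClSub.idealMod i.ker) W := by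
  letI : C.Over (Spec (CommRingCat.of k)) := ⟨i ≫ (X ↘ Spec (CommRingCat.of k))⟩
  haveI : Smooth (C ↘ Spec (CommRingCat.of k)) := ‹Smooth (i ≫ (X ↘ Spec (CommRingCat.of k)))›
  haveI : IsProper (C ↘ Spec (CommRingCat.of k)) := show IsProper (i ≫ _) from inferInstance
  haveI := H28Int.isNoetherian k (X := X)
  haveI := H28Int.isNoetherian k (X := C)
  let f := X ↘ Spec (CommRingCat.of k)
  haveI := H27CurveDiv.smoothOfRelativeDimension_of_dim f 2 hdim
  haveI := H27CurveDiv.smoothOfRelativeDimension_of_dim (i ≫ f) 1 hC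
  have hΩX := isFinLocFreeOfRank_omega f 2
  have hΩC := isFinLocFreeOfRank_omega (i ≫ f) 1
  have hI := H28Int.isInvertible_idealMod_curve k hdim i hC
  have hWi := isInvertible_canonical k hdim hW
  have hB := H26Gr.isFinLocFreeOfRank_pullback i hΩX
  have hA : FlatMod.IsFinLocFreeOfRank 1 (Omega.conormal i) :=
    H26Gr.isFinLocFreeOfRank_pullback i (H29RR.rank_one_of_isInvertible hI)
  obtain ⟨φ, hφ⟩ := H26Def.exists_isConormalDiff i (OmegaSh.dOmega f)
  obtain ⟨c, hc, -⟩ := S9370.result f (i ≫ f) i (𝟙 _) (Category.comp_id _) _ _ (H17.PrinOmega.isUniversal_dOmega f)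
    _ _ (H17.PrinOmega.isUniversal_dOmega (i ≫ f))
  obtain ⟨w, hex, hepi⟩ := H17.Conormal.exact_conormalDiffSeq f i (H17.PrinOmega.isUniversal_dOmega f)
    (H17.PrinOmega.isUniversal_dOmega (i ≫ f)) hφ hc
  haveI := hepi
  have hcoh : ∀ {n : ℕ} {M : C.Modules}, FlatMod.IsFinLocFreeOfRank n M → Coh.IsCoh M := fun hM =>
    H16Derived.KFlat.Stalk.isCoh_of_isFinLocFree (H22Alg.KModel.finLocFree_of_rank hM)
  have hadd := H25Euler.euler_add (k := k) (shortExact_of_rank (S := ShortComplex.mk _ _ w) hex hA hB hΩC rfl)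
    (hcoh hA) (hcoh hB) (hcoh hΩC)
  have hdet := S7638.result k C hC.le 2 _ hB _
    (H22Alg.ExtPowHom.isExtPow_pullback i (H8Props.FinLocFree.isQCoh_of_isFinLocFree _
      (H22Alg.KModel.finLocFree_of_rank hΩX)) hW)
  have hω := H29CurveDual.deg_omega_of_h0 (k := k) (X := C) hC (S19352.finrank_structure k C)
  have key : ∀ L : X.Modules, PicF.IsInvertible L → pr k (ClSub.idealMod i.ker) L =
      - Curv2.deg k C ((Scheme.Modules.pullback i).obj L) 1 := fun L hL => by
    obtain ⟨L', hL', ⟨e₀⟩⟩ := H11Sym.exists_inverse hL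
    let e := H10Coh.Tw.commIso L L' ≪≫ e₀
    have h := H28Int.intNum_curve k hdim i rfl hI hC hL hL' e
    rw [intNum_eq_pr k hdim hI hL', pr_symm k, pr_inv_left k hdim hL hL' hI e, pr_symm k] at h
    omega
  have hA' : Curv2.euler k C (Omega.conormal i) =
      Curv2.euler k C ((Scheme.Modules.pullback i).obj (ClSub.idealMod i.ker)) := rfl
  rw [key _ hI, key _ hWi, ← hω]
  simp only [Curv2.deg] at hdet ⊢
  push_cast at hdet ⊢
  change Curv2.euler k C ((Scheme.Modules.pullback i).obj (Omega.sheaf f)) =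
    Curv2.euler k C (Omega.conormal i) + Curv2.euler k C (Omega.sheaf (i ≫ f)) at hadd
  rw [hA'] at hadd
  change Curv2.euler k C (Omega.sheaf (i ≫ f)) - _ = _
  linarith

end Groth.Agent.H28RR
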