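import Groth.Agent.H28RR.NefBigVan

/-!
# First cohomology and adding an ample effective divisor
-/

set_option autoImplicit false
set_option linter.style.haveILetI false
set_option linter.unusedSectionVars false
set_option backward.isDefEq.respectTransparency.types false
universe u

open CategoryTheory CategoryTheory.Limits AlgebraicGeometry TopologicalSpace
open Groth.Agent.H28RR.PicNum Groth.Agent.H28RR.ZariskiVol Groth.Agent.H28RR.NefBigVan
open Groth.Agent.H28Surf hiding dot dot_mul_left dot_mul_right dot_pow_left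

noncomputable section

namespace Groth.Agent.H28RR.AmpleStep

attribute [local instance] H28Vert.picLaw

variable {X : Scheme.{u}} (k : Type u) [Field k] [IsAlgClosed k] [X.Over (Spec (CommRingCat.of k))]
  [IsProper (X ↘ Spec (CommRingCat.of k))] [Smooth (X ↘ Spec (CommRingCat.of k))] [IsIntegral X]
  (hdim : topologicalKrullDim X = 2)

include hdim

/-- A class with a section is a sum of classes of curves. -/
theorem exists_curves {c : PicLoc.PicSet X} (hsec : 0 < hc k 0 c) :
    ∃ S : Multiset X.IdealSheafData, (∀ C ∈ S, IsCurve C) ∧ (S.map (clsOf k hdim)).prod = c := by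
  classical
  have hR : PicF.IsInvertible (rep c) := rep_inv _
  obtain ⟨Z, hZ, ⟨eZ⟩⟩ := exists_divisor k hR (Module.nontrivial_of_finrank_pos (R := k) hsec)
  obtain ⟨S, hS, rfl⟩ := H28Surf.exists_multiset k hdim Z hZ
  refine ⟨S, hS, ?_⟩
  have key : ∀ S : Multiset X.IdealSheafData, (∀ C ∈ S, IsCurve C) →
      ∃ h : PicF.IsInvertible (ClSub.idealMod S.prod),
        PicGrp.cls (ClSub.idealMod S.prod) h = ((S.map (clsOf k hdim)).prod)⁻¹ := by
    intro S
    induction S using Multiset.induction with
    | empty =>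
      intro _
      refine ⟨isInvertible_ideal k (isEffCartier_prod k hdim _ (by simp)), ?_⟩
      simp only [Multiset.map_zero, Multiset.prod_zero, inv_one]
      rw [← PicGrp.cls_structureModule_eq_one, PicGrp.cls_eq_cls_iff]
      exact H28Reg.nonempty_idealMod_top (X := X)
    | cons J T ih =>
      intro h
      obtain ⟨hT, eT⟩ := ih fun C hC => h C (Multiset.mem_cons_of_mem hC)
      have hJ := h J (Multiset.mem_cons_self J T)
      have hJe := isEffCartier_curve k hdim hJ
      have hTe := isEffCartier_prod k hdim _ fun C hC => h C (Multiset.mem_cons_of_mem hC)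
      refine ⟨isInvertible_ideal k (isEffCartier_prod k hdim _ h), ?_⟩
      conv_rhs => rw [Multiset.map_cons, Multiset.prod_cons, mul_inv, ← eT, clsOf_eq k hdim hJ, curveCls, inv_inv]
      refine Subtype.ext ?_
      rw [PicGrp.cls_mul_cls_val]
      obtain ⟨e⟩ := H28Vert.nonempty_idealMod_mul (show BlowUp.IsEffCartierIdeal J from hJe) (show BlowUp.IsEffCartierIdeal T.prod from hTe)
      rw [PicGrp.cls_val]
      exact Quot.sound ⟨eqToIso (congrArg ClSub.idealMod (Multiset.prod_cons J T)) ≪≫ e.symm⟩
  obtain ⟨h, e⟩ := key S hS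
  rw [← inv_inv (S.map (clsOf k hdim)).prod, ← e]
  refine inv_eq_of_mul_eq_one_left (G := PicLoc.PicSet X) ?_
  rw [← cls_rep c]
  exact Subtype.ext (by rw [PicGrp.cls_mul_cls_val, PicGrp.one_val]; exact Quot.sound ⟨eZ⟩)

/-- An effective divisor has nonnegative degree on an ample class, positive if it is nonzero. -/
theorem dot_ample_pos {A : PicLoc.PicSet X} (hA : CohB1.IsAmple (rep A)) {S : Multiset X.IdealSheafData}
    (hS : ∀ C ∈ S, IsCurve C) (hne : S ≠ 0) : 0 < dot k (S.map (clsOf k hdim)).prod A := by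
  induction S using Multiset.induction with
  | empty => exact absurd rfl hne
  | cons J T ih =>
    have hJ := hS J (Multiset.mem_cons_self J T)
    have h1 : 0 < dot k (clsOf k hdim J) A := by
      rw [clsOf_eq k hdim hJ, dot_comm, ← degOn_eq_dot k hdim hJ]
      exact ample_deg_pos k hdim hA hJ
    rw [Multiset.map_cons, Multiset.prod_cons, dot_mul_left k hdim]
    rcases eq_or_ne T 0 with rfl | hT
    · rw [Multiset.map_zero, Multiset.prod_zero, dot_one_left k hdim]; omega
    · have := ih (fun C hC => hS C (Multiset.mem_cons_of_mem hC)) hT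
      omega

/-- An ample divisor is one-connected. -/
theorem dot_pos_of_mul_ample {P R : PicLoc.PicSet X} (hA : CohB1.IsAmple (rep (P * R)))
    (hP : 0 < dot k P (P * R)) (hR : 0 < dot k R (P * R)) : 0 < dot k P R := by
  obtain ⟨a, ha⟩ := Int.eq_ofNat_of_zero_le hP.le
  obtain ⟨b, hb⟩ := Int.eq_ofNat_of_zero_le hR.le
  by_contra hPR
  have h0 : dot k (P ^ b * (R ^ a)⁻¹) (P * R) = 0 := by
    rw [dot_mul_left k hdim, dot_inv_left k hdim, dot_pow_left k hdim, dot_pow_left k hdim, ha, hb]
    ring
  have h1 : dot k (P ^ b * (R ^ a)⁻¹) (P ^ b * (R ^ a)⁻¹) ≤ 0 :=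
    pr_self_nonpos k hdim hA (rep_inv _) h0
  simp only [dot_mul_left k hdim, dot_mul_right k hdim, dot_inv_left k hdim, dot_inv_right k hdim,
    dot_pow_left k hdim, dot_pow_right k hdim, dot_comm k R P] at h1
  rw [dot_mul_right k hdim] at hP hR ha hb
  rw [dot_comm k R P] at hR hb
  have hPP : 0 < dot k P P := by omega
  have hRR : 0 < dot k R R := by omega
  have ha' : 0 < (a : ℤ) := by omega
  have hb' : 0 < (b : ℤ) := by omega
  nlinarith [mul_pos (mul_pos hb' hb') hPP, mul_pos (mul_pos ha' ha') hRR,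
    mul_nonneg (mul_pos ha' hb').le (neg_nonneg.2 (not_lt.1 hPR))]

/-- Adding an ample effective divisor to a class above the canonical one does not create `H¹`. -/
theorem h1_mul_le {W : X.Modules} (hW : ExtPow.IsExtPow 2 (Omega.sheaf (X ↘ Spec (CommRingCat.of k))) W)
    {A : PicLoc.PicSet X} (hA : CohB1.IsAmple (rep A)) (hsec : 0 < hc k 0 A) (c : PicLoc.PicSet X)
    (hcc : ∀ (C : X.IdealSheafData) (hC : IsCurve C),
      0 < dot k c (curveCls k hdim hC) - dot k (PicGrp.cls W (isInvertible_canonical k hdim hW)) (curveCls k hdim hC)) :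
    hc k 1 (c * A) ≤ hc k 1 c := by
  classical
  obtain ⟨Z, hZ, hprod⟩ := exists_curves k hdim hsec
  set w := PicGrp.cls W (isInvertible_canonical k hdim hW)
  suffices key : ∀ R P : Multiset X.IdealSheafData, P + R = Z →
      hc k 1 (c * A) ≤ hc k 1 (c * (P.map (clsOf k hdim)).prod) by
    simpa using key Z 0 (zero_add Z)
  intro R
  induction R using Multiset.strongInductionOn with
  | _ R ih =>
  intro P hPR
  rcases eq_or_ne R 0 with rfl | hne
  · rw [add_zero] at hPR; rw [hPR, hprod]
  have hRc : ∀ C ∈ R, IsCurve C := fun C hC => hZ C (hPR ▸ Multiset.mem_add.2 (Or.inr hC))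
  have hPc : ∀ C ∈ P, IsCurve C := fun C hC => hZ C (hPR ▸ Multiset.mem_add.2 (Or.inl hC))
  set p := (P.map (clsOf k hdim)).prod with hp
  set r := (R.map (clsOf k hdim)).prod with hr
  have hpr : p * r = A := by rw [hp, hr, ← Multiset.prod_add, ← Multiset.map_add, hPR, hprod]
  obtain ⟨C, hC, hgood⟩ : ∃ C ∈ R, 0 < dot k c (clsOf k hdim C) - dot k w (clsOf k hdim C) +
      dot k p (clsOf k hdim C) := by
    by_contra hno
    push Not at hno
    have hall : ∀ C ∈ R, dot k p (clsOf k hdim C) < 0 := fun C hC => by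
      have h1 := hcc C (hRc C hC)
      have h2 := hno C hC
      rw [clsOf_eq k hdim (hRc C hC)] at h2 ⊢
      omega
    obtain ⟨C₀, hC₀⟩ := Multiset.exists_mem_of_ne_zero hne
    rcases eq_or_ne P 0 with rfl | hP0
    · have := hall C₀ hC₀
      rw [hp, Multiset.map_zero, Multiset.prod_zero, dot_one_left k hdim] at this
      omega
    have h1 : 0 < dot k p r := dot_pos_of_mul_ample k hdim (hpr ▸ hA) (hpr ▸ dot_ample_pos k hdim hA hPc hP0)
      (hpr ▸ dot_ample_pos k hdim hA hRc hne)
    have h2 : dot k p r ≤ 0 := by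
      rw [dot_comm, hr]
      have h := map_multiset_prod (dotHom k hdim p) (R.map (clsOf k hdim))
      rw [Multiset.map_map] at h
      refine le_of_eq_of_le ((congrArg Multiplicative.toAdd h).trans (by rw [toAdd_multiset_sum, Multiset.map_map])) ?_
      refine Multiset.sum_le_card_nsmul _ 0 ?_ |>.trans_eq (nsmul_zero _)
      intro x hx
      obtain ⟨C, hC, rfl⟩ := Multiset.mem_map.1 hx
      show dot k (clsOf k hdim C) p ≤ 0
      rw [dot_comm]
      exact (hall C hC).le
    omega
  obtain ⟨R', rfl⟩ := Multiset.exists_cons_of_mem hC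
  have h1 := ih R' (Multiset.lt_cons_self _ _) (C ::ₘ P) (by rw [Multiset.cons_add, ← Multiset.add_cons, hPR])
  refine h1.trans ?_
  rw [Multiset.map_cons, Multiset.prod_cons, clsOf_eq k hdim (hRc C hC), ← hp]
  rw [clsOf_eq k hdim (hRc C hC)] at hgood
  refine (h1_step k hdim hW (hRc C hC) _ ?_).trans (le_of_eq (congrArg _ ?_))
  · rw [dot_mul_left k hdim, dot_mul_left k hdim]
    change dot k _ _ + dot k w _ + 1 ≤ _
    omega
  · rw [mul_comm _ p, ← mul_assoc, mul_inv_cancel_right]

end Groth.Agent.H28RR.AmpleStep
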