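import Groth.Agent.H28RR.ContractVert
import Groth.Agent.H28Vert.Field
import Groth.Agent.H28Vert.PicInter
import Groth.Agent.H28Vert.CompList2
import Groth.Agent.H28Vert.VertGen
import Groth.Agent.H28Vert.SmoothRelMin
import Groth.Agent.H25AbCube.DualInverse
import Groth.Agent.H10Coh.CI.ClosedSeq
import Groth.Agent.H10Coh.SerreVanishing2
import Groth.Agent.H17.Canon.GenericFibreDim
import Groth.Agent.H8Props.AmpleBatch
import Groth.Agent.LeadBC.TrivInv
import Groth.Agent.H22Alg.DimOnePencil
import Groth.Agent.H22Alg.NakaiSemi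

/-! # Modules for contracting a negative definite configuration of vertical curves -/

set_option autoImplicit false
set_option linter.style.haveILetI false
set_option linter.unusedSectionVars false
set_option backward.isDefEq.respectTransparency.types false

universe u

open CategoryTheory CategoryTheory.Limits AlgebraicGeometry TopologicalSpace

noncomputable section

namespace Groth.Agent.H28RR.ContractArtin

/-- A negative definite matrix with non-negative entries off the diagonal sends some positive vector
to a prescribed negative one, up to scaling. -/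
theorem exists_pos_solution {r : ℕ} (M : Fin r → Fin r → ℤ) (h : Fin r → ℤ) (hoff : ∀ i j, i ≠ j → 0 ≤ M i j)
    (hneg : ∀ a : Fin r → ℤ, a ≠ 0 → ∑ i, ∑ j, a i * a j * M i j < 0) (hh : ∀ i, 0 < h i) :
    ∃ d : ℕ, 0 < d ∧ ∀ t : ℕ, 0 < t → ∃ a : Fin r → ℕ, (∀ i, 1 ≤ a i) ∧
      ∀ i, ∑ j, (a j : ℤ) * M i j = -(((d * t : ℕ) : ℤ) * h i) := by
  classical
  let A : Matrix (Fin r) (Fin r) ℤ := Matrix.of M
  have hdet : A.det ≠ 0 := by
    intro h0
    obtain ⟨v, hv, hv0⟩ := Matrix.exists_mulVec_eq_zero_iff.2 h0
    have h1 := hneg v hv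
    have h2 : ∀ i, ∑ j, v i * v j * M i j = v i * (A.mulVec v) i := fun i => by
      rw [Matrix.mulVec, dotProduct, Finset.mul_sum]
      exact Finset.sum_congr rfl fun j _ => by simp [A]; ring
    simp only [h2, hv0, Pi.zero_apply, mul_zero, Finset.sum_const_zero, lt_self_iff_false] at h1
  let v := A.adjugate.mulVec h
  have hv : A.mulVec v = A.det • h := by
    rw [Matrix.mulVec_mulVec, Matrix.mul_adjugate, Matrix.smul_mulVec, Matrix.one_mulVec]
  refine ⟨A.det.natAbs * A.det.natAbs, Nat.mul_pos (Int.natAbs_pos.2 hdet) (Int.natAbs_pos.2 hdet), fun t ht => ?_⟩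
  let a : Fin r → ℤ := fun j => -((t : ℤ) * A.det) * v j
  have ha : ∀ i, ∑ j, a j * M i j = -(((A.det.natAbs * A.det.natAbs * t : ℕ) : ℤ) * h i) := fun i => by
    have h1 := congrFun hv i
    rw [Matrix.mulVec, dotProduct, Pi.smul_apply, smul_eq_mul] at h1
    have h2 : ∑ j, a j * M i j = -((t : ℤ) * A.det) * ∑ j, A i j * v j := by
      rw [Finset.mul_sum]
      exact Finset.sum_congr rfl fun j _ => by simp [a, A]; ring
    rw [h2, h1]
    push_cast
    rw [abs_mul_abs_self]
    ring
  have hD : (0 : ℤ) < ((A.det.natAbs * A.det.natAbs * t : ℕ) : ℤ) :=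
    Int.natCast_pos.2 (Nat.mul_pos (Nat.mul_pos (Int.natAbs_pos.2 hdet) (Int.natAbs_pos.2 hdet)) ht)
  generalize ((A.det.natAbs * A.det.natAbs * t : ℕ) : ℤ) = D at ha hD
  have hge : ∀ i, 0 ≤ a i := by
    by_contra hc
    push Not at hc
    obtain ⟨i₀, hi₀⟩ := hc
    let w : Fin r → ℤ := fun i => min (a i) 0
    let p : Fin r → ℤ := fun i => max (a i) 0
    have hwp : ∀ i, a i = w i + p i := fun i => by simp only [w, p]; omega
    have hw0 : w ≠ 0 := fun e => by
      have := congrFun e i₀
      simp only [w, Pi.zero_apply] at this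
      omega
    have h1 := hneg w hw0
    have h2 : ∑ i, ∑ j, w i * p j * M i j ≤ 0 := by
      refine Finset.sum_nonpos fun i _ => Finset.sum_nonpos fun j _ => ?_
      by_cases e : i = j
      · subst e
        have : w i * p i = 0 := by simp only [w, p]; rcases le_total (a i) 0 with h | h <;> simp [h]
        rw [this, zero_mul]
      · exact mul_nonpos_of_nonpos_of_nonneg (mul_nonpos_of_nonpos_of_nonneg (min_le_right _ _) (le_max_right _ _))
          (hoff i j e)
    have h3 : ∑ i, w i * ∑ j, a j * M i j = ∑ i, ∑ j, w i * w j * M i j + ∑ i, ∑ j, w i * p j * M i j := by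
      rw [← Finset.sum_add_distrib]
      refine Finset.sum_congr rfl fun i _ => ?_
      rw [← Finset.sum_add_distrib, Finset.mul_sum]
      exact Finset.sum_congr rfl fun j _ => by rw [hwp j]; ring
    have h4 : (0 : ℤ) ≤ ∑ i, w i * ∑ j, a j * M i j := Finset.sum_nonneg fun i _ => by
      rw [ha i]
      exact mul_nonneg_of_nonpos_of_nonpos (min_le_right _ _) (neg_nonpos.2 (mul_nonneg hD.le (hh i).le))
    omega
  have hgt : ∀ i, 0 < a i := fun i => (hge i).lt_of_ne fun e => by
    have h1 : (0 : ℤ) ≤ ∑ j, a j * M i j := Finset.sum_nonneg fun j _ => by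
      by_cases e' : i = j
      · rw [← e', ← e, zero_mul]
      · exact mul_nonneg (hge j) (hoff i j e')
    rw [ha i] at h1
    have := mul_pos hD (hh i)
    omega
  refine ⟨fun i => (a i).toNat, fun i => Int.lt_toNat.2 (by exact_mod_cast hgt i), fun i => ?_⟩
  rw [← ha i]
  exact Finset.sum_congr rfl fun j _ => by rw [Int.toNat_of_nonneg (hge j)]

section

variable {R : Type u} [CommRing R] [IsDomain R] [IsDiscreteValuationRing R]
  {X : Over (Spec (CommRingCat.of R))} [IsProper X.hom]

theorem inter_congr_pullback (E : ArSurf.VertComp R X) {M : X.left.Modules}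
    (e : (Scheme.Modules.pullback E.ι).obj M ≅ Coh.structureModule E.curve.left) : ArSurf.inter R X M E = 0 :=
  ContractVert.curveDeg_eq_zero _ _ e

theorem curveDeg_congr (k : Type u) [Field k] (Y : Scheme.{u}) [Y.Over (Spec (CommRingCat.of k))]
    {M N : Y.Modules} (e : M ≅ N) : ArSurf.curveDeg k Y M = ArSurf.curveDeg k Y N := by
  rw [ArSurf.curveDeg, ArSurf.curveDeg, FGA.eulerCharLE, FGA.eulerCharLE, sub_left_inj]
  exact Finset.sum_congr rfl fun i _ => by rw [(H29RR.hhIso (k := k) e i).finrank_eq]

theorem curveDeg_pos_of_ample (k : Type u) [Field k] (Y : Scheme.{u}) [Y.Over (Spec (CommRingCat.of k))]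
    [IsProper (Y ↘ Spec (CommRingCat.of k))] [IsIntegral Y] (hdim : topologicalKrullDim Y = 1) {M : Y.Modules}
    (hM : CohB1.IsAmple M) : 0 < ArSurf.curveDeg k Y M := by
  haveI := H28Int.isNoetherian k (X := Y)
  have hd : topologicalKrullDim Y ≤ ((1 : ℕ) : WithBot ℕ∞) := by simpa using hdim.le
  have h := H22Alg.CurveAmple.deg_pos_of_ample (k := k) hdim hM
  rw [H29RR.deg_def] at h
  rw [ArSurf.curveDeg, H28Int.eulerCharLE_eq k hd (H11Ample.isCoh_of_isInvertible hM.1).1,
    H28Int.eulerCharLE_eq k hd H10Coh.isQuasicoherent_unit]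
  exact h

theorem inter_pos_of_ample (E : ArSurf.VertComp R X) {M : X.left.Modules} (hM : CohB1.IsAmple M) :
    0 < ArSurf.inter R X M E := by
  haveI := H28Vert.isProper_curve E
  haveI : IsProper (E.curve.left ↘ Spec (CommRingCat.of (IsLocalRing.ResidueField R))) :=
    inferInstanceAs (IsProper E.curve.hom)
  exact curveDeg_pos_of_ample _ _ E.dim_eq (H11Ample.isAmple_pullback_of_isAffineHom E.ι hM)

/-- The inverse of the ideal of a vertical divisor against a vertical curve. -/
theorem inter_dual_divIdeal {r : ℕ} (Γ : Fin r → ArSurf.VertComp R X) (L : Fin r → X.left.Modules)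
    (hL : ∀ j, ClSub.IsInverseOf (L j) (ClSub.idealMod (Γ j).ι.ker))
    (hker : ∀ Δ : ArSurf.VertComp R X, BlowUp.IsEffCartierIdeal Δ.ι.ker) (a : Fin r → ℕ)
    (E : ArSurf.VertComp R X) :
    ArSurf.inter R X (RefHull.dual (ClSub.idealMod (H28Vert.divIdeal Γ a))) E =
      ∑ j, (a j : ℤ) * ArSurf.inter R X (L j) E := by
  classical
  obtain ⟨LE, hLE, ⟨eE⟩⟩ := H11Sym.exists_inverse (H29Blow.isInvertible_of_isEffCartierIdeal _ (hker E))
  let Γ' : Fin (r + 1) → ArSurf.VertComp R X := Fin.cons E Γ
  let L' : Fin (r + 1) → X.left.Modules := Fin.cons LE L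
  let a' : Fin (r + 1) → ℕ := Fin.cons 0 a
  have hL' : ∀ j, ClSub.IsInverseOf (L' j) (ClSub.idealMod (Γ' j).ι.ker) := by
    intro j
    refine Fin.cases ?_ ?_ j
    · exact ⟨eE⟩
    · exact hL
  have hdiv : H28Vert.divIdeal Γ' a' = H28Vert.divIdeal Γ a := by
    rw [H28Vert.divIdeal, Fin.prod_univ_succ]
    simp [Γ', a', H28Vert.divIdeal]
    exact Finset.prod_congr rfl fun x _ => by rw [Fin.cons_succ]
  have h := H28Vert.D_pullback_divIdeal hL' (fun j => hker _) 0 a'
  rw [hdiv, Fin.sum_univ_succ] at h
  simp only [a', L', Γ', Fin.cons_zero, Fin.cons_succ, Nat.cast_zero, zero_mul, zero_add] at h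
  have hI : BlowUp.IsEffCartierIdeal (H28Vert.divIdeal Γ a) := H28Vert.isEffCartierIdeal_prod _ _ (fun j _ => hker _) a
  have hIi := H29Blow.isInvertible_of_isEffCartierIdeal _ hI
  obtain ⟨eN⟩ := H25AbCube.isInverseOf_dual hIi
  have hN := H17.InvertibleTensor.isInvertible_of_tensor_iso _ _ eN
  have h1 := H28Vert.inter_tensor E hN hIi
  rw [H28Vert.inter_congr_iso E (H11Ample.isInvertible_tensor hN hIi) (PicLoc.isInvertible_structureModule X.left) eN,
    H28Vert.inter_structure] at h1
  have h2 := H28Vert.inter_eq_neg_D E hIi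
  have h3 : H28Int.D (IsLocalRing.ResidueField R) [(Scheme.Modules.pullback E.ι).obj
      (ClSub.idealMod (H28Vert.divIdeal Γ a))] (Coh.structureModule E.curve.left) =
      ∑ j, (a j : ℤ) * ArSurf.inter R X (L j) E := h
  linarith

/-- The local rings of an integral surface over a discrete valuation ring are not all finite over it
generically: the generic fibre is a curve. -/
theorem dim_genericFibre_eq_one [Flat X.hom] [IsIntegral X.left] (hdim : topologicalKrullDim X.left = 2)
    [IsIntegral ((Neron.genericFibre R).obj X).left] :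
    topologicalKrullDim ((Neron.genericFibre R).obj X).left = 1 := by
  refine le_antisymm (by simpa using H17.CanonSm.dim_genericFibre_le X (d := 1) (by simpa using hdim.le)) ?_
  haveI : IsOpenImmersion (Neron.genPt R) := H28Vert.isOpenImmersion_generic (R := R)
  haveI : IsLocallyNoetherian X.left := LocallyOfFiniteType.isLocallyNoetherian X.hom
  let j : ((Neron.genericFibre R).obj X).left ⟶ X.left := pullback.fst X.hom (Neron.genPt R)
  haveI : IsOpenImmersion j := inferInstanceAs (IsOpenImmersion (pullback.fst X.hom (Neron.genPt R)))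
  have hsq : IsPullback j (pullback.snd X.hom (Neron.genPt R)) X.hom (Neron.genPt R) := IsPullback.of_hasPullback _ _
  by_contra hlt
  -- otherwise the generic point is isolated in its fibre
  have hbot : X.hom (genericPoint X.left) = (⊥ : PrimeSpectrum R) := H28Vert.hom_genericPoint_eq_bot
  have hsub : ∀ z, z ∈ Set.range j → z = genericPoint X.left := by
    rintro _ ⟨w, rfl⟩
    by_contra hne
    obtain ⟨e, he⟩ : genericPoint X.left ∈ Set.range j := by
      have := ((genericPoint_spec X.left).specializes (y := j w) trivial).mem_open j.isOpenEmbedding.isOpen_range ⟨w, rfl⟩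
      exact this
    refine hlt ?_
    have h1 := ContractVert.one_le_dim_closure (a := e) (b := w)
      (j.isOpenEmbedding.isInducing.specializes_iff.1 (he ▸ (genericPoint_spec X.left).specializes trivial))
      (fun h => hne (h ▸ he))
    exact h1.trans Topology.IsInducing.subtypeVal.topologicalKrullDim_le
  have hW : ∀ z ∈ j.opensRange, X.hom z = X.hom (genericPoint X.left) → z = genericPoint X.left :=
    fun z hz _ => hsub z hz
  have hηW : genericPoint X.left ∈ j.opensRange := by
    refine H28Vert.mem_opensRange_of_isPullback hsq _ (⟨⊥, Ideal.isPrime_bot⟩ : PrimeSpectrum (FractionRing R)) ?_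
    rw [hbot]
    exact PrimeSpectrum.ext (Ideal.comap_bot_of_injective _ (IsFractionRing.injective R (FractionRing R))).symm
  have hinj : Function.Injective (DualGr.stalkHom X.hom (genericPoint X.left)) :=
    (injective_iff_map_eq_zero _).2 fun x hx => by
      by_contra hx0
      exact H28Vert.stalkHom_ne_zero hx0 _ hx
  have halg := H28Vert.isAlgebraic_functionField_of_isolated X.hom hinj (genericPoint X.left) j.opensRange hηW hW
  have hle : topologicalKrullDim X.left ≤ ((1 : ℕ) : WithBot ℕ∞) :=
    H28Vert.topologicalKrullDim_le_of_stalks _ fun x => by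
      haveI : IsNoetherianRing (X.left.presheaf.stalk x) := inferInstance
      refine H28Vert.ringKrullDim_le_one_of_algebraic' (DualGr.stalkHom X.hom x) ((injective_iff_map_eq_zero _).2
        fun c hc => ?_) fun b => ?_
      · exact (injective_iff_map_eq_zero _).1 hinj c
          ((H28Vert.algebraMap_stalkHom_base X.hom x c).symm.trans ((congrArg _ hc).trans (map_zero _)))
      · obtain ⟨p, hp, hpb⟩ := halg (algebraMap (X.left.presheaf.stalk x) X.left.functionField b)
        refine ⟨p, hp, IsFractionRing.injective (X.left.presheaf.stalk x) X.left.functionField ?_⟩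
        rw [map_zero, Polynomial.hom_eval₂, ← hpb]
        exact congrArg (fun φ => p.eval₂ φ _) (RingHom.ext fun c => H28Vert.algebraMap_stalkHom_base X.hom x c)
  rw [hdim] at hle
  exact absurd hle (by decide)

end

end Groth.Agent.H28RR.ContractArtin
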