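import Groth.Agent.H28RR.ArtinStep
import Groth.Agent.H28RR.ContractArtin
import Groth.Agent.H28RR.ContractVert
import Groth.Agent.H28Vert.Numerical
import Groth.Agent.H28Vert.VertGroup
import Groth.Agent.H17.Canon.VertAdj
import Groth.Agent.H29RR.RiemannRoch
import Groth.Agent.H29RR.MonoHom
import Groth.Agent.H29RR.RankTwo

/-! # Artin's criterion: vertical divisors all of whose parts have non-positive genus -/

set_option autoImplicit false
set_option linter.style.haveILetI false
set_option linter.unusedSectionVars false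
set_option backward.isDefEq.respectTransparency.types false
set_option maxHeartbeats 1600000

universe u

open CategoryTheory CategoryTheory.Limits AlgebraicGeometry TopologicalSpace Opposite
open Groth.Agent

noncomputable section

namespace Groth.Agent.H28RR.ArtinH1

/-- A vanishing section generates nowhere. -/
theorem gen_zero_notMem {T : Scheme.{u}} {M : T.Modules} (hM : PicF.IsInvertible M) (y : T) :
    y ∉ H11Ample.gen M (0 : Γ(M, ⊤)) := by
  intro h
  have hb := (H11Ample.mem_gen_iff hM 0 y).1 h
  have h01 : (0 : T.presheaf.stalk y) = 1 := hb.1 (by simp only [map_zero, smul_zero])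
  exact zero_ne_one h01

section Curve

variable {k : Type u} [Field k] {E : Scheme.{u}} [E.Over (Spec (CommRingCat.of k))]
  [IsProper (E ↘ Spec (CommRingCat.of k))] [IsIntegral E] (hd : topologicalKrullDim E = 1)
  (h1 : Module.finrank k (Coh.HH E (Coh.structureModule E) 1) = 0)

include hd in
theorem curveDeg_eq_deg {M : E.Modules} (hM : PicF.IsInvertible M) :
    ArSurf.curveDeg k E M = Curv2.deg k E M 1 := by
  haveI := H28Int.isNoetherian k (X := E)
  have hd' : topologicalKrullDim E ≤ ((1 : ℕ) : WithBot ℕ∞) := by simpa using hd.le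
  rw [ArSurf.curveDeg, H28Int.eulerCharLE_eq _ hd' (H11Ample.isCoh_of_isInvertible hM).1,
    H28Int.eulerCharLE_eq _ hd' H10Coh.isQuasicoherent_unit, H29RR.deg_def]

include hd h1 in
/-- On a curve of genus zero the first cohomology vanishes down to minus the degree of the constants. -/
theorem subsingleton_H1 {M : E.Modules} (hM : PicF.IsInvertible M)
    (h : -(Module.finrank k (Coh.HH E (Coh.structureModule E) 0) : ℤ) ≤ ArSurf.curveDeg k E M) :
    Subsingleton (Coh.HH E M 1) := by
  haveI := H29RR.finite_HH (k := k) M hM 1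
  haveI := H29RR.finite_HH (k := k) M hM 0
  refine (Module.finrank_zero_iff (R := k)).1 ?_
  by_cases hs : Nontrivial (Coh.HH E M 0)
  · obtain ⟨-, -, hle, -⟩ := H29RR.bounds_of_section (k := k) hd.le hM hs
    omega
  · haveI := not_nontrivial_iff_subsingleton.1 hs
    have e1 := H29RR.euler_eq_sub (k := k) hd.le M
    have e2 := H29RR.euler_eq_sub (k := k) hd.le (Coh.structureModule E)
    rw [curveDeg_eq_deg hd hM, H29RR.deg_def, e1, e2, Module.finrank_zero_of_subsingleton (M := Coh.HH E M 0)] at h
    omega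

include hd in
/-- A non-zero section of a module of degree zero generates it. -/
theorem gen_eq_top {M : E.Modules} (hM : PicF.IsInvertible M) (h : ArSurf.curveDeg k E M = 0)
    (s : Γ(M, ⊤)) (hs : s ≠ 0) : H11Ample.gen M s = ⊤ := by
  have hne : H11Tilde.homOfGlobal M s ≠ 0 := H29RR.homOfGlobal_ne_zero' hs
  rw [curveDeg_eq_deg hd hM] at h
  haveI := (H29RR.deg_nonneg_of_hom (k := k) hd.le hM hne).2 h.le
  have e : (H11Tilde.homOfGlobal M s).app ⊤ (H11Ample.one (X := E) ⊤) = s := by
    erw [H11Tilde.homOfGlobal_app]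
    exact (one_smul Γ(E, ⊤) _).trans (H10Coh.mres_self M le_rfl s)
  rw [← e, H11Ample.gen_iso (H11Tilde.homOfGlobal M s)]
  exact top_unique fun x _ =>
    (H11Ample.mem_gen_iff H11Ample.isInvertible_structureModule _ x).2 (H11Ample.isGen_one ⊤ x trivial)

include hd h1 in
/-- A module of degree zero on a curve of genus zero has a generating section. -/
theorem exists_gen_top {M : E.Modules} (hM : PicF.IsInvertible M) (h : ArSurf.curveDeg k E M = 0) :
    ∃ s : Γ(M, ⊤), H11Ample.gen M s = ⊤ := by
  haveI : Nonempty (⊤ : E.Opens) := ⟨⟨genericPoint E, trivial⟩⟩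
  haveI := E.component_nontrivial ⊤
  haveI := H29RR.finite_HH (k := k) M hM 0
  haveI := H29RR.finite_HH (k := k) (Coh.structureModule E) H11Ample.isInvertible_structureModule 0
  haveI : Nontrivial (Coh.HH E (Coh.structureModule E) 0) :=
    (H29RR.sec (Coh.structureModule E)).toEquiv.nontrivial_congr.2 (inferInstanceAs (Nontrivial Γ(E, ⊤)))
  have hw : 0 < Module.finrank k (Coh.HH E (Coh.structureModule E) 0) := Module.finrank_pos
  haveI := subsingleton_H1 hd h1 hM (by rw [h]; omega)
  have e1 := H29RR.euler_eq_sub (k := k) hd.le M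
  have e2 := H29RR.euler_eq_sub (k := k) hd.le (Coh.structureModule E)
  have hdeg0 := h
  rw [curveDeg_eq_deg hd hM, H29RR.deg_def, e1, e2, Module.finrank_zero_of_subsingleton (M := Coh.HH E M 1)] at h
  obtain ⟨s, hs⟩ := H29RR.exists_global_ne_zero M (Module.nontrivial_of_finrank_pos (R := k) (by omega))
  exact ⟨s, gen_eq_top (k := k) hd hM hdeg0 s hs⟩

end Curve

/-- Two global sections on complementary opens glue to a section generating wherever they do. -/
theorem exists_glue_gen {T : Scheme.{u}} {M : T.Modules} (hM : PicF.IsInvertible M) (U₁ U₂ : T.Opens)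
    (hinf : U₁ ⊓ U₂ = ⊥) (hsup : U₁ ⊔ U₂ = ⊤) (σ₁ σ₂ : Γ(M, ⊤))
    (h₁ : U₁ ≤ H11Ample.gen M σ₁) (h₂ : U₂ ≤ H11Ample.gen M σ₂) :
    ∃ σ : Γ(M, ⊤), H11Ample.gen M σ = ⊤ := by
  let U : ULift.{u} Bool → T.Opens := fun b => if b.down then U₁ else U₂
  let s : ∀ b, Γ(M, U b) := fun b =>
    M.presheaf.map (homOfLE (le_top : U b ≤ ⊤)).op (if b.down then σ₁ else σ₂)
  have hsub : ∀ (V : T.Opens), V = ⊥ → Subsingleton Γ(M, V) := by
    rintro V rfl
    refine ⟨fun a b => TopCat.Sheaf.eq_of_locally_eq' ⟨M.presheaf, M.isSheaf⟩ (fun e : PEmpty.{u + 1} => (e.elim : T.Opens))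
      ⊥ (fun e => e.elim) bot_le a b fun e => e.elim⟩
  obtain ⟨σ, hσ, -⟩ := TopCat.Sheaf.existsUnique_gluing' ⟨M.presheaf, M.isSheaf⟩ U ⊤ (fun b => homOfLE le_top)
    (by
      rw [← hsup]
      exact sup_le (le_iSup U ⟨true⟩) (le_iSup U ⟨false⟩)) s (fun a b => by
      rcases a with ⟨_ | _⟩ <;> rcases b with ⟨_ | _⟩
      · rfl
      · exact @Subsingleton.elim _ (hsub _ ((inf_comm _ _).trans hinf)) _ _
      · exact @Subsingleton.elim _ (hsub _ hinf) _ _
      · rfl)
  refine ⟨σ, top_unique fun x _ => ?_⟩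
  have key : ∀ b : ULift.{u} Bool, x ∈ U b → x ∈ H11Ample.gen M (if b.down then σ₁ else σ₂) →
      x ∈ H11Ample.gen M σ := by
    intro b hxb hb
    rw [H11Ample.mem_gen_iff hM] at hb ⊢
    have he : M.presheaf.germ ⊤ x trivial σ = M.presheaf.germ ⊤ x trivial (if b.down then σ₁ else σ₂) := by
      have h := congrArg (M.presheaf.germ (U b) x hxb) (hσ b)
      erw [TopCat.Presheaf.germ_res_apply, TopCat.Presheaf.germ_res_apply] at h
      exact h
    rw [he]
    exact hb
  have hx : x ∈ U₁ ⊔ U₂ := hsup.ge trivial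
  rcases hx with h | h
  · exact key ⟨true⟩ h (h₁ h)
  · exact key ⟨false⟩ h (h₂ h)

variable {R : Type u} [CommRing R] [IsDomain R] [IsDiscreteValuationRing R]
  {X : Over (Spec (CommRingCat.of R))}

/-- Vertical divisors all of whose parts have negative `Z'·(Z' + K)` have no first cohomology and trivial
degree-zero Picard group. -/
theorem main (hX : ArSurf.IsArithSurface R X) {r : ℕ} (Γ : Fin r → ArSurf.VertComp R X)
    (hΓ : Function.Injective fun i => Set.range ((Γ i).ι.base : (Γ i).curve.left → X.left))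
    (L : Fin r → X.left.Modules) (hL : ∀ j, ClSub.IsInverseOf (L j) (ClSub.idealMod (Γ j).ι.ker))
    (ω : X.left.Modules) (hω : Canon.IsCanonical X.hom ω) :
    ∀ (n : ℕ) (a : Fin r → ℕ), ∑ j, a j = n →
      (∀ a' : Fin r → ℕ, a' ≤ a → a' ≠ 0 →
        ∑ i, (a' i : ℤ) * (∑ j, (a' j : ℤ) * ArSurf.inter R X (L j) (Γ i) + ArSurf.inter R X ω (Γ i)) < 0) →
      ∀ (Z : Scheme.{u}) (z : Z ⟶ X.left) [IsClosedImmersion z], z.ker = H28Vert.divIdeal Γ a →
        ∀ N : Z.Modules, PicF.IsInvertible N →
          ((∀ (i : Fin r) (g : (Γ i).curve.left ⟶ Z), g ≫ z = (Γ i).ι →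
              0 ≤ ArSurf.curveDeg (IsLocalRing.ResidueField R) (Γ i).curve.left ((Scheme.Modules.pullback g).obj N)) →
            Subsingleton (Coh.HH Z N 1)) ∧
          ((∀ (i : Fin r) (g : (Γ i).curve.left ⟶ Z), g ≫ z = (Γ i).ι →
              ArSurf.curveDeg (IsLocalRing.ResidueField R) (Γ i).curve.left ((Scheme.Modules.pullback g).obj N) = 0) →
            ∃ σ : Γ(N, ⊤), H11Ample.gen N σ = ⊤) := by
  classical
  let k := IsLocalRing.ResidueField R
  haveI : IsProper X.hom := H28Vert.isProper_of_isArithSurface hX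
  haveI : IsIntegral X.left := hX.2.1
  haveI : Flat X.hom := hX.2.2.2.1
  haveI : IsLocallyNoetherian X.left := LocallyOfFiniteType.isLocallyNoetherian X.hom
  haveI : CompactSpace X.left := QuasiCompact.compactSpace_of_compactSpace X.hom
  haveI : IsNoetherian X.left := ⟨⟩
  obtain ⟨nc, Γc, hΓc⟩ := H28Vert.exists_isComponentList' (R := R) (X := X) hX.2.2.1
  have hd := H28Vert.dim_fibre_le_one hΓc
  have hker : ∀ Δ : ArSurf.VertComp R X, BlowUp.IsEffCartierIdeal Δ.ι.ker := fun Δ =>
    H28Vert.isEffCartierIdeal_ker_of_mem hX.1 Δ (H28Vert.mem_fibreComponents hd Δ)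
  intro n
  induction n with
  | zero =>
    intro a hsum _ Z z _ hz N hN
    have ha : a = 0 := funext fun j => Finset.sum_eq_zero_iff.1 hsum j (Finset.mem_univ j)
    haveI : IsEmpty Z := ⟨fun x => by
      have h1 : z x ∈ (z.ker.support : Set X.left) := by
        rw [Scheme.Hom.support_ker]
        exact subset_closure ⟨x, rfl⟩
      rw [hz, ha, H28Vert.divIdeal_zero] at h1
      simp at h1⟩
    haveI : IsLocallyNoetherian Z := LocallyOfFiniteType.isLocallyNoetherian z
    haveI : CompactSpace Z := QuasiCompact.compactSpace_of_compactSpace z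
    haveI : IsNoetherian Z := ⟨⟩
    refine ⟨fun _ => ?_, fun _ => ⟨0, top_unique fun x _ => isEmptyElim x⟩⟩
    exact LeadVan.subsingleton_H_of_dim_le 0 (by
      rw [topologicalKrullDim]
      exact (Order.krullDim_nonpos_iff_forall_isMax).2 fun W => absurd W.2.1 (by
        rintro ⟨x, -⟩
        exact isEmptyElim x)) _ 1 Nat.one_pos
  | succ n ih =>
    intro a hsum hpa Z z _ hz N hN
    have ha0 : a ≠ 0 := by
      rintro rfl
      simp at hsum
    obtain ⟨i, hai, hi⟩ : ∃ i, 1 ≤ a i ∧
        ∑ j, (a j : ℤ) * ArSurf.inter R X (L j) (Γ i) + ArSurf.inter R X ω (Γ i) < 0 := by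
      by_contra hcon
      push Not at hcon
      refine (hpa a le_rfl ha0).not_ge (Finset.sum_nonneg fun i _ => ?_)
      rcases Nat.eq_zero_or_pos (a i) with h | h
      · rw [h, Nat.cast_zero, zero_mul]
      · exact mul_nonneg (Int.natCast_nonneg _) (hcon i h)
    let a' : Fin r → ℕ := fun j => a j - if j = i then 1 else 0
    have hle' : a' ≤ a := fun j => Nat.sub_le _ _
    have haa' : a = fun j => a' j + if j = i then 1 else 0 := funext fun j => by
      rcases eq_or_ne j i with rfl | h
      · simp only [a', if_pos]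
        omega
      · simp [a', if_neg h]
    have hsum' : ∑ j, a' j = n := by
      have h1 : ∑ j, a j = (∑ j, a' j) + 1 := by
        conv_lhs => rw [haa']
        rw [Finset.sum_add_distrib, Finset.sum_ite_eq' Finset.univ i, if_pos (Finset.mem_univ i)]
      omega
    -- the component
    let C := (Γ i).curve.left
    haveI := H28Vert.isProper_curve (Γ i)
    haveI : IsProper (C ↘ Spec (CommRingCat.of k)) := inferInstanceAs (IsProper (Γ i).curve.hom)
    haveI : IsIntegral C := (Γ i).isIntegral
    haveI := (Γ i).isClosedImmersion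
    haveI := H28Int.isNoetherian k (X := C)
    let w : ℤ := (Models.wdeg R X (Γ i) : ℤ)
    have hwpos : 0 < w := Int.natCast_pos.2 (H28Vert.wdeg_pos (Γ i))
    have hadj := H17.CanonSm.inter_add_inter_eq hX (Γ i) (hL i) hω
    have hχ : FGA.eulerCharLE k C (Coh.structureModule C) 1 = w - (Models.h1 R X (Γ i) : ℤ) := by
      simp only [FGA.eulerCharLE, Finset.sum_range_succ, Finset.sum_range_zero]
      simp [w, Models.wdeg, Models.h1, sub_eq_add_neg, k, C]
    change _ = -2 * FGA.eulerCharLE k C (Coh.structureModule C) 1 at hadj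
    rw [hχ] at hadj
    have hh1 : Models.h1 R X (Γ i) = 0 := by
      let e : Fin r → ℕ := fun j => if j = i then 1 else 0
      have he : e ≤ a := fun j => by
        simp only [e]
        split_ifs with h
        · exact h ▸ hai
        · exact Nat.zero_le _
      have h := hpa e he (fun h => by simpa [e] using congrFun h i)
      rw [Finset.sum_eq_single i (fun j _ hj => by simp [e, hj]) (fun h => absurd (Finset.mem_univ i) h),
        Finset.sum_eq_single i (fun j _ hj => by simp [e, hj]) (fun h => absurd (Finset.mem_univ i) h)] at h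
      simp only [e, if_pos, Nat.cast_one, one_mul] at h
      obtain ⟨g, hg⟩ : (Models.wdeg R X (Γ i) : ℤ) ∣ (Models.h1 R X (Γ i) : ℤ) :=
        Int.natCast_dvd_natCast.2 (H28Vert.wdeg_dvd_finrank (Γ i) _ 1)
      change (Models.h1 R X (Γ i) : ℤ) = w * g at hg
      rcases lt_trichotomy g 0 with hg0 | hg0 | hg0
      · have := mul_neg_of_pos_of_neg hwpos hg0
        omega
      · subst hg0
        simpa using hg
      · have : w * 1 ≤ w * g := mul_le_mul_of_nonneg_left (by omega) hwpos.le
        omega
    have hh1' : Module.finrank k (Coh.HH C (Coh.structureModule C) 1) = 0 := hh1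
    rw [hh1, Nat.cast_zero, sub_zero] at hadj
    have hbound : ∑ j, (a' j : ℤ) * ArSurf.inter R X (L j) (Γ i) ≤ w := by
      have h1 : ∑ j, (a j : ℤ) * ArSurf.inter R X (L j) (Γ i) =
          ∑ j, (a' j : ℤ) * ArSurf.inter R X (L j) (Γ i) + ArSurf.inter R X (L i) (Γ i) := by
        conv_lhs => rw [haa']
        simp [add_mul, Finset.sum_add_distrib]
      have h2 : w ∣ ∑ j, (a j : ℤ) * ArSurf.inter R X (L j) (Γ i) + ArSurf.inter R X ω (Γ i) :=
        dvd_add (Finset.dvd_sum fun j _ => (H28Vert.wdeg_dvd_inter (Γ i) (L j)).mul_left _)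
          (H28Vert.wdeg_dvd_inter (Γ i) ω)
      have h3 : w ≤ -(∑ j, (a j : ℤ) * ArSurf.inter R X (L j) (Γ i) + ArSurf.inter R X ω (Γ i)) :=
        Int.le_of_dvd (by omega) h2.neg_right
      omega
    -- the pieces
    let A := H28Vert.divIdeal Γ a'
    have hA : BlowUp.IsEffCartierIdeal A := H28Vert.isEffCartierIdeal_prod _ _ (fun j _ => hker _) a'
    have hzle : z.ker ≤ A.subschemeι.ker := by
      rw [hz, Scheme.IdealSheafData.ker_subschemeι]
      exact H28Vert.divIdeal_antitone hle'
    let j : A.subscheme ⟶ Z := IsClosedImmersion.lift z A.subschemeι hzle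
    have hj : j ≫ z = A.subschemeι := IsClosedImmersion.lift_fac _ _ _
    have hgle : z.ker ≤ (Γ i).ι.ker := by
      rw [hz, ← H28Vert.divIdeal_single (Γ := Γ) i]
      refine H28Vert.divIdeal_antitone fun j => ?_
      split_ifs with h
      · exact h ▸ hai
      · exact Nat.zero_le _
    let g : C ⟶ Z := IsClosedImmersion.lift z (Γ i).ι hgle
    have hg : g ≫ z = (Γ i).ι := IsClosedImmersion.lift_fac _ _ _
    haveI : IsClosedImmersion (j ≫ z) := by rw [hj]; infer_instance
    haveI : IsClosedImmersion j := IsClosedImmersion.of_comp j z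
    haveI : IsClosedImmersion (g ≫ z) := by rw [hg]; infer_instance
    haveI : IsClosedImmersion g := IsClosedImmersion.of_comp g z
    have hjA : BlowUp.IsEffCartierIdeal (j ≫ z).ker := by
      rw [hj, Scheme.IdealSheafData.ker_subschemeι]; exact hA
    have hgA : BlowUp.IsEffCartierIdeal (g ≫ z).ker := by rw [hg]; exact hker _
    have hzker : z.ker = (j ≫ z).ker * (g ≫ z).ker := by
      rw [hj, hg, Scheme.IdealSheafData.ker_subschemeι, hz, haa', H28Vert.divIdeal_succ]
    have hpa' : ∀ b : Fin r → ℕ, b ≤ a' → b ≠ 0 →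
        ∑ i, (b i : ℤ) * (∑ j, (b j : ℤ) * ArSurf.inter R X (L j) (Γ i) + ArSurf.inter R X ω (Γ i)) < 0 :=
      fun b hb => hpa b (hb.trans hle')
    have hN' : PicF.IsInvertible ((Scheme.Modules.pullback j).obj N) := H11Ample.isInvertible_pullback j hN
    obtain ⟨ihv, ihs⟩ := ih a' hsum' hpa' A.subscheme A.subschemeι (Scheme.IdealSheafData.ker_subschemeι A) _ hN'
    have hdeg : ∀ (P : ℤ → Prop),
        (∀ (l : Fin r) (h : (Γ l).curve.left ⟶ Z), h ≫ z = (Γ l).ι →
          P (ArSurf.curveDeg k (Γ l).curve.left ((Scheme.Modules.pullback h).obj N))) →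
        ∀ (l : Fin r) (h : (Γ l).curve.left ⟶ A.subscheme), h ≫ A.subschemeι = (Γ l).ι →
          P (ArSurf.curveDeg k (Γ l).curve.left ((Scheme.Modules.pullback h).obj ((Scheme.Modules.pullback j).obj N))) :=
      fun P H l h hh => by
        exact (congrArg P (ContractArtin.curveDeg_congr k (Γ l).curve.left
          ((Scheme.Modules.pullbackComp h j).app N))).mpr (H l (h ≫ j) (by rw [Category.assoc, hj, hh]))
    have hNg : PicF.IsInvertible ((Scheme.Modules.pullback g).obj N) := H11Ample.isInvertible_pullback g hN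
    have hKN : 0 ≤ ArSurf.curveDeg k C ((Scheme.Modules.pullback g).obj N) →
        Subsingleton (Coh.HH Z (CohB1.tensorMod (ClSub.idealMod j.ker) N) 1) := by
      intro h0
      refine ArtinStep.subsingleton_H1 z j g hjA hzker (by simpa using (Γ i).dim_eq.le) hN ?_
      have hJ : PicF.IsInvertible (ClSub.idealMod (j ≫ z).ker) := H29Blow.isInvertible_of_isEffCartierIdeal _ hjA
      have hJC : PicF.IsInvertible ((Scheme.Modules.pullback (g ≫ z)).obj (ClSub.idealMod (j ≫ z).ker)) :=
        H11Ample.isInvertible_pullback _ hJ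
      refine subsingleton_H1 (Γ i).dim_eq hh1' (H11Ample.isInvertible_tensor hJC hNg) ?_
      rw [curveDeg_eq_deg (Γ i).dim_eq (H11Ample.isInvertible_tensor hJC hNg),
        H29RR.deg_tensor (k := k) (Γ i).dim_eq.le hJC hNg, ← curveDeg_eq_deg (Γ i).dim_eq hNg,
        ← curveDeg_eq_deg (Γ i).dim_eq hJC]
      have hJdeg : ArSurf.curveDeg k C ((Scheme.Modules.pullback (g ≫ z)).obj (ClSub.idealMod (j ≫ z).ker)) =
          -∑ l, (a' l : ℤ) * ArSurf.inter R X (L l) (Γ i) := by
        rw [ContractArtin.curveDeg_congr k C (eqToIso (show (Scheme.Modules.pullback (g ≫ z)).obj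
          (ClSub.idealMod (j ≫ z).ker) = (Scheme.Modules.pullback (Γ i).ι).obj (ClSub.idealMod A) by
            rw [hg, hj, Scheme.IdealSheafData.ker_subschemeι]))]
        show ArSurf.inter R X (ClSub.idealMod A) (Γ i) = _
        have hI := H29Blow.isInvertible_of_isEffCartierIdeal _ hA
        obtain ⟨eN⟩ := H25AbCube.isInverseOf_dual hI
        have hD := H17.InvertibleTensor.isInvertible_of_tensor_iso _ _ eN
        have h1 := H28Vert.inter_tensor (Γ i) hD hI
        rw [H28Vert.inter_congr_iso (Γ i) (H11Ample.isInvertible_tensor hD hI)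
          (PicLoc.isInvertible_structureModule X.left) eN, H28Vert.inter_structure,
          ContractArtin.inter_dual_divIdeal Γ L hL hker a' (Γ i)] at h1
        linarith
      rw [hJdeg]
      refine le_add_of_le_of_nonneg ?_ h0
      change -w ≤ _
      omega
    have hvan : (∀ (l : Fin r) (h : (Γ l).curve.left ⟶ Z), h ≫ z = (Γ l).ι →
        0 ≤ ArSurf.curveDeg k (Γ l).curve.left ((Scheme.Modules.pullback h).obj N)) → Subsingleton (Coh.HH Z N 1) := by
      intro H
      haveI : ((Scheme.Modules.pullback j).obj N).IsQuasicoherent := H28Mero.isQCoh_of_isInvertible hN'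
      exact H10Coh.HHSeq.subsingleton₂ (H10Coh.CI.closedSeq_shortExact j hN) (hKN (H i g hg))
        ((H7Flat.CohDim.lerayHH j ((Scheme.Modules.pullback j).obj N) 1).toEquiv.subsingleton_congr.2
          (ihv (hdeg (0 ≤ ·) H)))
    refine ⟨hvan, fun H => ?_⟩
    have h0 : ArSurf.curveDeg k C ((Scheme.Modules.pullback g).obj N) = 0 := H i g hg
    -- a section generating on the smaller divisor
    obtain ⟨σ', hσ'⟩ := ihs (hdeg (· = 0) H)
    obtain ⟨σ, hσ⟩ := H10Coh.CI.surjective_pullSect j hN (hKN h0.ge) σ'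
    have hgenj : ∀ w, j w ∈ H11Ample.gen N σ := fun w => by
      have h1 := H11Ample.gen_smul_pullSect j hN σ (isUnit_one (M := Γ(A.subscheme, ⊤)))
      rw [one_smul, show H11Ample.pullTop j σ = σ' from hσ, hσ'] at h1
      exact h1.le (Opens.mem_top w)
    have hcov : ∀ x : Z, x ∈ Set.range j ∨ x ∈ Set.range g := by
      intro x
      have h1 : z x ∈ (z.ker.support : Set X.left) := by
        rw [Scheme.Hom.support_ker]
        exact subset_closure ⟨x, rfl⟩
      rw [hz] at h1
      obtain ⟨l, hl, hxl⟩ := H28Vert.support_divIdeal a _ h1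
      obtain ⟨c, hc⟩ := hxl
      by_cases hli : l = i
      · subst hli
        exact Or.inr ⟨c, z.isClosedEmbedding.injective (by rw [← Scheme.Hom.comp_apply, hg]; exact hc)⟩
      · have hle1 : A.subschemeι.ker ≤ (Γ l).ι.ker := by
          rw [Scheme.IdealSheafData.ker_subschemeι, ← H28Vert.divIdeal_single (Γ := Γ) l]
          refine H28Vert.divIdeal_antitone fun q => ?_
          split_ifs with h
          · subst h
            simp only [a', if_neg hli]
            omega
          · exact Nat.zero_le _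
        refine Or.inl ⟨IsClosedImmersion.lift A.subschemeι (Γ l).ι hle1 c, z.isClosedEmbedding.injective ?_⟩
        rw [← Scheme.Hom.comp_apply, hj, ← Scheme.Hom.comp_apply, IsClosedImmersion.lift_fac]
        exact hc
    by_cases hmeet : ∃ c, g c ∈ Set.range j
    · obtain ⟨c, w, hw⟩ := hmeet
      refine ⟨σ, top_unique fun x _ => ?_⟩
      rcases hcov x with ⟨v, rfl⟩ | ⟨v, rfl⟩
      · exact hgenj v
      · have h1 := H11Ample.gen_smul_pullSect g hN σ (isUnit_one (M := Γ(C, ⊤)))
        rw [one_smul] at h1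
        have hne : H11Ample.pullTop g σ ≠ 0 := fun e => gen_zero_notMem hNg c (by
          have h2 : c ∈ H11Ample.gen ((Scheme.Modules.pullback g).obj N) (H11Ample.pullTop g σ) :=
            h1.ge (show g c ∈ H11Ample.gen N σ from hw ▸ hgenj w)
          rwa [e] at h2)
        rw [gen_eq_top (Γ i).dim_eq hNg h0 _ hne] at h1
        exact h1.le (Opens.mem_top v)
    · push Not at hmeet
      obtain ⟨t', ht'⟩ := exists_gen_top (Γ i).dim_eq hh1' hNg h0
      haveI : IsLocallyNoetherian A.subscheme := LocallyOfFiniteType.isLocallyNoetherian A.subschemeι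
      haveI : CompactSpace A.subscheme := QuasiCompact.compactSpace_of_compactSpace A.subschemeι
      haveI : IsNoetherian A.subscheme := ⟨⟩
      have hdA : topologicalKrullDim A.subscheme ≤ ((1 : ℕ) : WithBot ℕ∞) := by
        let b := pullback.fst X.hom (H28Vert.closedPt R)
        haveI : IsClosedImmersion (H28Vert.closedPt R) :=
          IsClosedImmersion.spec_of_surjective _ IsLocalRing.residue_surjective
        have hsub : ∀ q, A.subschemeι q ∈ Set.range b := fun q => by
          obtain ⟨l, -, c', hc'⟩ := H28Vert.support_divIdeal a' _ ((A.range_subschemeι).subset ⟨q, rfl⟩)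
          rw [Scheme.Pullback.range_fst, Set.mem_preimage, ← hc', ← Scheme.Hom.comp_apply, (Γ l).w,
            Scheme.Hom.comp_apply]
          exact ⟨_, rfl⟩
        refine le_trans (Topology.IsInducing.topologicalKrullDim_le (f := fun q => b.isEmbedding.toHomeomorph.symm
          ⟨A.subschemeι q, hsub q⟩) ?_) hd
        exact b.isEmbedding.toHomeomorph.symm.isInducing.comp
          (A.subschemeι.isEmbedding.isInducing.codRestrict hsub)
      have hrev : Subsingleton (Coh.HH Z (CohB1.tensorMod (ClSub.idealMod g.ker) N) 1) := by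
        refine ArtinStep.subsingleton_H1 z g j hgA (hzker.trans (mul_comm _ _)) hdA hN ?_
        obtain ⟨τ⟩ := H28Vert.nonempty_pullback_idealMod (j ≫ z) hgA fun q hq => by
          have h2 : (j ≫ z) q ∈ ((g ≫ z).ker.support : Set X.left) := hq
          rw [Scheme.Hom.support_ker, (g ≫ z).isClosedEmbedding.isClosed_range.closure_eq] at h2
          obtain ⟨c, hc⟩ := h2
          exact hmeet c ⟨q, (z.isClosedEmbedding.injective hc).symm⟩
        exact H10Coh.subsingleton_HH_of_iso
          (PicGrp.tensorModIso τ (Iso.refl _) ≪≫ H10Coh.Tw.leftUnitIso _).symm 1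
          (ihv (hdeg (0 ≤ ·) fun l h hh => (H l h hh).ge))
      obtain ⟨τ, hτ⟩ := H10Coh.CI.surjective_pullSect g hN hrev t'
      have hgeng : ∀ w, g w ∈ H11Ample.gen N τ := fun w => by
        have h1 := H11Ample.gen_smul_pullSect g hN τ (isUnit_one (M := Γ(C, ⊤)))
        rw [one_smul, show H11Ample.pullTop g τ = t' from hτ, ht'] at h1
        exact h1.le (Opens.mem_top w)
      refine exists_glue_gen hN ⟨(Set.range g)ᶜ, g.isClosedEmbedding.isClosed_range.isOpen_compl⟩
        ⟨(Set.range j)ᶜ, j.isClosedEmbedding.isClosed_range.isOpen_compl⟩ ?_ ?_ σ τ ?_ ?_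
      · refine eq_bot_iff.2 fun x hx => ?_
        exact ((hcov x).elim (fun h => hx.2 h) (fun h => hx.1 h) : False).elim
      · refine top_unique fun x _ => ?_
        rcases hcov x with h | h
        · refine Or.inl fun hx => ?_
          obtain ⟨c, rfl⟩ := hx
          exact hmeet c h
        · obtain ⟨c, rfl⟩ := h
          exact Or.inr (hmeet c)
      · intro x hx
        rcases hcov x with ⟨v, rfl⟩ | h
        · exact hgenj v
        · exact absurd h hx
      · intro x hx
        rcases hcov x with h | ⟨v, rfl⟩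
        · exact absurd h hx
        · exact hgeng v

end Groth.Agent.H28RR.ArtinH1
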