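import Groth.Agent.H28Vert.Filtration
import Groth.Agent.H16Derived.ProjFormula.ClosedImm
import Groth.Agent.H10Coh.CI.ClosedSeq
import Groth.Agent.H12Pic.CurveFam.ComapIdeal
import Groth.Agent.H16Derived.KFlat.SheafAssoc
import Groth.Agent.LeadVan.Vanishing
import Groth.Agent.H28Int.Core
import Groth.Agent.H17.OmegaLocal
import Groth.Agent.H10Coh.TensorTilde

/-! # Removing a piece of a divisor: the kernel of the restriction and its first cohomology -/

set_option autoImplicit false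
set_option linter.style.haveILetI false
set_option linter.unusedSectionVars false
set_option backward.isDefEq.respectTransparency.types false
set_option maxHeartbeats 1600000

universe u

open CategoryTheory CategoryTheory.Limits AlgebraicGeometry TopologicalSpace Opposite
open Groth.Agent TensorProduct

attribute [local instance] Groth.Agent.H06Mod.stalkAlgebra

noncomputable section

namespace Groth.Agent.H28RR.ArtinStep

variable {X Z D C : Scheme.{u}} (z : Z ⟶ X) [IsClosedImmersion z] (j : D ⟶ Z) [IsClosedImmersion j]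
  (g : C ⟶ Z) [IsClosedImmersion g] (hA : BlowUp.IsEffCartierIdeal (j ≫ z).ker)
  (hker : z.ker = (j ≫ z).ker * (g ≫ z).ker)

theorem app_eq_zero_iff' {S T : Scheme.{u}} (f : S ⟶ T) [QuasiCompact f] {U : T.Opens} (hU : IsAffineOpen U)
    (c : Γ(T, U)) : f.app U c = 0 ↔ c ∈ f.ker.ideal ⟨U, hU⟩ := by
  rw [Scheme.Hom.ker_apply, RingHom.mem_ker]

/-- Tensor products with a killed module are killed. -/
theorem killed_tensor {S T : Scheme.{u}} (f : S ⟶ T) [IsClosedImmersion f] {A : T.Modules}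
    (hA : H16Derived.ProjFormula.Killed f A) (B : T.Modules) :
    H16Derived.ProjFormula.Killed f (CohB1.tensorMod A B) := by
  let i := H10Coh.Tw.commIso A B
  refine ⟨fun x r hr a => ?_, fun y hy => ?_⟩
  · let e := (((DerSch.stalkFunctor T (f.base x)).mapIso i) ≪≫
      (H16Derived.KFlat.Stalk.leftIso B (f.base x)).app A).toLinearEquiv
    refine e.injective ((e.map_smul r a).trans (Eq.trans ?_ e.map_zero.symm))
    generalize e a = t
    induction t using TensorProduct.induction_on with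
    | zero => exact smul_zero r
    | add a b ha hb => exact (smul_add r a b).trans (by rw [ha, hb]; exact zero_add _)
    | tmul b a =>
      have h0 : r • a = 0 := hA.smul_eq_zero x r hr a
      refine (TensorProduct.tmul_smul r b a).symm.trans ?_
      rw [h0]
      exact TensorProduct.tmul_zero _ b
  · let e := (((DerSch.stalkFunctor T y).mapIso i) ≪≫
      (H16Derived.KFlat.Stalk.leftIso B y).app A).toLinearEquiv
    refine subsingleton_of_forall_eq 0 fun a => e.injective (Eq.trans ?_ e.map_zero.symm)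
    generalize e a = t
    induction t using TensorProduct.induction_on with
    | zero => rfl
    | add a b ha hb => rw [ha, hb]; exact zero_add _
    | tmul b a =>
      rw [show a = 0 from @Subsingleton.elim _ (hA.subsingleton y hy) a 0]
      exact TensorProduct.tmul_zero _ b

include hA in
/-- Small affine frames pulled back to the divisor. -/
theorem exists_frame {W : Z.Opens} {x : Z} (hx : x ∈ W) :
    ∃ (U : X.Opens) (hU : IsAffineOpen U) (e : Γ(ClSub.idealMod (j ≫ z).ker, U)),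
      x ∈ z ⁻¹ᵁ U ∧ z ⁻¹ᵁ U ≤ W ∧
      (j ≫ z).ker.ideal ⟨U, hU⟩ = Ideal.span {OmegaSh.idealSect (j ≫ z).ker U e} := by
  obtain ⟨O, hO, hOW⟩ := z.isClosedEmbedding.isInducing.isOpen_iff.1 W.2
  have hxO : z x ∈ (⟨O, hO⟩ : X.Opens) := by
    show x ∈ z ⁻¹' O
    rw [hOW]; exact hx
  obtain ⟨U, hU, a, b, hxU, hUW, -, -, hAa, -⟩ := H28Vert.exists_common_gen hA hA hxO
  refine ⟨U, hU, a, hxU, fun y hy => ?_, hAa⟩
  show y ∈ W.carrier
  rw [← hOW]
  exact hUW hy

include hA in
/-- The ideal of the smaller piece is a quotient of the ideal of its divisor. -/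
theorem exists_epi :
    ∃ ψ : (Scheme.Modules.pullback z).obj (ClSub.idealMod (j ≫ z).ker) ⟶ ClSub.idealMod j.ker, Epi ψ := by
  let J := ClSub.idealMod (j ≫ z).ker
  let P := (Scheme.Modules.pullback z).obj J
  let F := (Scheme.Modules.pullback z).map (ClSub.idealModι (j ≫ z).ker)
  let s := H16Derived.KFlat.Stalk.structurePullbackIso z
  let m : P ⟶ Coh.structureModule Z := F ≫ s.hom
  -- the image of a frame
  have hm : ∀ (U : X.Opens) (e : Γ(J, U)), ∃ w : Γ(Z, z ⁻¹ᵁ U), IsUnit w ∧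
      m.app (z ⁻¹ᵁ U) (OmegaSh.pullSect z J U e) = z.app U (OmegaSh.idealSect (j ≫ z).ker U e) * w := by
    intro U e
    let w : Γ(Z, z ⁻¹ᵁ U) := s.hom.app _ (OmegaSh.pullSect z (Coh.structureModule X) U (H11Ample.one U))
    refine ⟨w, H12Pic.InvDesc.isUnit_of_isGen
      (H11Tilde.IsGen.map_iso s (H11Tilde.IsGen.pullSect z (H11Ample.isGen_one U))), ?_⟩
    show s.hom.app _ (F.app _ _) = _
    rw [← H17.PullSect.pullSect_natural, show (ClSub.idealModι (j ≫ z).ker).app U e =
      OmegaSh.idealSect (j ≫ z).ker U e • H11Ample.one U from (H11Ample.smul_one_eq _).symm,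
      OmegaSh.pullSect_smul, Scheme.Modules.Hom.app_smul]
    rfl
  haveI := H10Coh.epi_toSubscheme j.ker
  have hzero : m ≫ ClSub.toSubscheme j.ker = 0 := by
    refine Scheme.Modules.hom_ext _ _ fun W => ?_
    ext t
    refine H11Tilde.eq_of_locally _ _ fun x hx => ?_
    obtain ⟨U, hU, e, hxU, hUW, hAa⟩ := exists_frame z j hA hx
    refine ⟨z ⁻¹ᵁ U, hUW, hxU, ?_⟩
    have hgen : H11Tilde.IsGen P (OmegaSh.pullSect z J U e) :=
      H11Tilde.IsGen.pullSect z (H28Vert.isGen_idealSect hA hU hAa)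
    obtain ⟨r, hr⟩ := (hgen.bijective le_rfl).2 (P.presheaf.map (homOfLE hUW).op t)
    obtain ⟨w, -, hw⟩ := hm U e
    rw [← H11Tilde.app_map_apply, ← H11Tilde.app_map_apply]
    show (ClSub.toSubscheme j.ker).app _ (m.app _ _) = 0
    rw [show P.presheaf.map (homOfLE hUW).op t = r • OmegaSh.pullSect z J U e from
      hr.symm.trans (congrArg (r • ·) (H10Coh.mres_self P le_rfl _)), Scheme.Modules.Hom.app_smul, hw]
    refine (H17.IdealPair.app_eq_zero_iff j.ker (hU.preimage z) _).2 ?_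
    refine Ideal.mul_mem_left _ r (Ideal.mul_mem_right _ _ ?_)
    refine (app_eq_zero_iff' j (hU.preimage z) _).1 ?_
    have h0 := (app_eq_zero_iff' (j ≫ z) hU _).2
      ((H29Blow.mem_ideal_iff_exists_idealSect (j ≫ z).ker hU _).2 ⟨e, rfl⟩)
    rw [Scheme.Hom.comp_app] at h0
    exact h0
  let ψ : P ⟶ ClSub.idealMod j.ker := kernel.lift (ClSub.toSubscheme j.ker) m hzero
  have hψ : ψ ≫ ClSub.idealModι j.ker = m := kernel.lift_ι _ _ _
  refine ⟨ψ, H11Tilde.epi_of_locally_surjective ψ fun W t x hx => ?_⟩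
  obtain ⟨U, hU, e, hxU, hUW, hAa⟩ := exists_frame z j hA hx
  let t' := (ClSub.idealMod j.ker).presheaf.map (homOfLE hUW).op t
  obtain ⟨c, hc⟩ := H10Coh.CI.app_surjective z hU (OmegaSh.idealSect j.ker (z ⁻¹ᵁ U) t')
  have hcA : c ∈ (j ≫ z).ker.ideal ⟨U, hU⟩ := by
    refine (app_eq_zero_iff' (j ≫ z) hU c).1 ?_
    rw [Scheme.Hom.comp_app]
    refine (congrArg (j.app (z ⁻¹ᵁ U)) hc).trans ?_
    exact (app_eq_zero_iff' j (hU.preimage z) _).2
      ((H29Blow.mem_ideal_iff_exists_idealSect j.ker (hU.preimage z) _).2 ⟨t', rfl⟩)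
  rw [hAa, Ideal.mem_span_singleton'] at hcA
  obtain ⟨r, hr⟩ := hcA
  obtain ⟨w, ⟨w', rfl⟩, hw⟩ := hm U e
  refine ⟨z ⁻¹ᵁ U, hUW, hxU, (z.app U r * (↑w'⁻¹ : Γ(Z, z ⁻¹ᵁ U))) • OmegaSh.pullSect z J U e, ?_⟩
  refine H29Blow.idealSect_injective j.ker _ ?_
  show (ψ ≫ ClSub.idealModι j.ker).app (z ⁻¹ᵁ U) _ = OmegaSh.idealSect j.ker (z ⁻¹ᵁ U) t'
  rw [hψ, Scheme.Modules.Hom.app_smul, hw, ← hc, ← hr, map_mul]
  show z.app U r * (↑w'⁻¹ : Γ(Z, z ⁻¹ᵁ U)) * (z.app U _ * (w' : Γ(Z, z ⁻¹ᵁ U))) = _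
  rw [mul_comm (z.app U (OmegaSh.idealSect (j ≫ z).ker U e)) (w' : Γ(Z, z ⁻¹ᵁ U)), mul_assoc,
    Units.inv_mul_cancel_left]

include hA hker in
/-- The ideal of one piece is annihilated by functions vanishing on the other piece. -/
theorem smul_eq_zero {W : Z.Opens} (c : Γ(Z, W)) (t : Γ(ClSub.idealMod j.ker, W)) (hc : g.app W c = 0) :
    c • t = 0 := by
  refine H11Tilde.eq_of_locally _ _ fun x hx => ?_
  obtain ⟨U, hU, e, hxU, hUW, hAa⟩ := exists_frame z j hA hx
  refine ⟨z ⁻¹ᵁ U, hUW, hxU, ?_⟩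
  rw [map_zero]
  refine H29Blow.idealSect_injective j.ker _ (Eq.trans ?_ (map_zero _).symm)
  rw [H29Blow.idealSect_res, H29Blow.idealSect_smul, map_mul]
  let c' := Z.presheaf.map (homOfLE hUW).op c
  obtain ⟨b, hb⟩ := H10Coh.CI.app_surjective z hU c'
  obtain ⟨a, ha⟩ := H10Coh.CI.app_surjective z hU
    (Z.presheaf.map (homOfLE hUW).op (OmegaSh.idealSect j.ker W t))
  have hbB : b ∈ (g ≫ z).ker.ideal ⟨U, hU⟩ := by
    refine (app_eq_zero_iff' (g ≫ z) hU b).1 ?_
    rw [Scheme.Hom.comp_app]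
    refine (congrArg (g.app (z ⁻¹ᵁ U)) hb).trans ?_
    refine (congr($(g.naturality (homOfLE hUW).op) c)).trans ?_
    refine (congrArg (C.presheaf.map ((Opens.map g.base).map (homOfLE hUW)).op) hc).trans ?_
    exact map_zero _
  have haA : a ∈ (j ≫ z).ker.ideal ⟨U, hU⟩ := by
    refine (app_eq_zero_iff' (j ≫ z) hU a).1 ?_
    rw [Scheme.Hom.comp_app]
    refine (congrArg (j.app (z ⁻¹ᵁ U)) ha).trans ?_
    rw [← H29Blow.idealSect_res]
    exact (app_eq_zero_iff' j (hU.preimage z) _).2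
      ((H29Blow.mem_ideal_iff_exists_idealSect j.ker (hU.preimage z) _).2 ⟨_, rfl⟩)
  have h0 : z.app U (a * b) = 0 := by
    refine (app_eq_zero_iff' z hU _).2 ?_
    rw [hker, Scheme.IdealSheafData.ideal_mul, Pi.mul_apply]
    exact Ideal.mul_mem_mul haA hbB
  rw [map_mul, ha, hb] at h0
  rw [mul_comm]
  exact h0

include hA hker in
/-- The ideal of one piece is killed by the other piece. -/
theorem killed : H16Derived.ProjFormula.Killed g (ClSub.idealMod j.ker) := by
  refine ⟨fun x r hr a => ?_, fun y hy => ?_⟩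
  · obtain ⟨W₀, hW₀, c, rfl⟩ := Z.presheaf.exists_germ_eq r
    obtain ⟨W₁, hW₁, t, rfl⟩ := (ClSub.idealMod j.ker).presheaf.exists_germ_eq a
    erw [Scheme.Hom.germ_stalkMap_apply] at hr
    obtain ⟨O, hxO, i₁, i₂, hO⟩ := C.presheaf.germ_eq x (U := g ⁻¹ᵁ W₀) (V := g ⁻¹ᵁ W₀) hW₀ hW₀ (g.app W₀ c) 0
      (hr.trans (map_zero _).symm)
    obtain ⟨O', hO', hOO'⟩ := g.isClosedEmbedding.isInducing.isOpen_iff.1 O.2
    let W : Z.Opens := W₀ ⊓ W₁ ⊓ ⟨O', hO'⟩
    have hxW : g x ∈ W := ⟨⟨hW₀, hW₁⟩, by show x ∈ g ⁻¹' O'; rw [hOO']; exact hxO⟩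
    have hWW₀ : W ≤ W₀ := inf_le_left.trans inf_le_left
    have hWW₁ : W ≤ W₁ := inf_le_left.trans inf_le_right
    have hWO : g ⁻¹ᵁ W ≤ O := fun y hy => by
      show y ∈ O.carrier
      rw [← hOO']
      exact hy.2
    have hc : g.app W (Z.presheaf.map (homOfLE hWW₀).op c) = 0 := by
      refine (congr($(g.naturality (homOfLE hWW₀).op) c)).trans ?_
      have h1 := congrArg (C.presheaf.map (homOfLE hWO).op) hO
      rw [map_zero, map_zero, ← ConcreteCategory.comp_apply, ← Functor.map_comp] at h1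
      exact h1
    have h := congrArg ((ClSub.idealMod j.ker).presheaf.germ W (g x) hxW)
      (smul_eq_zero z j g hA hker _ ((ClSub.idealMod j.ker).presheaf.map (homOfLE hWW₁).op t) hc)
    rw [H06Mod.germ_smul, map_zero, TopCat.Presheaf.germ_res_apply, TopCat.Presheaf.germ_res_apply] at h
    exact h
  · refine subsingleton_of_forall_eq 0 fun a => ?_
    obtain ⟨W₁, hW₁, t, rfl⟩ := (ClSub.idealMod j.ker).presheaf.exists_germ_eq a
    let W : Z.Opens := W₁ ⊓ ⟨(Set.range g.base)ᶜ, g.isClosedEmbedding.isClosed_range.isOpen_compl⟩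
    have hW : y ∈ W := ⟨hW₁, hy⟩
    have hemp : g ⁻¹ᵁ W = ⊥ := eq_bot_iff.2 fun v hv => (hv.2 ⟨v, rfl⟩ : False).elim
    have hc : g.app W (1 : Γ(Z, W)) = 0 := by
      haveI : Subsingleton Γ(C, g ⁻¹ᵁ W) := by
        rw [hemp]
        exact CommRingCat.subsingleton_of_isTerminal C.sheaf.isTerminalOfEmpty
      exact Subsingleton.elim _ _
    have h := smul_eq_zero z j g hA hker 1
      ((ClSub.idealMod j.ker).presheaf.map (homOfLE (inf_le_left : W ≤ W₁)).op t) hc
    rw [one_smul] at h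
    rw [← TopCat.Presheaf.germ_res_apply (ClSub.idealMod j.ker).presheaf (homOfLE (inf_le_left : W ≤ W₁)) y hW t, h]
    exact map_zero _

include hA hker in
/-- The first cohomology of the kernel of a restriction. -/
theorem subsingleton_H1 [IsNoetherian C] (hd : topologicalKrullDim C ≤ ((1 : ℕ) : WithBot ℕ∞)) {N : Z.Modules}
    (hN : PicF.IsInvertible N)
    (hv : Subsingleton (Coh.HH C (CohB1.tensorMod ((Scheme.Modules.pullback (g ≫ z)).obj (ClSub.idealMod (j ≫ z).ker))
      ((Scheme.Modules.pullback g).obj N)) 1)) :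
    Subsingleton (Coh.HH Z (CohB1.tensorMod (ClSub.idealMod j.ker) N) 1) := by
  obtain ⟨ψ, hψ⟩ := exists_epi z j hA
  let T := (DCoh.tensorBi (X := Z)).flip.obj N
  let F := Scheme.Modules.pullback g
  let K := CohB1.tensorMod (ClSub.idealMod j.ker) N
  haveI : Epi (T.map ψ) := by
    haveI := hψ
    exact (H28Int.tensor_shortExact (H10Coh.shortExact_kernel ψ) hN).epi_g
  haveI : F.IsLeftAdjoint := (Scheme.Modules.pullbackPushforwardAdjunction g).isLeftAdjoint
  let φ := F.map (T.map ψ)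
  haveI : Epi φ := inferInstanceAs (Epi (F.map (T.map ψ)))
  let e : F.obj (T.obj ((Scheme.Modules.pullback z).obj (ClSub.idealMod (j ≫ z).ker))) ≅
      CohB1.tensorMod ((Scheme.Modules.pullback (g ≫ z)).obj (ClSub.idealMod (j ≫ z).ker)) (F.obj N) :=
    (H16Derived.KFlat.Stalk.pullTensorLIso g N).app _ ≪≫
      ((DCoh.tensorBi (X := C)).flip.obj (F.obj N)).mapIso ((Scheme.Modules.pullbackComp g z).app _)
  have h1 : Subsingleton (Coh.HH C (F.obj K) 1) := by
    refine H10Coh.HHSeq.subsingleton₃ (H10Coh.shortExact_kernel φ) (H10Coh.subsingleton_HH_of_iso e.symm 1 hv) ?_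
    exact LeadVan.subsingleton_H_of_dim_le 1 (by exact_mod_cast hd) _ 2 (by norm_num)
  have hK : H16Derived.ProjFormula.Killed g K :=
    killed_tensor g (killed z j g hA hker) N
  haveI := H16Derived.ProjFormula.isIso_unit_of_killed g hK
  haveI : (F.obj K).IsQuasicoherent := by
    haveI := H17.OmegaLocal.isQuasicoherent_idealMod j.ker
    haveI : N.IsQuasicoherent := H28Mero.isQCoh_of_isInvertible hN
    haveI : K.IsQuasicoherent := H10Coh.TT.isQCoh_tensorMod (ClSub.idealMod j.ker) N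
    infer_instance
  exact H10Coh.subsingleton_HH_of_iso (asIso ((H16Derived.ProjFormula.adj g).unit.app K)).symm 1
    ((H7Flat.CohDim.lerayHH g (F.obj K) 1).toEquiv.subsingleton)

end Groth.Agent.H28RR.ArtinStep
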