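import Groth.Agent.H28RR.Cor
import Groth.Agent.H28Contr.ExcGlobal
import Groth.Agent.H28Vert.ExcNum
import Groth.Agent.H22Alg.IntPush
import Groth.Agent.H22Alg.IntPullback
import Groth.Agent.H8Props.FieldDimEquidim
import Groth.Agent.H28Curve.ProjLine

/-!
# Intersection numbers on the blow-up of a surface in a closed point
-/

set_option autoImplicit false
set_option linter.style.haveILetI false
set_option linter.unusedSectionVars false
set_option backward.isDefEq.respectTransparency.types false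

universe u

open CategoryTheory CategoryTheory.Limits AlgebraicGeometry TopologicalSpace Opposite
open Groth.Agent.H28Surf

namespace Groth.Agent.H28RR

variable {X : Scheme.{u}} (k : Type u) [Field k] [X.Over (Spec (CommRingCat.of k))]
  [IsProper (X ↘ Spec (CommRingCat.of k))] [Smooth (X ↘ Spec (CommRingCat.of k))] [IsIntegral X]

include k in
theorem dim_stalk_closed (hdim : topologicalKrullDim X = 2) {x : X} (hx : IsClosed ({x} : Set X)) :
    ringKrullDim (X.presheaf.stalk x) = 2 := by
  let f := X ↘ Spec (CommRingCat.of k)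
  have h := H8Props.FieldDim.localDim_eq_stalk_add_cdim (k := k) f x
  rw [H8Props.FieldDim.localDim_eq_dim_of_irreducible (k := k) f x, hdim] at h
  have hc : H8Props.FieldDim.cdim x = 0 := by
    show topologicalKrullDim (closure ({x} : Set X)) = 0
    rw [hx.closure_eq]
    refine le_antisymm (topologicalKrullDim_zero_of_discreteTopology ({x} : Set X)) ?_
    haveI : Nonempty (TopologicalSpace.IrreducibleCloseds ({x} : Set X)) :=
      ⟨⟨{⟨x, rfl⟩}, isIrreducible_singleton, isClosed_discrete _⟩⟩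
    exact Order.krullDim_nonneg (α := TopologicalSpace.IrreducibleCloseds ({x} : Set X))
  rw [hc, add_zero] at h
  exact h.symm

variable [IsAlgClosed k]
variable {X' : Scheme.{u}} [X'.Over (Spec (CommRingCat.of k))] [IsProper (X' ↘ Spec (CommRingCat.of k))]
  [Smooth (X' ↘ Spec (CommRingCat.of k))] [IsIntegral X']
variable {π : X' ⟶ X} {P : X} {hP : IsClosed ({P} : Set X)}


include k in
theorem exc_isExcCurve (hdim : topologicalKrullDim X = 2)
    (hπ : BlowUp.IsBlowUp π (Scheme.IdealSheafData.vanishingIdeal ⟨{P}, hP⟩)) :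
    Models.IsExcCurve (BlowUp.exceptional π (Scheme.IdealSheafData.vanishingIdeal ⟨{P}, hP⟩)).subschemeι ∧ Models.IsContractionOf (BlowUp.exceptional π (Scheme.IdealSheafData.vanishingIdeal ⟨{P}, hP⟩)).subschemeι π := by
  haveI := H28Int.isNoetherian k (X := X)
  exact H28Contr.isExcCurve_and_isContractionOf hP
    (H19Grp.isRegularLocalRing_stalk_of_smooth (X ↘ Spec (CommRingCat.of k)) P) (dim_stalk_closed k hdim hP) hπ

theorem map_exc {z : X'} (hz : z ∈ ((BlowUp.exceptional π (Scheme.IdealSheafData.vanishingIdeal ⟨{P}, hP⟩)).support : Set X')) : π z = P := by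
  replace hz : z ∈ (((Scheme.IdealSheafData.vanishingIdeal ⟨{P}, hP⟩).comap π).support : Set X') := hz
  rw [Scheme.IdealSheafData.support_comap] at hz
  have h2 : π z ∈ ((Scheme.IdealSheafData.vanishingIdeal ⟨{P}, hP⟩).support : Set X) := hz
  rw [Scheme.IdealSheafData.coe_support_vanishingIdeal] at h2
  exact h2

include k in
theorem exc_isCurve (hdim : topologicalKrullDim X = 2)
    (hπ : BlowUp.IsBlowUp π (Scheme.IdealSheafData.vanishingIdeal ⟨{P}, hP⟩)) : IsCurve (BlowUp.exceptional π (Scheme.IdealSheafData.vanishingIdeal ⟨{P}, hP⟩)) := by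
  obtain ⟨⟨-, K, _, e, -⟩, -⟩ := exc_isExcCurve k hdim hπ
  obtain ⟨hint, -, hd⟩ := H28Curve.projLine_facts K
  haveI := hint
  haveI : Nonempty (BlowUp.exceptional π (Scheme.IdealSheafData.vanishingIdeal ⟨{P}, hP⟩)).subscheme := ⟨e.hom (genericPoint _)⟩
  refine ⟨isIntegral_of_isOpenImmersion e.inv, ?_⟩
  rw [← dim_subscheme, ← IsHomeomorph.topologicalKrullDim_eq _ (Scheme.homeoOfIso e).isHomeomorph, hd]
  rfl

/-- The exceptional curve has self-intersection minus one. -/
theorem pr_exc_self (hdim : topologicalKrullDim X = 2) (hdim' : topologicalKrullDim X' = 2)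
    (hπ : BlowUp.IsBlowUp π (Scheme.IdealSheafData.vanishingIdeal ⟨{P}, hP⟩)) :
    pr k (ClSub.idealMod (BlowUp.exceptional π (Scheme.IdealSheafData.vanishingIdeal ⟨{P}, hP⟩))) (ClSub.idealMod (BlowUp.exceptional π (Scheme.IdealSheafData.vanishingIdeal ⟨{P}, hP⟩))) = -1 := by
  have hC := exc_isCurve k hdim hπ
  obtain ⟨⟨hEff, K, _, e, ⟨η⟩⟩, -⟩ := exc_isExcCurve k hdim hπ
  rw [Scheme.IdealSheafData.ker_subschemeι] at η
  have hI := isInvertible_ideal k (isEffCartier_curve k hdim' hC)
  obtain ⟨L, hL, ⟨ρ⟩⟩ := H11Sym.exists_inverse hI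
  rw [← degOn_inverse k hdim' hC (N := L) ⟨ρ⟩, degOn_eq_deg k hC hL]
  let C := (BlowUp.exceptional π (Scheme.IdealSheafData.vanishingIdeal ⟨{P}, hP⟩)).subscheme
  letI : C.Over (Spec (CommRingCat.of k)) := ⟨(BlowUp.exceptional π (Scheme.IdealSheafData.vanishingIdeal ⟨{P}, hP⟩)).subschemeι ≫ (X' ↘ Spec (CommRingCat.of k))⟩
  haveI : IsProper (C ↘ Spec (CommRingCat.of k)) :=
    inferInstanceAs (IsProper ((BlowUp.exceptional π (Scheme.IdealSheafData.vanishingIdeal ⟨{P}, hP⟩)).subschemeι ≫ (X' ↘ Spec (CommRingCat.of k))))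
  haveI : IsIntegral C := hC.int
  haveI := H28Int.isNoetherian k (X := C)
  let O : ℤ → (CohB1.ProjSpace 1 K).Modules := fun a => Twist.twistProjSpace 1 K a
  have hO := H10Coh.Stab.isTwistFamily_projSpace 1 K
  let M : C.Modules := (Scheme.Modules.pullback (BlowUp.exceptional π (Scheme.IdealSheafData.vanishingIdeal ⟨{P}, hP⟩)).subschemeι).obj L
  have hM : PicF.IsInvertible M := H11Ample.isInvertible_pullback _ hL
  let N : (CohB1.ProjSpace 1 K).Modules := (Scheme.Modules.pullback (e.hom ≫ (BlowUp.exceptional π (Scheme.IdealSheafData.vanishingIdeal ⟨{P}, hP⟩)).subschemeι)).obj L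
  obtain ⟨p⟩ := H11Ample.exists_iso_pullback_tensor (e.hom ≫ (BlowUp.exceptional π (Scheme.IdealSheafData.vanishingIdeal ⟨{P}, hP⟩)).subschemeι) hL hI
  obtain ⟨s⟩ := H11Ample.nonempty_pullback_structureModule_iso (e.hom ≫ (BlowUp.exceptional π (Scheme.IdealSheafData.vanishingIdeal ⟨{P}, hP⟩)).subschemeι)
  obtain ⟨z⟩ := hO.zero
  obtain ⟨a⟩ := hO.add 1 (-1)
  have hN : N ≅ O (-1) :=
    (H10Coh.Tw.rightUnitIso N).symm ≪≫
      PicGrp.tensorModIso (Iso.refl N) (z.symm ≪≫ eqToIso (congrArg O (by norm_num)) ≪≫ a.symm) ≪≫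
      (H10Coh.Tw.assoc N (O 1) (O (-1))).symm ≪≫
      PicGrp.tensorModIso (PicGrp.tensorModIso (Iso.refl N) η.symm ≪≫ p.symm ≪≫
        (Scheme.Modules.pullback _).mapIso ρ ≪≫ s) (Iso.refl _) ≪≫
      H10Coh.Tw.leftUnitIso _
  haveI : M.IsQuasicoherent := H28Mero.isQCoh_of_isInvertible hM
  haveI : (Coh.structureModule C).IsQuasicoherent := H10Coh.isQuasicoherent_unit
  have hMq : ∀ q, Subsingleton (Coh.HH C M q) := fun q =>
    H28Vert.subsingleton_HH_of_pullback_iso e M q (H10Coh.subsingleton_HH_of_iso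
      (hN.symm ≪≫ ((Scheme.Modules.pullbackComp e.hom (BlowUp.exceptional π (Scheme.IdealSheafData.vanishingIdeal ⟨{P}, hP⟩)).subschemeι).app L).symm) q
      (H10Coh.Pn.subsingleton_HH_Od (n := 1) (R := K) (d := -1) q (by omega) (by omega)))
  obtain ⟨s'⟩ := H11Ample.nonempty_pullback_structureModule_iso e.hom
  have h1 : ∀ q, 0 < q → Subsingleton (Coh.HH C (Coh.structureModule C) q) := fun q hq =>
    H28Vert.subsingleton_HH_of_pullback_iso e _ q (H10Coh.subsingleton_HH_of_iso s'.symm q
      (H10Coh.Pn.subsingleton_HH_structureModule 1 K q hq))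
  show Curv2.deg k C M 1 = -1
  rw [Curv2.deg, Nat.cast_one, one_mul, H25Euler.euler_eq_sum M 1 fun q _ => hMq q,
    H25Euler.euler_eq_sum (Coh.structureModule C) 1 fun q hq => h1 q hq, Finset.sum_range_one,
    Finset.sum_range_one, S19352.finrank_structure k C]
  haveI := hMq 0
  rw [Module.finrank_zero_of_subsingleton]
  simp

omit [IsAlgClosed k] in
/-- Intersection numbers of pullbacks along a blow-up of a point. -/
theorem pr_pullback (hdim : topologicalKrullDim X = 2) (hdim' : topologicalKrullDim X' = 2)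
    (hπk : π ≫ (X ↘ Spec (CommRingCat.of k)) = X' ↘ Spec (CommRingCat.of k))
    (hπ : BlowUp.IsBlowUp π (Scheme.IdealSheafData.vanishingIdeal ⟨{P}, hP⟩))
    {L M : X.Modules} (hL : PicF.IsInvertible L) (hM : PicF.IsInvertible M) :
    pr k ((Scheme.Modules.pullback π).obj L) ((Scheme.Modules.pullback π).obj M) = pr k L M := by
  obtain ⟨A, hA⟩ := exists_ample k hdim'
  obtain ⟨B, hB⟩ := exists_ample k hdim
  have hl : ∀ N ∈ [L, M], PicF.IsInvertible N := by simp [hL, hM]
  have h := H22Alg.IntPush.D_pullback k π hπk hA [L, M] hl hdim'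
  have h0 := H22Alg.IntPush.D_pullback k (𝟙 X) (Category.id_comp _) hB [L, M] hl hdim
  let U : X.Opens := ⟨{P}ᶜ, hP.isOpen_compl⟩
  haveI : IsIso (π ∣_ U) := H29Blow.isIso_morphismRestrict hπ U fun x hx hsupp => by
    rw [← SetLike.mem_coe, Scheme.IdealSheafData.coe_support_vanishingIdeal] at hsupp
    exact hx hsupp
  have hη : genericPoint X ∈ U := fun h => by
    have h1 : closure ({P} : Set X) = Set.univ := by
      rw [← (show genericPoint X = P from h)]; exact genericPoint_spec X
    rw [hP.closure_eq] at h1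
    have h2 : topologicalKrullDim ({P} : Set X) = 2 := by
      rw [h1, IsHomeomorph.topologicalKrullDim_eq _ (Homeomorph.Set.univ X).isHomeomorph, hdim]
    have h3 := topologicalKrullDim_zero_of_discreteTopology ({P} : Set X)
    rw [h2] at h3
    exact absurd h3 (by norm_num)
  have hgen : π (genericPoint X') = genericPoint X := by
    obtain ⟨⟨z, hz⟩, hzη⟩ := (asIso (π ∣_ U)).hom.homeomorph.surjective ⟨genericPoint X, hη⟩
    have hzη' : π z = genericPoint X := by
      have := congrArg Subtype.val hzη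
      exact (morphismRestrict_base_coe π U ⟨z, hz⟩).symm.trans this
    have h1 := ((genericPoint_specializes z).map π.continuous)
    rw [hzη'] at h1
    exact (h1.antisymm (genericPoint_specializes _)).eq
  have hd : π.residueDegree (genericPoint X') = 1 := by
    refine H22Alg.IntPullback.residueDegree_of_surjective π _ ?_
    haveI : IsIso (π.stalkMap (genericPoint X')) :=
      H28Contr.isIso_stalkMap_of_restrict π U _ (hgen.symm ▸ hη)
    exact (ConcreteCategory.bijective_of_isIso (π.stalkMap (genericPoint X'))).2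
  have hd0 : (𝟙 X : X ⟶ X).residueDegree (genericPoint X) = 1 :=
    H22Alg.IntPullback.residueDegree_of_surjective _ _
      (ConcreteCategory.bijective_of_isIso ((𝟙 X : X ⟶ X).stalkMap (genericPoint X))).2
  rw [hd, hgen, Nat.cast_one, one_mul] at h
  rw [hd0, show (𝟙 X : X ⟶ X) (genericPoint X) = genericPoint X from rfl, Nat.cast_one, one_mul, ← h] at h0
  rw [show pr k ((Scheme.Modules.pullback π).obj L) ((Scheme.Modules.pullback π).obj M) =
    H28Int.D k ([L, M].map (Scheme.Modules.pullback π).obj) (Coh.structureModule X') from rfl, ← h0]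
  exact H22Alg.IntPullback.D_congr_list k (fun N : {N : X.Modules // PicF.IsInvertible N} => (Scheme.Modules.pullbackId X).app N.1)
    (fun N => N.2) [⟨L, hL⟩, ⟨M, hM⟩] _

/-- A pullback is orthogonal to the exceptional curve. -/
theorem pr_pullback_exc (hdim : topologicalKrullDim X = 2) (hdim' : topologicalKrullDim X' = 2)
    (hπk : π ≫ (X ↘ Spec (CommRingCat.of k)) = X' ↘ Spec (CommRingCat.of k))
    (hπ : BlowUp.IsBlowUp π (Scheme.IdealSheafData.vanishingIdeal ⟨{P}, hP⟩))
    {L : X.Modules} (hL : PicF.IsInvertible L) :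
    pr k ((Scheme.Modules.pullback π).obj L) (ClSub.idealMod (BlowUp.exceptional π (Scheme.IdealSheafData.vanishingIdeal ⟨{P}, hP⟩))) = 0 := by
  have hC := exc_isCurve k hdim hπ
  have hc : ∀ z ∈ ((BlowUp.exceptional π (Scheme.IdealSheafData.vanishingIdeal ⟨{P}, hP⟩)).support : Set X'), π z = P :=
    fun z hz => map_exc hz
  generalize BlowUp.exceptional π (Scheme.IdealSheafData.vanishingIdeal ⟨{P}, hP⟩) = J at hC hc ⊢
  have hL' := H11Ample.isInvertible_pullback π hL
  have h := degOn_eq_pr k hdim' hC hL'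
  rw [degOn_eq_deg k hC hL'] at h
  haveI := hC.int
  letI : J.subscheme.Over (Spec (CommRingCat.of k)) := ⟨J.subschemeι ≫ (X' ↘ Spec (CommRingCat.of k))⟩
  haveI : IsProper (J.subscheme ↘ Spec (CommRingCat.of k)) :=
    inferInstanceAs (IsProper (J.subschemeι ≫ (X' ↘ Spec (CommRingCat.of k))))
  have h0 : H28Int.D k [(Scheme.Modules.pullback (J.subschemeι ≫ π)).obj L] (Coh.structureModule J.subscheme) = 0 :=
    H28Int.Curves.D_pullback_const k (J.subschemeι ≫ π) (x := P) (fun y => hc _
      (by rw [← Scheme.IdealSheafData.range_subschemeι]; exact ⟨y, rfl⟩)) hL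
  have h2 := H25Euler.euler_congr (k := k) ((Scheme.Modules.pullbackComp J.subschemeι π).app L)
  have h1 : Curv2.euler k J.subscheme (Coh.structureModule J.subscheme) - Curv2.euler k J.subscheme
      (CohB1.tensorMod ((Scheme.Modules.pullback (J.subschemeι ≫ π)).obj L) (Coh.structureModule J.subscheme)) = 0 := h0
  rw [H25Euler.euler_congr (H10Coh.Tw.rightUnitIso _)] at h1
  rw [Curv2.deg, Nat.cast_one, one_mul] at h
  simp only [Functor.comp_obj] at h2
  rw [pr_symm k]
  omega

end Groth.Agent.H28RR
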