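import Groth.Agent.H28RR.Blow
import Groth.Agent.H28Vert.PicVert
import Groth.Agent.H12Pic.CurveFam.ComapIdeal
import Groth.Agent.S8862
import Groth.Agent.H17.Reduced
import Groth.Agent.H28Surf.Artin
import Groth.Agent.H28Reg.Basic

/-!
# The Picard group of the blow-up of a surface in a closed point
-/

set_option autoImplicit false
set_option linter.style.haveILetI false
set_option linter.unusedSectionVars false
set_option backward.isDefEq.respectTransparency.types false

universe u

open CategoryTheory CategoryTheory.Limits AlgebraicGeometry TopologicalSpace Opposite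
open Groth.Agent.H28Surf

namespace Groth.Agent.H28RR

variable {X : Scheme.{u}} (k : Type u) [Field k] [X.Over (Spec (CommRingCat.of k))]
  [IsProper (X ↘ Spec (CommRingCat.of k))] [Smooth (X ↘ Spec (CommRingCat.of k))] [IsIntegral X]

include k in
/-- Twists by high powers of an ample module have sections. -/
theorem exists_sections_twist {H N : X.Modules} (hH : CohB1.IsAmple H) (hN : PicF.IsInvertible N) :
    ∃ m : ℕ, Nontrivial (Coh.HH X (CohB1.tensorMod N (CohB1.tensorPow H m)) 0) := by
  haveI := H28Int.isNoetherian k (X := X)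
  haveI : X.IsSeparated := ⟨by
    rw [show terminal.from X = (X ↘ Spec (CommRingCat.of k)) ≫ terminal.from _ from terminal.hom_ext _ _]
    infer_instance⟩
  obtain ⟨n, hn⟩ := H11Ample.eventually_spanning hH (H11Ample.isCoh_of_isInvertible hN)
  obtain ⟨ι, -, g, hg⟩ := hn n le_rfl
  refine ⟨n, ?_⟩
  have hMi := H11Ample.isInvertible_tensor hN (H11Ample.isInvertible_tensorPow (H11Ample.isAmple_iff.1 hH).1 n)
  generalize CohB1.tensorMod N (CohB1.tensorPow H n) = M at g hg hMi ⊢
  by_contra hno
  rw [not_nontrivial_iff_subsingleton] at hno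
  haveI : Subsingleton Γ(M, ⊤) :=
    ((H10Coh.HHEquiv M 0).toEquiv.trans (H10Coh.H0Equiv (H10Coh.sh M) ⊤).toEquiv).symm.subsingleton
  obtain ⟨V, e, hxV, he⟩ := H11Ample.exists_gen hMi (genericPoint X)
  obtain ⟨U, hU, hxU, ht⟩ := hg V e (genericPoint X) hxV
  have h0 : M.presheaf.map (homOfLE hU).op e = 0 := by
    refine (Submodule.mem_bot Γ(X, U)).1 ?_
    refine Submodule.span_le.2 ?_ ht
    rintro _ ⟨i, rfl⟩
    show M.presheaf.map (homOfLE (le_top : U ≤ ⊤)).op (g i) ∈ _
    rw [Subsingleton.elim (g i) 0, map_zero]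
    exact Submodule.zero_mem _
  haveI : Nonempty U := ⟨⟨_, hxU⟩⟩
  have h1 : (1 : Γ(X, U)) = 0 := (he.bijective hU).1 (by
    show (1 : Γ(X, U)) • M.presheaf.map (homOfLE hU).op e = (0 : Γ(X, U)) • M.presheaf.map (homOfLE hU).op e
    rw [h0, smul_zero, smul_zero])
  exact one_ne_zero h1

variable [IsAlgClosed k]
variable {X' : Scheme.{u}} [X'.Over (Spec (CommRingCat.of k))] [IsProper (X' ↘ Spec (CommRingCat.of k))]
  [Smooth (X' ↘ Spec (CommRingCat.of k))] [IsIntegral X']
variable {π : X' ⟶ X} {P : X} {hP : IsClosed ({P} : Set X)}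

/-- The class of a curve other than the exceptional one. -/
theorem exists_curve_class (hdim : topologicalKrullDim X = 2) (hdim' : topologicalKrullDim X' = 2)
    (hπk : π ≫ (X ↘ Spec (CommRingCat.of k)) = X' ↘ Spec (CommRingCat.of k))
    (hπ : BlowUp.IsBlowUp π (Scheme.IdealSheafData.vanishingIdeal ⟨{P}, hP⟩))
    {C : X'.IdealSheafData} (hC : IsCurve C)
    (hne : C ≠ BlowUp.exceptional π (Scheme.IdealSheafData.vanishingIdeal ⟨{P}, hP⟩)) :
    ∃ (D : X.IdealSheafData) (b : ℕ), IsCurve D ∧
      Nonempty ((Scheme.Modules.pullback π).obj (ClSub.idealMod D) ≅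
        ClSub.idealMod (C * BlowUp.exceptional π (Scheme.IdealSheafData.vanishingIdeal ⟨{P}, hP⟩) ^ b)) ∧
      D.comap π = C * BlowUp.exceptional π (Scheme.IdealSheafData.vanishingIdeal ⟨{P}, hP⟩) ^ b ∧
      ∀ z ∈ (C.support : Set X'), π z ∈ D.support := by
  classical
  have hE := exc_isCurve k hdim hπ
  have hsuppE : ((BlowUp.exceptional π (Scheme.IdealSheafData.vanishingIdeal ⟨{P}, hP⟩)).support : Set X') = π ⁻¹' {P} := by
    show ((((Scheme.IdealSheafData.vanishingIdeal ⟨{P}, hP⟩).comap π).support : Set X')) = _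
    rw [Scheme.IdealSheafData.support_comap]
    show π ⁻¹' ((Scheme.IdealSheafData.vanishingIdeal ⟨{P}, hP⟩).support : Set X) = _
    rw [Scheme.IdealSheafData.coe_support_vanishingIdeal]
    rfl
  generalize BlowUp.exceptional π (Scheme.IdealSheafData.vanishingIdeal ⟨{P}, hP⟩) = E at hE hne hsuppE ⊢
  haveI := hC.int
  haveI := hE.int
  haveI := H28Int.isNoetherian k (X := X)
  haveI := H28Int.isNoetherian k (X := X')
  haveI : IsProper π := by
    haveI : IsProper (π ≫ (X ↘ Spec (CommRingCat.of k))) := hπk ▸ inferInstance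
    exact IsProper.of_comp π (X ↘ Spec (CommRingCat.of k))
  let U : X.Opens := ⟨{P}ᶜ, hP.isOpen_compl⟩
  haveI : IsIso (π ∣_ U) := H29Blow.isIso_morphismRestrict hπ U fun x hx hsupp => by
    rw [← SetLike.mem_coe, Scheme.IdealSheafData.coe_support_vanishingIdeal] at hsupp
    exact hx hsupp
  have hinj : ∀ {z w : X'}, π z ∈ U → π z = π w → z = w := fun {z w} hz h => by
    have h2 : (π ∣_ U) ⟨z, hz⟩ = (π ∣_ U) ⟨w, show π w ∈ U from h ▸ hz⟩ := Subtype.ext
      ((morphismRestrict_base_coe π U ⟨z, hz⟩).trans (h.trans (morphismRestrict_base_coe π U ⟨w, _⟩).symm))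
    exact congrArg Subtype.val ((π ∣_ U).homeomorph.injective h2)
  let η : X' := C.subschemeι (genericPoint C.subscheme)
  have hηU : π η ∈ U := fun h => by
    have h1 : η ∈ (E.support : Set X') := hsuppE.ge h
    have h2 : (C.support : Set X') ⊆ E.support :=
      hC.closure_gen ▸ closure_minimal (Set.singleton_subset_iff.2 h1) E.support.2
    exact hne (eq_of_support_subset k hC hE h2)
  -- the image curve
  let φ := C.subschemeι ≫ π
  let D := φ.ker
  have hDs : (D.support : Set X) = closure {π η} := by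
    rw [show D = Scheme.IdealSheafData.vanishingIdeal (H22Alg.DevLength.cl (π η)) from by
      rw [show D = φ.ker from rfl, H17.ker_eq_vanishingIdeal φ]
      congr 1
      exact Closeds.ext (H22Alg.IntPullback.closure_range φ), Scheme.IdealSheafData.coe_support_vanishingIdeal]
    rfl
  haveI hDi : IsIntegral D.subscheme := by
    haveI : IrreducibleSpace φ.image := (irreducibleSpace_def _).2 (by
      rw [Set.top_eq_univ, ← φ.toImage.denseRange.closure_eq, ← Set.image_univ]
      exact ((IrreducibleSpace.isIrreducible_univ _).image _ φ.toImage.continuous.continuousOn).closure)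
    haveI : IsReduced φ.image := by
      show IsReduced φ.ker.subscheme
      rw [H17.ker_eq_vanishingIdeal φ]
      exact H17.isReduced_vanishingIdeal_subscheme _
    exact isIntegral_of_irreducibleSpace_of_isReduced φ.image
  have hcd : H8Props.FieldDim.cdim (π η) = 1 := by
    have h := H8Props.FieldDim.cdim_eq_add (X' ↘ Spec (CommRingCat.of k)) (X ↘ Spec (CommRingCat.of k)) π hπk η
    rw [show H8Props.FieldDim.cdim η = 1 from by
      show topologicalKrullDim (closure ({η} : Set X')) = 1
      rw [hC.closure_gen, hC.dim], H28Int.Curves.cdim_closed ?_, Nat.cast_zero, zero_add] at h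
    · exact h.symm
    refine closure_subset_iff_isClosed.1 fun v hv => ?_
    refine (π.fiberι _).isEmbedding.injective ((hinj (z := π.fiberι _ v) ?_ ?_).trans (π.fiberι_asFiber η).symm)
    · rw [show π (π.fiberι _ v) = π η from (π.range_fiberι _).subset (Set.mem_range_self v)]
      exact hηU
    · exact (π.range_fiberι _).subset (Set.mem_range_self v)
  have hD : IsCurve D := ⟨hDi, by rw [hDs]; exact hcd⟩
  have hDe := isEffCartier_curve k hdim hD
  have hgenD := genericPoint_notMem_of_isEffCartier hDe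
  have hgen : π (genericPoint X') = genericPoint X := by
    have hη : genericPoint X ∈ U := (genericPoint_specializes (π η)).mem_open U.2 hηU
    obtain ⟨⟨z, hz⟩, hzη⟩ := (asIso (π ∣_ U)).hom.homeomorph.surjective ⟨genericPoint X, hη⟩
    have hzη' : π z = genericPoint X :=
      (morphismRestrict_base_coe π U ⟨z, hz⟩).symm.trans (congrArg Subtype.val hzη)
    have h1 := ((genericPoint_specializes z).map π.continuous)
    rw [hzη'] at h1
    exact (h1.antisymm (genericPoint_specializes _)).eq
  have hcm : BlowUp.IsEffCartierIdeal (D.comap π) := S8862.result π D hDe fun ξ hξ h => by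
    rw [← hξ _ (genericPoint_specializes ξ), hgen] at h
    exact hgenD h
  obtain ⟨M, hM, hMp⟩ := exists_multiset k hdim' (D.comap π) hcm
  have hsupp : (M.prod.support : Set X') = π ⁻¹' (closure {π η}) := by
    rw [hMp, Scheme.IdealSheafData.support_comap, ← hDs]
    rfl
  have hmem : ∀ J ∈ M, J = C ∨ J = E := fun J hJ => by
    haveI := (hM J hJ).int
    let ζ := J.subschemeι (genericPoint J.subscheme)
    have hζ : π ζ ∈ closure ({π η} : Set X) :=
      hsupp.le ((mem_support_prod k).2 ⟨J, hJ, IsCurve.gen_mem k (hM J hJ)⟩)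
    by_cases hU : π ζ ∈ U
    · left
      -- both points have the same image
      have hc : H8Props.FieldDim.cdim (π ζ) = 1 := by
        have h := H8Props.FieldDim.cdim_eq_add (X' ↘ Spec (CommRingCat.of k)) (X ↘ Spec (CommRingCat.of k)) π hπk ζ
        rw [show H8Props.FieldDim.cdim ζ = 1 from by
          show topologicalKrullDim (closure ({ζ} : Set X')) = 1
          rw [(hM J hJ).closure_gen, (hM J hJ).dim], H28Int.Curves.cdim_closed ?_, Nat.cast_zero, zero_add] at h
        · exact h.symm
        refine closure_subset_iff_isClosed.1 fun v hv => ?_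
        refine (π.fiberι _).isEmbedding.injective ((hinj (z := π.fiberι _ v) ?_ ?_).trans (π.fiberι_asFiber ζ).symm)
        · rw [show π (π.fiberι _ v) = π ζ from (π.range_fiberι _).subset (Set.mem_range_self v)]
          exact hU
        · exact (π.range_fiberι _).subset (Set.mem_range_self v)
      have he : π ζ = π η := by
        by_contra hne'
        have hlt := H28Int.dim_lt_of_notMem (S := closure ({π ζ} : Set X)) (ξ := π η) (by rfl) (show _ ≤ ((1 : ℕ) : WithBot ℕ∞) from hcd.le)
          isClosed_closure (closure_minimal (Set.singleton_subset_iff.2 hζ) isClosed_closure) fun h =>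
            hne' (((specializes_iff_mem_closure.2 hζ).antisymm (specializes_iff_mem_closure.2 h)).eq.symm)
        exact absurd hc hlt.ne
      have hζη : ζ = η := hinj hU he
      exact eq_of_support_subset k (hM J hJ) hC (by
        rw [← (hM J hJ).closure_gen, ← hC.closure_gen]
        exact (congrArg (fun z => closure ({z} : Set X')) hζη).le)
    · right
      have h1 : ζ ∈ (E.support : Set X') := hsuppE.ge (not_not.1 hU)
      exact eq_of_support_subset k (hM J hJ) hE
        ((hM J hJ).closure_gen ▸ closure_minimal (Set.singleton_subset_iff.2 h1) E.support.2)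
  have hMeq : M = Multiset.replicate (M.count C) C + Multiset.replicate (M.count E) E := by
    refine Multiset.ext' fun J => ?_
    rw [Multiset.count_add, Multiset.count_replicate, Multiset.count_replicate]
    simp only [eq_comm (b := J)]
    by_cases hJC : J = C
    · subst hJC; rw [if_pos rfl, if_neg hne, add_zero]
    by_cases hJE : J = E
    · subst hJE; rw [if_neg hJC, if_pos rfl, zero_add]
    rw [if_neg hJC, if_neg hJE, Multiset.count_eq_zero.2 fun h => (hmem J h).elim hJC hJE]
  obtain ⟨φD⟩ := H12Pic.CurveFam.nonempty_pullback_idealMod_comap π hDe hcm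
  -- the multiplicity is one, by comparing degrees
  have hone : M.count C = 1 := by
    obtain ⟨H, hH⟩ := exists_ample k hdim
    have hHi := (H11Ample.isAmple_iff.1 hH).1
    have hH' := H11Ample.isInvertible_pullback π hHi
    have hDi' := isInvertible_ideal k hDe
    have h1 := pr_pullback k hdim hdim' hπk hπ hDi' hHi
    rw [pr_congr_left k hH' φD, ← hMp] at h1
    rw [H28Reg.pr_prod_left k (fun x => H19Grp.isRegularLocalRing_stalk_of_smooth (X' ↘ Spec (CommRingCat.of k)) x)
      hdim' M hM hH', hMeq, Multiset.map_add, Multiset.sum_add, Multiset.map_replicate, Multiset.map_replicate,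
      Multiset.sum_replicate, Multiset.sum_replicate, nsmul_eq_mul, nsmul_eq_mul] at h1
    have hEH : pr k (ClSub.idealMod E) ((Scheme.Modules.pullback π).obj H) = 0 := by
      have hdeg := degOn_eq_pr k hdim' hE hH'
      rw [degOn_eq_deg k hE hH'] at hdeg
      letI : E.subscheme.Over (Spec (CommRingCat.of k)) := ⟨E.subschemeι ≫ (X' ↘ Spec (CommRingCat.of k))⟩
      haveI : IsProper (E.subscheme ↘ Spec (CommRingCat.of k)) :=
        inferInstanceAs (IsProper (E.subschemeι ≫ (X' ↘ Spec (CommRingCat.of k))))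
      have h0 : H28Int.D k [(Scheme.Modules.pullback (E.subschemeι ≫ π)).obj H] (Coh.structureModule E.subscheme) = 0 :=
        H28Int.Curves.D_pullback_const k (E.subschemeι ≫ π) (x := P) (fun y =>
          hsuppE.le (by rw [← Scheme.IdealSheafData.range_subschemeι]; exact ⟨y, rfl⟩)) hHi
      have h2 := H25Euler.euler_congr (k := k) ((Scheme.Modules.pullbackComp E.subschemeι π).app H)
      have h3 : Curv2.euler k E.subscheme (Coh.structureModule E.subscheme) - Curv2.euler k E.subscheme
          (CohB1.tensorMod ((Scheme.Modules.pullback (E.subschemeι ≫ π)).obj H) (Coh.structureModule E.subscheme)) = 0 := h0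
      rw [H25Euler.euler_congr (H10Coh.Tw.rightUnitIso _)] at h3
      rw [Curv2.deg, Nat.cast_one, one_mul] at hdeg
      simp only [Functor.comp_obj] at h2
      omega
    have hlH : ∀ A ∈ [H], PicF.IsInvertible A := List.forall_mem_singleton.2 hHi
    have hd1 : φ.residueDegree (genericPoint C.subscheme) = 1 := by
      rw [H22Alg.CycBasic.residueDegree_comp, H22Alg.IntPullback.residueDegree_of_surjective C.subschemeι _
        (C.subschemeι.stalkMap_surjective _), mul_one]
      haveI : IsIso (π.stalkMap (C.subschemeι (genericPoint C.subscheme))) :=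
        H28Contr.isIso_stalkMap_of_restrict π U _ hηU
      exact H22Alg.IntPullback.residueDegree_of_surjective π _
        (ConcreteCategory.bijective_of_isIso (π.stalkMap (C.subschemeι (genericPoint C.subscheme)))).2
    have h2 := H22Alg.IntPullback.D_pullback_subscheme k C.subschemeι π hπk [H] hlH
      ((dim_subscheme C).trans hC.dim)
    rw [hd1, Nat.cast_one, one_mul, Scheme.IdealSheafData.ker_subschemeι] at h2
    have h4 := degOn_eq_pr k hdim' hC hH'
    rw [degOn_eq] at h4
    have h5 := degOn_eq_pr k hdim hD hHi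
    rw [degOn_eq] at h5
    have h6 : H28Int.D k ([H].map (Scheme.Modules.pullback π).obj) (ClSub.quotMod C) =
        H28Int.D k [(Scheme.Modules.pullback π).obj H] (ClSub.quotMod C) := rfl
    have hCH : pr k (ClSub.idealMod C) ((Scheme.Modules.pullback π).obj H) = pr k (ClSub.idealMod D) H := by
      change _ = H28Int.D k [H] (ClSub.quotMod D) at h2
      omega
    rw [hCH, hEH, mul_zero, add_zero] at h1
    have hpos := ample_deg_pos k hdim hH hD
    rw [degOn_eq_pr k hdim hD hHi] at hpos
    have h7 : (((M.count C : ℕ) : ℤ) - 1) * pr k (ClSub.idealMod D) H = 0 := by rw [sub_mul, one_mul, h1, sub_self]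
    rcases mul_eq_zero.1 h7 with h | h <;> omega
  have hprod : D.comap π = C * E ^ M.count E := by
    rw [← hMp]
    conv_lhs => rw [hMeq, hone, Multiset.prod_add, Multiset.replicate_one, Multiset.prod_singleton, Multiset.prod_replicate]
  refine ⟨D, M.count E, hD, ⟨φD ≪≫ eqToIso (congrArg ClSub.idealMod hprod)⟩, hprod, fun z hz => hDs.ge ?_⟩
  exact map_mem_closure π.continuous (hC.closure_gen.ge hz) fun w hw => congrArg π hw

/-- Every class is a pullback plus a multiple of the exceptional one. -/
theorem pic_decomp [PicGrp.Law X] [PicGrp.Law X'] (hdim : topologicalKrullDim X = 2)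
    (hdim' : topologicalKrullDim X' = 2)
    (hπk : π ≫ (X ↘ Spec (CommRingCat.of k)) = X' ↘ Spec (CommRingCat.of k))
    (hπ : BlowUp.IsBlowUp π (Scheme.IdealSheafData.vanishingIdeal ⟨{P}, hP⟩))
    (hI : PicF.IsInvertible (ClSub.idealMod (BlowUp.exceptional π (Scheme.IdealSheafData.vanishingIdeal ⟨{P}, hP⟩))))
    (hm : PicGrp.PullMul π) (c : PicLoc.PicSet X') :
    ∃ (d : PicLoc.PicSet X) (n : ℤ), c = PicGrp.pullHom π hm d *
      PicGrp.cls (ClSub.idealMod (BlowUp.exceptional π (Scheme.IdealSheafData.vanishingIdeal ⟨{P}, hP⟩))) hI ^ n := by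
  have hcc := fun (C : X'.IdealSheafData) (hC : IsCurve C) => exists_curve_class k hdim hdim' hπk hπ (C := C) hC
  generalize BlowUp.exceptional π (Scheme.IdealSheafData.vanishingIdeal ⟨{P}, hP⟩) = E at hI hcc ⊢
  let G : Subgroup (PicLoc.PicSet X') :=
    (PicGrp.pullHom π hm).range ⊔ Subgroup.zpowers (PicGrp.cls (ClSub.idealMod E) hI)
  suffices hG : c ∈ G by
    obtain ⟨a, ⟨d, rfl⟩, b, ⟨n, rfl⟩, h⟩ := Subgroup.mem_sup.1 hG
    exact ⟨d, n, h.symm⟩
  have hEe : FGA.IsEffCartier E := (S8914.result E).1 hI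
  have hpow : ∀ b : ℕ, FGA.IsEffCartier (E ^ b) ∧
      ∀ h : PicF.IsInvertible (ClSub.idealMod (E ^ b)), PicGrp.cls _ h ∈ G := fun b => by
    induction b with
    | zero =>
      refine ⟨by rw [pow_zero]; exact H29Blow.isEffCartierIdeal_top, fun h => ?_⟩
      obtain ⟨e⟩ := H28Reg.nonempty_idealMod_top (X := X')
      rw [(PicGrp.cls_eq_one_iff h).2 ⟨eqToIso (by rw [pow_zero]; rfl) ≪≫ e⟩]
      exact one_mem G
    | succ b ih =>
      refine ⟨by rw [pow_succ]; exact H28Vert.isEffCartierIdeal_mul ih.1 hEe, fun h => ?_⟩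
      obtain ⟨e⟩ := H28Vert.nonempty_idealMod_mul ih.1 hEe
      have he : PicGrp.cls _ h = PicGrp.cls _ (isInvertible_ideal k ih.1) * PicGrp.cls _ hI := by
        refine Subtype.ext ?_
        rw [PicGrp.cls_mul_cls_val, PicGrp.cls_val, PicGrp.cl_eq_cl_iff]
        exact ⟨eqToIso (by rw [pow_succ]) ≪≫ e.symm⟩
      rw [he]
      exact mul_mem (ih.2 _) (Subgroup.mem_sup_right (Subgroup.mem_zpowers _))
  have hcurve : ∀ C : X'.IdealSheafData, IsCurve C → ∀ h : PicF.IsInvertible (ClSub.idealMod C),
      PicGrp.cls _ h ∈ G := fun C hC h => by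
    by_cases hCE : C = E
    · subst hCE
      exact Subgroup.mem_sup_right (Subgroup.mem_zpowers _)
    obtain ⟨D, b, hD, ⟨φ⟩, -, -⟩ := hcc C hC hCE
    have hb := isInvertible_ideal k (hpow b).1
    obtain ⟨e⟩ := H28Vert.nonempty_idealMod_mul ((S8914.result C).1 h) (hpow b).1
    have hDi := isInvertible_ideal k (isEffCartier_curve k hdim hD)
    have he : PicGrp.cls _ h * PicGrp.cls _ hb = PicGrp.pullHom π hm (PicGrp.cls _ hDi) := by
      refine Subtype.ext ?_
      rw [PicGrp.cls_mul_cls_val, PicGrp.pullHom_apply_val]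
      exact Quot.sound ⟨e ≪≫ φ.symm⟩
    rw [eq_mul_inv_of_mul_eq he]
    exact mul_mem (Subgroup.mem_sup_left ⟨_, rfl⟩) (inv_mem ((hpow b).2 hb))
  have heff : ∀ Z : X'.IdealSheafData, FGA.IsEffCartier Z → ∀ h : PicF.IsInvertible (ClSub.idealMod Z),
      PicGrp.cls _ h ∈ G := fun Z hZ => by
    obtain ⟨M, hM, rfl⟩ := exists_multiset k hdim' Z hZ
    clear hZ
    induction M using Multiset.induction with
    | empty =>
      intro h
      obtain ⟨e⟩ := H28Reg.nonempty_idealMod_top (X := X')
      rw [(PicGrp.cls_eq_one_iff h).2 ⟨eqToIso (by rw [Multiset.prod_zero]; rfl) ≪≫ e⟩]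
      exact one_mem G
    | cons C M ih =>
      intro h
      have hM' : ∀ D ∈ M, IsCurve D := fun D hD => hM D (Multiset.mem_cons_of_mem hD)
      have hCu := hM C (Multiset.mem_cons_self C M)
      have hCe := isEffCartier_curve k hdim' hCu
      have hMe := H28Surf.isEffCartier_prod k hdim' M hM'
      obtain ⟨e⟩ := H28Vert.nonempty_idealMod_mul hCe hMe
      have he : PicGrp.cls _ h = PicGrp.cls _ (isInvertible_ideal k hCe) * PicGrp.cls _ (isInvertible_ideal k hMe) := by
        refine Subtype.ext ?_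
        rw [PicGrp.cls_mul_cls_val, PicGrp.cls_val, PicGrp.cl_eq_cl_iff]
        exact ⟨eqToIso (by rw [Multiset.prod_cons]) ≪≫ e.symm⟩
      rw [he]
      exact mul_mem (hcurve C hCu _) (ih hM' _)
  have hsec : ∀ (N : X'.Modules) (hN : PicF.IsInvertible N), Nontrivial (Coh.HH X' N 0) → PicGrp.cls N hN ∈ G :=
    fun N hN hs => by
    obtain ⟨Z, hZ, he⟩ := exists_divisor k hN hs
    have hZi := isInvertible_ideal k hZ
    rw [eq_inv_of_mul_eq_one_left ((PicGrp.cls_mul_cls_eq_one_iff hN hZi).2 he)]
    exact inv_mem (heff Z hZ _)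
  obtain ⟨N, hN, rfl⟩ := PicGrp.exists_eq_cls c
  obtain ⟨H₀, hH₀⟩ := exists_ample k hdim'
  obtain ⟨m₀, hm₀⟩ := Embed.eventually_closedImmersion (X' ↘ Spec (CommRingCat.of k)) hH₀
  obtain ⟨j, r, hr, hrq, ⟨τ⟩⟩ := hm₀ (m₀ + 1) (Nat.le_succ _)
  haveI := hr
  obtain ⟨C, hC, -, ⟨e⟩⟩ := exists_hyperplane_curve k hdim' r hrq
  have hH₀i := (H11Ample.isAmple_iff.1 hH₀).1
  have hH := (H11Ample.isAmple_tensorPow_iff hH₀i (m₀ + 1) m₀.succ_pos).1 hH₀
  have hHi := H11Ample.isInvertible_tensorPow hH₀i (m₀ + 1)
  have hCi := isInvertible_ideal k (isEffCartier_curve k hdim' hC)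
  have hHG : PicGrp.cls _ hHi ∈ G := by
    rw [← PicGrp.cls_inv_eq_cls hCi hHi ⟨PicGrp.tensorModIso (Iso.refl _) τ.symm ≪≫ e⟩]
    exact inv_mem (hcurve C hC _)
  obtain ⟨m, hm1⟩ := exists_sections_twist k hH hN
  have hHm := H11Ample.isInvertible_tensorPow hHi m
  have hA := hsec _ (H11Ample.isInvertible_tensor hN hHm) hm1
  have hpowG : PicGrp.cls _ hHm ∈ G := by
    rw [show PicGrp.cls _ hHm = PicGrp.cls _ hHi ^ m from Subtype.ext (PicGrp.cls_pow_val hHi m).symm]
    exact pow_mem hHG m
  have he : PicGrp.cls N hN * PicGrp.cls _ hHm = PicGrp.cls _ (H11Ample.isInvertible_tensor hN hHm) :=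
    Subtype.ext (PicGrp.cls_mul_cls_val hN _)
  rw [eq_mul_inv_of_mul_eq he]
  exact mul_mem hA (inv_mem hpowG)

end Groth.Agent.H28RR
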