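import Groth.Agent.H28RR.Duality
import Groth.Agent.H29CurveDual.Canonical

/-!
# Riemann–Roch on a Cohen–Macaulay surface with an invertible dualizing module
-/

set_option autoImplicit false
set_option linter.style.haveILetI false
set_option linter.unusedSectionVars false
set_option backward.isDefEq.respectTransparency.types false

universe u

open CategoryTheory CategoryTheory.Limits AlgebraicGeometry TopologicalSpace Opposite
open Groth.Agent.H28Surf

namespace Groth.Agent.H28RR.CMSurf

variable {X : Scheme.{u}} (k : Type u) [Field k] [X.Over (Spec (CommRingCat.of k))]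
  [IsProper (X ↘ Spec (CommRingCat.of k))] [IsIntegral X]

include k

theorem one_lt_depth (hdim : topologicalKrullDim X = 2)
    (hCM : ∀ x : X, LocCoh.IsCohenMacaulayLocalRing (X.presheaf.stalk x))
    {M : X.Modules} (hM : PicF.IsInvertible M) (x : X)
    (hx : IsClosed ({x} : Set X)) : (1 : ℕ∞) < LocCoh.depth (X.presheaf.stalk x) (M.presheaf.stalk x) := by
  let f := X ↘ Spec (CommRingCat.of k)
  haveI := H28Int.isNoetherian k (X := X)
  haveI := hCM x
  have hd : ringKrullDim (X.presheaf.stalk x) = 2 := by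
    have h := H8Props.FieldDim.localDim_eq_stalk_add_cdim (k := k) f x
    rw [H8Props.FieldDim.localDim_eq_dim_of_irreducible (k := k) f x, hdim,
      H28Int.Curves.cdim_closed hx, Nat.cast_zero, add_zero] at h
    exact h.symm
  haveI := H29Ref.finite_stalk _ (H11Ample.isCoh_of_isInvertible hM).2 x
  obtain ⟨p, ⟨b⟩⟩ := H22Alg.KExists.stalk_free
    (H22Alg.KModel.finLocFree_of_rank (H29RR.rank_one_of_isInvertible hM)) x
  refine lt_of_lt_of_le (b := LocCoh.depth (X.presheaf.stalk x) (X.presheaf.stalk x)) ?_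
    ((H4Depth.idealDepth_le_idealDepth_pi _ p).trans (H4Depth.idealDepth_congr _ b.equivFun.symm).le)
  have h := LocCoh.IsCohenMacaulayLocalRing.supportDim_eq_depth (R := X.presheaf.stalk x)
  rw [Module.supportDim_self_eq_ringKrullDim, hd] at h
  rw [← WithBot.coe_inj.1 (h : ((2 : ℕ∞) : WithBot ℕ∞) = _)]
  norm_num

theorem subsingleton_top (hdim : topologicalKrullDim X = 2) {M : X.Modules} (hM : Coh.IsCoh M) (p : ℕ)
    (hp : 3 ≤ p) : Subsingleton (Coh.HH X M p) := by
  haveI := H28Int.isNoetherian k (X := X)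
  haveI : X.IsSeparated := ⟨by
    rw [show terminal.from X = (X ↘ Spec (CommRingCat.of k)) ≫ terminal.from _ from terminal.hom_ext _ _]
    infer_instance⟩
  haveI := H28Int.subsingleton_HnM_of_support (⊤ : Closeds X) 2
    (Topology.IsInducing.subtypeVal.topologicalKrullDim_le.trans hdim.le) M hM.1 (fun _ _ => trivial) p (by omega)
  exact (H10Coh.HHEquiv M p).toEquiv.subsingleton

variable {ω : X.Modules}

/-- The invariant of the canonical involution. -/
noncomputable def asym (ω L N : X.Modules) : ℤ :=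
  Curv2.euler k X L - Curv2.euler k X (CohB1.tensorMod ω N)

/-- `χ(L ⊗ H^{-m}) = χ(ω ⊗ L^{-1} ⊗ H^m)` for large `m`. -/
theorem eventually_asym (hdim : topologicalKrullDim X = 2)
    (hCM : ∀ x : X, LocCoh.IsCohenMacaulayLocalRing (X.presheaf.stalk x))
    (hωinv : PicF.IsInvertible ω) (t : Coh.HH X ω 2 →ₗ[k] k)
    (hdual : ∀ F : X.Modules, Coh.IsCoh F → H29Serre.RepDual t F)
    {H H' : X.Modules} (hH : CohB1.IsAmple H) (eH : CohB1.tensorMod H H' ≅ Coh.structureModule X)
    {L N : X.Modules} (hL : PicF.IsInvertible L) (hN : PicF.IsInvertible N)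
    (eLN : CohB1.tensorMod L N ≅ Coh.structureModule X) :
    ∃ m₀ : ℕ, ∀ m : ℕ, m₀ ≤ m →
      asym k ω (CohB1.tensorMod L (CohB1.tensorPow H' m)) (CohB1.tensorMod N (CohB1.tensorPow H m)) = 0 := by
  haveI := H28Int.isNoetherian k (X := X)
  let f := X ↘ Spec (CommRingCat.of k)
  have hHi := (H11Ample.isAmple_iff.1 hH).1
  have hH' : PicF.IsInvertible H' :=
    H17.InvertibleTensor.isInvertible_of_tensor_iso H' H (H10Coh.Tw.commIso _ _ ≪≫ eH)
  obtain ⟨a, ha⟩ := H22Alg.ESZ.exists_bound_ample k hH ⟨eH⟩ (H11Ample.isCoh_of_isInvertible hL) 1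
    fun x hx => one_lt_depth k hdim hCM hL x hx
  obtain ⟨b, hb⟩ := H10Coh.Tw.exists_vanishing_ample f hH (CohB1.tensorMod ω N)
    (H11Ample.isCoh_of_isInvertible (H11Ample.isInvertible_tensor hωinv hN))
  refine ⟨a + b, fun m hm => ?_⟩
  let F := CohB1.tensorMod L (CohB1.tensorPow H' m)
  let G := CohB1.tensorMod N (CohB1.tensorPow H m)
  have hF : PicF.IsInvertible F := H11Ample.isInvertible_tensor hL (H11Ample.isInvertible_tensorPow hH' m)
  have hG : PicF.IsInvertible G := H11Ample.isInvertible_tensor hN (H11Ample.isInvertible_tensorPow hHi m)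
  have hωG : PicF.IsInvertible (CohB1.tensorMod ω G) := H11Ample.isInvertible_tensor hωinv hG
  obtain ⟨P⟩ := H10Coh.Tw.nonempty_tensorPow_inverse eH hHi hH' m
  let eFG : CohB1.tensorMod F G ≅ Coh.structureModule X :=
    H10Coh.Tw.assoc L _ _ ≪≫ PicGrp.tensorModIso (Iso.refl L) ((H10Coh.Tw.assoc _ N _).symm ≪≫
      PicGrp.tensorModIso (H10Coh.Tw.commIso _ N) (Iso.refl _) ≪≫ H10Coh.Tw.assoc N _ _ ≪≫
      PicGrp.tensorModIso (Iso.refl N) (H10Coh.Tw.commIso _ _ ≪≫ P) ≪≫ H10Coh.Tw.rightUnitIso N) ≪≫ eLN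
  have hGv : ∀ p, 0 < p → Subsingleton (Coh.HH X (CohB1.tensorMod ω G) p) := fun p hp => by
    haveI : Subsingleton (Coh.HH X (CohB1.tensorMod (CohB1.tensorMod ω N) (CohB1.tensorPow H m)) p) :=
      (H10Coh.HHEquiv _ p).toEquiv.subsingleton_congr.2 (hb m (by omega) p hp)
    exact (H29RR.hhIso (k := k) (H10Coh.Tw.assoc ω N _) p).symm.toEquiv.subsingleton
  have hFv : ∀ p, p ≤ 1 → Subsingleton (Coh.HH X F p) := fun p hp => ha m (by omega) p hp
  have hfin := fun (M : X.Modules) (hM : PicF.IsInvertible M) (n : ℕ) =>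
    H10Coh.finite_HH_proper k X M (H11Ample.isCoh_of_isInvertible hM) n
  haveI := hfin F hF 2
  have h2 : Module.finrank k (Coh.HH X F 2) = Module.finrank k (Coh.HH X (CohB1.tensorMod ω G) 0) := by
    letI := fun M N : X.Modules => H29CurveDual.homModule (k := k) (F := M) (G := N)
    rw [← H29CurveDual.finrank_hom_invertible (k := k) hG eFG ω,
      H29CurveDual.finrank_hom_dual t (hdual F (H11Ample.isCoh_of_isInvertible hF)),
      Subspace.dual_finrank_eq]
  have hz : ∀ (M : X.Modules) (p : ℕ), Subsingleton (Coh.HH X M p) → Module.finrank k (Coh.HH X M p) = 0 :=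
    fun M p h => by haveI := h; exact Module.finrank_zero_of_subsingleton
  show Curv2.euler k X F - Curv2.euler k X (CohB1.tensorMod ω G) = 0
  rw [H25Euler.euler_eq_sum F 3 fun p hp => subsingleton_top k hdim (H11Ample.isCoh_of_isInvertible hF) p hp,
    H25Euler.euler_eq_sum (CohB1.tensorMod ω G) 3
      fun p hp => subsingleton_top k hdim (H11Ample.isCoh_of_isInvertible hωG) p hp]
  simp only [Finset.sum_range_succ, Finset.sum_range_zero, hz _ _ (hFv 0 zero_le_one), hz _ _ (hFv 1 le_rfl),
    hz _ _ (hGv 1 one_pos), hz _ _ (hGv 2 two_pos), h2]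
  simp

/-- The asymmetry is additive in a twist. -/
theorem asym_tensor (hdim : topologicalKrullDim X = 2) (hωinv : PicF.IsInvertible ω)
    {L N A A' : X.Modules} (hL : PicF.IsInvertible L) (hN : PicF.IsInvertible N)
    (hA : PicF.IsInvertible A) (hA' : PicF.IsInvertible A')
    (eLN : CohB1.tensorMod L N ≅ Coh.structureModule X) (eA : CohB1.tensorMod A A' ≅ Coh.structureModule X) :
    asym k ω (CohB1.tensorMod L A) (CohB1.tensorMod N A') =
      asym k ω L N + (Curv2.euler k X A - Curv2.euler k X A' + pr k ω A) := by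
  haveI := H28Int.isNoetherian k (X := X)
  have h1 := H28Surf.pr_inv_left k hdim hL hN hA eLN
  have h2 : ∀ B : X.Modules, PicF.IsInvertible B → pr k A' B = - pr k A B := fun B hB => by
    rw [H28Surf.pr_inv_left k hdim hA hA' hB eA]
  unfold asym
  rw [H25Euler.euler_congr (H10Coh.Tw.assoc ω N A').symm, H28RR.euler_tensor k L A,
    H28RR.euler_tensor k (CohB1.tensorMod ω N) A', pr_tensor_left k hdim hωinv hN hA',
    pr_symm k ω A', h2 ω hωinv, pr_symm k N A', h2 N hN, pr_symm k A N, h1, pr_symm k A ω]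
  ring

/-- Riemann–Roch on a Cohen–Macaulay surface. -/
theorem riemann_roch (hdim : topologicalKrullDim X = 2)
    (hCM : ∀ x : X, LocCoh.IsCohenMacaulayLocalRing (X.presheaf.stalk x))
    (hωinv : PicF.IsInvertible ω) (t : Coh.HH X ω 2 →ₗ[k] k)
    (hdual : ∀ F : X.Modules, Coh.IsCoh F → H29Serre.RepDual t F)
    {H : X.Modules} (hH : CohB1.IsAmple H) {L : X.Modules} (hL : PicF.IsInvertible L) :
    2 * Curv2.euler k X L = pr k L L - pr k L ω + 2 * Curv2.euler k X (Coh.structureModule X) := by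
  haveI := H28Int.isNoetherian k (X := X)
  have hHi := (H11Ample.isAmple_iff.1 hH).1
  obtain ⟨H', hH', ⟨eH₀⟩⟩ := H11Sym.exists_inverse hHi
  have eH : CohB1.tensorMod H H' ≅ Coh.structureModule X := H10Coh.Tw.commIso H H' ≪≫ eH₀
  let c : ℤ := Curv2.euler k X H' - Curv2.euler k X H + pr k ω H'
  have key : ∀ M N : X.Modules, PicF.IsInvertible M → PicF.IsInvertible N →
      Nonempty (CohB1.tensorMod M N ≅ Coh.structureModule X) → asym k ω M N = 0 := by
    intro M N hM hN ⟨e⟩
    obtain ⟨m₀, hm₀⟩ := eventually_asym k hdim hCM hωinv t hdual hH eH hM hN e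
    have hstep : ∀ j : ℕ, asym k ω (CohB1.tensorMod M (CohB1.tensorPow H' j))
        (CohB1.tensorMod N (CohB1.tensorPow H j)) = asym k ω M N + j * c := by
      intro j
      induction j with
      | zero =>
        simp only [CharP.cast_eq_zero, zero_mul, add_zero]
        unfold asym
        show Curv2.euler k X (CohB1.tensorMod M (Coh.structureModule X)) -
          Curv2.euler k X (CohB1.tensorMod ω (CohB1.tensorMod N (Coh.structureModule X))) = _
        rw [H25Euler.euler_congr (H10Coh.Tw.rightUnitIso M),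
          H25Euler.euler_congr (PicGrp.tensorModIso (Iso.refl ω) (H10Coh.Tw.rightUnitIso N))]
      | succ j ih =>
        have hMj := H11Ample.isInvertible_tensor hM (H11Ample.isInvertible_tensorPow hH' j)
        have hNj := H11Ample.isInvertible_tensor hN (H11Ample.isInvertible_tensorPow hHi j)
        obtain ⟨P⟩ := H10Coh.Tw.nonempty_tensorPow_inverse eH hHi hH' j
        have ej : CohB1.tensorMod (CohB1.tensorMod M (CohB1.tensorPow H' j))
            (CohB1.tensorMod N (CohB1.tensorPow H j)) ≅ Coh.structureModule X :=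
          H10Coh.Tw.assoc M _ _ ≪≫ PicGrp.tensorModIso (Iso.refl M) ((H10Coh.Tw.assoc _ N _).symm ≪≫
            PicGrp.tensorModIso (H10Coh.Tw.commIso _ N) (Iso.refl _) ≪≫ H10Coh.Tw.assoc N _ _ ≪≫
            PicGrp.tensorModIso (Iso.refl N) (H10Coh.Tw.commIso _ _ ≪≫ P) ≪≫ H10Coh.Tw.rightUnitIso N) ≪≫ e
        have h := asym_tensor k hdim hωinv hMj hNj hH' hHi ej (H10Coh.Tw.commIso H' H ≪≫ eH)
        unfold asym at h ih ⊢
        rw [H25Euler.euler_congr (H10Coh.Tw.assoc M _ H'),
          H25Euler.euler_congr (PicGrp.tensorModIso (Iso.refl ω) (H10Coh.Tw.assoc N _ H))] at h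
        show Curv2.euler k X (CohB1.tensorMod M (CohB1.tensorMod (CohB1.tensorPow H' j) H')) -
          Curv2.euler k X (CohB1.tensorMod ω (CohB1.tensorMod N (CohB1.tensorMod (CohB1.tensorPow H j) H))) = _
        rw [h, ih]
        push_cast
        ring
    have h0 := hm₀ m₀ le_rfl
    have h1 := hm₀ (m₀ + 1) (Nat.le_succ _)
    rw [hstep] at h0 h1
    push_cast at h1
    have hc : c = 0 := by linarith
    rw [hc, mul_zero, add_zero] at h0
    exact h0
  obtain ⟨N, hN, ⟨e₀⟩⟩ := H11Sym.exists_inverse hL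
  have e : CohB1.tensorMod L N ≅ Coh.structureModule X := H10Coh.Tw.commIso L N ≪≫ e₀
  have hL0 : asym k ω L N = 0 := key L N hL hN ⟨e⟩
  have hO : asym k ω (Coh.structureModule X) (Coh.structureModule X) = 0 :=
    key _ _ H11Ample.isInvertible_structureModule H11Ample.isInvertible_structureModule
      ⟨H10Coh.Tw.rightUnitIso _⟩
  unfold asym at hL0 hO
  rw [H25Euler.euler_congr (H10Coh.Tw.rightUnitIso ω)] at hO
  rw [H28RR.euler_tensor k ω N, pr_symm k ω N, H28Surf.pr_inv_left k hdim hL hN hωinv e] at hL0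
  have hLN := H28RR.euler_tensor k L N
  rw [H25Euler.euler_congr e, pr_symm k L N, H28Surf.pr_inv_left k hdim hL hN hL e] at hLN
  omega

end Groth.Agent.H28RR.CMSurf
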