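import Groth.Agent.H28RR.ModelContract
import Groth.Agent.H12Pic.CurveFam.ComapIdeal
import Groth.Agent.H14Deg.Birational
import Groth.Agent.H06FlatSub.Basic
import Groth.Agent.H28Vert.Symm
import Groth.Agent.H28RR.ContractArtin
import Groth.Agent.S7307
import Groth.Agent.S7308

/-! # The closed fibre after contracting an exceptional curve -/

set_option autoImplicit false
set_option linter.style.haveILetI false
set_option linter.unusedSectionVars false
set_option backward.isDefEq.respectTransparency.types false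
set_option maxHeartbeats 1600000

universe u

open CategoryTheory CategoryTheory.Limits AlgebraicGeometry TopologicalSpace

noncomputable section

namespace Groth.Agent.H28RR.ModelImage

open ModelContract

variable {R : Type u} [CommRing R] [IsDomain R] [IsDiscreteValuationRing R]

/-- Any contraction of an exceptional vertical curve of an arithmetic surface is one of arithmetic surfaces. -/
theorem contraction_facts {Y : Over (Spec (CommRingCat.of R))} (hY : ArSurf.IsArithSurface R Y)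
    (Γ : ArSurf.VertComp R Y) (hexc : Models.IsExcCurve Γ.ι) {Z : Over (Spec (CommRingCat.of R))} (b : Y ⟶ Z)
    (hb : Models.IsContractionOf Γ.ι b.left) :
    ∃ (z : Z.left) (hz : IsClosed ({z} : Set Z.left)), ArSurf.IsArithSurface R Z ∧
      b.left.base ⁻¹' {z} = Set.range Γ.ι.base ∧
      IsIso (b.left ∣_ (⟨{z}ᶜ, hz.isOpen_compl⟩ : Z.left.Opens)) := by
  haveI : IsProper Y.hom := H28Vert.isProper_of_isArithSurface hY
  haveI : IsLocallyNoetherian Y.left := LocallyOfFiniteType.isLocallyNoetherian Y.hom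
  haveI : CompactSpace Y.left := QuasiCompact.compactSpace_of_compactSpace Y.hom
  haveI : IsNoetherian Y.left := ⟨⟩
  obtain ⟨Z₀, b₀, z₀, hz₀, hZ₀, hb₀, hpre₀, hiso₀⟩ := exists_contraction hY Γ hexc
  obtain ⟨e, he, -⟩ := S7308.result Γ.ι hexc b₀.left hb₀ b.left hb
  obtain ⟨hreg, hint, hdim, hflat, n, i, hi, hiZ⟩ := hZ₀
  haveI := hint
  haveI := hflat
  haveI := hi
  obtain ⟨c, -, hc, -, -⟩ := ModelProj.exists_closed_ne Γ
  have hrange : Set.range ((Γ.ι ≫ Y.hom).base : Γ.curve.left → Spec (CommRingCat.of R)) =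
      {IsLocalRing.closedPoint R} := by
    have hall : ∀ w, (Γ.ι ≫ Y.hom).base w = IsLocalRing.closedPoint R := fun w => by
      rw [Γ.w]
      exact IsLocalRing.PrimeSpectrum.comap_residue R _
    ext t
    exact ⟨fun ⟨w, hw⟩ => hw.symm.trans (hall w), fun ht => ⟨genericPoint _, (hall _).trans ht.symm⟩⟩
  obtain ⟨ψ, -, huni⟩ := S7307.result Γ.ι hexc b₀.left hb₀ Y.hom _ hrange
  have he' : e.hom ≫ Z.hom = Z₀.hom :=
    (huni _ (show b₀.left ≫ e.hom ≫ Z.hom = Y.hom by rw [← Category.assoc, he]; exact Over.w b)).trans (huni _ (Over.w b₀)).symm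
  have he'' : e.inv ≫ Z₀.hom = Z.hom := by rw [← he', e.inv_hom_id_assoc]
  have hint' : IsIntegral Z.left := by
    haveI : Nonempty Z.left := ⟨e.hom (genericPoint Z₀.left)⟩
    exact isIntegral_of_isOpenImmersion e.inv
  have hreg' : ∀ q : Z.left, IsRegularLocalRing (Z.left.presheaf.stalk q) := fun q => by
    haveI := hreg (e.inv q)
    exact IsRegularLocalRing.of_ringEquiv (asIso (e.inv.stalkMap q)).commRingCatIsoToRingEquiv
  have hdim' : topologicalKrullDim Z.left = 2 := by
    rw [← hdim]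
    exact (IsHomeomorph.topologicalKrullDim_eq _ e.hom.homeomorph.isHomeomorph).symm
  have hflat' : Flat Z.hom := by
    rw [← he'']
    exact MorphismProperty.comp_mem _ _ _ inferInstance hflat
  have hinj : Function.Injective e.hom.base := e.hom.homeomorph.injective
  have hz : IsClosed ({e.hom z₀} : Set Z.left) := by
    have := e.hom.homeomorph.isClosedMap _ hz₀
    rwa [Set.image_singleton] at this
  have hO : e.hom ⁻¹ᵁ (⟨{e.hom z₀}ᶜ, hz.isOpen_compl⟩ : Z.left.Opens) = ⟨{z₀}ᶜ, hz₀.isOpen_compl⟩ :=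
    TopologicalSpace.Opens.ext (Set.ext fun w => not_congr ⟨fun h => hinj h, fun h => congrArg e.hom.base h⟩)
  refine ⟨e.hom z₀, hz, ⟨hreg', hint', hdim', hflat', n, e.inv ≫ i, inferInstance,
    by rw [Category.assoc, hiZ, he'']⟩, ?_, ?_⟩
  · rw [← hpre₀, ← he]
    ext y
    exact ⟨fun h => hinj ((Scheme.Hom.comp_apply _ _ _).symm.trans h), fun h =>
      (Scheme.Hom.comp_apply _ _ _).trans (congrArg e.hom.base h)⟩
  · let O : Z.left.Opens := ⟨{e.hom z₀}ᶜ, hz.isOpen_compl⟩
    haveI h1 : IsIso (b₀.left ∣_ (e.hom ⁻¹ᵁ O)) := by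
      rw [show e.hom ⁻¹ᵁ O = ⟨{z₀}ᶜ, hz₀.isOpen_compl⟩ from hO]
      exact hiso₀
    haveI h2 : IsIso (e.hom ∣_ O) := inferInstance
    rw [← he, morphismRestrict_comp]
    exact @IsIso.comp_isIso _ _ _ _ _ _ _ h1 h2

section Fibre

variable {Y Z : Over (Spec (CommRingCat.of R))} [IsProper Y.hom] [IsProper Z.hom] [Flat Y.hom] [Flat Z.hom]
  [IsIntegral Y.left] [IsIntegral Z.left]
  (b : Y ⟶ Z) (z : Z.left) (hz : IsClosed ({z} : Set Z.left))
  [IsIso (b.left ∣_ (⟨{z}ᶜ, hz.isOpen_compl⟩ : Z.left.Opens))]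
  (Γe : ArSurf.VertComp R Y) (hpre : b.left.base ⁻¹' {z} = Set.range Γe.ι.base)
  (hdY : topologicalKrullDim Y.left = 2) (hdZ : topologicalKrullDim Z.left = 2)

include hpre in
theorem map_genPt_ne (Δ : ArSurf.VertComp R Y) (hne : Set.range Δ.ι.base ≠ Set.range Γe.ι.base) :
    b.left (Models.genPtOf R Y Δ) ≠ z := fun h => by
  have h1 : Models.genPtOf R Y Δ ∈ Set.range Γe.ι.base := hpre.le h
  refine H28Vert.genericPoint_notMem Δ Γe hne ?_
  rw [Scheme.Hom.support_ker, IsClosed.closure_eq Γe.ι.isClosedEmbedding.isClosed_range]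
  exact h1

theorem image_range (Δ : ArSurf.VertComp R Y) :
    b.left.base '' Set.range Δ.ι.base = closure {b.left (Models.genPtOf R Y Δ)} := by
  haveI : IsProper (b.left ≫ Z.hom) := by rw [Over.w b]; infer_instance
  haveI : IsProper b.left := IsProper.of_comp b.left Z.hom
  rw [LeadDev.range_eq_closure Δ.ι (ξ := Models.genPtOf R Y Δ) rfl]
  refine Set.Subset.antisymm ((image_closure_subset_closure_image b.left.continuous).trans
    (by rw [Set.image_singleton])) (closure_minimal ?_ (b.left.isClosedMap _ isClosed_closure))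
  exact Set.singleton_subset_iff.2 ⟨_, subset_closure rfl, rfl⟩

include hz hpre hdY hdZ in
theorem image_mem (Δ : ArSurf.VertComp R Y) (hne : Set.range Δ.ι.base ≠ Set.range Γe.ι.base) :
    b.left.base '' Set.range Δ.ι.base ∈ Models.fibreComponents R Z := by
  haveI : IsLocallyNoetherian Z.left := LocallyOfFiniteType.isLocallyNoetherian Z.hom
  haveI : IsLocallyNoetherian Y.left := LocallyOfFiniteType.isLocallyNoetherian Y.hom
  haveI : CompactSpace Z.left := QuasiCompact.compactSpace_of_compactSpace Z.hom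
  haveI : IsNoetherian Z.left := ⟨⟩
  obtain ⟨n, Δs, hΔs⟩ := H28Vert.exists_isComponentList' (R := R) (X := Y) hdY
  have hmax := H28Vert.mem_fibreComponents (H28Vert.dim_fibre_le_one hΔs) Δ
  obtain ⟨W, hW, hbW⟩ := H28Vert.exists_maximal_irreducible_subset (R := R) (X := Z)
    ((mem_special_iff b (Models.genPtOf R Y Δ)).2 (ModelProj.genPtOf_mem Δ))
  obtain ⟨ξ, hξne, hξW, hξY⟩ := exists_lift b z hz hdZ hW
  have h1 : b.left ξ ⤳ b.left (Models.genPtOf R Y Δ) := specializes_iff_mem_closure.2 (hξW.ge hbW)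
  have h2 : ξ ⤳ Models.genPtOf R Y Δ := specializes_of_map b z hz h1 (map_genPt_ne b z Γe hpre Δ hne)
  have hsub : Set.range Δ.ι.base ⊆ closure ({ξ} : Set Y.left) := by
    rw [LeadDev.range_eq_closure Δ.ι (ξ := Models.genPtOf R Y Δ) rfl]
    exact closure_minimal (Set.singleton_subset_iff.2 h2.mem_closure) isClosed_closure
  have h3 := hmax.2 hξY.1 hsub
  obtain ⟨w, hw⟩ := h3 (subset_closure rfl)
  have h4 : Models.genPtOf R Y Δ ⤳ ξ := hw ▸ (genericPoint_specializes w).map Δ.ι.continuous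
  rw [image_range b Δ, (h4.antisymm h2).eq, hξW]
  exact hW

include hpre hdY hdZ hz in
theorem fibreComponents_eq {n : ℕ} (Γ : Fin (n + 1) → ArSurf.VertComp R Y) (hΓ : Models.IsComponentList R Y Γ)
    (hlast : Γe = Γ (Fin.last n)) :
    Models.fibreComponents R Z =
      Set.range (fun i : Fin n => b.left.base '' Set.range ((Γ i.castSucc).ι.base : (Γ i.castSucc).curve.left → Y.left)) := by
  subst hlast
  refine Set.Subset.antisymm (fun W hW => ?_) ?_
  · obtain ⟨ξ, hξne, hξW, hξY⟩ := exists_lift b z hz hdZ hW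
    obtain ⟨j, hj⟩ := hΓ.2.ge hξY
    have hj' : closure ({ξ} : Set Y.left) = closure {Models.genPtOf R Y (Γ j)} :=
      hj.symm.trans (LeadDev.range_eq_closure (Γ j).ι (ξ := Models.genPtOf R Y (Γ j)) rfl)
    have hξ : ξ = Models.genPtOf R Y (Γ j) :=
      ((specializes_iff_mem_closure.2 (hj'.ge (subset_closure rfl))).antisymm
        (specializes_iff_mem_closure.2 (hj'.le (subset_closure rfl)))).eq
    induction j using Fin.lastCases with
    | last => exact absurd (hpre.ge ⟨_, hξ.symm⟩) hξne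
    | cast j =>
      refine ⟨j, ?_⟩
      show b.left.base '' Set.range (Γ j.castSucc).ι.base = W
      rw [image_range b, ← hξ, hξW]
  · rintro _ ⟨i, rfl⟩
    exact image_mem b z hz _ hpre hdY hdZ (Γ i.castSucc) fun h => (Fin.castSucc_lt_last i).ne (hΓ.1 h)

/-- The multiplicity at a point. -/
def lenAt (X : Over (Spec (CommRingCat.of R))) (x : X.left) : ℕ :=
  (Module.length (X.left.presheaf.stalk x)
    (X.left.presheaf.stalk x ⧸ Ideal.map (Models.stalkHom R X x) (IsLocalRing.maximalIdeal R))).toNat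

theorem stalkMap_stalkHom (w : Y.left) (r : R) :
    b.left.stalkMap w (Models.stalkHom R Z (b.left w) r) = Models.stalkHom R Y w r := by
  show b.left.stalkMap w (Z.left.presheaf.germ ⊤ (b.left w) trivial (Coh.toGlobal Z.hom r)) =
    Y.left.presheaf.germ ⊤ w trivial (Coh.toGlobal Y.hom r)
  rw [Scheme.Hom.germ_stalkMap_apply]
  refine congrArg (Y.left.presheaf.germ ⊤ w trivial) ?_
  show b.left.appTop (Z.hom.appTop _) = Y.hom.appTop _
  rw [← Over.w b, Scheme.Hom.comp_appTop]
  rfl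

include hz in
theorem lenAt_map (w : Y.left) (hw : b.left w ≠ z) : lenAt Z (b.left w) = lenAt Y w := by
  haveI : IsIso (b.left.stalkMap w) :=
    H28Contr.isIso_stalkMap_of_restrict b.left ⟨{z}ᶜ, hz.isOpen_compl⟩ w hw
  let A := Z.left.presheaf.stalk (b.left w)
  let B := Y.left.presheaf.stalk w
  let φ : A ≃+* B := (asIso (b.left.stalkMap w)).commRingCatIsoToRingEquiv
  letI : Algebra A B := φ.toRingHom.toAlgebra
  let I := Ideal.map (Models.stalkHom R Z (b.left w)) (IsLocalRing.maximalIdeal R)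
  let J := Ideal.map (Models.stalkHom R Y w) (IsLocalRing.maximalIdeal R)
  have hJ : J = I.map φ.toRingHom := by
    rw [Ideal.map_map]
    exact congrArg (fun ψ => Ideal.map ψ (IsLocalRing.maximalIdeal R))
      (RingHom.ext fun r => (stalkMap_stalkHom b w r).symm)
  let e : A ≃ₐ[A] B := AlgEquiv.ofRingEquiv (f := φ) fun x => rfl
  let q : (A ⧸ I) ≃ₐ[A] (B ⧸ J) := Ideal.quotientEquivAlg I J e hJ
  show (Module.length A (A ⧸ I)).toNat = (Module.length B (B ⧸ J)).toNat
  rw [q.toLinearEquiv.length_eq]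
  exact congrArg ENat.toNat (Module.length_eq_of_surjective (R := B) (S := A) (M := B ⧸ J) φ.surjective)

include hpre hz in
theorem mult_eq (Δ : ArSurf.VertComp R Y) (hne : Set.range Δ.ι.base ≠ Set.range Γe.ι.base)
    (Δ' : ArSurf.VertComp R Z) (hΔ' : Set.range Δ'.ι.base = b.left.base '' Set.range Δ.ι.base) :
    Models.mult R Z Δ' = Models.mult R Y Δ := by
  have h : Models.genPtOf R Z Δ' = b.left (Models.genPtOf R Y Δ) := by
    rw [image_range b, LeadDev.range_eq_closure Δ'.ι (ξ := Models.genPtOf R Z Δ') rfl] at hΔ'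
    exact ((specializes_iff_mem_closure.2 (hΔ'.ge (subset_closure rfl))).antisymm
      (specializes_iff_mem_closure.2 (hΔ'.le (subset_closure rfl)))).eq
  show lenAt Z (Models.genPtOf R Z Δ') = lenAt Y (Models.genPtOf R Y Δ)
  rw [h]
  exact lenAt_map b z hz _ (map_genPt_ne b z Γe hpre Δ hne)

/-- The stalk of an inverse image ideal. -/
theorem stalkId_comap {X T : Scheme.{u}} (f : X ⟶ T) (I : T.IdealSheafData) (W : T.affineOpens) (V : X.affineOpens)
    {x : X} (hx : x ∈ V.1) (hfx : f x ∈ W.1) :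
    H28Vert.stalkId (I.comap f) V hx = (H28Vert.stalkId I W hfx).map (f.stalkMap x).hom := by
  obtain ⟨U, hU, hxU, hUle⟩ := exists_isAffineOpen_mem_and_subset (U := f ⁻¹ᵁ W.1) (x := x) hfx
  rw [H28Vert.stalkId_congr _ V ⟨U, hU⟩ hx hxU, H28Vert.stalkId, H28Vert.stalkId,
    H29Blow.ideal_comap I f W ⟨U, hU⟩ hUle, Ideal.map_map, Ideal.map_map]
  refine congrArg (fun ψ => Ideal.map ψ (I.ideal W)) (RingHom.ext fun a => ?_)
  show X.presheaf.germ U x hxU (f.appLE W.1 U hUle a) = f.stalkMap x (T.presheaf.germ W.1 (f x) hfx a)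
  rw [Scheme.Hom.germ_stalkMap_apply]
  exact TopCat.Presheaf.germ_res_apply X.presheaf (homOfLE hUle) x hxU (f.app W.1 a)

theorem stalkId_ker {X : Over (Spec (CommRingCat.of R))} [IsLocallyNoetherian X.left] [Flat X.hom] (Δ : ArSurf.VertComp R X) (V : X.left.affineOpens)
    (hx : Models.genPtOf R X Δ ∈ V.1) : H28Vert.stalkId Δ.ι.ker V hx = IsLocalRing.maximalIdeal _ :=
  H28Vert.stalkId_ker_genPt (Γ := fun _ : Fin 1 => Δ) 0 V hx

include hpre hdY hdZ hz in
/-- The inverse image of the ideal of a component downstairs. -/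
theorem comap_eq (hregY : Models.IsRegularScheme Y.left) (hregZ : Models.IsRegularScheme Z.left)
    (Δ : ArSurf.VertComp R Y) (hne : Set.range Δ.ι.base ≠ Set.range Γe.ι.base)
    (Δ' : ArSurf.VertComp R Z) (hΔ' : Set.range Δ'.ι.base = b.left.base '' Set.range Δ.ι.base) :
    ∃ t : ℕ, BlowUp.IsEffCartierIdeal (Δ'.ι.ker.comap b.left) ∧
      Δ'.ι.ker.comap b.left = H28Vert.divIdeal ![Δ, Γe] ![1, t] := by
  classical
  haveI : IsLocallyNoetherian Z.left := LocallyOfFiniteType.isLocallyNoetherian Z.hom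
  haveI : IsLocallyNoetherian Y.left := LocallyOfFiniteType.isLocallyNoetherian Y.hom
  haveI : CompactSpace Z.left := QuasiCompact.compactSpace_of_compactSpace Z.hom
  haveI : IsNoetherian Z.left := ⟨⟩
  haveI : CompactSpace Y.left := QuasiCompact.compactSpace_of_compactSpace Y.hom
  haveI : IsNoetherian Y.left := ⟨⟩
  obtain ⟨nY, Ys, hYs⟩ := H28Vert.exists_isComponentList' (R := R) (X := Y) hdY
  have hcY : ∀ E : ArSurf.VertComp R Y, Set.range E.ι.base ∈ Models.fibreComponents R Y := fun E =>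
    H28Vert.mem_fibreComponents (H28Vert.dim_fibre_le_one hYs) E
  have hkerY : ∀ E : ArSurf.VertComp R Y, BlowUp.IsEffCartierIdeal E.ι.ker := fun E =>
    H28Vert.isEffCartierIdeal_ker_of_mem hregY E (hcY E)
  have hI : BlowUp.IsEffCartierIdeal Δ'.ι.ker := H28Vert.isEffCartierIdeal_ker_of_mem hregZ Δ'
    (hΔ'.symm ▸ image_mem b z hz Γe hpre hdY hdZ Δ hne)
  haveI : ∀ x : Y.left, IsDomain (Y.left.presheaf.stalk x) := fun x => (H28Vert.ufd_stalk hregY x).1
  haveI : ∀ x : Z.left, IsDomain (Z.left.presheaf.stalk x) := fun x => (H28Vert.ufd_stalk hregZ x).1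
  let J := Δ'.ι.ker.comap b.left
  have hsupp : (J.support : Set Y.left) = b.left.base ⁻¹' (b.left.base '' Set.range Δ.ι.base) := by
    rw [Scheme.IdealSheafData.support_comap]
    show b.left.base ⁻¹' (Δ'.ι.ker.support : Set Z.left) = _
    rw [Scheme.Hom.support_ker, IsClosed.closure_eq Δ'.ι.isClosedEmbedding.isClosed_range, hΔ']
  have hη : genericPoint Y.left ∉ (J.support : Set Y.left) := by
    rw [hsupp]
    rintro ⟨w, ⟨c, rfl⟩, hw⟩
    have h1 : b.left (Δ.ι c) ∈ Models.specialFibreSet R Z :=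
      (mem_special_iff b _).2 (by
        show Y.hom (Δ.ι c) = IsLocalRing.closedPoint R
        rw [← Scheme.Hom.comp_apply, Δ.w, Scheme.Hom.comp_apply]
        exact IsLocalRing.PrimeSpectrum.comap_residue R _)
    rw [hw] at h1
    exact ModelProj.genericPoint_notMem ((mem_special_iff b _).1 h1)
  have hgenJ : ∀ (x : Y.left) (V : Y.left.affineOpens) (hx : x ∈ V.1),
      ∃ g ≠ 0, H28Vert.stalkId J V hx = Ideal.span {g} := by
    intro x V hx
    obtain ⟨W, hW, hxW, -⟩ := exists_isAffineOpen_mem_and_subset (U := (⊤ : Z.left.Opens)) (x := b.left x) trivial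
    obtain ⟨g, -, hg⟩ := H28Vert.exists_gen_of_isEffCartierIdeal hI (b.left x) ⟨W, hW⟩ hxW
    refine ⟨(b.left.stalkMap x).hom g, fun h0 => hη ?_, ?_⟩
    · have h1 : H28Vert.stalkId J V hx = ⊥ := by
        rw [stalkId_comap b.left _ ⟨W, hW⟩ V hx hxW, hg, Ideal.map_span, Set.image_singleton, h0,
          Ideal.span_singleton_eq_bot]
      by_contra hη'
      have hηV : genericPoint Y.left ∈ V.1 := (genericPoint_specializes x).mem_open V.1.2 hx
      have h2 := H29Blow.map_germ_eq_top_of_notMem_support J (genericPoint Y.left) V hηV hη'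
      have h3 : J.ideal V = ⊥ := by
        rw [eq_bot_iff]
        intro a ha
        have h4 : (Y.left.presheaf.germ V.1 x hx) a = 0 := by
          simpa [h1] using (Ideal.mem_map_of_mem (Y.left.presheaf.germ V.1 x hx).hom ha :
            (Y.left.presheaf.germ V.1 x hx) a ∈ H28Vert.stalkId J V hx)
        exact germ_injective_of_isIntegral Y.left x hx (h4.trans (map_zero _).symm)
      rw [h3, Ideal.map_bot] at h2
      exact bot_ne_top h2
    · rw [stalkId_comap b.left _ ⟨W, hW⟩ V hx hxW, hg, Ideal.map_span, Set.image_singleton]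
  have hJ : BlowUp.IsEffCartierIdeal J :=
    H29Blow.isEffCartierIdeal_of_stalk J fun x V hx => by
      obtain ⟨g, hg0, hg⟩ := hgenJ x V hx
      exact ⟨g, mem_nonZeroDivisors_of_ne_zero hg0, hg⟩
  -- the order along the contracted curve
  let ξe := Models.genPtOf R Y Γe
  obtain ⟨Ve, hVe, hξVe, -⟩ := exists_isAffineOpen_mem_and_subset (U := (⊤ : Y.left.Opens)) (x := ξe) trivial
  haveI := hregY ξe
  have hdime : ringKrullDim (Y.left.presheaf.stalk ξe) = 1 := H28Vert.dim_stalk_genPt_of_mem hregY Γe (hcY Γe)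
  haveI : IsDiscreteValuationRing (Y.left.presheaf.stalk ξe) := H06FlatSub.isDVR_of_regular hdime.le fun hf => by
    rw [ringKrullDim_eq_zero_of_isField hf] at hdime
    exact zero_ne_one hdime
  obtain ⟨g, hg0, hg⟩ := hgenJ ξe ⟨Ve, hVe⟩ hξVe
  obtain ⟨ϖ, hϖ⟩ := IsDiscreteValuationRing.exists_irreducible (Y.left.presheaf.stalk ξe)
  obtain ⟨t, ht⟩ := IsDiscreteValuationRing.associated_pow_irreducible hg0 hϖ
  have hge : H28Vert.stalkId J ⟨Ve, hVe⟩ hξVe = IsLocalRing.maximalIdeal _ ^ t := by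
    rw [hg, hϖ.maximalIdeal_eq, Ideal.span_singleton_pow, Ideal.span_singleton_eq_span_singleton]
    exact ht
  refine ⟨t, hJ, ?_⟩
  refine H28Vert.ext_of_height_one (H28Vert.ufd_stalk hregY) _ _ hgenJ
    (fun x V hx => H28Vert.exists_gen_of_isEffCartierIdeal
      (H28Vert.isEffCartierIdeal_prod _ _ (fun j _ => hkerY _) _) x V hx) fun w V hw hwd => ?_
  have hprod : H28Vert.stalkId (H28Vert.divIdeal ![Δ, Γe] ![1, t]) V hw =
      H28Vert.stalkId Δ.ι.ker V hw * H28Vert.stalkId Γe.ι.ker V hw ^ t := by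
    rw [H28Vert.divIdeal, H28Vert.stalkId_prod, Fin.prod_univ_two]
    simp
  have hgenpt : ∀ E : ArSurf.VertComp R Y, w ∈ Set.range E.ι.base → w = Models.genPtOf R Y E := by
    rintro E ⟨c, rfl⟩
    have hsp : Models.genPtOf R Y E ⤳ E.ι c := (genericPoint_specializes c).map E.ι.continuous
    by_contra hne'
    have h1 := H28Contr.ringKrullDim_stalk_lt hsp (Ne.symm hne')
    rw [H28Vert.dim_stalk_genPt_of_mem hregY E (hcY E), hwd] at h1
    exact lt_irrefl _ h1
  have htop : ∀ E : ArSurf.VertComp R Y, w ∉ Set.range E.ι.base → H28Vert.stalkId E.ι.ker V hw = 1 := fun E h => by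
    rw [Ideal.one_eq_top]
    exact H29Blow.map_germ_eq_top_of_notMem_support _ w V hw fun h' => h
      ((E.ι.support_ker.trans E.ι.isClosedEmbedding.isClosed_range.closure_eq).subset h')
  rw [hprod]
  by_cases he : w ∈ Set.range Γe.ι.base
  · obtain rfl := hgenpt Γe he
    have hnot : Models.genPtOf R Y Γe ∉ Set.range Δ.ι.base := fun h => by
      refine H28Vert.genericPoint_notMem Γe Δ hne.symm ?_
      rw [Scheme.Hom.support_ker, IsClosed.closure_eq Δ.ι.isClosedEmbedding.isClosed_range]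
      exact h
    rw [htop Δ hnot, one_mul, stalkId_ker Γe V hw, H28Vert.stalkId_congr J V ⟨Ve, hVe⟩ hw hξVe]
    exact hge
  rw [htop Γe he, one_pow, mul_one]
  by_cases hd : w ∈ Set.range Δ.ι.base
  · obtain rfl := hgenpt Δ hd
    haveI := H28Contr.isIso_stalkMap_of_restrict b.left ⟨{z}ᶜ, hz.isOpen_compl⟩ (Models.genPtOf R Y Δ)
      (map_genPt_ne b z Γe hpre Δ hne)
    have hpt : Models.genPtOf R Z Δ' = b.left (Models.genPtOf R Y Δ) := by
      have h1 := hΔ'
      rw [image_range b, LeadDev.range_eq_closure Δ'.ι (ξ := Models.genPtOf R Z Δ') rfl] at h1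
      exact ((specializes_iff_mem_closure.2 (h1.ge (subset_closure rfl))).antisymm
        (specializes_iff_mem_closure.2 (h1.le (subset_closure rfl)))).eq
    obtain ⟨W, hW, hxW, -⟩ := exists_isAffineOpen_mem_and_subset (U := (⊤ : Z.left.Opens))
      (x := b.left (Models.genPtOf R Y Δ)) trivial
    have hm : H28Vert.stalkId Δ'.ι.ker ⟨W, hW⟩ hxW = IsLocalRing.maximalIdeal _ := by
      have key : ∀ (v : Z.left) (hv : v ∈ W), v = Models.genPtOf R Z Δ' →
          H28Vert.stalkId Δ'.ι.ker ⟨W, hW⟩ hv = IsLocalRing.maximalIdeal _ := by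
        rintro v hv rfl
        exact stalkId_ker Δ' ⟨W, hW⟩ hv
      exact key _ hxW hpt.symm
    rw [stalkId_ker Δ V hw, stalkId_comap b.left _ ⟨W, hW⟩ V hw hxW, hm]
    exact IsLocalRing.map_maximalIdeal_of_surjective (b.left.stalkMap _).hom
      (ConcreteCategory.bijective_of_isIso (b.left.stalkMap _)).2
  rw [htop Δ hd, Ideal.one_eq_top]
  refine H29Blow.map_germ_eq_top_of_notMem_support J w V hw fun h => ?_
  change w ∈ (J.support : Set Y.left) at h
  rw [hsupp] at h
  obtain ⟨c, hc, hcw⟩ := h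
  have hwz : b.left w ≠ z := fun h' => he (hpre.le h')
  have h1 : c ⤳ w := specializes_of_map b z hz (by rw [hcw]) hwz
  exact hd (h1.mem_closed Δ.ι.isClosedEmbedding.isClosed_range hc)

include hz in
/-- Degrees on a component are unchanged. -/
theorem inter_pullback {M : Z.left.Modules} (hM : PicF.IsInvertible M) (Δ : ArSurf.VertComp R Y)
    (hne : b.left (Models.genPtOf R Y Δ) ≠ z)
    (Δ' : ArSurf.VertComp R Z) (hΔ' : Set.range Δ'.ι.base = b.left.base '' Set.range Δ.ι.base) :
    ArSurf.inter R Y ((Scheme.Modules.pullback b.left).obj M) Δ = ArSurf.inter R Z M Δ' := by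
  let k := IsLocalRing.ResidueField R
  haveI : IsProper (b.left ≫ Z.hom) := by rw [Over.w b]; infer_instance
  haveI : IsProper b.left := IsProper.of_comp b.left Z.hom
  obtain ⟨h, hh⟩ := H17.exists_lift_of_range_subset (Δ.ι ≫ b.left) Δ'.ι
    (by rw [Scheme.Hom.comp_base, TopCat.coe_comp, Set.range_comp]; exact hΔ'.ge)
  haveI := H28Vert.isProper_curve Δ
  haveI := H28Vert.isProper_curve Δ'
  haveI : IsProper (Δ.curve.left ↘ Spec (CommRingCat.of k)) := inferInstanceAs (IsProper Δ.curve.hom)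
  haveI : IsProper (Δ'.curve.left ↘ Spec (CommRingCat.of k)) := inferInstanceAs (IsProper Δ'.curve.hom)
  have hk : h ≫ (Δ'.curve.left ↘ Spec (CommRingCat.of k)) = Δ.curve.left ↘ Spec (CommRingCat.of k) := by
    haveI : IsClosedImmersion (Spec.map (CommRingCat.ofHom (IsLocalRing.residue R))) :=
      IsClosedImmersion.spec_of_surjective _ IsLocalRing.residue_surjective
    show h ≫ Δ'.curve.hom = Δ.curve.hom
    rw [← cancel_mono (Spec.map (CommRingCat.ofHom (IsLocalRing.residue R))), Category.assoc, ← Δ'.w, ← Δ.w,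
      ← Category.assoc, hh, Category.assoc, Over.w b]
  let O : Z.left.Opens := ⟨{z}ᶜ, hz.isOpen_compl⟩
  let U := Δ'.ι ⁻¹ᵁ O
  have hpre' : h ⁻¹ᵁ U = Δ.ι ⁻¹ᵁ (b.left ⁻¹ᵁ O) := by
    rw [← Scheme.Hom.comp_preimage, ← Scheme.Hom.comp_preimage, hh]
  haveI : IsIso (b.left ∣_ O) := ‹_›
  haveI hcl : IsClosedImmersion (Δ.ι ∣_ b.left ⁻¹ᵁ O) :=
    IsZariskiLocalAtTarget.restrict (P := @IsClosedImmersion) Δ.isClosedImmersion _
  haveI : IsClosedImmersion (h ∣_ U) := by
    haveI hcomp : IsClosedImmersion ((h ≫ Δ'.ι) ∣_ O) := by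
      rw [hh, morphismRestrict_comp]
      exact MorphismProperty.comp_mem @IsClosedImmersion _ _ hcl (inferInstance : IsClosedImmersion (b.left ∣_ O))
    haveI : IsClosedImmersion (h ∣_ U ≫ Δ'.ι ∣_ O) := by
      rw [← morphismRestrict_comp]
      exact hcomp
    exact IsClosedImmersion.of_comp (h ∣_ U) (Δ'.ι ∣_ O)
  haveI : IsProper h := by
    haveI : IsProper (h ≫ (Δ'.curve.left ↘ Spec (CommRingCat.of k))) := hk ▸ inferInstance
    exact IsProper.of_comp h (Δ'.curve.left ↘ Spec (CommRingCat.of k))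
  haveI : Surjective h := ⟨fun v => by
    obtain ⟨w, ⟨c, rfl⟩, hw⟩ := hΔ'.le (⟨v, rfl⟩ : Δ'.ι v ∈ Set.range Δ'.ι.base)
    refine ⟨c, Δ'.ι.isClosedEmbedding.injective ?_⟩
    rw [← Scheme.Hom.comp_apply, hh, Scheme.Hom.comp_apply]
    exact hw⟩
  haveI : Surjective (h ∣_ U) := IsZariskiLocalAtTarget.restrict (P := @Surjective) inferInstance U
  haveI : IsIso (h ∣_ U) := isIso_of_isClosedImmersion_of_surjective _
  have hUne : genericPoint Δ.curve.left ∈ h ⁻¹ᵁ U := by
    rw [hpre']
    exact hne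
  have hU : Dense (U : Set Δ'.curve.left) := U.2.dense ⟨_, hUne⟩
  have hU' : Dense ((h ⁻¹ᵁ U : Δ.curve.left.Opens) : Set Δ.curve.left) := (h ⁻¹ᵁ U).2.dense ⟨_, hUne⟩
  have hP : PicF.IsInvertible ((Scheme.Modules.pullback Δ'.ι).obj M) := H11Ample.isInvertible_pullback _ hM
  have hdeg := H14Deg.deg_pullback h U Δ'.dim_eq.le hk hU hU' (H29RR.rank_one_of_isInvertible hP)
  let eI : (Scheme.Modules.pullback Δ.ι).obj ((Scheme.Modules.pullback b.left).obj M) ≅
      (Scheme.Modules.pullback h).obj ((Scheme.Modules.pullback Δ'.ι).obj M) :=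
    (Scheme.Modules.pullbackComp Δ.ι b.left).app M ≪≫ (Scheme.Modules.pullbackCongr hh.symm).app M ≪≫
      ((Scheme.Modules.pullbackComp h Δ'.ι).app M).symm
  have key : ∀ (E : Scheme.{u}) [E.Over (Spec (CommRingCat.of k))] [IsProper (E ↘ Spec (CommRingCat.of k))]
      (_ : topologicalKrullDim E = 1) (P : E.Modules) (_ : PicF.IsInvertible P),
      ArSurf.curveDeg k E P = Curv2.deg k E P 1 := by
    intro E _ _ hdE P hP'
    haveI := H28Int.isNoetherian k (X := E)
    have hd : topologicalKrullDim E ≤ ((1 : ℕ) : WithBot ℕ∞) := by simpa using hdE.le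
    rw [ArSurf.curveDeg, H28Int.eulerCharLE_eq _ hd (H11Ample.isCoh_of_isInvertible hP').1,
      H28Int.eulerCharLE_eq _ hd H10Coh.isQuasicoherent_unit, H29RR.deg_def]
  show ArSurf.curveDeg k _ _ = ArSurf.curveDeg k _ _
  rw [ContractArtin.curveDeg_congr k _ eI, key _ Δ.dim_eq _ (H11Ample.isInvertible_pullback h hP),
    key _ Δ'.dim_eq _ hP]
  exact hdeg

include hpre hdY hdZ hz in
/-- The intersection numbers after a contraction. -/
theorem inter_formula (hregY : Models.IsRegularScheme Y.left) (hregZ : Models.IsRegularScheme Z.left)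
    (Δi Δj : ArSurf.VertComp R Y) (hi : Set.range Δi.ι.base ≠ Set.range Γe.ι.base)
    (hj : Set.range Δj.ι.base ≠ Set.range Γe.ι.base) {Lj Le : Y.left.Modules}
    (hLj : ClSub.IsInverseOf Lj (ClSub.idealMod Δj.ι.ker)) (hLe : ClSub.IsInverseOf Le (ClSub.idealMod Γe.ι.ker))
    (Δi' Δj' : ArSurf.VertComp R Z) (hi' : Set.range Δi'.ι.base = b.left.base '' Set.range Δi.ι.base)
    (hj' : Set.range Δj'.ι.base = b.left.base '' Set.range Δj.ι.base) {L' : Z.left.Modules}
    (hL' : ClSub.IsInverseOf L' (ClSub.idealMod Δj'.ι.ker)) :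
    ArSurf.inter R Z L' Δi' * ArSurf.inter R Y Le Γe =
      ArSurf.inter R Y Lj Δi * ArSurf.inter R Y Le Γe - ArSurf.inter R Y Le Δi * ArSurf.inter R Y Le Δj := by
  obtain ⟨t, hJ, heq⟩ := comap_eq b z hz Γe hpre hdY hdZ hregY hregZ Δj hj Δj' hj'
  haveI : IsLocallyNoetherian Z.left := LocallyOfFiniteType.isLocallyNoetherian Z.hom
  haveI : IsLocallyNoetherian Y.left := LocallyOfFiniteType.isLocallyNoetherian Y.hom
  obtain ⟨nY, Ys, hYs⟩ := H28Vert.exists_isComponentList' (R := R) (X := Y) hdY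
  have hkerY : ∀ E : ArSurf.VertComp R Y, BlowUp.IsEffCartierIdeal E.ι.ker := fun E =>
    H28Vert.isEffCartierIdeal_ker_of_mem hregY E (H28Vert.mem_fibreComponents (H28Vert.dim_fibre_le_one hYs) E)
  have hI : BlowUp.IsEffCartierIdeal Δj'.ι.ker := H28Vert.isEffCartierIdeal_ker_of_mem hregZ Δj'
    (hj'.symm ▸ image_mem b z hz Γe hpre hdY hdZ Δj hj)
  obtain ⟨e'⟩ := hL'
  have hLi : PicF.IsInvertible L' := H17.InvertibleTensor.isInvertible_of_tensor_iso L' _ e'
  let M := (Scheme.Modules.pullback b.left).obj L'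
  let I := ClSub.idealMod (Δj'.ι.ker.comap b.left)
  have hM : PicF.IsInvertible M := H11Ample.isInvertible_pullback _ hLi
  have hIi : PicF.IsInvertible I := H29Blow.isInvertible_of_isEffCartierIdeal _ hJ
  obtain ⟨u⟩ := H12Pic.CurveFam.nonempty_pullback_idealMod_comap b.left hI hJ
  obtain ⟨s⟩ := H11Ample.nonempty_pullback_structureModule_iso b.left
  obtain ⟨π⟩ := H11Ample.exists_iso_pullback_tensor b.left hLi (H29Blow.isInvertible_of_isEffCartierIdeal _ hI)
  obtain ⟨eN⟩ := H25AbCube.isInverseOf_dual hIi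
  let N := RefHull.dual I
  have hN : PicF.IsInvertible N := H17.InvertibleTensor.isInvertible_of_tensor_iso _ _ eN
  have hnum : ∀ E : ArSurf.VertComp R Y,
      ArSurf.inter R Y M E = ArSurf.inter R Y Lj E + (t : ℤ) * ArSurf.inter R Y Le E := by
    intro E
    have h1 := H28Vert.inter_tensor E hM hIi
    have h2 := H28Vert.inter_tensor E hN hIi
    rw [H28Vert.inter_congr_iso E (H11Ample.isInvertible_tensor hN hIi) (PicLoc.isInvertible_structureModule Y.left) eN,
      H28Vert.inter_structure] at h2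
    rw [H28Vert.inter_congr_iso E (H11Ample.isInvertible_tensor hM hIi) (PicLoc.isInvertible_structureModule Y.left)
      (PicGrp.tensorModIso (Iso.refl M) u.symm ≪≫ π.symm ≪≫ (Scheme.Modules.pullback b.left).mapIso e' ≪≫ s),
      H28Vert.inter_structure] at h1
    have h3 : ArSurf.inter R Y N E =
        ∑ l : Fin 2, ((![1, t] : Fin 2 → ℕ) l : ℤ) * ArSurf.inter R Y ((![Lj, Le] : Fin 2 → Y.left.Modules) l) E := by
      show ArSurf.inter R Y (RefHull.dual (ClSub.idealMod (Δj'.ι.ker.comap b.left))) E = _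
      rw [heq]
      exact ContractArtin.inter_dual_divIdeal (![Δj, Γe]) (![Lj, Le])
        (fun l => by
          fin_cases l
          · exact hLj
          · exact hLe) hkerY _ E
    simp only [Fin.sum_univ_two, Matrix.cons_val_zero, Matrix.cons_val_one, Nat.cast_one, one_mul] at h3
    linarith
  have he0 : ArSurf.inter R Y M Γe = 0 := by
    obtain ⟨triv⟩ := ContractVert.nonempty_trivial_of_const (Γe.ι ≫ b.left) hLi (q := z)
      fun x => hpre.ge ⟨x, rfl⟩
    exact ContractArtin.inter_congr_pullback Γe ((Scheme.Modules.pullbackComp Γe.ι b.left).app L' ≪≫ triv)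
  have hnumi := hnum Δi
  rw [inter_pullback b z hz hLi Δi (map_genPt_ne b z Γe hpre Δi hi) Δi' hi'] at hnumi
  rw [hnum Γe, ← H28Vert.inter_symm Δj Γe hj hLj hLe] at he0
  rw [hnumi]
  linear_combination ArSurf.inter R Y Le Δi * he0

end Fibre

end Groth.Agent.H28RR.ModelImage
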