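import Groth.Agent.H28RR.ModelContract
import Groth.Agent.H11Proj.ProjSpace
import Groth.Agent.H3CAlg.EtaEtale
import Groth.Agent.H17.Canon.QuasiRank
import Groth.Agent.H17.Canon.GenericFibre
import Groth.Agent.H17.ProjSmooth.Regular
import Groth.Agent.H29Ref.ConormalQReg
import Groth.Agent.S8855
import Groth.Agent.S8905
import Groth.Agent.S5003

/-! # Canonical sheaves of regular projective schemes over a discrete valuation ring -/

set_option autoImplicit false
set_option linter.style.haveILetI false
set_option linter.unusedSectionVars false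
set_option backward.isDefEq.respectTransparency.types false
set_option maxHeartbeats 1600000

universe u

open CategoryTheory CategoryTheory.Limits AlgebraicGeometry TopologicalSpace
open scoped MvPolynomial

noncomputable section

namespace Groth.Agent.H28RR.ModelCanon

/-- Projective space is smooth of relative dimension `n` over any ring. -/
theorem smooth_projSpace (n : ℕ) (R : Type u) [CommRing R] :
    SmoothOfRelativeDimension n (CohB1.ProjSpace.toSpec n R) := by
  classical
  refine (IsZariskiLocalAtSource.iff_of_openCover (P := @SmoothOfRelativeDimension n)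
    (Proj.affineOpenCoverOfIrrelevantLESpan (A := MvPolynomial (Fin (n + 1)) R) (CohB1.polyGrading n R)
      (fun i : Fin (n + 1) => (MvPolynomial.X i : MvPolynomial (Fin (n + 1)) R))
      (fun i => H11Proj.ProjSpace.X_mem n R i) (fun _ => one_pos) (H11Proj.ProjSpace.irrelevant_le_span n R)).openCover).2 fun i => ?_
  change SmoothOfRelativeDimension n (Proj.awayι (A := MvPolynomial (Fin (n + 1)) R) (CohB1.polyGrading n R) (MvPolynomial.X i)
    (H11Proj.ProjSpace.X_mem n R i) one_pos ≫ CohB1.ProjSpace.toSpec n R)
  rw [H11Proj.ProjSpace.awayι_toSpec]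
  refine (HasRingHomProperty.Spec_iff (P := @SmoothOfRelativeDimension n)).2 ?_
  refine RingHom.locally_of RingHom.isStandardSmoothOfRelativeDimension_respectsIso _ ?_
  haveI := H3CAlg.EtaEtale.isStandardSmooth_mvPolynomial R n
  have h : Algebra.IsStandardSmoothOfRelativeDimension n R
      (MvPolynomial {j : Fin (n + 1) // j ≠ i} R) :=
    Algebra.IsStandardSmoothOfRelativeDimension.of_algEquiv _
      (MvPolynomial.renameEquiv R (finSuccAboveEquiv i))
  have h' : RingHom.IsStandardSmoothOfRelativeDimension n
      (algebraMap R (MvPolynomial {j : Fin (n + 1) // j ≠ i} R)) :=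
    (RingHom.isStandardSmoothOfRelativeDimension_algebraMap _).2 h
  exact RingHom.isStandardSmoothOfRelativeDimension_respectsIso.1 _
    (RingEquiv.ofBijective (H11Proj.ProjSpace.chartMap n R i) (H11Proj.ProjSpace.chartMap_bijective n R i)) h'

/-- Projective space over a scheme is smooth of relative dimension `n`. -/
theorem smooth_projSpaceOver (n : ℕ) (S : Scheme.{u}) :
    SmoothOfRelativeDimension n (CohB1.ProjSpaceOver.toBase n S) :=
  haveI := smoothOfRelativeDimension_isStableUnderBaseChange (n := n)
  MorphismProperty.pullback_snd (P := @SmoothOfRelativeDimension n) _ _ (smooth_projSpace n _)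

variable {R : Type u} [CommRing R] [IsDomain R] [IsDiscreteValuationRing R]

/-- An arithmetic surface has an invertible canonical sheaf. -/
theorem exists_canonical {X : Over (Spec (CommRingCat.of R))} (hX : ArSurf.IsArithSurface R X) :
    ∃ ω : X.left.Modules, PicF.IsInvertible ω ∧ Canon.IsCanonical X.hom ω := by
  obtain ⟨hreg, hint, -, -, n, i, hi, hiX⟩ := hX
  haveI := hint
  haveI := hi
  let g := CohB1.ProjSpaceOver.toBase n (Spec (CommRingCat.of R))
  haveI hg : SmoothOfRelativeDimension n g := smooth_projSpaceOver n _
  haveI : Smooth g := SmoothOfRelativeDimension.smooth n g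
  haveI : IsProper g := H27Weil.isProper_toBase n _
  haveI : IsNoetherianRing (CommRingCat.of R) := inferInstanceAs (IsNoetherianRing R)
  haveI : IsLocallyNoetherian (CohB1.ProjSpaceOver n (Spec (CommRingCat.of R))) :=
    LocallyOfFiniteType.isLocallyNoetherian g
  haveI : IsLocallyNoetherian X.left := LocallyOfFiniteType.isLocallyNoetherian i
  have hS : ∀ s : Spec (CommRingCat.of R), IsRegularLocalRing ((Spec (CommRingCat.of R)).presheaf.stalk s) :=
    fun s => by
      haveI : IsRegularRing R := inferInstance
      haveI : IsRegularLocalRing (Localization.AtPrime (PrimeSpectrum.asIdeal (R := R) s)) := inferInstance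
      exact IsRegularLocalRing.of_ringEquiv (StructureSheaf.stalkIso R s).toRingEquiv
  have hP := H17.ProjSmooth.isRegularLocalRing_stalk_of_smooth g hS
  have hjr : RegImm.IsRegularImmersion .regular i := S8855.result i hP hreg
  obtain ⟨c, hC⟩ := H17.CanonSm.exists_rank (genericPoint X.left)
    (fun V x hx => ((genericPoint_spec X.left).mem_open_set_iff V.isOpen).2 ⟨x, trivial, hx⟩)
    (H29Ref.ConormalQReg.isFinLocFree_conormal_of_quasi i ((S5003.result i).1 hjr).2)
  have hcodim := H17.CanonSm.regImm_ofCodim_of_rank i hjr hC
  obtain ⟨ω, hω, hωi⟩ := H17.CanonSm.exists_via (n := n) i g hC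
  exact ⟨ω, hωi, ⟨_, i, g, c, n, hiX, hcodim, hg, inferInstance, inferInstance, hω⟩⟩

end Groth.Agent.H28RR.ModelCanon
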