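import Groth.Agent.H28RR.LocalExc
import Groth.Agent.H28RR.ModelUniqueW
import Groth.Agent.H10Coh.Proper2
import Groth.Agent.H28NT.ConnectedDVR

/-! # Relatively minimal surfaces over Dedekind domains and extension of morphisms of generic fibres -/

set_option autoImplicit false
set_option linter.style.haveILetI false
set_option linter.unusedSectionVars false
set_option backward.isDefEq.respectTransparency.types false
set_option maxHeartbeats 1600000

universe u

open CategoryTheory CategoryTheory.Limits AlgebraicGeometry TopologicalSpace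
open Groth.Agent

noncomputable section

attribute [-instance] instAlgebraAtPrimeFractionRing

namespace Groth.Agent.H28RR.LocalGlue

open LocalBase

variable {R : Type u} [CommRing R] [IsDedekindDomain R]

/-- The fraction fields of a Dedekind domain and of a localisation agree. -/
theorem exists_fraction_iso (P : Ideal R) [P.IsPrime] :
    ∃ τ : Spec (CommRingCat.of (FractionRing (Localization.AtPrime P))) ⟶ Spec (CommRingCat.of (FractionRing R)),
      IsIso τ ∧ τ ≫ Neron.genPt R = Neron.genPt (Localization.AtPrime P) ≫ locMap P := by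
  letI := instAlgebraAtPrimeFractionRing (R := R) R (P := P)
  haveI : IsFractionRing (Localization.AtPrime P) (FractionRing R) :=
    IsFractionRing.isFractionRing_of_isDomain_of_isLocalization P.primeCompl (Localization.AtPrime P) (FractionRing R)
  let e := IsLocalization.algEquiv (nonZeroDivisors (Localization.AtPrime P)) (FractionRing R)
    (FractionRing (Localization.AtPrime P))
  refine ⟨Spec.map (CommRingCat.ofHom e.toRingEquiv.toRingHom), ?_, ?_⟩
  · haveI : IsIso (CommRingCat.ofHom e.toRingEquiv.toRingHom) := by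
      rw [ConcreteCategory.isIso_iff_bijective]
      exact e.bijective
    infer_instance
  · show Spec.map _ ≫ Spec.map _ = Spec.map _ ≫ Spec.map _
    rw [← Spec.map_comp, ← Spec.map_comp]
    congr 1
    ext r
    exact (congrArg e (IsScalarTower.algebraMap_apply R (Localization.AtPrime P) (FractionRing R) r)).trans
      (e.commutes _)

/-- A curve over the fraction field, seen over the fraction field of a localisation, and a model. -/
structure LocData (X : Over (Spec (CommRingCat.of R))) {C : Scheme.{u}}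
    (f : C ⟶ Spec (CommRingCat.of (FractionRing R))) (g : C ⟶ X.left) (P : Ideal R) [P.IsPrime]
    (τ : Spec (CommRingCat.of (FractionRing (Localization.AtPrime P))) ⟶ Spec (CommRingCat.of (FractionRing R)))
    [IsIso τ] where
  /-- the inclusion of the curve -/
  gP : C ⟶ (locX P X).left
  fac : gP ≫ jX P X = g
  isPullback : IsPullback gP (f ≫ inv τ) (locX P X).hom (Neron.genPt (Localization.AtPrime P))

/-- The localised square. -/
def locData {X : Over (Spec (CommRingCat.of R))} {C : Scheme.{u}}
    {f : C ⟶ Spec (CommRingCat.of (FractionRing R))} {g : C ⟶ X.left}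
    (hg : IsPullback g f X.hom (Neron.genPt R)) (P : Ideal R) [P.IsPrime]
    (τ : Spec (CommRingCat.of (FractionRing (Localization.AtPrime P))) ⟶ Spec (CommRingCat.of (FractionRing R)))
    [IsIso τ] (hτ : τ ≫ Neron.genPt R = Neron.genPt (Localization.AtPrime P) ≫ locMap P) : LocData X f g P τ where
  gP := pullback.lift g ((f ≫ inv τ) ≫ Neron.genPt (Localization.AtPrime P))
    (by rw [Category.assoc, Category.assoc, ← hτ, IsIso.inv_hom_id_assoc, hg.w])
  fac := pullback.lift_fst _ _ _
  isPullback := by
    have h1 : IsPullback g (f ≫ inv τ) X.hom (τ ≫ Neron.genPt R) := by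
      have h2 : IsPullback g (𝟙 C) (𝟙 X.left ≫ 𝟙 X.left) g := IsPullback.of_vert_isIso ⟨by simp⟩
      exact hg.of_iso (Iso.refl _) (Iso.refl _) (asIso τ).symm (Iso.refl _) (by simp) (by simp) (by simp)
        (by simp)
    rw [hτ] at h1
    refine IsPullback.of_right ?_ (pullback.lift_snd _ _ _) (IsPullback.of_hasPullback X.hom (locMap P))
    rw [pullback.lift_fst]
    exact h1

variable {X : Over (Spec (CommRingCat.of R))} {C : Scheme.{u}} {f : C ⟶ Spec (CommRingCat.of (FractionRing R))}
  {g : C ⟶ X.left}

theorem curve_iso (hg : IsPullback g f X.hom (Neron.genPt R)) (P : Ideal R) [P.IsPrime] :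
    Nonempty (C ≅ ((Neron.genericFibre (Localization.AtPrime P)).obj (locX P X)).left) := by
  obtain ⟨τ, hτi, hτ⟩ := exists_fraction_iso P
  haveI := hτi
  exact ⟨(locData hg P τ hτ).isPullback.isoPullback⟩

/-- The generic fibre of an arithmetic surface is an integral curve. -/
theorem curve_facts (hR : ¬ IsField R) (hX : ArSurf.IsArithSurface R X) (hg : IsPullback g f X.hom (Neron.genPt R)) :
    IsProper f ∧ IsIntegral C ∧ topologicalKrullDim C = 1 := by
  obtain ⟨hreg, hint, hdim, hflat, n, i₀, hi₀, hiX⟩ := id hX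
  haveI := hint
  haveI := hflat
  haveI := hi₀
  haveI : IsProper X.hom := by rw [← hiX]; infer_instance
  haveI : IsLocallyNoetherian X.left := LocallyOfFiniteType.isLocallyNoetherian X.hom
  obtain ⟨x, hx⟩ : ∃ x : X.left, ¬ ringKrullDim (X.left.presheaf.stalk x) ≤ 1 := by
    by_contra h
    push Not at h
    have h2 := H28Vert.topologicalKrullDim_le_of_stalks (X := X.left) _ h
    rw [hdim] at h2
    exact absurd h2 (by decide)
  obtain ⟨P, hPp, hPne, hxP⟩ : ∃ (P : Ideal R) (_ : P.IsPrime), P ≠ ⊥ ∧ x ∈ Set.range (jX P X) := by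
    by_cases h : PrimeSpectrum.asIdeal (R := R) (X.hom x) = ⊥
    · obtain ⟨M, hM⟩ := Ideal.exists_maximal R
      haveI := hM.isPrime
      refine ⟨M, hM.isPrime, fun e => hR ?_, (mem_range_jX M X).2 ((mem_range_locMap M).2 (h.trans_le bot_le))⟩
      subst e
      exact Ring.isField_iff_maximal_bot.2 hM
    · exact ⟨_, PrimeSpectrum.isPrime _, h, (mem_range_jX _ X).2 ((mem_range_locMap _).2 le_rfl)⟩
  haveI := hPp
  obtain ⟨x', rfl⟩ := hxP
  haveI := isDVR P hPne
  haveI : IsProper (locX P X).hom := MorphismProperty.pullback_snd (P := @IsProper) X.hom (locMap P) ‹_›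
  haveI : Flat (locX P X).hom := MorphismProperty.pullback_snd (P := @Flat) X.hom (locMap P) ‹_›
  haveI := isIntegral_locX P X
  haveI : IsLocallyNoetherian (locX P X).left := LocallyOfFiniteType.isLocallyNoetherian (locX P X).hom
  have hd : topologicalKrullDim (locX P X).left = 2 := by
    refine le_antisymm ((jX P X).isEmbedding.isInducing.topologicalKrullDim_le.trans hdim.le) ?_
    refine le_trans ?_ (H05EGA4.DimFibre.stalkDim_le_top x')
    rw [ringKrullDim_eq_of_ringEquiv (RingEquiv.ofBijective _ (bijective_stalkMap P X x')).symm]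
    exact (H28Contr.eq_two_of_le ((H05EGA4.DimFibre.stalkDim_le_top _).trans hdim.le) hx).ge
  obtain ⟨hCi, -⟩ := LocalBase.curve_facts P X hPne hdim
  haveI := hCi
  obtain ⟨e⟩ := curve_iso hg P
  haveI : Nonempty C := ⟨e.inv (genericPoint _)⟩
  refine ⟨MorphismProperty.of_isPullback (P := @IsProper) hg ‹_›, isIntegral_of_isOpenImmersion e.hom, ?_⟩
  rw [IsHomeomorph.topologicalKrullDim_eq _ e.hom.homeomorph.isHomeomorph]
  exact ContractArtin.dim_genericFibre_eq_one (X := locX P X) hd

theorem isArithSurface_locX' (hR : ¬ IsField R) (hX : ArSurf.IsArithSurface R X)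
    (hg : IsPullback g f X.hom (Neron.genPt R)) (P : Ideal R) [P.IsPrime] (hP : P ≠ ⊥) :
    haveI := isDVR P hP
    ArSurf.IsArithSurface (Localization.AtPrime P) (locX P X) ∧
      1 ≤ topologicalKrullDim ((Neron.genericFibre (Localization.AtPrime P)).obj (locX P X)).left := by
  haveI := isDVR P hP
  obtain ⟨hreg, hint, hdim, hflat, n, i₀, hi₀, hiX⟩ := id hX
  haveI := hint
  haveI := hflat
  haveI := hi₀
  haveI : IsProper X.hom := by rw [← hiX]; infer_instance
  obtain ⟨e⟩ := curve_iso hg P
  have hK : 1 ≤ topologicalKrullDim ((Neron.genericFibre (Localization.AtPrime P)).obj (locX P X)).left := by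
    rw [← IsHomeomorph.topologicalKrullDim_eq _ e.hom.homeomorph.isHomeomorph, (curve_facts hR hX hg).2.2]
  exact ⟨isArithSurface_locX P X hP hreg hdim hK, hK⟩

/-- A morphism hitting the generic point is dominant. -/
theorem isDominant_of_apply {S T : Scheme.{u}} [IsIntegral T] (d : S ⟶ T) (t : S) (h : d t = genericPoint T) :
    IsDominant d :=
  ⟨fun y => closure_mono (Set.singleton_subset_iff.2 (Set.mem_range.2 ⟨t, h⟩))
    ((genericPoint_spec T).specializes trivial).mem_closure⟩

/-- The generic point of the generic fibre. -/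
theorem map_genericPoint (hX : ArSurf.IsArithSurface R X) (hg : IsPullback g f X.hom (Neron.genPt R))
    [IrreducibleSpace C] [IsIntegral X.left] : g.base (genericPoint C) = genericPoint X.left := by
  haveI := hX.2.2.2.1
  haveI : IsPreimmersion (Neron.genPt R) := IsPreimmersion.of_isLocalization (nonZeroDivisors R)
  haveI : IsPreimmersion g := MorphismProperty.of_isPullback hg.flip ‹_›
  obtain ⟨w, hw⟩ : genericPoint X.left ∈ Set.range (pullback.fst X.hom (Neron.genPt R)) := by
    rw [Scheme.Pullback.range_fst]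
    show X.hom (genericPoint X.left) ∈ Set.range (Neron.genPt R)
    rw [H28Vert.range_genPt, H28Vert.hom_genericPoint_eq_bot]
    rfl
  have he : g (hg.isoPullback.inv w) = genericPoint X.left := by
    rw [← Scheme.Hom.comp_apply, IsPullback.isoPullback_inv_fst]
    exact hw
  exact ((he ▸ ((genericPoint_spec C).specializes (y := hg.isoPullback.inv w) trivial).map g.continuous :
    g (genericPoint C) ⤳ genericPoint X.left).antisymm (genericPoint_specializes _)).eq

/-- A relatively minimal surface has no exceptional curves over the localisations. -/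
theorem isMinimal_locX (hR : ¬ IsField R) (hX : ArSurf.IsArithSurface R X)
    (hm : Neron.IsRelMinimalRegularModel R X) (hg : IsPullback g f X.hom (Neron.genPt R))
    (P : Ideal R) [P.IsPrime] (hP : P ≠ ⊥)
    (τ : Spec (CommRingCat.of (FractionRing (Localization.AtPrime P))) ⟶ Spec (CommRingCat.of (FractionRing R)))
    [IsIso τ] (hτ : τ ≫ Neron.genPt R = Neron.genPt (Localization.AtPrime P) ≫ locMap P) :
    haveI := isDVR P hP
    Models.IsMinimalModel (Localization.AtPrime P) (locX P X).left (locX P X).hom C (f ≫ inv τ) := by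
  haveI := isDVR P hP
  obtain ⟨hA, hK⟩ := isArithSurface_locX' hR hX hg P hP
  haveI : IsProper (locX P X).hom := H28Vert.isProper_of_isArithSurface hA
  haveI : Flat (locX P X).hom := hA.2.2.2.1
  refine ⟨⟨⟨inferInstance, inferInstance, inferInstance, _, (locData hg P τ hτ).isPullback⟩, inferInstance, hA.1⟩,
    fun Γ hΓ => ?_⟩
  obtain ⟨hreg, hint, hdim, hflat, n, i₀, hi₀, hiX⟩ := id hX
  haveI := hi₀
  haveI : IsProper X.hom := by rw [← hiX]; infer_instance
  haveI : IsLocallyNoetherian X.left := LocallyOfFiniteType.isLocallyNoetherian X.hom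
  obtain ⟨hcl, hrange⟩ := LocalExc.push P X hP Γ
  haveI := hcl
  haveI := Γ.isClosedImmersion
  obtain ⟨Z, g', hZreg, hZp, hZf, -, hZg, hne, -, -⟩ := LocalExc.exists_regular_contraction P X hP hX hK
    (Γ.ι ≫ jX P X) ((isExcCurve_iff P X Γ.ι).2 hΓ) (fun w => hrange.le ⟨w, rfl⟩)
  exact hne (hm.2.2.2 Z hZreg hZp hZf g' hZg)

/-- A morphism of generic fibres of positive genus extends to a relatively minimal surface. -/
theorem exists_hom (hR : ¬ IsField R) {Y : Over (Spec (CommRingCat.of R))} (hX : ArSurf.IsArithSurface R X)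
    (hY : ArSurf.IsArithSurface R Y) (hm : Neron.IsRelMinimalRegularModel R Y)
    (hg : IsPullback g f X.hom (Neron.genPt R)) {gY : C ⟶ Y.left} (hgY : IsPullback gY f Y.hom (Neron.genPt R))
    (hH0 : IsIso f.appTop) (hH1 : Nontrivial (Coh.HH C (Coh.structureModule C) 1)) :
    ∃ b : X ⟶ Y, g ≫ b.left = gY := by
  classical
  obtain ⟨hCp, hCi, hCd⟩ := curve_facts hR hX hg
  haveI := hCp
  haveI := hCi
  haveI := hX.2.1
  haveI := hX.2.2.2.1
  obtain ⟨nY, iY, hiY, hiYw⟩ := hY.2.2.2.2
  haveI := hiY
  haveI : IsProper Y.hom := by rw [← hiYw]; infer_instance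
  -- local morphisms
  have hloc : ∀ x : X.left, ∃ (U : X.left.Opens) (hxU : x ∈ U) (fx : (U : Scheme.{u}) ⟶ Y.left)
      (c : Spec (C.presheaf.stalk (genericPoint C)) ⟶ (U : Scheme.{u})),
      fx ≫ Y.hom = U.ι ≫ X.hom ∧ c ≫ U.ι = C.fromSpecStalk (genericPoint C) ≫ g ∧
        c ≫ fx = C.fromSpecStalk (genericPoint C) ≫ gY := by
    intro x
    obtain ⟨P, hPp, hP, hxP⟩ : ∃ (P : Ideal R) (_ : P.IsPrime), P ≠ ⊥ ∧ x ∈ Set.range (jX P X) := by
      by_cases h : PrimeSpectrum.asIdeal (R := R) (X.hom x) = ⊥
      · obtain ⟨M, hM⟩ := Ideal.exists_maximal R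
        haveI := hM.isPrime
        refine ⟨M, hM.isPrime, fun e => hR ?_, (mem_range_jX M X).2 ((mem_range_locMap M).2 (h.trans_le bot_le))⟩
        subst e
        exact Ring.isField_iff_maximal_bot.2 hM
      · exact ⟨_, PrimeSpectrum.isPrime _, h, (mem_range_jX _ X).2 ((mem_range_locMap _).2 le_rfl)⟩
    haveI := hPp
    obtain ⟨x', rfl⟩ := hxP
    haveI := isDVR P hP
    obtain ⟨τ, hτi, hτ⟩ := exists_fraction_iso P
    haveI := hτi
    let dX := locData hg P τ hτ
    let dY := locData hgY P τ hτ
    obtain ⟨hAX, -⟩ := isArithSurface_locX' hR hX hg P hP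
    haveI : IsProper (locX P X).hom := H28Vert.isProper_of_isArithSurface hAX
    haveI : Flat (locX P X).hom := hAX.2.2.2.1
    haveI : IsProper (f ≫ inv τ) := inferInstance
    haveI : IsIso ((f ≫ inv τ).appTop) := by
      haveI := hH0
      haveI : IsIso (inv τ).appTop := inferInstanceAs (IsIso ((inv τ).app ⊤))
      rw [Scheme.Hom.comp_appTop]
      infer_instance
    have hgen : 0 < Models.curveGenus (FractionRing (Localization.AtPrime P)) C (f ≫ inv τ) := by
      letI : C.Over (Spec (CommRingCat.of (FractionRing (Localization.AtPrime P)))) := ⟨f ≫ inv τ⟩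
      haveI : IsProper (C ↘ Spec (CommRingCat.of (FractionRing (Localization.AtPrime P)))) := ‹IsProper (f ≫ inv τ)›
      haveI : IsLocallyNoetherian C :=
        LocallyOfFiniteType.isLocallyNoetherian (C ↘ Spec (CommRingCat.of (FractionRing (Localization.AtPrime P))))
      haveI := H10Coh.finite_HH_proper (FractionRing (Localization.AtPrime P)) C (Coh.structureModule C)
        (H10Coh.isCoh_structureModule' C) 1
      show 0 < Module.finrank _ (Coh.HH C (Coh.structureModule C) 1)
      exact Module.finrank_pos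
    obtain ⟨bP, hbw, hbg⟩ := ModelUniqueW.exists_hom ⟨‹IsProper (f ≫ inv τ)›, hCi, hCd⟩ ‹_› hgen
      (isMinimal_locX hR hY hm hgY P hP τ hτ) dY.isPullback
      (q := (locX P X).hom)
      ⟨⟨inferInstance, inferInstance, inferInstance, _, dX.isPullback⟩, inferInstance, hAX.1⟩ dX.isPullback
    haveI : IsIso (Spec.map ((jX P X).stalkMap x')) := by
      haveI : IsIso ((jX P X).stalkMap x') :=
        (ConcreteCategory.isIso_iff_bijective _).2 (bijective_stalkMap P X x')
      infer_instance
    let ψ := inv (Spec.map ((jX P X).stalkMap x')) ≫ (locX P X).left.fromSpecStalk x' ≫ bP ≫ jX P Y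
    have hψ : ψ ≫ Y.hom = X.left.fromSpecStalk (jX P X x') ≫ X.hom := by
      simp only [ψ, Category.assoc]
      rw [IsIso.inv_comp_eq, ← Category.assoc (Spec.map _), Scheme.SpecMap_stalkMap_fromSpecStalk, Category.assoc,
        jX_w, jX_w, ← Category.assoc bP, hbw]
    obtain ⟨U, hxU, fx, hfx, hfxw⟩ := spread_out_of_isGermInjective' X.hom Y.hom ψ hψ
    have hspec : g (genericPoint C) ⤳ jX P X x' := by
      have h1 : g (genericPoint C) = genericPoint X.left := map_genericPoint hX hg
      rw [h1]
      exact genericPoint_specializes _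
    let a := Spec.map (g.stalkMap (genericPoint C)) ≫ Spec.map (X.left.presheaf.stalkSpecializes hspec)
    have ha : a ≫ X.left.fromSpecStalk (jX P X x') = C.fromSpecStalk (genericPoint C) ≫ g := by
      simp only [a, Category.assoc, Scheme.SpecMap_stalkSpecializes_fromSpecStalk,
        Scheme.SpecMap_stalkMap_fromSpecStalk]
    have hlift : a ≫ inv (Spec.map ((jX P X).stalkMap x')) ≫ (locX P X).left.fromSpecStalk x' =
        C.fromSpecStalk (genericPoint C) ≫ dX.gP := by
      rw [← cancel_mono (jX P X)]
      simp only [Category.assoc]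
      rw [← Scheme.SpecMap_stalkMap_fromSpecStalk, IsIso.inv_hom_id_assoc, dX.fac, ha]
    refine ⟨U, hxU, fx, a ≫ U.fromSpecStalkOfMem _ hxU, hfxw, ?_, ?_⟩
    · rw [Category.assoc, Scheme.Opens.fromSpecStalkOfMem_ι, ha]
    · rw [Category.assoc, ← hfx]
      simp only [ψ]
      rw [reassoc_of% hlift, ← dY.fac, ← hbg]
      simp only [Category.assoc]
  choose U hxU fx c hfxw hc hcf using hloc
  -- agreement
  have hagree : ∀ x y : X.left, pullback.fst (U x).ι (U y).ι ≫ fx x = pullback.snd (U x).ι (U y).ι ≫ fx y := by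
    intro x y
    let d := pullback.lift (f := (U x).ι) (g := (U y).ι) (c x) (c y) (by rw [hc, hc])
    let p := pullback.fst (U x).ι (U y).ι ≫ (U x).ι
    obtain ⟨t⟩ : Nonempty ↥(Spec (C.presheaf.stalk (genericPoint C))) := inferInstance
    haveI : Nonempty ↥(pullback (U x).ι (U y).ι) := ⟨d t⟩
    haveI : IsIntegral (pullback (U x).ι (U y).ι) := isIntegral_of_isOpenImmersion p
    haveI : IsDominant d := by
      refine isDominant_of_apply d (IsLocalRing.closedPoint _) ?_
      apply p.isOpenEmbedding.injective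
      rw [genericPoint_eq_of_isOpenImmersion p, ← Scheme.Hom.comp_apply]
      simp only [d, p, pullback.lift_fst_assoc, hc, Scheme.Hom.comp_apply, Scheme.fromSpecStalk_closedPoint]
      exact map_genericPoint hX hg
    refine ext_of_isDominant_of_isSeparated Y.hom ?_ d ?_
    · rw [Category.assoc, Category.assoc, hfxw, hfxw, pullback.condition_assoc]
    · rw [pullback.lift_fst_assoc, pullback.lift_snd_assoc, hcf, hcf]
  let 𝒰 := X.left.openCoverOfIsOpenCover U
    (eq_top_iff.2 fun x _ => Opens.mem_iSup.2 ⟨x, hxU x⟩)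
  let b := 𝒰.glueMorphisms fx hagree
  have hb : ∀ x, (U x).ι ≫ b = fx x := fun x => Scheme.Cover.ι_glueMorphisms 𝒰 fx hagree x
  refine ⟨Over.homMk b (𝒰.hom_ext _ _ fun x => ?_), ?_⟩
  · rw [← Category.assoc]
    exact (congrArg (· ≫ Y.hom) (hb x)).trans (hfxw x)
  · show g ≫ b = gY
    let x₀ := g (genericPoint C)
    haveI : IsDominant (C.fromSpecStalk (genericPoint C)) :=
      isDominant_of_apply _ (IsLocalRing.closedPoint _) (Scheme.fromSpecStalk_closedPoint ..)
    refine ext_of_isDominant_of_isSeparated Y.hom ?_ (C.fromSpecStalk (genericPoint C)) ?_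
    · rw [Category.assoc, hgY.w, ← hg.w]
      refine congrArg (g ≫ ·) (𝒰.hom_ext _ _ fun x => ?_)
      rw [← Category.assoc]
      exact (congrArg (· ≫ Y.hom) (hb x)).trans (hfxw x)
    · rw [← Category.assoc, ← hc x₀, Category.assoc, hb, hcf]

end Groth.Agent.H28RR.LocalGlue
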