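import Groth.Agent.H28RR.ModelUniqueW
import Groth.Agent.H28RR.LocalGlue
import Groth.Agent.H28Pinch.ContractionUnique
import Groth.Agent.H28Contr.Factor

/-! # Minimal desingularisations of normal fibered surfaces -/

set_option autoImplicit false
set_option linter.style.haveILetI false
set_option linter.unusedSectionVars false
set_option backward.isDefEq.respectTransparency.types false
set_option maxHeartbeats 1600000

universe u

open CategoryTheory CategoryTheory.Limits AlgebraicGeometry TopologicalSpace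
open Groth.Agent

noncomputable section

attribute [-instance] instAlgebraAtPrimeFractionRing

namespace Groth.Agent.H28RR.MinDesing

open ModelContract ModelUnique

variable {R : Type u} [CommRing R] [IsDomain R] [IsDiscreteValuationRing R]

/-- The generic fibre as an open of the base. -/
def genOpen (R : Type u) [CommRing R] [IsDomain R] [IsDiscreteValuationRing R] :
    (Spec (CommRingCat.of R)).Opens :=
  Scheme.Hom.opensRange (Spec.map (CommRingCat.ofHom (algebraMap R (FractionRing R))))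
    (H := H28Vert.isOpenImmersion_generic (R := R))

theorem closedPoint_notMem : IsLocalRing.closedPoint R ∉ genOpen R := by
  rintro ⟨t, ht⟩
  exact IsDiscreteValuationRing.not_a_field R ((congrArg PrimeSpectrum.asIdeal ht).symm.trans
    ((congrArg (Ideal.comap (algebraMap R (FractionRing R))) (Ideal.eq_bot_of_prime
      (PrimeSpectrum.asIdeal (R := FractionRing R) t))).trans
        (Ideal.comap_bot_of_injective _ (IsFractionRing.injective R (FractionRing R)))))

theorem genericPoint_mem (X : Over (Spec (CommRingCat.of R))) [Flat X.hom] [IsIntegral X.left] :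
    genericPoint X.left ∈ X.hom ⁻¹ᵁ genOpen R := by
  show X.hom (genericPoint X.left) ∈ genOpen R
  refine ⟨(⊥ : PrimeSpectrum (FractionRing R)), ?_⟩
  rw [H28Vert.hom_genericPoint_eq_bot (X := X)]
  exact PrimeSpectrum.ext (Ideal.comap_bot_of_injective _ (IsFractionRing.injective R (FractionRing R)))

/-- A negative canonical degree and a neighbouring component make a curve exceptional. -/
theorem isExcCurve_of_neg {X : Over (Spec (CommRingCat.of R))} (hX : ArSurf.IsArithSurface R X)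
    (Γ Δ : ArSurf.VertComp R X) (hne : Set.range Γ.ι.base ≠ Set.range Δ.ι.base)
    (hmeet : ¬ Disjoint (Set.range Γ.ι.base) (Set.range Δ.ι.base)) {ω : X.left.Modules}
    (hω : Canon.IsCanonical X.hom ω) (hK : ArSurf.inter R X ω Γ < 0) : Models.IsExcCurve Γ.ι := by
  classical
  haveI : IsProper X.hom := H28Vert.isProper_of_isArithSurface hX
  haveI : IsIntegral X.left := hX.2.1
  haveI : Flat X.hom := hX.2.2.2.1
  haveI : IsLocallyNoetherian X.left := LocallyOfFiniteType.isLocallyNoetherian X.hom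
  obtain ⟨n, Γs, hΓs⟩ := H28Vert.exists_isComponentList' (R := R) (X := X) hX.2.2.1
  have hd := H28Vert.dim_fibre_le_one hΓs
  obtain ⟨i, hi⟩ := hΓs.2.ge (H28Vert.mem_fibreComponents hd Γ)
  obtain ⟨j, hj⟩ := hΓs.2.ge (H28Vert.mem_fibreComponents hd Δ)
  let Γ' := Function.update Γs i Γ
  have hii : Γ' i = Γ := Function.update_self ..
  have he : ∀ l, Set.range ((Γ' l).ι.base : (Γ' l).curve.left → X.left) =
      Set.range ((Γs l).ι.base : (Γs l).curve.left → X.left) := fun l => by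
    rcases eq_or_ne l i with rfl | hl
    · show Set.range (Function.update Γs l Γ l).ι.base = _
      rw [Function.update_self]
      exact hi.symm
    · show Set.range (Function.update Γs i Γ l).ι.base = _
      rw [Function.update_of_ne hl]
  have hΓ' : Models.IsComponentList R X Γ' :=
    ⟨by rw [funext he]; exact hΓs.1, by rw [funext he]; exact hΓs.2⟩
  have hker : ∀ l, BlowUp.IsEffCartierIdeal (Γ' l).ι.ker := H28Vert.isEffCartierIdeal_ker hX.1 hΓ'
  choose L hLi hL using fun l => H11Sym.exists_inverse (H29Blow.isInvertible_of_isEffCartierIdeal _ (hker l))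
  have hij : i ≠ j := fun e => hne (hi.symm.trans (e ▸ hj))
  have hpos : 0 < ArSurf.inter R X (L j) (Γ' i) := by
    refine lt_of_le_of_ne (H28Vert.inter_offDiag hΓ' hL hij).1 fun e => hmeet ?_
    have h1 := (H28Vert.inter_offDiag hΓ' hL hij).2.1 e.symm
    rwa [he, he, show Set.range (Γs i).ι.base = Set.range Γ.ι.base from hi,
      show Set.range (Γs j).ι.base = Set.range Δ.ι.base from hj] at h1
  have hsum := H28Vert.sum_inter_mult hΓ' hL i
  rw [← Finset.add_sum_erase _ _ (Finset.mem_univ i)] at hsum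
  have hrest : 0 < ∑ l ∈ Finset.univ.erase i, ArSurf.inter R X (L l) (Γ' i) * (Models.mult R X (Γ' l) : ℤ) :=
    Finset.sum_pos'
      (fun l hl => mul_nonneg (H28Vert.inter_offDiag hΓ' hL (Finset.ne_of_mem_erase hl).symm).1 (Int.natCast_nonneg _))
      ⟨j, Finset.mem_erase.2 ⟨hij.symm, Finset.mem_univ j⟩,
        mul_pos hpos (by exact_mod_cast H28Vert.mult_pos hΓ' j)⟩
  have hsq : ArSurf.inter R X (L i) (Γ' i) < 0 := by
    by_contra h
    have := mul_nonneg (not_lt.1 h) (Int.natCast_nonneg (Models.mult R X (Γ' i)))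
    omega
  have hadj := H17.CanonSm.inter_add_inter_eq hX (Γ' i) (hL i) hω
  have hχ : FGA.eulerCharLE (IsLocalRing.ResidueField R) (Γ' i).curve.left
      (Coh.structureModule (Γ' i).curve.left) 1 = (Models.wdeg R X (Γ' i) : ℤ) - (Models.h1 R X (Γ' i) : ℤ) := by
    simp only [FGA.eulerCharLE, Finset.sum_range_succ, Finset.sum_range_zero]
    simp [Models.wdeg, Models.h1, sub_eq_add_neg]
  rw [hχ] at hadj
  have hK' : ArSurf.inter R X ω (Γ' i) < 0 := by rw [hii]; exact hK
  have hwpos : (0 : ℤ) < Models.wdeg R X (Γ' i) := by exact_mod_cast H28Vert.wdeg_pos (Γ' i)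
  obtain ⟨a, ha⟩ := H28Vert.wdeg_dvd_inter (Γ' i) (L i)
  obtain ⟨b, hb⟩ := H28Vert.wdeg_dvd_inter (Γ' i) ω
  obtain ⟨g, hg⟩ : (Models.wdeg R X (Γ' i) : ℤ) ∣ (Models.h1 R X (Γ' i) : ℤ) :=
    Int.natCast_dvd_natCast.2 (H28Vert.wdeg_dvd_finrank (Γ' i) _ 1)
  rw [ha, hb, hg] at hadj
  have hab : a + b = -2 * (1 - g) := by
    apply mul_left_cancel₀ hwpos.ne'
    linarith
  rw [ha] at hsq
  rw [hb] at hK'
  have ha0 : a < 0 := by
    by_contra h
    exact hsq.not_ge (mul_nonneg hwpos.le (not_lt.1 h))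
  have hb0 : b < 0 := by
    by_contra h
    exact hK'.not_ge (mul_nonneg hwpos.le (not_lt.1 h))
  have hg0 : 0 ≤ g := by
    by_contra h
    have h1 := mul_neg_of_pos_of_neg hwpos (not_le.1 h)
    omega
  obtain ⟨rfl, rfl⟩ : a = -1 ∧ g = 0 := by omega
  have hexc : Models.IsExcCurve (Γ' i).ι := by
    refine H28Vert.isExcCurve_of_numbers (hker i) (hLi i) (hL i) ?_ ?_
    · exact_mod_cast hg.trans (mul_zero _)
    · rw [ha, mul_neg_one]
  rwa [hii] at hexc

/-- An exceptional curve mapped to a point is vertical. -/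
theorem exists_vertComp {X Y : Over (Spec (CommRingCat.of R))} [IsProper X.hom] [IsProper Y.hom] (g : X ⟶ Y)
    {E : Scheme.{u}} (ι : E ⟶ X.left) [IsClosedImmersion ι] (hE : Models.IsExcCurve ι)
    (y : Y.left) (hy : Set.range ((ι ≫ g.left).base : E → Y.left) = {y}) :
    ∃ Γ : ArSurf.VertComp R X, Set.range ((Γ.ι ≫ g.left).base : Γ.curve.left → Y.left) = {y} ∧
      Models.IsExcCurve Γ.ι := by
  obtain ⟨hEff, k', hk', e₀, hη⟩ := id hE
  let cp := Spec.map (CommRingCat.ofHom (IsLocalRing.residue R))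
  haveI : IsClosedImmersion cp := IsClosedImmersion.spec_of_surjective _ IsLocalRing.residue_surjective
  obtain ⟨hint, -, hdE⟩ := H28Curve.projLine_facts k'
  haveI := hint
  haveI : Nonempty E := ⟨e₀.hom (genericPoint (CohB1.ProjSpace 1 k'))⟩
  haveI : IsIntegral E := isIntegral_of_isOpenImmersion e₀.inv
  haveI : IsProper (g.left ≫ Y.hom) := by rw [Over.w g]; infer_instance
  haveI : IsProper g.left := IsProper.of_comp g.left Y.hom
  have hys : Y.hom y = IsLocalRing.closedPoint R := by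
    have h1 := ((ι ≫ g.left) ≫ Y.hom).isClosedMap _ isClosed_univ
    rw [Set.image_univ, Scheme.Hom.comp_base, TopCat.coe_comp, Set.range_comp, hy, Set.image_singleton] at h1
    exact ((IsLocalRing.specializes_closedPoint (Y.hom y)).mem_closed h1 rfl).symm
  have hsub : Set.range (ι ≫ X.hom).base ⊆ Set.range cp.base := by
    rintro _ ⟨x, rfl⟩
    have h1 : (ι ≫ g.left).base x = y := hy.le ⟨x, rfl⟩
    refine ⟨IsLocalRing.closedPoint _, (IsLocalRing.PrimeSpectrum.comap_residue R _).trans ?_⟩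
    rw [← Over.w g, ← Category.assoc]
    exact (hys.symm.trans (congrArg Y.hom.base h1.symm))
  obtain ⟨ψ, hψ⟩ := H17.exists_lift_of_range_subset (ι ≫ X.hom) cp hsub
  let Γ : ArSurf.VertComp R X :=
    { curve := Over.mk ψ
      ι := ι
      isClosedImmersion := inferInstanceAs (IsClosedImmersion ι)
      isIntegral := inferInstanceAs (IsIntegral E)
      dim_eq := by
        show topologicalKrullDim E = 1
        exact (IsHomeomorph.topologicalKrullDim_eq _ e₀.inv.homeomorph.isHomeomorph).trans (hdE.trans Nat.cast_one)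
      w := hψ.symm }
  exact ⟨Γ, hy, hE⟩

/-- A curve contracted to a point of a normal surface meets another component of the closed fibre. -/
theorem exists_neighbour {X Y : Over (Spec (CommRingCat.of R))} (hX : ArSurf.IsArithSurface R X)
    [IsProper Y.hom] [Flat Y.hom] [IsIntegral Y.left]
    (hnor : ∀ y : Y.left, IsIntegrallyClosed (Y.left.presheaf.stalk y))
    (hdY : topologicalKrullDim Y.left = 2) (g : X ⟶ Y) (O : Y.left.Opens) (hO : (O : Set Y.left).Nonempty)
    [IsIso (g.left ∣_ O)] (Γ : ArSurf.VertComp R X) (y : Y.left)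
    (hy : Set.range ((Γ.ι ≫ g.left).base : Γ.curve.left → Y.left) = {y}) :
    ∃ Δ : ArSurf.VertComp R X, Set.range Γ.ι.base ≠ Set.range Δ.ι.base ∧
      ¬ Disjoint (Set.range Γ.ι.base) (Set.range Δ.ι.base) := by
  classical
  haveI : IsProper X.hom := H28Vert.isProper_of_isArithSurface hX
  haveI : IsIntegral X.left := hX.2.1
  haveI : Flat X.hom := hX.2.2.2.1
  haveI : IsLocallyNoetherian Y.left := LocallyOfFiniteType.isLocallyNoetherian Y.hom
  haveI : IsProper (g.left ≫ Y.hom) := by rw [Over.w g]; infer_instance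
  haveI : IsProper g.left := IsProper.of_comp g.left Y.hom
  obtain ⟨hgen, hiso⟩ := H28Contr.generic_of_birational g.left O hO
  haveI := hiso
  have hsurj : Function.Surjective g.left := fun q => by
    have h1 : IsClosed (Set.range g.left) := g.left.isClosedMap.isClosed_range
    exact (genericPoint_specializes q).mem_closed h1 ⟨_, hgen⟩
  have hconn := H28Pinch.isPreconnected_fibre_of_birational g.left (fun q => ⟨inferInstance, hnor q⟩) hgen
    (ConcreteCategory.bijective_of_isIso _) y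
  have hyΓ : ∀ x ∈ Set.range Γ.ι.base, g.left x = y := by
    rintro _ ⟨w, rfl⟩
    exact hy.le ⟨w, rfl⟩
  have hys : y ∈ Models.specialFibreSet R Y := by
    have h1 : g.left (Models.genPtOf R X Γ) = y := hyΓ _ ⟨_, rfl⟩
    exact h1 ▸ (mem_special_iff g _).2 (ModelProj.genPtOf_mem Γ)
  obtain ⟨m, Δs, hΔs⟩ := H28Vert.exists_isComponentList' (R := R) (X := Y) hdY
  obtain ⟨W, hW, hyW⟩ := H28Vert.exists_maximal_irreducible_subset (R := R) (X := Y) hys
  obtain ⟨j, hj⟩ := hΔs.2.ge hW
  obtain ⟨c, -, hc, -, hcne⟩ := ModelProj.exists_closed_ne (Δs j)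
  have hηy : Models.genPtOf R Y (Δs j) ⤳ y := by
    obtain ⟨w, hw⟩ := (show Set.range (Δs j).ι.base = W from hj).ge hyW
    have h1 := (genericPoint_specializes w).map (Δs j).ι.continuous
    rw [show (Δs j).ι w = y from hw] at h1
    exact h1
  have hηne : Models.genPtOf R Y (Δs j) ≠ y := by
    intro e
    obtain ⟨w, hw⟩ := hc
    refine hcne ?_
    have h1 := (genericPoint_specializes w).map (Δs j).ι.continuous
    rw [show (Δs j).ι w = c from hw] at h1
    have hcl : IsClosed ({y} : Set Y.left) := by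
      rw [← hy]
      exact (Γ.ι ≫ g.left).isClosedMap.isClosed_range
    exact e.trans (h1.mem_closed hcl e).symm
  obtain ⟨x, hx⟩ := hsurj (Models.genPtOf R Y (Δs j))
  have hxs : x ∈ Models.specialFibreSet R X := (mem_special_iff g x).1 (hx ▸ ModelProj.genPtOf_mem (Δs j))
  obtain ⟨n, Γs, hΓs⟩ := H28Vert.exists_isComponentList' (R := R) (X := X) hX.2.2.1
  obtain ⟨T, hT, hxT⟩ := H28Vert.exists_maximal_irreducible_subset (R := R) (X := X) hxs
  obtain ⟨l, hl⟩ := hΓs.2.ge hT
  let others : Set X.left := ⋃ i ∈ {i | Set.range (Γs i).ι.base ≠ Set.range Γ.ι.base}, Set.range (Γs i).ι.base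
  have hoc : IsClosed others :=
    (Set.toFinite _).isClosed_biUnion fun i _ => (Γs i).ι.isClosedEmbedding.isClosed_range
  have hxo : x ∈ others := by
    refine Set.mem_biUnion (x := l) ?_ ((show Set.range (Γs l).ι.base = T from hl).ge hxT)
    intro e
    exact hηne (hx.symm.trans (hyΓ x (e.le ((show Set.range (Γs l).ι.base = T from hl).ge hxT))))
  obtain ⟨w, hwo, hwy⟩ : y ∈ g.left '' others := by
    refine hηy.mem_closed (g.left.isClosedMap _ hoc) ?_
    exact ⟨x, hxo, hx⟩
  have hcov : g.left ⁻¹' {y} ⊆ Set.range Γ.ι.base ∪ others := by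
    intro q hq
    have hqs : q ∈ Models.specialFibreSet R X :=
      (mem_special_iff g q).1 ((show g.left q = y from hq) ▸ hys)
    obtain ⟨S, hS, hqS⟩ := H28Vert.exists_maximal_irreducible_subset (R := R) (X := X) hqs
    obtain ⟨i, hi⟩ := hΓs.2.ge hS
    have hqi : q ∈ Set.range (Γs i).ι.base := (show Set.range (Γs i).ι.base = S from hi).ge hqS
    by_cases e : Set.range (Γs i).ι.base = Set.range Γ.ι.base
    · exact Or.inl (e.le hqi)
    · exact Or.inr (Set.mem_biUnion (x := i) e hqi)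
  obtain ⟨q, -, hqΓ, hqo⟩ := isPreconnected_closed_iff.1 hconn _ _ Γ.ι.isClosedEmbedding.isClosed_range hoc hcov
    ⟨Models.genPtOf R X Γ, hyΓ _ ⟨_, rfl⟩, ⟨_, rfl⟩⟩ ⟨w, hwy, hwo⟩
  obtain ⟨i, hi, hqi⟩ := Set.mem_iUnion₂.1 hqo
  exact ⟨Γs i, (Ne.symm hi), Set.not_disjoint_iff.2 ⟨q, hqΓ, hqi⟩⟩

/-- A curve of negative canonical degree survives contractions, with its image. -/
theorem exists_neg_image' {W X : Scheme.{u}} {g : W ⟶ X} (hg : Models.IsContractionSeq g) :
    ∀ (q : W ⟶ Spec (CommRingCat.of R)) (p : X ⟶ Spec (CommRingCat.of R)), q = g ≫ p → IsProper p →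
      ArSurf.IsArithSurface R (Over.mk q) → ∀ (E : ArSurf.VertComp R (Over.mk q)) (ωW : W.Modules),
      Canon.IsCanonical q ωW → ArSurf.inter R (Over.mk q) ωW E < 0 →
      (¬ ∃ x : X, Set.range ((E.ι ≫ g).base : E.curve.left → X) = {x}) →
      ∀ ωX : X.Modules, Canon.IsCanonical p ωX →
      ∃ Δ : ArSurf.VertComp R (Over.mk p), ArSurf.inter R (Over.mk p) ωX Δ < 0 ∧
        Set.range (Δ.ι.base : Δ.curve.left → X) = g.base '' Set.range (E.ι.base : E.curve.left → W) := by
  induction hg with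
  | @iso W X e =>
    intro q p hqp hp hW E ωW hωW hneg _ ωX hωX
    haveI : IsIntegral W := hW.2.1
    let Δ : ArSurf.VertComp R (Over.mk p) :=
      { curve := E.curve
        ι := E.ι ≫ e.hom
        isClosedImmersion := inferInstanceAs (IsClosedImmersion (E.ι ≫ e.hom))
        isIntegral := E.isIntegral
        dim_eq := E.dim_eq
        w := by
          show (E.ι ≫ e.hom) ≫ p = _
          rw [Category.assoc, ← hqp]
          exact E.w }
    refine ⟨Δ, ?_, ?_⟩
    · obtain ⟨φ⟩ := H17.CanonSm.nonempty_pullback_iso_of_isCanonical (𝟙 W) e.hom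
        (show 𝟙 W ≫ q = e.hom ≫ p by rw [Category.id_comp, hqp]) hωW hωX
      have key : ArSurf.inter R (Over.mk p) ωX Δ = ArSurf.inter R (Over.mk q) ωW E :=
        ContractArtin.curveDeg_congr (IsLocalRing.ResidueField R) E.curve.left
          (((Scheme.Modules.pullbackComp E.ι e.hom).app ωX).symm ≪≫
            (Scheme.Modules.pullback E.ι).mapIso (φ.symm ≪≫ (Scheme.Modules.pullbackId W).app ωW))
      rw [key]
      exact hneg
    · show Set.range (E.ι ≫ e.hom).base = _
      rw [Scheme.Hom.comp_base, TopCat.coe_comp, Set.range_comp]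
  | @step W Z X F ι b r hι hF hb hr ih =>
    intro q p hqp hp hW E ωW hωW hneg hnc ωX hωX
    haveI := hι
    haveI := hp
    haveI := isProper_seq hr
    haveI hbp : IsProper b := hb.2.1
    let qZ := r ≫ p
    have hq : q = b ≫ qZ := hqp.trans (Category.assoc _ _ _)
    subst hq
    obtain ⟨E₁, -, -, hE₁, hb₁⟩ :=
      ModelUnique.exists_vertComp (W := Over.mk (b ≫ qZ)) ι hF b hb qZ rfl
    let b' : Over.mk (b ≫ qZ) ⟶ Over.mk qZ := Over.homMk b
    obtain ⟨z, hz, hZ, hpre, hiso⟩ := ModelImage.contraction_facts hW E₁ hE₁ b' hb₁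
    haveI := hiso
    haveI : IsProper (Over.mk (b ≫ qZ)).hom := H28Vert.isProper_of_isArithSurface hW
    haveI : IsProper (Over.mk qZ).hom := H28Vert.isProper_of_isArithSurface hZ
    haveI : IsIntegral (Over.mk (b ≫ qZ)).left := hW.2.1
    haveI : IsIntegral (Over.mk qZ).left := hZ.2.1
    haveI : Flat (Over.mk (b ≫ qZ)).hom := hW.2.2.2.1
    haveI : Flat (Over.mk qZ).hom := hZ.2.2.2.1
    haveI : IsLocallyNoetherian Z := LocallyOfFiniteType.isLocallyNoetherian (Over.mk qZ).hom
    haveI : CompactSpace Z := QuasiCompact.compactSpace_of_compactSpace (Over.mk qZ).hom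
    haveI : IsNoetherian Z := ⟨⟩
    have hne : Set.range E.ι.base ≠ Set.range E₁.ι.base := by
      intro heq
      refine hnc ⟨r z, Set.ext fun x => ⟨?_, ?_⟩⟩
      · rintro ⟨w, rfl⟩
        have h1 : b (E.ι w) = z := hpre.ge (heq.le ⟨w, rfl⟩)
        show r (b (E.ι w)) = r z
        rw [h1]
      · rintro rfl
        refine ⟨genericPoint _, ?_⟩
        have h1 : b (E.ι (genericPoint E.curve.left)) = z := hpre.ge (heq.le ⟨_, rfl⟩)
        show r (b (E.ι (genericPoint E.curve.left))) = r z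
        rw [h1]
    obtain ⟨m, Δs, hΔs⟩ := H28Vert.exists_isComponentList' (R := R) (X := Over.mk qZ) hZ.2.2.1
    have himg := ModelImage.image_mem b' z hz E₁ hpre hW.2.2.1 hZ.2.2.1 E hne
    obtain ⟨i, hi⟩ := hΔs.2.ge himg
    obtain ⟨ωZ, hωZi, hωZ⟩ := ModelCanon.exists_canonical hZ
    obtain ⟨L₁, hL₁i, hL₁⟩ := H11Sym.exists_inverse (H29Blow.isInvertible_of_isEffCartierIdeal _ hE₁.1)
    obtain ⟨hN, -, z', hz', hrange, -, -, hblow⟩ := hb₁
    have hzz : z = z' := by
      have h1 : b (E₁.ι (genericPoint E₁.curve.left)) = z' := hrange.le ⟨_, rfl⟩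
      exact (h1.symm.trans (hpre.ge ⟨_, rfl⟩)).symm
    subst hzz
    have hzs : qZ z = IsLocalRing.closedPoint R := by
      have h1 : b (Models.genPtOf R _ E₁) = z := hpre.ge ⟨_, rfl⟩
      exact h1 ▸ (mem_special_iff b' _).2 (ModelProj.genPtOf_mem E₁)
    obtain ⟨φ⟩ := H17.CanonSm.nonempty_canonical_blowUp_iso (Y := Over.mk qZ) hZ.1 hZ.2.2.1 hz hzs b hblow E₁
      hpre.symm L₁ hL₁ ωZ hωZ ωW hωW
    have hM : PicF.IsInvertible ((Scheme.Modules.pullback b).obj ωZ) := H11Ample.isInvertible_pullback b hωZi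
    have hωWi : PicF.IsInvertible ωW := H17.CanonSm.isInvertible_of_isCanonical hωW
    have hsum : ArSurf.inter R (Over.mk (b ≫ qZ)) ωW E =
        ArSurf.inter R (Over.mk qZ) ωZ (Δs i) + ArSurf.inter R (Over.mk (b ≫ qZ)) L₁ E := by
      rw [H28Vert.inter_congr_iso E hωWi (H11Ample.isInvertible_tensor hM hL₁i) φ,
        H28Vert.inter_tensor E hM hL₁i]
      exact congrArg (· + _) (ModelImage.inter_pullback b' z hz hωZi E
        (ModelImage.map_genPt_ne b' z E₁ hpre E hne) (Δs i) hi)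
    have hnn := (H28Vert.inter_nonneg E E₁.ι.ker (H28Vert.genericPoint_notMem E E₁ hne) hL₁).1
    obtain ⟨Δ, hΔ1, hΔ2⟩ := ih qZ p rfl hp hZ (Δs i) ωZ hωZ (by omega) (fun ⟨x, hx⟩ => hnc ⟨x, by
      rw [← hx, Scheme.Hom.comp_base, TopCat.coe_comp, Scheme.Hom.comp_base, TopCat.coe_comp, Scheme.Hom.comp_base,
        TopCat.coe_comp, Set.range_comp, Set.range_comp, Set.image_comp]
      exact congrArg (r.base '' ·) (show _ = Set.range (Δs i).ι.base from hi.symm)⟩) ωX hωX
    refine ⟨Δ, hΔ1, ?_⟩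
    rw [hΔ2, Scheme.Hom.comp_base, TopCat.coe_comp, Set.image_comp]
    exact congrArg (r.base '' ·) (show Set.range (Δs i).ι.base = _ from hi)

/-- Restricting a composite. -/
theorem isIso_restrict_left {A B D : Scheme.{u}} (a : A ⟶ B) (c : B ⟶ D) (O : D.Opens)
    [h0 : IsIso ((a ≫ c) ∣_ O)] [IsIso (c ∣_ O)] : IsIso (a ∣_ (c ⁻¹ᵁ O)) := by
  haveI h : IsIso ((a ∣_ (c ⁻¹ᵁ O)) ≫ (c ∣_ O)) := by
    rw [← morphismRestrict_comp]
    exact h0
  exact IsIso.of_isIso_comp_right _ (c ∣_ O)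

/-- Composing isomorphisms over an open. -/
theorem isIso_restrict_comp {A B D : Scheme.{u}} (a : A ⟶ B) (c : B ⟶ D) (O : D.Opens)
    (h₁ : IsIso (a ∣_ (c ⁻¹ᵁ O))) (h₂ : IsIso (c ∣_ O)) : IsIso ((a ≫ c) ∣_ O) := by
  rw [morphismRestrict_comp]
  exact @IsIso.comp_isIso _ _ _ _ _ _ _ h₁ h₂

/-- The second factor of an isomorphism over an open. -/
theorem isIso_restrict_right {A B D : Scheme.{u}} (a : A ⟶ B) (c : B ⟶ D) (d : A ⟶ D) (hd : a ≫ c = d)
    (O : D.Opens) [IsIso (a ∣_ (c ⁻¹ᵁ O))] [h0 : IsIso (d ∣_ O)] : IsIso (c ∣_ O) := by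
  subst hd
  haveI h : IsIso ((a ∣_ (c ⁻¹ᵁ O)) ≫ (c ∣_ O)) := by
    rw [← morphismRestrict_comp]
    exact h0
  exact IsIso.of_isIso_comp_left (a ∣_ (c ⁻¹ᵁ O)) (c ∣_ O)

/-- A composite of contractions over an arithmetic surface has an arithmetic surface as source. -/
theorem isArith_of_seq {Y : Over (Spec (CommRingCat.of R))} (hY : ArSurf.IsArithSurface R Y) {W : Scheme.{u}}
    {b : W ⟶ Y.left} (hb : Models.IsContractionSeq b) : ArSurf.IsArithSurface R (Over.mk (b ≫ Y.hom)) := by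
  haveI hgenO := H28Vert.isOpenImmersion_generic (R := R)
  haveI : IsProper Y.hom := H28Vert.isProper_of_isArithSurface hY
  haveI : Flat Y.hom := hY.2.2.2.1
  haveI : IsIntegral Y.left := hY.2.1
  haveI : IsProper b := isProper_seq hb
  let gen := Spec.map (CommRingCat.ofHom (algebraMap R (FractionRing R)))
  have hgY : IsPullback (pullback.fst Y.hom gen) (pullback.snd Y.hom gen) Y.hom gen := IsPullback.of_hasPullback _ _
  have hC := LocalGlue.curve_facts (IsDiscreteValuationRing.not_isField R) hY hgY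
  haveI := hC.2.1
  let gY := pullback.fst Y.hom gen
  let f := pullback.snd Y.hom gen
  let U := gY.opensRange
  have hUeq : U = Y.hom ⁻¹ᵁ gen.opensRange := by
    ext y
    constructor
    · rintro ⟨c, rfl⟩
      refine ⟨f c, ?_⟩
      rw [← Scheme.Hom.comp_apply, ← hgY.w]
      rfl
    · rintro ⟨t, ht⟩
      exact H28Vert.mem_opensRange_of_isPullback hgY y t ht.symm
  haveI : IsIso (b ∣_ U) := by
    rw [hUeq]
    exact isIso_generic hb Y.hom inferInstance
  let gW := gY.isoOpensRange.hom ≫ inv (b ∣_ U) ≫ (b ⁻¹ᵁ U).ι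
  have hgWb : gW ≫ b = gY := by
    simp only [gW, Category.assoc, ← morphismRestrict_ι, IsIso.inv_hom_id_assoc]
    exact gY.isoOpensRange_hom_ι
  have hgW : IsPullback gW f (b ≫ Y.hom) gen := by
    refine (IsOpenImmersion.isPullback f gW gen (b ≫ Y.hom)
      (by rw [← Category.assoc, hgWb, hgY.w]) ?_).flip
    rw [Scheme.Hom.comp_preimage, ← hUeq]
    simp [gW, Scheme.Hom.opensRange_comp_of_isIso]
  refine ModelProj.isArithSurface_of_model' hC ?_
  obtain ⟨hWi, hWr, hWg⟩ := regular_of_seq hb hY.2.1 hY.1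
  haveI := hWi
  have heq : b (genericPoint W) = genericPoint Y.left := (hWg _ (genericPoint_spec W)).eq (genericPoint_spec Y.left)
  haveI : Flat (b ≫ Y.hom) := by
    refine H18Subtr.flat_of_isIntegral_of_map_genericPoint (Z := W) (b ≫ Y.hom) ?_
    rw [Scheme.Hom.comp_apply, heq]
    exact H28Vert.hom_genericPoint_eq_bot (X := Y)
  exact ⟨⟨inferInstance, inferInstance, inferInstance, gW, hgW⟩, inferInstance, hWr⟩

section

variable {X Y : Over (Spec (CommRingCat.of R))} (g : X ⟶ Y) (hX : ArSurf.IsArithSurface R X)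
  [IsProper Y.hom] [Flat Y.hom] [IsIntegral Y.left]
  (hnor : ∀ y : Y.left, IsIntegrallyClosed (Y.left.presheaf.stalk y))
  (hdY : topologicalKrullDim Y.left = 2) (O : Y.left.Opens) (hO : (O : Set Y.left).Nonempty)
  (hgO : IsIso (g.left ∣_ O)) (hOgen : O ≤ Y.hom ⁻¹ᵁ genOpen R)
  (hexc : ∀ (E : Scheme.{u}) (ι : E ⟶ X.left) [IsClosedImmersion ι], Models.IsExcCurve ι →
    ¬ ∃ y : Y.left, Set.range ((ι ≫ g.left).base : E → Y.left) = {y})

include hX hnor hdY hO hgO hOgen hexc in
/-- A morphism to a desingularisation without contractible curves descends along contractions. -/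
theorem exists_descend {W X' : Scheme.{u}} {b : W ⟶ X'} (hb : Models.IsContractionSeq b) :
    ∀ (q : X' ⟶ Spec (CommRingCat.of R)) (g' : X' ⟶ Y.left), IsProper q → g' ≫ Y.hom = q →
      IsIso (g' ∣_ O) → ArSurf.IsArithSurface R (Over.mk (b ≫ q)) →
      ∀ h : W ⟶ X.left, h ≫ g.left = b ≫ g' → ∃ ψ : X' ⟶ X.left, ψ ≫ g.left = g' := by
  induction hb with
  | iso e =>
    intro q g' _ _ _ _ h hh
    exact ⟨e.inv ≫ h, by rw [Category.assoc, hh, e.inv_hom_id_assoc]⟩
  | @step W Z X' F ι b r hι hF hbc hr ih =>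
    intro q g' hq hg'q hg'O hA h hh
    haveI := hι
    haveI := hq
    haveI := isProper_seq hr
    haveI hbp : IsProper b := hbc.2.1
    haveI := hg'O
    let qZ := r ≫ q
    have hA' : ArSurf.IsArithSurface R (Over.mk (b ≫ qZ)) := Category.assoc b r q ▸ hA
    obtain ⟨E₁, -, -, hE₁, hb₁⟩ :=
      ModelUnique.exists_vertComp (W := Over.mk (b ≫ qZ)) ι hF b hbc qZ rfl
    let b' : Over.mk (b ≫ qZ) ⟶ Over.mk qZ := Over.homMk b
    obtain ⟨z, hz, hZ, hpre, hiso⟩ := ModelImage.contraction_facts hA' E₁ hE₁ b' hb₁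
    haveI hW1 : IsProper (Over.mk (b ≫ qZ)).hom := H28Vert.isProper_of_isArithSurface hA'
    haveI : IsProper X.hom := H28Vert.isProper_of_isArithSurface hX
    haveI : IsLocallyNoetherian W := LocallyOfFiniteType.isLocallyNoetherian (Over.mk (b ≫ qZ)).hom
    haveI : CompactSpace W := QuasiCompact.compactSpace_of_compactSpace (Over.mk (b ≫ qZ)).hom
    haveI : IsNoetherian W := ⟨⟩
    haveI : IsLocallyNoetherian X.left := LocallyOfFiniteType.isLocallyNoetherian X.hom
    haveI : CompactSpace X.left := QuasiCompact.compactSpace_of_compactSpace X.hom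
    haveI : IsNoetherian X.left := ⟨⟩
    haveI : IsIntegral W := hA'.2.1
    haveI : IsIntegral X.left := hX.2.1
    have hhX : h ≫ X.hom = b ≫ qZ := by
      rw [← Over.w g, reassoc_of% hh, hg'q]
    haveI : IsProper (h ≫ X.hom) := by rw [hhX]; exact hW1
    haveI : IsProper h := IsProper.of_comp h X.hom
    -- the composite to the base surface is an isomorphism over `O`
    haveI hrO : IsIso ((r ≫ g') ∣_ O) := by
      haveI : IsIso (r ∣_ (g' ⁻¹ᵁ O)) := by
        haveI : IsIso (r ∣_ (q ⁻¹ᵁ genOpen R)) := isIso_generic hr q hq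
        refine ContractVert.isIso_restrict_of_le r (U := g' ⁻¹ᵁ O) (V := q ⁻¹ᵁ genOpen R) ?_
        intro x hx
        show q x ∈ genOpen R
        rw [← hg'q, Scheme.Hom.comp_apply]
        exact hOgen hx
      exact isIso_restrict_comp r g' O ‹_› hg'O
    haveI hbO : IsIso ((b ≫ r ≫ g') ∣_ O) := by
      haveI : IsIso (b ∣_ (⟨{z}ᶜ, hz.isOpen_compl⟩ : Z.Opens)) := hiso
      haveI : IsIso (b ∣_ ((r ≫ g') ⁻¹ᵁ O)) := by
        refine ContractVert.isIso_restrict_of_le b (V := (⟨{z}ᶜ, hz.isOpen_compl⟩ : Z.Opens)) ?_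
        intro x hx e
        have h1 : b (Models.genPtOf R _ E₁) = z := hpre.ge ⟨_, rfl⟩
        have h2 : qZ z = IsLocalRing.closedPoint R := h1 ▸ (mem_special_iff b' _).2 (ModelProj.genPtOf_mem E₁)
        obtain rfl : x = z := e
        refine closedPoint_notMem (R := R) ?_
        rw [← h2]
        show q (r x) ∈ genOpen R
        rw [← hg'q, Scheme.Hom.comp_apply]
        exact hOgen hx
      exact isIso_restrict_comp b (r ≫ g') O ‹_› hrO
    haveI hhO : IsIso (h ∣_ (g.left ⁻¹ᵁ O)) := by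
      haveI := hgO
      haveI : IsIso ((h ≫ g.left) ∣_ O) := by
        rw [hh, Category.assoc]
        exact hbO
      exact isIso_restrict_left h g.left O
    have hseq : Models.IsContractionSeq h := by
      refine S7314.result h ⟨g.left ⁻¹ᵁ O, ?_, hhO⟩ hA'.1 hA'.2.2.1 hX.1 hX.2.2.1
      haveI := hgO
      obtain ⟨y, hy⟩ := hO
      exact ⟨_, ((g.left ∣_ O).homeomorph.symm ⟨y, hy⟩).2⟩
    obtain ⟨ωW, -, hωW⟩ := ModelCanon.exists_canonical hA'
    obtain ⟨ωX, -, hωX⟩ := ModelCanon.exists_canonical hX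
    have hcontr : ∃ x : X.left, Set.range ((E₁.ι ≫ h).base : E₁.curve.left → X.left) = {x} := by
      by_contra hnc
      obtain ⟨Δ, hΔ, hrange⟩ := exists_neg_image' hseq (b ≫ qZ) X.hom hhX.symm inferInstance hA' E₁ ωW hωW
        (inter_canonical_exc hA' E₁ hE₁ hωW) hnc ωX hωX
      have hy : Set.range ((Δ.ι ≫ g.left).base : Δ.curve.left → Y.left) = {g' (r z)} := by
        rw [Scheme.Hom.comp_base, TopCat.coe_comp, Set.range_comp, hrange, ← Set.image_comp, ← TopCat.coe_comp,
          ← Scheme.Hom.comp_base, hh]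
        ext y
        constructor
        · rintro ⟨w, hw, rfl⟩
          show g' (r (b w)) = g' (r z)
          rw [show b w = z from hpre.ge hw]
        · rintro rfl
          refine ⟨Models.genPtOf R _ E₁, ⟨_, rfl⟩, ?_⟩
          show g' (r (b (Models.genPtOf R _ E₁))) = g' (r z)
          rw [show b (Models.genPtOf R _ E₁) = z from hpre.ge ⟨_, rfl⟩]
      haveI := hgO
      obtain ⟨Δ', hne, hmeet⟩ := exists_neighbour (X := Over.mk X.hom) hX hnor hdY g O hO Δ _ hy
      haveI := Δ.isClosedImmersion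
      exact hexc Δ.curve.left Δ.ι (isExcCurve_of_neg (X := Over.mk X.hom) hX Δ Δ' hne hmeet hωX hΔ) ⟨_, hy⟩
    obtain ⟨x, hx⟩ := hcontr
    haveI := E₁.isClosedImmersion
    haveI : IsNoetherian (Over.mk (b ≫ qZ)).left := ‹IsNoetherian W›
    obtain ⟨h₁, hh₁, -⟩ := S7307.result E₁.ι hE₁ b hb₁ h x hx
    have hxs : Set.range ((E₁.ι ≫ h ≫ g.left).base : E₁.curve.left → Y.left) = {g.left x} := by
      rw [show E₁.ι ≫ h ≫ g.left = (E₁.ι ≫ h) ≫ g.left from (Category.assoc _ _ _).symm, Scheme.Hom.comp_base,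
        TopCat.coe_comp, Set.range_comp, hx, Set.image_singleton]
    obtain ⟨ψ, -, huni⟩ := S7307.result E₁.ι hE₁ b hb₁ (h ≫ g.left) _ hxs
    have hh₁g : h₁ ≫ g.left = r ≫ g' :=
      (huni _ (show b ≫ h₁ ≫ g.left = h ≫ g.left by rw [← Category.assoc, hh₁])).trans
        (huni _ (show b ≫ r ≫ g' = h ≫ g.left by rw [hh, Category.assoc])).symm
    exact ih q g' hq hg'q hg'O hZ h₁ hh₁g

end

/-- A desingularisation without contractible curves receives every desingularisation uniquely. -/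
theorem existsUnique_hom {X Y X' : Over (Spec (CommRingCat.of R))} [IsProper Y.hom] [Flat Y.hom] [IsIntegral Y.left]
    (hnor : ∀ y : Y.left, IsIntegrallyClosed (Y.left.presheaf.stalk y)) (hdY : topologicalKrullDim Y.left = 2)
    (hX : ArSurf.IsArithSurface R X) (g : X ⟶ Y)
    (Ug : Y.left.Opens) (hUg : (Ug : Set Y.left).Nonempty) (hisog : IsIso (g.left ∣_ Ug))
    (hexc : ∀ (E : Scheme.{u}) (ι : E ⟶ X.left) [IsClosedImmersion ι], Models.IsExcCurve ι →
      ¬ ∃ y : Y.left, Set.range ((ι ≫ g.left).base : E → Y.left) = {y})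
    (hX' : ArSurf.IsArithSurface R X') (g' : X' ⟶ Y)
    (Ug' : Y.left.Opens) (hUg' : (Ug' : Set Y.left).Nonempty) (hisog' : IsIso (g'.left ∣_ Ug')) :
    ∃! h : X' ⟶ X, h ≫ g = g' := by
  let O := Ug ⊓ Ug' ⊓ (Y.hom ⁻¹ᵁ genOpen R)
  have hOη : genericPoint Y.left ∈ O := by
    refine ⟨⟨?_, ?_⟩, genericPoint_mem Y⟩
    · obtain ⟨y, hy⟩ := hUg
      exact (genericPoint_specializes y).mem_open Ug.2 hy
    · obtain ⟨y, hy⟩ := hUg'
      exact (genericPoint_specializes y).mem_open Ug'.2 hy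
  haveI := hisog
  haveI := hisog'
  haveI hgO : IsIso (g.left ∣_ O) :=
    ContractVert.isIso_restrict_of_le g.left (V := Ug) (inf_le_left.trans inf_le_left)
  haveI hg'O : IsIso (g'.left ∣_ O) :=
    ContractVert.isIso_restrict_of_le g'.left (V := Ug') (inf_le_left.trans inf_le_right)
  haveI : IsIntegral X'.left := hX'.2.1
  haveI : IsProper X'.hom := H28Vert.isProper_of_isArithSurface hX'
  haveI : IsProper X.hom := H28Vert.isProper_of_isArithSurface hX
  haveI : IsSeparated (g.left ≫ Y.hom) := by rw [Over.w g]; infer_instance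
  haveI : IsSeparated g.left := IsSeparated.of_comp g.left Y.hom
  obtain ⟨hgen', -⟩ := H28Contr.generic_of_birational g'.left O ⟨_, hOη⟩
  let U : X'.left.Opens := g'.left ⁻¹ᵁ O
  have hUη : genericPoint X'.left ∈ U := by
    show g'.left (genericPoint X'.left) ∈ O
    rw [hgen']
    exact hOη
  haveI : IsDominant U.ι := ⟨by rw [DenseRange, Scheme.Opens.range_ι]; exact IsOpen.dense U.2 ⟨_, hUη⟩⟩
  let φ : (U : Scheme.{u}) ⟶ X.left := (g'.left ∣_ O) ≫ inv (g.left ∣_ O) ≫ (g.left ⁻¹ᵁ O).ι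
  have hφg : φ ≫ g.left = U.ι ≫ g'.left := by
    simp only [φ, Category.assoc]
    rw [← morphismRestrict_ι, IsIso.inv_hom_id_assoc, morphismRestrict_ι]
  have hexun : ∀ ψ : X'.left ⟶ X.left, ψ ≫ g.left = g'.left → U.ι ≫ ψ = φ := by
    intro ψ hψ
    have hr : Set.range (U.ι ≫ ψ).base ⊆ Set.range (g.left ⁻¹ᵁ O).ι.base := by
      rintro _ ⟨w, rfl⟩
      rw [Scheme.Opens.range_ι]
      show g.left ((U.ι ≫ ψ) w) ∈ O
      rw [← Scheme.Hom.comp_apply, Category.assoc, hψ]
      exact w.2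
    have hl := IsOpenImmersion.lift_fac (g.left ⁻¹ᵁ O).ι (U.ι ≫ ψ) hr
    generalize IsOpenImmersion.lift (g.left ⁻¹ᵁ O).ι (U.ι ≫ ψ) hr = l at hl
    rw [← hl]
    simp only [φ]
    rw [← Category.assoc (g'.left ∣_ O)]
    congr 1
    rw [IsIso.eq_comp_inv, ← cancel_mono O.ι, Category.assoc, morphismRestrict_ι, reassoc_of% hl, hψ,
      morphismRestrict_ι]
  have huniq : ∀ h₁ h₂ : X' ⟶ X, h₁ ≫ g = g' → h₂ ≫ g = g' → h₁ = h₂ := fun h₁ h₂ e₁ e₂ =>
    Over.OverMorphism.ext (ext_of_isDominant_of_isSeparated g.left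
      ((congrArg CommaMorphism.left e₁).trans (congrArg CommaMorphism.left e₂).symm) U.ι
      ((hexun _ (congrArg CommaMorphism.left e₁)).trans (hexun _ (congrArg CommaMorphism.left e₂)).symm))
  obtain ⟨W, f, h, hf, hhX, hagree⟩ := S7941.result R X' hX' X hX.2.2.2.2 U ⟨_, hUη⟩ φ
    (by rw [← Over.w g, reassoc_of% hφg, Over.w g'])
  have hA := isArith_of_seq hX' hf
  haveI : IsIntegral W := hA.2.1
  haveI : IsDominant (f ⁻¹ᵁ U).ι := by
    refine ⟨?_⟩
    rw [DenseRange, Scheme.Opens.range_ι]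
    refine IsOpen.dense (f ⁻¹ᵁ U).2 ⟨genericPoint W, ?_⟩
    show f (genericPoint W) ∈ U
    obtain ⟨-, -, hWg⟩ := regular_of_seq hf hX'.2.1 hX'.1
    rw [(hWg _ (genericPoint_spec W)).eq (genericPoint_spec X'.left)]
    exact hUη
  have hhg : h ≫ g.left = f ≫ g'.left := by
    refine ext_of_isDominant_of_isSeparated Y.hom ?_ (f ⁻¹ᵁ U).ι ?_
    · rw [Category.assoc, Category.assoc, Over.w g, Over.w g', hhX]
    · rw [reassoc_of% hagree, hφg, morphismRestrict_ι_assoc]
  obtain ⟨ψ, hψ⟩ := exists_descend g hX hnor hdY O ⟨_, hOη⟩ hgO inf_le_right hexc hf X'.hom g'.left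
    inferInstance (Over.w g') hg'O hA h hhg
  refine ⟨Over.homMk ψ (by rw [← Over.w g, reassoc_of% hψ]; exact Over.w g'), Over.OverMorphism.ext hψ, ?_⟩
  intro h' hh'
  exact huniq _ _ hh' (Over.OverMorphism.ext hψ)

/-- A desingularisation without contractible exceptional curves exists. -/
theorem exists_minimal (Y : Over (Spec (CommRingCat.of R))) [IsProper Y.hom] [Flat Y.hom] [IsIntegral Y.left] :
    ∀ (n : ℕ) (X : Over (Spec (CommRingCat.of R))) (g : X ⟶ Y) (O : Y.left.Opens),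
      (Models.fibreComponents R X).ncard ≤ n → ArSurf.IsArithSurface R X → IsIso (g.left ∣_ O) →
      O ≤ Y.hom ⁻¹ᵁ genOpen R →
      ∃ (Z : Over (Spec (CommRingCat.of R))) (gZ : Z ⟶ Y), ArSurf.IsArithSurface R Z ∧ IsIso (gZ.left ∣_ O) ∧
        ∀ (E : Scheme.{u}) (ι : E ⟶ Z.left) [IsClosedImmersion ι], Models.IsExcCurve ι →
          ¬ ∃ y : Y.left, Set.range ((ι ≫ gZ.left).base : E → Y.left) = {y} := by
  intro n
  induction n using Nat.strong_induction_on with
  | _ n ih =>
    intro X g O hn hA hgO hOgen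
    haveI hp : IsProper X.hom := H28Vert.isProper_of_isArithSurface hA
    by_cases hmin : ∀ (Γ : ArSurf.VertComp R X), Models.IsExcCurve Γ.ι →
        ¬ ∃ y : Y.left, Set.range ((Γ.ι ≫ g.left).base : Γ.curve.left → Y.left) = {y}
    · refine ⟨X, g, hA, hgO, fun E ι _ hE ⟨y, hy⟩ => ?_⟩
      obtain ⟨Γ, hΓy, hΓ⟩ := exists_vertComp g ι hE y hy
      exact hmin Γ hΓ ⟨y, hΓy⟩
    push Not at hmin
    obtain ⟨Γ, hΓ, y, hy⟩ := hmin
    haveI : Flat X.hom := hA.2.2.2.1
    haveI : IsIntegral X.left := hA.2.1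
    haveI : IsLocallyNoetherian X.left := LocallyOfFiniteType.isLocallyNoetherian X.hom
    haveI : CompactSpace X.left := QuasiCompact.compactSpace_of_compactSpace X.hom
    haveI : IsNoetherian X.left := ⟨⟩
    haveI := Γ.isClosedImmersion
    obtain ⟨Z, b, z, hz, hZ, hb, hpre, hiso⟩ := exists_contraction hA Γ hΓ
    haveI := hiso
    obtain ⟨hreg, hint, hdim, hflat, -⟩ := id hZ
    haveI := hint
    haveI := hflat
    haveI : IsProper Z.hom := H28Vert.isProper_of_isArithSurface hZ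
    haveI : IsLocallyNoetherian Z.left := LocallyOfFiniteType.isLocallyNoetherian Z.hom
    haveI : CompactSpace Z.left := QuasiCompact.compactSpace_of_compactSpace Z.hom
    haveI : IsNoetherian Z.left := ⟨⟩
    obtain ⟨g₁, hg₁, -⟩ := S7307.result Γ.ι hΓ b.left hb g.left y hy
    have hys : Set.range ((Γ.ι ≫ g.left ≫ Y.hom).base : Γ.curve.left → Spec (CommRingCat.of R)) = {Y.hom y} := by
      rw [← Category.assoc, Scheme.Hom.comp_base, TopCat.coe_comp, Set.range_comp, hy, Set.image_singleton]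
    obtain ⟨ψ, -, huni⟩ := S7307.result Γ.ι hΓ b.left hb (g.left ≫ Y.hom) _ hys
    have hg₁w : g₁ ≫ Y.hom = Z.hom :=
      (huni _ (show b.left ≫ g₁ ≫ Y.hom = g.left ≫ Y.hom by rw [← Category.assoc, hg₁])).trans
        (huni _ (show b.left ≫ Z.hom = g.left ≫ Y.hom by rw [Over.w b, Over.w g])).symm
    have hE : Set.range Γ.ι.base ∈ Models.fibreComponents R X := by
      obtain ⟨m, Δ, hΔ⟩ := H28Vert.exists_isComponentList' (R := R) (X := X) hA.2.2.1
      exact H28Vert.mem_fibreComponents (H28Vert.dim_fibre_le_one hΔ) Γ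
    have hzs : z ∈ Models.specialFibreSet R Z := by
      have h1 : b.left (Models.genPtOf R _ Γ) = z := hpre.ge ⟨_, rfl⟩
      exact h1 ▸ (mem_special_iff b _).2 (ModelProj.genPtOf_mem Γ)
    have hlt := ncard_lt b z hz hdim hE hpre
    haveI hbO : IsIso (b.left ∣_ (g₁ ⁻¹ᵁ O)) := by
      refine ContractVert.isIso_restrict_of_le b.left (V := (⟨{z}ᶜ, hz.isOpen_compl⟩ : Z.left.Opens)) ?_
      intro x hx e
      obtain rfl : x = z := e
      refine closedPoint_notMem (R := R) ?_
      rw [← show Z.hom x = IsLocalRing.closedPoint R from hzs, ← hg₁w, Scheme.Hom.comp_apply]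
      exact hOgen hx
    haveI := hgO
    haveI hg₁O : IsIso (g₁ ∣_ O) := isIso_restrict_right b.left g₁ g.left hg₁ O
    exact ih _ (hlt.trans_le hn) Z (Over.homMk g₁ hg₁w) O le_rfl hZ hg₁O hOgen

end Groth.Agent.H28RR.MinDesing
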