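import Groth.Agent.H28RR.ModelImage
import Groth.Agent.H28RR.ModelCanon
import Groth.Agent.H17.Canon.BlowVert
import Groth.Agent.H17.Canon.VertAdj
import Groth.Agent.S7314
import Groth.Agent.S7941
import Groth.Agent.S3321

/-! # Minimal models of curves of positive genus receive every regular proper model -/

set_option autoImplicit false
set_option linter.style.haveILetI false
set_option linter.unusedSectionVars false
set_option backward.isDefEq.respectTransparency.types false
set_option maxHeartbeats 1600000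

universe u

open CategoryTheory CategoryTheory.Limits AlgebraicGeometry TopologicalSpace

noncomputable section

namespace Groth.Agent.H28RR.ModelUnique

open ModelContract

variable {R : Type u} [CommRing R] [IsDomain R] [IsDiscreteValuationRing R]

/-- A composite of contractions is proper. -/
theorem isProper_seq {W Y : Scheme.{u}} {g : W ⟶ Y} (hg : Models.IsContractionSeq g) : IsProper g := by
  induction hg with
  | iso e => infer_instance
  | step ι b r _ _ hb _ ih =>
    haveI := hb.2.1
    haveI := ih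
    infer_instance

/-- An exceptional curve contracted to a closed point of a proper scheme is vertical. -/
theorem exists_vertComp {W : Over (Spec (CommRingCat.of R))} {Z E : Scheme.{u}} (ι : E ⟶ W.left)
    [IsClosedImmersion ι] (hE : Models.IsExcCurve ι) (b : W.left ⟶ Z) (hb : Models.IsContractionOf ι b)
    (qZ : Z ⟶ Spec (CommRingCat.of R)) [IsProper qZ] (hq : b ≫ qZ = W.hom) :
    ∃ (Γ : ArSurf.VertComp R W) (e : Γ.curve.left ≅ E), e.hom ≫ ι = Γ.ι ∧ Models.IsExcCurve Γ.ι ∧
      Models.IsContractionOf Γ.ι b := by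
  obtain ⟨hN, hbp, z, hz, hrz, hreg, hdim, hblow⟩ := id hb
  obtain ⟨hEff, k', hk', e₀, hη⟩ := id hE
  let cp := Spec.map (CommRingCat.ofHom (IsLocalRing.residue R))
  haveI : IsClosedImmersion cp := IsClosedImmersion.spec_of_surjective _ IsLocalRing.residue_surjective
  obtain ⟨hint, -, hdE⟩ := H28Curve.projLine_facts k'
  haveI := hint
  haveI : Nonempty E := ⟨e₀.hom (genericPoint (CohB1.ProjSpace 1 k'))⟩
  haveI : IsIntegral E := isIntegral_of_isOpenImmersion e₀.inv
  have hzs : qZ z = IsLocalRing.closedPoint R := by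
    have h1 := qZ.isClosedMap _ hz
    rw [Set.image_singleton] at h1
    exact ((IsLocalRing.specializes_closedPoint (qZ z)).mem_closed h1 rfl).symm
  have hsub : Set.range (ι ≫ W.hom).base ⊆ Set.range cp.base := by
    rintro _ ⟨x, rfl⟩
    have h1 : (ι ≫ b).base x = z := hrz.le ⟨x, rfl⟩
    refine ⟨IsLocalRing.closedPoint _, (IsLocalRing.PrimeSpectrum.comap_residue R _).trans ?_⟩
    rw [← hq, ← Category.assoc]
    exact (hzs.symm.trans (congrArg qZ.base h1.symm))
  obtain ⟨ψ, hψ⟩ := H17.exists_lift_of_range_subset (ι ≫ W.hom) cp hsub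
  let Γ : ArSurf.VertComp R W :=
    { curve := Over.mk ψ
      ι := ι
      isClosedImmersion := inferInstanceAs (IsClosedImmersion ι)
      isIntegral := inferInstanceAs (IsIntegral E)
      dim_eq := by
        show topologicalKrullDim E = 1
        exact (IsHomeomorph.topologicalKrullDim_eq _ e₀.inv.homeomorph.isHomeomorph).trans (hdE.trans Nat.cast_one)
      w := hψ.symm }
  exact ⟨Γ, Iso.refl E, Category.id_comp ι, hE, hb⟩

/-- The adjunction formula for an exceptional curve. -/
theorem inter_canonical_exc {W : Over (Spec (CommRingCat.of R))} (hW : ArSurf.IsArithSurface R W)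
    (Γ : ArSurf.VertComp R W) (hΓ : Models.IsExcCurve Γ.ι) {ω : W.left.Modules}
    (hω : Canon.IsCanonical W.hom ω) : ArSurf.inter R W ω Γ < 0 := by
  haveI : IsProper W.hom := H28Vert.isProper_of_isArithSurface hW
  obtain ⟨k', _, _, _, e, -, hw⟩ := exists_line hΓ
  obtain ⟨L, hLi, hL⟩ := H11Sym.exists_inverse (H29Blow.isInvertible_of_isEffCartierIdeal _ hΓ.1)
  obtain ⟨h1, h2⟩ := H28Vert.exc_facts hΓ hLi hL
  have h3 := H17.CanonSm.inter_add_inter_eq hW Γ hL hω
  have h4 : FGA.eulerCharLE (IsLocalRing.ResidueField R) Γ.curve.left (Coh.structureModule Γ.curve.left) 1 =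
      (Models.wdeg R W Γ : ℤ) - (Models.h1 R W Γ : ℤ) := by
    simp only [FGA.eulerCharLE, Finset.sum_range_succ, Finset.sum_range_zero]
    simp [Models.wdeg, Models.h1, sub_eq_add_neg]
  have hwpos : 0 < Models.wdeg R W Γ := hw ▸ Module.finrank_pos
  rw [h4, h1, h2] at h3
  omega

/-- A negative canonical degree survives contractions. -/
theorem exists_neg_image {W X : Scheme.{u}} {g : W ⟶ X} (hg : Models.IsContractionSeq g) :
    ∀ (q : W ⟶ Spec (CommRingCat.of R)) (p : X ⟶ Spec (CommRingCat.of R)), q = g ≫ p → IsProper p →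
      ArSurf.IsArithSurface R (Over.mk q) → ∀ (E : ArSurf.VertComp R (Over.mk q)) (ωW : W.Modules),
      Canon.IsCanonical q ωW → ArSurf.inter R (Over.mk q) ωW E < 0 →
      (¬ ∃ x : X, Set.range ((E.ι ≫ g).base : E.curve.left → X) = {x}) →
      ∀ ωX : X.Modules, Canon.IsCanonical p ωX →
      ∃ Δ : ArSurf.VertComp R (Over.mk p), ArSurf.inter R (Over.mk p) ωX Δ < 0 := by
  induction hg with
  | @iso W X e =>
    intro q p hqp hp hW E ωW hωW hneg _ ωX hωX
    haveI : IsIntegral W := hW.2.1
    let Δ : ArSurf.VertComp R (Over.mk p) :=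
      { curve := E.curve
        ι := E.ι ≫ e.hom
        isClosedImmersion := inferInstanceAs (IsClosedImmersion (E.ι ≫ e.hom))
        isIntegral := E.isIntegral
        dim_eq := E.dim_eq
        w := by
          show (E.ι ≫ e.hom) ≫ p = _
          rw [Category.assoc, ← hqp]
          exact E.w }
    refine ⟨Δ, ?_⟩
    obtain ⟨φ⟩ := H17.CanonSm.nonempty_pullback_iso_of_isCanonical (𝟙 W) e.hom
      (show 𝟙 W ≫ q = e.hom ≫ p by rw [Category.id_comp, hqp]) hωW hωX
    have key : ArSurf.inter R (Over.mk p) ωX Δ = ArSurf.inter R (Over.mk q) ωW E :=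
      ContractArtin.curveDeg_congr (IsLocalRing.ResidueField R) E.curve.left
        (((Scheme.Modules.pullbackComp E.ι e.hom).app ωX).symm ≪≫
          (Scheme.Modules.pullback E.ι).mapIso (φ.symm ≪≫ (Scheme.Modules.pullbackId W).app ωW))
    rw [key]
    exact hneg
  | @step W Z X F ι b r hι hF hb hr ih =>
    intro q p hqp hp hW E ωW hωW hneg hnc ωX hωX
    haveI := hι
    haveI := hp
    haveI := isProper_seq hr
    haveI hbp : IsProper b := hb.2.1
    let qZ := r ≫ p
    have hq : q = b ≫ qZ := hqp.trans (Category.assoc _ _ _)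
    subst hq
    obtain ⟨E₁, -, -, hE₁, hb₁⟩ :=
      exists_vertComp (W := Over.mk (b ≫ qZ)) ι hF b hb qZ rfl
    let b' : Over.mk (b ≫ qZ) ⟶ Over.mk qZ := Over.homMk b
    obtain ⟨z, hz, hZ, hpre, hiso⟩ := ModelImage.contraction_facts hW E₁ hE₁ b' hb₁
    haveI := hiso
    haveI : IsProper (Over.mk (b ≫ qZ)).hom := H28Vert.isProper_of_isArithSurface hW
    haveI : IsProper (Over.mk qZ).hom := H28Vert.isProper_of_isArithSurface hZ
    haveI : IsIntegral (Over.mk (b ≫ qZ)).left := hW.2.1
    haveI : IsIntegral (Over.mk qZ).left := hZ.2.1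
    haveI : Flat (Over.mk (b ≫ qZ)).hom := hW.2.2.2.1
    haveI : Flat (Over.mk qZ).hom := hZ.2.2.2.1
    haveI : IsLocallyNoetherian Z := LocallyOfFiniteType.isLocallyNoetherian (Over.mk qZ).hom
    haveI : CompactSpace Z := QuasiCompact.compactSpace_of_compactSpace (Over.mk qZ).hom
    haveI : IsNoetherian Z := ⟨⟩
    have hne : Set.range E.ι.base ≠ Set.range E₁.ι.base := by
      intro heq
      refine hnc ⟨r z, Set.ext fun x => ⟨?_, ?_⟩⟩
      · rintro ⟨w, rfl⟩
        have h1 : b (E.ι w) = z := hpre.ge (heq.le ⟨w, rfl⟩)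
        show r (b (E.ι w)) = r z
        rw [h1]
      · rintro rfl
        refine ⟨genericPoint _, ?_⟩
        have h1 : b (E.ι (genericPoint E.curve.left)) = z := hpre.ge (heq.le ⟨_, rfl⟩)
        show r (b (E.ι (genericPoint E.curve.left))) = r z
        rw [h1]
    obtain ⟨m, Δs, hΔs⟩ := H28Vert.exists_isComponentList' (R := R) (X := Over.mk qZ) hZ.2.2.1
    have himg := ModelImage.image_mem b' z hz E₁ hpre hW.2.2.1 hZ.2.2.1 E hne
    obtain ⟨i, hi⟩ := hΔs.2.ge himg
    obtain ⟨ωZ, hωZi, hωZ⟩ := ModelCanon.exists_canonical hZ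
    obtain ⟨L₁, hL₁i, hL₁⟩ := H11Sym.exists_inverse (H29Blow.isInvertible_of_isEffCartierIdeal _ hE₁.1)
    obtain ⟨hN, -, z', hz', hrange, -, -, hblow⟩ := hb₁
    have hzz : z = z' := by
      have h1 : b (E₁.ι (genericPoint E₁.curve.left)) = z' := hrange.le ⟨_, rfl⟩
      exact (h1.symm.trans (hpre.ge ⟨_, rfl⟩)).symm
    subst hzz
    have hzs : qZ z = IsLocalRing.closedPoint R := by
      have h1 : b (Models.genPtOf R _ E₁) = z := hpre.ge ⟨_, rfl⟩
      exact h1 ▸ (mem_special_iff b' _).2 (ModelProj.genPtOf_mem E₁)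
    obtain ⟨φ⟩ := H17.CanonSm.nonempty_canonical_blowUp_iso (Y := Over.mk qZ) hZ.1 hZ.2.2.1 hz hzs b hblow E₁
      hpre.symm L₁ hL₁ ωZ hωZ ωW hωW
    have hM : PicF.IsInvertible ((Scheme.Modules.pullback b).obj ωZ) := H11Ample.isInvertible_pullback b hωZi
    have hωWi : PicF.IsInvertible ωW := H17.CanonSm.isInvertible_of_isCanonical hωW
    have hsum : ArSurf.inter R (Over.mk (b ≫ qZ)) ωW E =
        ArSurf.inter R (Over.mk qZ) ωZ (Δs i) + ArSurf.inter R (Over.mk (b ≫ qZ)) L₁ E := by
      rw [H28Vert.inter_congr_iso E hωWi (H11Ample.isInvertible_tensor hM hL₁i) φ,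
        H28Vert.inter_tensor E hM hL₁i]
      exact congrArg (· + _) (ModelImage.inter_pullback b' z hz hωZi E
        (ModelImage.map_genPt_ne b' z E₁ hpre E hne) (Δs i) hi)
    have hnn := (H28Vert.inter_nonneg E E₁.ι.ker (H28Vert.genericPoint_notMem E E₁ hne) hL₁).1
    refine ih qZ p rfl hp hZ (Δs i) ωZ hωZ (by omega) (fun ⟨x, hx⟩ => hnc ⟨x, ?_⟩) ωX hωX
    rw [← hx, Scheme.Hom.comp_base, TopCat.coe_comp, Scheme.Hom.comp_base, TopCat.coe_comp, Scheme.Hom.comp_base,
      TopCat.coe_comp, Set.range_comp, Set.range_comp, Set.image_comp]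
    exact congrArg (r.base '' ·) (show _ = Set.range (Δs i).ι.base from hi.symm)

/-- On a minimal model of a curve of positive genus every component has non-negative canonical degree. -/
theorem false_of_neg_canonical {C X : Scheme.{u}} {f : C ⟶ Spec (CommRingCat.of (FractionRing R))}
    {p : X ⟶ Spec (CommRingCat.of R)} (hC : Curve.IsSmoothProperCurve (FractionRing R) C f) (hH0 : IsIso f.appTop)
    (hg : 0 < Models.curveGenus (FractionRing R) C f) (hX : Models.IsMinimalModel R X p C f)
    {ω : X.Modules} (hω : Canon.IsCanonical p ω) (Δ : ArSurf.VertComp R (Over.mk p))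
    (hneg : ArSurf.inter R (Over.mk p) ω Δ < 0) : False := by
  classical
  have hA := ModelProj.isArithSurface_of_model hC hX.1
  haveI : IsProper (Over.mk p).hom := H28Vert.isProper_of_isArithSurface hA
  haveI : IsIntegral (Over.mk p).left := hA.2.1
  haveI : Flat (Over.mk p).hom := hA.2.2.2.1
  haveI : IsLocallyNoetherian (Over.mk p).left := LocallyOfFiniteType.isLocallyNoetherian (Over.mk p).hom
  obtain ⟨n, Γ, hΓ⟩ := H28Vert.exists_isComponentList' (R := R) (X := Over.mk p) hA.2.2.1
  have hmem := H28Vert.mem_fibreComponents (H28Vert.dim_fibre_le_one hΓ) Δ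
  obtain ⟨i, hi⟩ := hΓ.2.ge hmem
  let Γ' := Function.update Γ i Δ
  have hΓ' : Models.IsComponentList R (Over.mk p) Γ' := by
    have he : (fun j => Set.range ((Γ' j).ι.base : (Γ' j).curve.left → X)) =
        fun j => Set.range ((Γ j).ι.base : (Γ j).curve.left → X) := funext fun j => by
      rcases eq_or_ne j i with rfl | hj
      · show Set.range (Function.update Γ j Δ j).ι.base = _
        rw [Function.update_self]
        exact hi.symm
      · show Set.range (Function.update Γ i Δ j).ι.base = _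
        rw [Function.update_of_ne hj]
    exact ⟨by rw [he]; exact hΓ.1, by rw [he]; exact hΓ.2⟩
  have hii : Γ' i = Δ := Function.update_self ..
  have hkerX : ∀ j, BlowUp.IsEffCartierIdeal (Γ' j).ι.ker := H28Vert.isEffCartierIdeal_ker hA.1 hΓ'
  choose L hLi hL using fun j => H11Sym.exists_inverse (H29Blow.isInvertible_of_isEffCartierIdeal _ (hkerX j))
  obtain ⟨T, hm, ha, hw, hh1, -⟩ := H28Vert.exists_numericalType f p hC hH0 hX.1 Γ' hΓ' L hL
  have hadj := H17.CanonSm.inter_add_inter_eq hA (Γ' i) (hL i) hω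
  have hχ : FGA.eulerCharLE (IsLocalRing.ResidueField R) (Γ' i).curve.left
      (Coh.structureModule (Γ' i).curve.left) 1 = T.w i - T.w i * T.g i := by
    rw [hh1, hw]
    simp only [FGA.eulerCharLE, Finset.sum_range_succ, Finset.sum_range_zero]
    simp [Models.wdeg, Models.h1, sub_eq_add_neg]
  rw [hχ, ← ha i i] at hadj
  have hneg' : ArSurf.inter R (Over.mk p) ω (Γ' i) < 0 := by rw [hii]; exact hneg
  have hmul : ∑ j, T.a i j * T.m j = 0 := congrFun T.mulVec_m i
  rcases Nat.lt_or_ge 1 n with hn | hn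
  · obtain ⟨s, hs, j, hj, hne⟩ := T.connected {i} (Finset.singleton_nonempty i)
      (fun h => by
        have hc := congrArg Finset.card h
        rw [Finset.card_singleton, Finset.card_univ, Fintype.card_fin] at hc
        omega)
    rw [Finset.mem_singleton] at hs hj
    subst hs
    have hpos : 0 < T.a s j := lt_of_le_of_ne (T.offDiag_nonneg s j (Ne.symm hj)) (Ne.symm hne)
    have hlt : T.a s s * T.m s < 0 := by
      rw [← Finset.add_sum_erase _ _ (Finset.mem_univ s)] at hmul
      have h1 : 0 < ∑ l ∈ Finset.univ.erase s, T.a s l * T.m l :=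
        Finset.sum_pos' (fun l hl => mul_nonneg (T.offDiag_nonneg s l (Finset.ne_of_mem_erase hl).symm) (T.m_pos l).le)
          ⟨j, Finset.mem_erase.2 ⟨hj, Finset.mem_univ j⟩, mul_pos hpos (T.m_pos j)⟩
      omega
    have hass : T.a s s < 0 := by
      by_contra h
      exact hlt.not_ge (mul_nonneg (not_lt.1 h) (T.m_pos s).le)
    obtain ⟨c, hc⟩ := T.w_dvd s s
    have hc0 : c < 0 := by
      by_contra h
      rw [hc] at hass
      exact hass.not_ge (mul_nonneg (T.w_pos s).le (not_lt.1 h))
    have hgs : T.g s = 0 := by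
      by_contra h
      have h1 : 1 ≤ T.g s := by have := T.g_nonneg s; omega
      have h2 : T.w s ≤ T.w s * T.g s := le_mul_of_one_le_right (T.w_pos s).le h1
      omega
    have hc1 : c = -1 := by
      by_contra h
      have h2 : c ≤ -2 := by omega
      have h3 : T.w s * c ≤ T.w s * (-2) := mul_le_mul_of_nonneg_left h2 (T.w_pos s).le
      rw [hgs] at hadj
      omega
    refine hX.2 (Γ' s) (H28Vert.isExcCurve_of_numbers (hkerX s) (hLi s) (hL s) ?_ ?_)
    · have h0 := hh1 s
      rw [hgs, mul_zero] at h0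
      exact_mod_cast h0.symm
    · rw [← ha, hc, hc1, hw]
      ring
  · obtain rfl : n = 1 := by have := T.pos; omega
    rw [Subsingleton.elim i 0] at hadj hneg' hmul
    rw [Fin.sum_univ_one] at hmul
    have haa : T.a 0 0 = 0 := (mul_eq_zero.1 hmul).resolve_right (T.m_pos 0).ne'
    have hgen := S3321.result R C X f p hC hH0 hX.1 Γ' hΓ' L hL
    rw [Fin.sum_univ_one, ← hh1, ← ha, ← hw, ← hm, haa] at hgen
    have h1 : 0 < T.w 0 - T.w 0 * T.g 0 := by rw [haa] at hadj; omega
    have h2 : 0 < T.m 0 * (T.w 0 - T.w 0 * T.g 0) := mul_pos (T.m_pos 0) h1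
    have hg' : (1 : ℤ) ≤ (Models.curveGenus (FractionRing R) C f : ℤ) := by exact_mod_cast hg
    linarith [h2, hgen, hg']

/-- A composite of contractions is an isomorphism on the generic fibre. -/
theorem isIso_generic {W Y : Scheme.{u}} {g : W ⟶ Y} (hg : Models.IsContractionSeq g) :
    ∀ (q : Y ⟶ Spec (CommRingCat.of R)), IsProper q →
      IsIso (g ∣_ (q ⁻¹ᵁ Scheme.Hom.opensRange (Spec.map (CommRingCat.ofHom (algebraMap R (FractionRing R))))
        (H := H28Vert.isOpenImmersion_generic (R := R)))) := by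
  induction hg with
  | iso e => intro q _; infer_instance
  | @step W Z X F ι b r _ _ hb hr ih =>
    intro q hq
    haveI := hq
    haveI := isProper_seq hr
    haveI := hb.2.1
    haveI := H28Vert.isOpenImmersion_generic (R := R)
    let G := Scheme.Hom.opensRange (Spec.map (CommRingCat.ofHom (algebraMap R (FractionRing R))))
    obtain ⟨-, -, z, hz, -, -, -, hblow⟩ := hb
    haveI : IsIso (b ∣_ (⟨{z}ᶜ, hz.isOpen_compl⟩ : Z.Opens)) :=
      H29Blow.isIso_morphismRestrict hblow _ fun x hx hsupp => by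
        rw [← SetLike.mem_coe, Scheme.IdealSheafData.coe_support_vanishingIdeal] at hsupp
        exact hx hsupp
    have hle : r ⁻¹ᵁ (q ⁻¹ᵁ G) ≤ (⟨{z}ᶜ, hz.isOpen_compl⟩ : Z.Opens) := by
      intro w hw e
      obtain rfl : w = z := e
      obtain ⟨t, ht⟩ := hw
      have h1 := (r ≫ q).isClosedMap _ hz
      rw [Set.image_singleton] at h1
      have h2 : (r ≫ q) w = IsLocalRing.closedPoint R :=
        ((IsLocalRing.specializes_closedPoint ((r ≫ q) w)).mem_closed h1 rfl).symm
      refine IsDiscreteValuationRing.not_a_field R ((congrArg PrimeSpectrum.asIdeal (h2.symm.trans ht.symm)).trans ?_)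
      exact ((congrArg (Ideal.comap (algebraMap R (FractionRing R))) (Ideal.eq_bot_of_prime
        (PrimeSpectrum.asIdeal (R := FractionRing R) t))).trans
          (Ideal.comap_bot_of_injective _ (IsFractionRing.injective R (FractionRing R))))
    haveI h1 : IsIso (b ∣_ (r ⁻¹ᵁ (q ⁻¹ᵁ G))) := ContractVert.isIso_restrict_of_le b hle
    haveI h2 : IsIso (r ∣_ (q ⁻¹ᵁ G)) := ih q hq
    show IsIso ((b ≫ r) ∣_ (q ⁻¹ᵁ G))
    rw [morphismRestrict_comp]
    exact @IsIso.comp_isIso _ _ _ _ _ _ _ h1 h2

/-- Blowing up closed points keeps integral regular schemes integral and regular. -/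
theorem regular_of_seq {W Y : Scheme.{u}} {g : W ⟶ Y} (hg : Models.IsContractionSeq g) :
    IsIntegral Y → Models.IsRegularScheme Y →
      IsIntegral W ∧ Models.IsRegularScheme W ∧
        ∀ η : W, IsGenericPoint η Set.univ → IsGenericPoint (g η) (Set.univ : Set Y) := by
  induction hg with
  | @iso W Y e =>
    intro hY hreg
    haveI := hY
    haveI : Nonempty W := ⟨e.inv (genericPoint Y)⟩
    haveI hW : IsIntegral W := isIntegral_of_isOpenImmersion e.hom
    refine ⟨hW, fun w => ?_, ?_⟩
    · haveI := hreg (e.hom w)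
      exact IsRegularLocalRing.of_ringEquiv (asIso (e.hom.stalkMap w)).commRingCatIsoToRingEquiv
    · intro η hη
      have h := hη.image e.hom.continuous
      rwa [Set.image_univ, (show Function.Surjective e.hom from e.hom.homeomorph.surjective).range_eq, closure_univ] at h
  | @step W Z Y F ι b r _ _ hb hr ih =>
    intro hY hreg
    obtain ⟨hZi, hZr, hZg⟩ := ih hY hreg
    haveI := hZi
    obtain ⟨hN, hbp, z, hz, -, hrz, hdz, hblow⟩ := hb
    haveI := hN
    haveI := hbp
    haveI : IsLocallyNoetherian W := LocallyOfFiniteType.isLocallyNoetherian b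
    have hηz : genericPoint Z ≠ z := fun e => by
      have h0 : ringKrullDim Z.functionField = 0 := ringKrullDim_eq_zero_of_field _
      rw [← e] at hdz
      exact absurd (h0.symm.trans hdz) (by decide)
    have hI0 : Scheme.IdealSheafData.vanishingIdeal (⟨{z}, hz⟩ : Closeds Z) ≠ ⊥ := fun h => by
      have h1 := congrArg (fun I : Z.IdealSheafData => (I.support : Set Z)) h
      simp only [Scheme.IdealSheafData.coe_support_vanishingIdeal, Scheme.IdealSheafData.support_bot] at h1
      exact hηz (h1.ge (Set.mem_univ (genericPoint Z)))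
    obtain ⟨hWi, hgen, -⟩ := S2348.result _ hI0 b hblow
    haveI := hWi
    haveI : IsIso (b ∣_ (⟨{z}ᶜ, hz.isOpen_compl⟩ : Z.Opens)) :=
      H29Blow.isIso_morphismRestrict hblow _ fun x hx hsupp => by
        rw [← SetLike.mem_coe, Scheme.IdealSheafData.coe_support_vanishingIdeal] at hsupp
        exact hx hsupp
    refine ⟨hWi, fun x => ?_, ?_⟩
    · by_cases hx : b x = z
      · subst hx
        exact (H28Contr.stepHom_stalkMap hz hrz hdz hblow).1
      · haveI := H28Contr.isIso_stalkMap_of_restrict b ⟨{z}ᶜ, hz.isOpen_compl⟩ x hx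
        haveI := hZr (b x)
        exact IsRegularLocalRing.of_ringEquiv (asIso (b.stalkMap x)).commRingCatIsoToRingEquiv
    · intro η hη
      rw [Scheme.Hom.comp_apply, hη.eq (genericPoint_spec W), hgen]
      exact hZg _ (genericPoint_spec Z)

section

variable {C X Y : Scheme.{u}} {f : C ⟶ Spec (CommRingCat.of (FractionRing R))}
  {p : X ⟶ Spec (CommRingCat.of R)}

/-- A morphism between models compatible with the inclusions of the curve is birational. -/
theorem isIso_restrict_opensRange {W : Scheme.{u}} {q : W ⟶ Spec (CommRingCat.of R)} {gW : C ⟶ W} {gX : C ⟶ X}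
    [IsOpenImmersion gX]
    (hgW : IsPullback gW f q (Spec.map (CommRingCat.ofHom (algebraMap R (FractionRing R)))))
    (hgX : IsPullback gX f p (Spec.map (CommRingCat.ofHom (algebraMap R (FractionRing R)))))
    (g : W ⟶ X) (hgp : g ≫ p = q) (hg : gW ≫ g = gX) : IsIso (g ∣_ gX.opensRange) := by
  have h : IsPullback gW (𝟙 C) g gX :=
    IsPullback.of_bot (v₂₁ := f) (v₂₂ := p) (h₃₁ := Spec.map (CommRingCat.ofHom (algebraMap R (FractionRing R))))
      (by rw [Category.id_comp, hgp]; exact hgW) (by rw [Category.id_comp, hg]) hgX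
  haveI : IsIso (pullback.snd g gX) := by
    rw [← h.isoPullback_inv_snd, Category.comp_id]
    infer_instance
  exact ((MorphismProperty.isomorphisms Scheme).arrow_mk_iso_iff (morphismRestrictOpensRange g gX)).2
    (inferInstance : IsIso (pullback.snd g gX))

/-- Morphisms of models are determined on the generic fibre. -/
theorem eq_of_generic {T S : Scheme.{u}} {q : Y ⟶ Spec (CommRingCat.of R)} (hC : Curve.IsSmoothProperCurve (FractionRing R) C f)
    (hY : Models.IsRegularProperModel R Y q C f) {gY : C ⟶ Y}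
    (hgY : IsPullback gY f q (Spec.map (CommRingCat.ofHom (algebraMap R (FractionRing R)))))
    (s : T ⟶ S) [IsSeparated s] {b b' : Y ⟶ T} (h : b ≫ s = b' ≫ s) (hb : gY ≫ b = gY ≫ b') :
    b = b' := by
  haveI := ModelArith.isIntegral_model hC hY
  haveI : IsIntegral C := hC.2.2.1
  haveI := H28Vert.isOpenImmersion_generic (R := R)
  haveI : IsOpenImmersion gY := MorphismProperty.of_isPullback hgY.flip inferInstance
  haveI : IsDominant gY := ⟨by
    have h1 : (gY.opensRange : Set Y).Nonempty := ⟨gY (genericPoint C), ⟨_, rfl⟩⟩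
    exact gY.opensRange.2.dense h1⟩
  exact ext_of_isDominant_of_isSeparated s h gY hb

variable (hC : Curve.IsSmoothProperCurve (FractionRing R) C f) (hH0 : IsIso f.appTop)
  (hg : 0 < Models.curveGenus (FractionRing R) C f) (hX : Models.IsMinimalModel R X p C f)
  {gX : C ⟶ X} (hgX : IsPullback gX f p (Spec.map (CommRingCat.ofHom (algebraMap R (FractionRing R)))))

include hC hX hgX in
/-- A morphism of models is a composite of contractions. -/
theorem isContractionSeq_of_hom {W : Scheme.{u}} {q : W ⟶ Spec (CommRingCat.of R)}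
    (hW : Models.IsRegularProperModel R W q C f) {gW : C ⟶ W}
    (hgW : IsPullback gW f q (Spec.map (CommRingCat.ofHom (algebraMap R (FractionRing R)))))
    (g : W ⟶ X) (hgp : g ≫ p = q) (hgg : gW ≫ g = gX) : Models.IsContractionSeq g := by
  obtain ⟨hregW, hintW, hdW, -, -⟩ := ModelProj.isArithSurface_of_model hC hW
  obtain ⟨hregX, hintX, hdX, -, -⟩ := ModelProj.isArithSurface_of_model hC hX.1
  haveI : IsIntegral W := hintW
  haveI : IsIntegral X := hintX
  haveI : IsProper q := hW.2.1
  haveI : IsProper p := hX.1.2.1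
  haveI : IsLocallyNoetherian W := LocallyOfFiniteType.isLocallyNoetherian q
  haveI : CompactSpace W := QuasiCompact.compactSpace_of_compactSpace q
  haveI : IsNoetherian W := ⟨⟩
  haveI : IsLocallyNoetherian X := LocallyOfFiniteType.isLocallyNoetherian p
  haveI : CompactSpace X := QuasiCompact.compactSpace_of_compactSpace p
  haveI : IsNoetherian X := ⟨⟩
  haveI : IsProper (g ≫ p) := by rw [hgp]; infer_instance
  haveI : IsProper g := IsProper.of_comp g p
  haveI := H28Vert.isOpenImmersion_generic (R := R)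
  haveI : IsOpenImmersion gX := MorphismProperty.of_isPullback hgX.flip inferInstance
  haveI : IsIntegral C := hC.2.2.1
  exact S7314.result g ⟨gX.opensRange, ⟨gX (genericPoint C), ⟨_, rfl⟩⟩,
    isIso_restrict_opensRange hgW hgX g hgp hgg⟩ hregW hdW hregX hdX

include hC hH0 hg hX hgX in
/-- A morphism to the minimal model descends along contractions. -/
theorem exists_descend {W Y : Scheme.{u}} {b : W ⟶ Y} (hb : Models.IsContractionSeq b) :
    ∀ (qW : W ⟶ Spec (CommRingCat.of R)) (qY : Y ⟶ Spec (CommRingCat.of R)) (gW : C ⟶ W) (g : W ⟶ X),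
      qW = b ≫ qY → IsProper qY → Models.IsRegularProperModel R W qW C f →
      IsPullback gW f qW (Spec.map (CommRingCat.ofHom (algebraMap R (FractionRing R)))) →
      g ≫ p = qW → gW ≫ g = gX → ∃ h : Y ⟶ X, b ≫ h = g := by
  induction hb with
  | iso e =>
    intro qW qY gW g _ _ _ _ _ _
    exact ⟨e.inv ≫ g, e.hom_inv_id_assoc g⟩
  | @step W Z Y F ι b r hι hF hbc hr ih =>
    intro qW qY gW g hq hqY hW hgW hgp hgg
    haveI := hι
    haveI := hqY
    haveI := isProper_seq hr
    haveI hbp : IsProper b := hbc.2.1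
    let qZ := r ≫ qY
    have hq' : qW = b ≫ qZ := hq.trans (Category.assoc _ _ _)
    subst hq'
    obtain ⟨E₁, -, -, hE₁, hb₁⟩ :=
      exists_vertComp (W := Over.mk (b ≫ qZ)) ι hF b hbc qZ rfl
    have hA : ArSurf.IsArithSurface R (Over.mk (b ≫ qZ)) := ModelProj.isArithSurface_of_model hC hW
    haveI : IsProper (Over.mk (b ≫ qZ)).hom := H28Vert.isProper_of_isArithSurface hA
    haveI : IsLocallyNoetherian W := LocallyOfFiniteType.isLocallyNoetherian (Over.mk (b ≫ qZ)).hom
    haveI : CompactSpace W := QuasiCompact.compactSpace_of_compactSpace (Over.mk (b ≫ qZ)).hom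
    haveI : IsNoetherian W := ⟨⟩
    obtain ⟨ωW, -, hωW⟩ := ModelCanon.exists_canonical hA
    obtain ⟨ωX, -, hωX⟩ := ModelCanon.exists_canonical (ModelProj.isArithSurface_of_model hC hX.1)
    have hcontr : ∃ x : X, Set.range ((E₁.ι ≫ g).base : E₁.curve.left → X) = {x} := by
      by_contra hnc
      obtain ⟨Δ, hΔ⟩ := exists_neg_image (isContractionSeq_of_hom hC hX hgX hW hgW g hgp hgg) (b ≫ qZ) p
        hgp.symm hX.1.2.1 hA E₁ ωW hωW (inter_canonical_exc hA E₁ hE₁ hωW) hnc ωX hωX
      exact false_of_neg_canonical hC hH0 hg hX hωX Δ hΔ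
    obtain ⟨x, hx⟩ := hcontr
    haveI := E₁.isClosedImmersion
    haveI : IsNoetherian (Over.mk (b ≫ qZ)).left := ‹IsNoetherian W›
    obtain ⟨g₁, hg₁, -⟩ := S7307.result E₁.ι hE₁ b hb₁ g x hx
    have hxs : Set.range ((E₁.ι ≫ b ≫ qZ).base : E₁.curve.left → Spec (CommRingCat.of R)) = {p x} := by
      rw [show E₁.ι ≫ b ≫ qZ = (E₁.ι ≫ g) ≫ p by rw [Category.assoc, hgp], Scheme.Hom.comp_base,
        TopCat.coe_comp, Set.range_comp, hx, Set.image_singleton]
    obtain ⟨ψ, -, huni⟩ := S7307.result E₁.ι hE₁ b hb₁ (b ≫ qZ) _ hxs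
    have hg₁p : g₁ ≫ p = qZ :=
      (huni _ (show b ≫ g₁ ≫ p = b ≫ qZ by rw [← Category.assoc, hg₁]; exact hgp)).trans (huni _ rfl).symm
    let b' : Over.mk (b ≫ qZ) ⟶ Over.mk qZ := Over.homMk b
    obtain ⟨z, hz, hZ, hpre, hiso⟩ := ModelImage.contraction_facts hA E₁ hE₁ b' hb₁
    haveI := hiso
    have hzs : z ∈ Models.specialFibreSet R (Over.mk qZ) := by
      have h1 : b'.left (Models.genPtOf R _ E₁) = z := hpre.ge ⟨_, rfl⟩
      exact h1 ▸ (mem_special_iff b' _).2 (ModelProj.genPtOf_mem E₁)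
    have hgZ := isPullback_comp b' z hz hzs gW hgW
    haveI : IsProper qZ := inferInstanceAs (IsProper (r ≫ qY))
    have hZm : Models.IsRegularProperModel R Z qZ C f :=
      ⟨⟨hZ.2.2.2.1, inferInstance, inferInstance, gW ≫ b, hgZ⟩, inferInstance, hZ.1⟩
    obtain ⟨h, hh⟩ := ih qZ qY (gW ≫ b) g₁ rfl hqY hZm hgZ hg₁p (by rw [Category.assoc, hg₁, hgg])
    exact ⟨h, by rw [Category.assoc, hh, hg₁]⟩

include hC hH0 hg hX hgX in
/-- Every regular proper model maps to the minimal model. -/
theorem exists_hom {q : Y ⟶ Spec (CommRingCat.of R)} (hY : Models.IsRegularProperModel R Y q C f) {gY : C ⟶ Y}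
    (hgY : IsPullback gY f q (Spec.map (CommRingCat.ofHom (algebraMap R (FractionRing R))))) :
    ∃ b : Y ⟶ X, b ≫ p = q ∧ gY ≫ b = gX := by
  haveI : IsProper p := hX.1.2.1
  haveI : IsProper q := hY.2.1
  haveI hgenO := H28Vert.isOpenImmersion_generic (R := R)
  haveI : IsOpenImmersion gY := MorphismProperty.of_isPullback hgY.flip inferInstance
  haveI : IsIntegral C := hC.2.2.1
  let gen := Spec.map (CommRingCat.ofHom (algebraMap R (FractionRing R)))
  let U := gY.opensRange
  let φ : (U : Scheme.{u}) ⟶ X := gY.isoOpensRange.inv ≫ gX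
  have hi : gY.isoOpensRange.inv ≫ gY = U.ι := gY.isoOpensRange_inv_comp
  have hφ : φ ≫ p = U.ι ≫ q := by
    rw [Category.assoc, hgX.w, ← hgY.w, ← Category.assoc, hi]
  obtain ⟨W, b, g, hb, hgp, hagree⟩ := S7941.result R (Over.mk q) (ModelProj.isArithSurface_of_model hC hY)
    (Over.mk p) (ModelProj.isArithSurface_of_model hC hX.1).2.2.2.2 U ⟨gY (genericPoint C), ⟨_, rfl⟩⟩ φ hφ
  have hUeq : U = q ⁻¹ᵁ gen.opensRange := by
    ext y
    constructor
    · rintro ⟨c, rfl⟩
      refine ⟨f c, ?_⟩
      rw [← Scheme.Hom.comp_apply, ← hgY.w]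
      rfl
    · rintro ⟨t, ht⟩
      exact H28Vert.mem_opensRange_of_isPullback hgY y t ht.symm
  haveI : IsIso (b ∣_ U) := by
    rw [hUeq]
    exact isIso_generic hb q inferInstance
  let gW : C ⟶ W := gY.isoOpensRange.hom ≫ inv (b ∣_ U) ≫ (b ⁻¹ᵁ U).ι
  have hgWb : gW ≫ b = gY := by
    simp only [gW, Category.assoc, ← morphismRestrict_ι, IsIso.inv_hom_id_assoc]
    exact gY.isoOpensRange_hom_ι
  have hgWg : gW ≫ g = gX := by
    simp only [gW, Category.assoc]
    rw [hagree, IsIso.inv_hom_id_assoc]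
    exact gY.isoOpensRange.hom_inv_id_assoc gX
  haveI : IsProper b := isProper_seq hb
  have hgW : IsPullback gW f (b ≫ q) gen := by
    refine (IsOpenImmersion.isPullback f gW gen (b ≫ q)
      (by rw [← Category.assoc, hgWb, hgY.w]) ?_).flip
    rw [Scheme.Hom.comp_preimage, ← hUeq]
    simp [gW, Scheme.Hom.opensRange_comp_of_isIso]
  have hWm : Models.IsRegularProperModel R W (b ≫ q) C f := by
    have hA := ModelProj.isArithSurface_of_model hC hY
    obtain ⟨hWi, hWr, hWg⟩ := regular_of_seq hb hA.2.1 hA.1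
    haveI : IsIntegral Y := hA.2.1
    haveI := hWi
    haveI : Flat q := hY.1.1
    haveI : Flat (Over.mk q).hom := hY.1.1
    haveI : IsIntegral (Over.mk q).left := hA.2.1
    have heq : b (genericPoint W) = genericPoint Y := (hWg _ (genericPoint_spec W)).eq (genericPoint_spec Y)
    haveI : Flat (b ≫ q) := by
      refine H18Subtr.flat_of_isIntegral_of_map_genericPoint (Z := W) (b ≫ q) ?_
      rw [Scheme.Hom.comp_apply, heq]
      exact H28Vert.hom_genericPoint_eq_bot (X := Over.mk q)
    exact ⟨⟨inferInstance, inferInstance, inferInstance, gW, hgW⟩, inferInstance, hWr⟩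
  obtain ⟨h, hh⟩ := exists_descend hC hH0 hg hX hgX hb (b ≫ q) q gW g rfl inferInstance hWm hgW hgp hgWg
  have hgh : gY ≫ h = gX := by rw [← hgWb, Category.assoc, hh, hgWg]
  refine ⟨h, ?_, hgh⟩
  exact eq_of_generic hC hY hgY (terminal.from (Spec (CommRingCat.of R))) (terminal.hom_ext _ _)
    (by rw [← Category.assoc, hgh, hgX.w, hgY.w])

end

end Groth.Agent.H28RR.ModelUnique
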