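import Groth.Agent.H28RR.SoleNumbers
import Groth.Agent.H28RR.ModelImage
import Groth.Agent.H28RR.ModelUnique
import Groth.Agent.S7314
import Groth.Agent.S13319
import Groth.Agent.H28RR.MinDesing

/-!
# Canonical degrees of contracted curves; contractions are not isomorphisms
-/

set_option autoImplicit false
set_option linter.style.haveILetI false
set_option linter.unusedSectionVars false
set_option backward.isDefEq.respectTransparency.types false
set_option maxHeartbeats 1600000

universe u

open CategoryTheory CategoryTheory.Limits AlgebraicGeometry TopologicalSpace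
open Groth.Agent Groth.Agent.H28RR.ModelUnique

noncomputable section

attribute [-instance] instAlgebraAtPrimeFractionRing

namespace Groth.Agent.H28RR.SoleComponent

variable {R : Type u} [CommRing R] [IsDomain R] [IsDiscreteValuationRing R]

/-- A morphism inducing an isomorphism on generic fibres is an isomorphism over the generic fibre. -/
theorem isIso_restrict_generic {X Y : Over (Spec (CommRingCat.of R))} (g : X ⟶ Y)
    (hg : IsIso ((Neron.genericFibre R).map g)) :
    haveI := H28Vert.isOpenImmersion_generic (R := R)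
    IsIso (g.left ∣_ (Y.hom ⁻¹ᵁ (Neron.genPt R).opensRange)) := by
  haveI : IsOpenImmersion (Neron.genPt R) := H28Vert.isOpenImmersion_generic (R := R)
  let φ := ((Neron.genericFibre R).map g).left
  haveI := hg
  haveI : IsIso φ := inferInstanceAs (IsIso ((Over.forget _).map ((Neron.genericFibre R).map g)))
  let bY := pullback.fst Y.hom (Neron.genPt R)
  haveI : IsOpenImmersion bY := inferInstanceAs (IsOpenImmersion (pullback.fst Y.hom (Neron.genPt R)))
  have hφ : φ ≫ bY = pullback.fst X.hom (Neron.genPt R) ≫ g.left := pullback.lift_fst _ _ _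
  have hφs : φ ≫ pullback.snd Y.hom (Neron.genPt R) = pullback.snd X.hom (Neron.genPt R) :=
    pullback.lift_snd _ _ _
  have hsq : IsPullback (pullback.fst X.hom (Neron.genPt R)) φ g.left bY := by
    refine IsPullback.of_bot (h₃₁ := Neron.genPt R) (v₂₁ := pullback.snd Y.hom (Neron.genPt R))
      (v₂₂ := Y.hom) ?_ hφ.symm (IsPullback.of_hasPullback _ _)
    rw [hφs, Over.w g]
    exact IsPullback.of_hasPullback _ _
  haveI : IsIso (pullback.snd g.left bY) := by
    have h : hsq.isoPullback.inv ≫ φ = pullback.snd g.left bY := hsq.isoPullback_inv_snd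
    rw [← h]
    infer_instance
  have hV : Y.hom ⁻¹ᵁ (Neron.genPt R).opensRange = bY.opensRange :=
    TopologicalSpace.Opens.ext (Scheme.Pullback.range_fst Y.hom (Neron.genPt R)).symm
  show IsIso (g.left ∣_ (Y.hom ⁻¹ᵁ (Neron.genPt R).opensRange))
  rw [hV]
  exact ((MorphismProperty.isomorphisms _).arrow_mk_iso_iff (morphismRestrictOpensRange g.left bY)).2
    (by infer_instance : IsIso (pullback.snd g.left bY))

/-- A curve with the numbers of Castelnuovo's criterion is exceptional. -/
theorem isExcCurve_of_line {X : Over (Spec (CommRingCat.of R))} (hX : ArSurf.IsArithSurface R X)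
    (C : ArSurf.VertComp R X) (k' : Type u) [Field k'] [Algebra (IsLocalRing.ResidueField R) k']
    [FiniteDimensional (IsLocalRing.ResidueField R) k'] (e : C.curve.left ≅ CohB1.ProjSpace 1 k')
    (he : e.hom ≫ (CohB1.ProjSpace 1 k' ↘ Spec (CommRingCat.of k')) ≫
      Spec.map (CommRingCat.ofHom (algebraMap (IsLocalRing.ResidueField R) k')) = C.curve.hom)
    (L : X.left.Modules) (hL : ClSub.IsInverseOf L (ClSub.idealMod C.ι.ker))
    (hself : ArSurf.inter R X L C = -(Module.finrank (IsLocalRing.ResidueField R) k' : ℤ)) :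
    Models.IsExcCurve C.ι := by
  haveI : IsProper X.hom := H28Vert.isProper_of_isArithSurface hX
  haveI : IsIntegral X.left := hX.2.1
  haveI : Flat X.hom := hX.2.2.2.1
  haveI : IsLocallyNoetherian X.left := LocallyOfFiniteType.isLocallyNoetherian X.hom
  obtain ⟨n, Γs, hΓs⟩ := H28Vert.exists_isComponentList' (R := R) (X := X) hX.2.2.1
  have hEff := H28Vert.isEffCartierIdeal_ker_of_mem hX.1 C
    (H28Vert.mem_fibreComponents (H28Vert.dim_fibre_le_one hΓs) C)
  have hLi : PicF.IsInvertible L := H17.InvertibleTensor.isInvertible_of_tensor_iso _ _ hL.some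
  obtain ⟨hK, hsq⟩ := (S13319.result R X hX C L hL _ (ModelCanon.exists_canonical hX).choose_spec.2).1.1
    ⟨k', _, _, inferInstance, e, he, hself⟩
  have hw : (0 : ℤ) < Models.wdeg R X C := by exact_mod_cast H28Vert.wdeg_pos C
  have hadj := adjunction hX C hL (ModelCanon.exists_canonical hX).choose_spec.2
  have heq := (S13319.result R X hX C L hL _ (ModelCanon.exists_canonical hX).choose_spec.2).2 hK hsq
  obtain ⟨a, ha⟩ := H28Vert.wdeg_dvd_inter C L
  obtain ⟨g, hg⟩ : (Models.wdeg R X C : ℤ) ∣ (Models.h1 R X C : ℤ) :=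
    Int.natCast_dvd_natCast.2 (H28Vert.wdeg_dvd_finrank C _ 1)
  rw [heq, ha, hg] at hadj
  have hag : a = g - 1 := by
    apply mul_left_cancel₀ hw.ne'
    linarith
  have ha0 : a < 0 := by
    by_contra h
    rw [ha] at hsq
    exact hsq.not_ge (mul_nonneg hw.le (not_lt.1 h))
  have hg0 : 0 ≤ g := by
    by_contra h
    have h1 := mul_neg_of_pos_of_neg hw (not_le.1 h)
    omega
  obtain ⟨rfl, rfl⟩ : a = -1 ∧ g = 0 := by omega
  refine H28Vert.isExcCurve_of_numbers hEff hLi hL ?_ ?_
  · exact_mod_cast hg.trans (mul_zero _)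
  · rw [ha, mul_neg_one]

/-- A non-isomorphic contraction exists for a curve with the numbers of Castelnuovo's criterion. -/
theorem exists_contraction_nonIso {X : Over (Spec (CommRingCat.of R))} (hX : ArSurf.IsArithSurface R X)
    (C : ArSurf.VertComp R X) (k' : Type u) [Field k'] [Algebra (IsLocalRing.ResidueField R) k']
    [FiniteDimensional (IsLocalRing.ResidueField R) k'] (e : C.curve.left ≅ CohB1.ProjSpace 1 k')
    (he : e.hom ≫ (CohB1.ProjSpace 1 k' ↘ Spec (CommRingCat.of k')) ≫
      Spec.map (CommRingCat.ofHom (algebraMap (IsLocalRing.ResidueField R) k')) = C.curve.hom)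
    (L : X.left.Modules) (hL : ClSub.IsInverseOf L (ClSub.idealMod C.ι.ker))
    (hself : ArSurf.inter R X L C = -(Module.finrank (IsLocalRing.ResidueField R) k' : ℤ)) :
    ∃ (Y : Over (Spec (CommRingCat.of R))) (f : X ⟶ Y), ArSurf.IsArithSurface R Y ∧
      IsIso ((Neron.genericFibre R).map f) ∧ ¬ IsIso f := by
  haveI : IsProper X.hom := H28Vert.isProper_of_isArithSurface hX
  haveI : IsIntegral X.left := hX.2.1
  haveI : Flat X.hom := hX.2.2.2.1
  haveI : IsLocallyNoetherian X.left := LocallyOfFiniteType.isLocallyNoetherian X.hom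
  obtain ⟨n, Γs, hΓs⟩ := H28Vert.exists_isComponentList' (R := R) (X := X) hX.2.2.1
  have hEff := H28Vert.isEffCartierIdeal_ker_of_mem hX.1 C
    (H28Vert.mem_fibreComponents (H28Vert.dim_fibre_le_one hΓs) C)
  have hLi : PicF.IsInvertible L := H17.InvertibleTensor.isInvertible_of_tensor_iso _ _ hL.some
  have hexc := isExcCurve_of_line hX C k' e he L hL hself
  obtain ⟨Z, b, z, hz, hZ, -, hpre, hiso⟩ := ModelContract.exists_contraction hX C hexc
  haveI := hiso
  have hzs : Z.hom z = IsLocalRing.closedPoint R := by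
    have h1 : b.left (C.ι (genericPoint C.curve.left)) = z := hpre.ge ⟨_, rfl⟩
    rw [← h1, ← Scheme.Hom.comp_apply, ← Scheme.Hom.comp_apply, Over.w b, C.w, Scheme.Hom.comp_apply]
    exact IsLocalRing.PrimeSpectrum.comap_residue R _
  refine ⟨Z, b, hZ, LocalExc.isIso_genericFibre b z hz ?_, fun h => ?_⟩
  · rw [hzs]
    exact fun e => IsDiscreteValuationRing.not_a_field R (congrArg PrimeSpectrum.asIdeal e)
  · haveI := h
    haveI : IsIso b.left := inferInstanceAs (IsIso ((Over.forget _).map b))
    obtain ⟨c, hc⟩ := HensContract.exists_ne_genPt X C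
    refine hc (b.left.homeomorph.injective ?_)
    exact (show b.left (C.ι c) = z from hpre.ge ⟨c, rfl⟩).trans
      (show b.left (C.ι (genericPoint C.curve.left)) = z from hpre.ge ⟨_, rfl⟩).symm

/-- A non-isomorphic morphism to a regular model contracts a curve of negative canonical degree. -/
theorem exists_neg_of_not_isIso {X Y : Over (Spec (CommRingCat.of R))} (hX : ArSurf.IsArithSurface R X)
    (hYreg : ∀ y : Y.left, IsRegularLocalRing (Y.left.presheaf.stalk y)) (hYproj : Neron.IsProjectiveOver R Y)
    (hYflat : Flat Y.hom) (g : X ⟶ Y) (hgen : IsIso ((Neron.genericFibre R).map g)) (hg : ¬ IsIso g)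
    {ω : X.left.Modules} (hω : Canon.IsCanonical X.hom ω) :
    ∃ C : ArSurf.VertComp R X, ArSurf.inter R X ω C < 0 := by
  obtain ⟨hreg, hint, hdim, hflat, -⟩ := id hX
  haveI := hint
  haveI := hflat
  haveI := hYflat
  haveI : IsProper X.hom := H28Vert.isProper_of_isArithSurface hX
  obtain ⟨m, i, hi, hiY⟩ := id hYproj
  haveI := hi
  haveI : IsProper (CohB1.ProjSpaceOver.toBase m (Spec (CommRingCat.of R))) := H27Weil.isProper_toBase m _
  haveI : IsProper Y.hom := by rw [← hiY]; infer_instance
  haveI : IsProper (g.left ≫ Y.hom) := by rw [Over.w g]; infer_instance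
  haveI : IsProper g.left := IsProper.of_comp g.left Y.hom
  obtain ⟨hYi, hggen, hgbij, -⟩ := H28Vert.birational_of_genericFibre hYreg g hgen
  haveI := hYi
  haveI : IsLocallyNoetherian X.left := LocallyOfFiniteType.isLocallyNoetherian X.hom
  haveI : CompactSpace X.left := QuasiCompact.compactSpace_of_compactSpace X.hom
  haveI : IsNoetherian X.left := ⟨⟩
  haveI : IsLocallyNoetherian Y.left := LocallyOfFiniteType.isLocallyNoetherian Y.hom
  haveI : CompactSpace Y.left := QuasiCompact.compactSpace_of_compactSpace Y.hom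
  haveI : IsNoetherian Y.left := ⟨⟩
  haveI : IsDominant g.left := H10ZMT.isDominant_of_apply_genericPoint g.left hggen
  have hs : Function.Surjective g.left := fun t => by
    have h1 : Set.range g.left = Set.univ := by
      rw [← g.left.isClosedMap.isClosed_range.closure_eq]
      exact g.left.denseRange.closure_range
    exact h1.ge (Set.mem_univ t)
  have hdY : topologicalKrullDim Y.left = 2 := le_antisymm
    ((H17.topologicalKrullDim_le_of_specializingMap g.left g.left.isClosedMap.specializingMap hs).trans hdim.le) <| by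
      rw [← hdim]
      exact H28Vert.topologicalKrullDim_le_of_stalks _ fun x =>
        (H28Contr.stalk_dim_le_of_birational g.left (H28Contr.residueFieldMap_bijective g.left hgbij) x).trans
          (H28Contr.ringKrullDim_stalk_le_top _)
  haveI : IsOpenImmersion (Neron.genPt R) := H28Vert.isOpenImmersion_generic (R := R)
  have hiso := isIso_restrict_generic g hgen
  have hseq := S7314.result g.left ⟨Y.hom ⁻¹ᵁ (Neron.genPt R).opensRange, ⟨genericPoint Y.left, by
    show Y.hom (genericPoint Y.left) ∈ Set.range (Neron.genPt R).base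
    rw [H28Vert.hom_genericPoint_eq_bot]
    exact ⟨⟨⊥, Ideal.isPrime_bot⟩, PrimeSpectrum.ext
      (Ideal.comap_bot_of_injective _ (IsFractionRing.injective R (FractionRing R)))⟩⟩, hiso⟩ hreg hdim hYreg hdY
  suffices key : ∀ {W V : Scheme.{u}} {g' : W ⟶ V}, Models.IsContractionSeq g' →
      ∀ (q : W ⟶ Spec (CommRingCat.of R)) (p : V ⟶ Spec (CommRingCat.of R)), g' ≫ p = q → IsProper p →
        ArSurf.IsArithSurface R (Over.mk q) → ¬ IsIso g' → ∀ ωW : W.Modules, Canon.IsCanonical q ωW →
        ∃ C : ArSurf.VertComp R (Over.mk q), ArSurf.inter R (Over.mk q) ωW C < 0 by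
    refine key hseq X.hom Y.hom (Over.w g) inferInstance hX (fun h => hg ?_) ω hω
    haveI : IsIso ((Over.forget _).map g) := h
    exact isIso_of_reflects_iso g (Over.forget _)
  intro W V g' hg'
  induction hg' with
  | @iso W V e => exact fun _ _ _ _ _ h => absurd (inferInstance : IsIso e.hom) h
  | @step W Z V F ι b r hι hF hb hr ih =>
    intro q p hqp hp hW _ ωW hωW
    haveI := hι
    haveI := hp
    haveI := isProper_seq hr
    let qZ := r ≫ p
    have hq : b ≫ qZ = q := (Category.assoc _ _ _).symm.trans hqp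
    subst hq
    obtain ⟨E₁, -, -, hE₁, -⟩ := ModelUnique.exists_vertComp (W := Over.mk (b ≫ qZ)) ι hF b hb qZ rfl
    haveI : IsProper (Over.mk (b ≫ qZ)).hom := H28Vert.isProper_of_isArithSurface hW
    obtain ⟨L, hLi, hL⟩ := H11Sym.exists_inverse (H29Blow.isInvertible_of_isEffCartierIdeal _ hE₁.1)
    obtain ⟨h1, h2⟩ := H28Vert.exc_facts hE₁ hLi hL
    have hadj := adjunction hW E₁ hL hωW
    rw [h1, h2] at hadj
    have hw := H28Vert.wdeg_pos E₁
    exact ⟨E₁, by omega⟩

end Groth.Agent.H28RR.SoleComponent
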