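import Groth.Agent.H22Alg.GenCurves
import Groth.Agent.H22Alg.CurveProj
import Groth.Agent.H22Alg.CurveAmple
import Groth.Agent.H22Alg.VarDim
import Groth.Agent.H8Props.Stein.Connected
import Groth.Agent.H11Ample.Converse
import Groth.Agent.S1297
import Groth.Agent.H10ZMT.Stein
import Groth.Agent.H4Conn.Top
import Groth.Agent.H11Proj.SeparatesPoints
import Groth.Agent.H10ZMT.Basic

/-!
# The contraction given by a globally generated module of degree zero on a single curve
-/

set_option autoImplicit false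
set_option linter.style.haveILetI false
set_option linter.unusedSectionVars false
set_option backward.isDefEq.respectTransparency.types false
universe u

open CategoryTheory CategoryTheory.Limits AlgebraicGeometry TopologicalSpace
open Groth.Agent.H8Props.FieldDim (cdim)

noncomputable section

namespace Groth.Agent.H28RR.ContractCurve

variable (k : Type u) [Field k] {X : Scheme.{u}} [X.Over (Spec (CommRingCat.of k))]
  [IsProper (X ↘ Spec (CommRingCat.of k))] [IsIntegral X]

/-- On an integral proper scheme a global section of the trivial module vanishes nowhere or everywhere. -/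
theorem gen_eq_top_or_bot {Z : Scheme.{u}} [IsIntegral Z] (q : Z ⟶ Spec (CommRingCat.of k)) [UniversallyClosed q]
    {M : Z.Modules} (φ : M ≅ Coh.structureModule Z) (g : Γ(M, ⊤)) :
    H11Ample.gen M g = ⊤ ∨ H11Ample.gen M g = ⊥ := by
  rw [← H11Ample.gen_iso φ.hom g]
  set f : Γ(Coh.structureModule Z, ⊤) := φ.hom.app ⊤ g
  have he : H11Tilde.IsGen (Coh.structureModule Z) (H11Ample.one (X := Z) ⊤) := H11Ample.isGen_one ⊤
  have h := H11Ample.gen_inf_eq_basicOpen (V := ⊤) he f (show Γ(Z, ⊤) from f) (by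
    change (Coh.structureModule Z).presheaf.map _ f = (show Γ(Z, ⊤) from f) * (1 : Γ(Z, ⊤))
    rw [mul_one, show (homOfLE (le_top : (⊤ : Z.Opens) ≤ ⊤)).op = 𝟙 _ from Subsingleton.elim _ _,
      (Coh.structureModule Z).presheaf.map_id]
    rfl)
  rw [inf_top_eq] at h
  rw [h]
  letI := (isField_of_universallyClosed (K := k) q).toField
  rcases eq_or_ne (show Γ(Z, ⊤) from f) 0 with h0 | h0
  · exact Or.inr (by rw [h0, Scheme.basicOpen_zero])
  · exact Or.inl (Scheme.basicOpen_of_isUnit Z (Ne.isUnit h0))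

/-- A proper integral scheme mapping into an affine open goes to a point. -/
theorem subsingleton_range_of_affine {Z Y : Scheme.{u}} [IsIntegral Z] (q : Z ⟶ Spec (CommRingCat.of k))
    [UniversallyClosed q] (ρ : Z ⟶ Y) {U : Y.Opens} (hU : IsAffineOpen U) (h : ∀ z, ρ z ∈ U) (z z' : Z) :
    ρ z = ρ z' := by
  haveI : IsAffine U.toScheme := hU
  let l : Z ⟶ U.toScheme := IsOpenImmersion.lift U.ι ρ (by
    rintro _ ⟨y, rfl⟩
    rw [Scheme.Opens.range_ι]
    exact h y)
  have hl : l ≫ U.ι = ρ := IsOpenImmersion.lift_fac _ _ _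
  haveI : Subsingleton ↥(Spec Γ(Z, ⊤)) := by
    letI := (isField_of_universallyClosed (K := k) q).toField
    exact inferInstanceAs (Subsingleton (PrimeSpectrum Γ(Z, ⊤)))
  have hfac : l = Z.toSpecΓ ≫ (Spec.map l.appTop ≫ U.toScheme.isoSpec.inv) := by
    rw [← Category.assoc, ← Scheme.toSpecΓ_naturality, Category.assoc]
    exact ((Category.comp_id l).symm.trans (congrArg (l ≫ ·) U.toScheme.isoSpec.hom_inv_id.symm)).trans (by rfl)
  rw [← hl, hfac]
  simp only [Scheme.Hom.comp_apply]
  rw [Subsingleton.elim (Z.toSpecΓ z) (Z.toSpecΓ z')]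

/-- The contraction of a curve by a globally generated module of degree zero exactly on it. -/
theorem exists_contraction {L : X.Modules} (hL : PicF.IsInvertible L) (hgg : Curv2.IsGloballyGenerated L)
    {Z : Scheme.{u}} (i : Z ⟶ X) [IsClosedImmersion i] [IsIntegral Z]
    (htriv : Nonempty ((Scheme.Modules.pullback i).obj L ≅ Coh.structureModule Z))
    (hcur : ∀ D : X.IdealSheafData, IsIntegral D.subscheme → topologicalKrullDim (D.support : Set X) = 1 →
      ¬ (D.support : Set X) ⊆ Set.range i →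
        CohB1.IsAmple ((Scheme.Modules.pullback D.subschemeι).obj L))
    (hdim : topologicalKrullDim X ≤ 2)
    (hZ : ∃ D : X.IdealSheafData, IsIntegral D.subscheme ∧ topologicalKrullDim (D.support : Set X) = 1 ∧
      ¬ (D.support : Set X) ⊆ Set.range i) :
    ∃ (Y : Scheme.{u}) (q : Y ⟶ Spec (CommRingCat.of k)) (g : X ⟶ Y) (P : Y) (hP : IsClosed ({P} : Set Y)),
      g ≫ q = (X ↘ Spec (CommRingCat.of k)) ∧ IsIntegral Y ∧ topologicalKrullDim Y = topologicalKrullDim X ∧
      (∃ (N : ℕ) (ι : Y ⟶ CohB1.ProjSpace N k), IsClosedImmersion ι ∧ ι ≫ CohB1.ProjSpace.toSpec N k = q) ∧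
      (∀ x : X, g x = P ↔ x ∈ Set.range i) ∧
      IsIso (g ∣_ (⟨({P} : Set Y)ᶜ, hP.isOpen_compl⟩ : Y.Opens)) := by
  classical
  haveI := H28Int.isNoetherian k (X := X)
  obtain ⟨n, v, hv⟩ := H22Alg.GenCurves.exists_fin_gen hL hgg
  obtain ⟨r, hr, ⟨τ⟩, hgen, -⟩ := H11Ample.exists_toPn (X ↘ Spec (CommRingCat.of k)) hL v hv
  let T := CohB1.ProjSpace n k
  letI : T.Over (Spec (CommRingCat.of k)) := ⟨CohB1.ProjSpace.toSpec n k⟩
  haveI : IsProper (T ↘ Spec (CommRingCat.of k)) :=
    H27Weil.isProper_toSpec n k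
  haveI : IsProper (r ≫ CohB1.ProjSpace.toSpec n k) := hr.symm ▸ inferInstance
  haveI : IsProper r := IsProper.of_comp r (CohB1.ProjSpace.toSpec n k)
  haveI : IsLocallyNoetherian T :=
    LocallyOfFiniteType.isLocallyNoetherian (T ↘ Spec (CommRingCat.of k))
  haveI hfin : IsFinite r.fromNormalization := Groth.Agent.S1297.result r
  let Y := r.normalization
  let g : X ⟶ Y := r.toNormalization
  let h : Y ⟶ T := r.fromNormalization
  have hgh : g ≫ h = r := r.toNormalization_fromNormalization
  haveI : IsProper (g ≫ h) := hgh.symm ▸ inferInstance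
  haveI : IsProper g := IsProper.of_comp g h
  letI : Y.Over (Spec (CommRingCat.of k)) := ⟨h ≫ CohB1.ProjSpace.toSpec n k⟩
  haveI : IsProper (Y ↘ Spec (CommRingCat.of k)) :=
    inferInstanceAs (IsProper (h ≫ (T ↘ Spec (CommRingCat.of k))))
  haveI := H28Int.isNoetherian k (X := Y)
  haveI : IsIntegral Y := inferInstanceAs (IsIntegral r.normalization)
  have happ : ∀ U : Y.Opens, IsIso (g.app U) := fun U => H10ZMT.isIso_app_toNormalization r U
  haveI hgc : GeometricallyConnected g := H10ZMT.geometricallyConnected_toNormalization r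
  have hgq : g ≫ (Y ↘ Spec (CommRingCat.of k)) = X ↘ Spec (CommRingCat.of k) := by
    change g ≫ h ≫ CohB1.ProjSpace.toSpec n k = _
    rw [← Category.assoc, hgh, hr]
  -- the curve goes to a point
  haveI : UniversallyClosed (i ≫ (X ↘ Spec (CommRingCat.of k))) := inferInstance
  obtain ⟨z₀⟩ : Nonempty Z := inferInstance
  obtain ⟨j, hj⟩ := hv (i z₀)
  have hall : ∀ z : Z, i z ∈ H11Ample.gen L (v j) := by
    obtain ⟨φ⟩ := htriv
    have h1 := H11Ample.gen_smul_pullSect i hL (v j) (isUnit_one (M := Γ(Z, ⊤)))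
    rw [one_smul] at h1
    rcases gen_eq_top_or_bot k (i ≫ (X ↘ Spec (CommRingCat.of k))) φ (H11Ample.pullTop i (v j)) with h2 | h2
    · intro z
      exact (h1.symm.trans h2).ge (Opens.mem_top z)
    · exact absurd ((h1.symm.trans h2).le (show z₀ ∈ i ⁻¹ᵁ H11Ample.gen L (v j) from hj)) (by simp)
  have hri : ∀ z : Z, r (i z) = r (i z₀) := fun z => by
    refine subsingleton_range_of_affine k (i ≫ (X ↘ Spec (CommRingCat.of k))) (i ≫ r)
      (H11Ample.isAffineOpen_gen_coord (n := n) (R := k) j) (fun w => ?_) z z₀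
    rw [H11Ample.gen_coord]
    exact (hgen j).ge (hall w)
  have hgi : ∀ z : Z, g (i z) = g (i z₀) := by
    haveI : LocallyQuasiFinite h := inferInstance
    have hfinite : (h ⁻¹' {r (i z₀)}).Finite := h.finite_preimage_singleton _
    have hsub : Set.range (i ≫ g) ⊆ h ⁻¹' {r (i z₀)} := by
      rintro _ ⟨z, rfl⟩
      show h (g (i z)) = _
      rw [← hri z, ← hgh]
      rfl
    haveI := (hfinite.subset hsub).to_subtype
    haveI : DiscreteTopology (h ⁻¹' {r (i z₀)}) := by
      haveI : Finite (h.fiber (r (i z₀))) := (h.fiberHomeo (r (i z₀))).finite_iff.mpr hfinite.to_subtype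
      exact (h.fiberHomeo (r (i z₀))).discreteTopology
    intro z
    exact congrArg Subtype.val ((isPreconnected_range (f := fun z : Z => (⟨g (i z), hsub ⟨z, rfl⟩⟩ : h ⁻¹' {r (i z₀)}))
      (by exact (i ≫ g).continuous.subtype_mk _)).subsingleton ⟨z, rfl⟩ ⟨z₀, rfl⟩)
  set P := g (i z₀) with hPdef
  have hZc : IsClosed (Set.range i) := i.isClosedEmbedding.isClosed_range
  have hP : IsClosed ({P} : Set Y) := by
    have h1 := g.isClosedMap _ hZc
    have h2 : g '' Set.range i = {P} := by
      refine Set.eq_singleton_iff_unique_mem.2 ⟨⟨i z₀, ⟨z₀, rfl⟩, rfl⟩, ?_⟩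
      rintro _ ⟨_, ⟨z, rfl⟩, rfl⟩
      exact hgi z
    rwa [h2] at h1
  -- fibres contain no other curve
  have hcurve : ∀ y : Y, ∀ w : X, topologicalKrullDim (closure ({w} : Set X)) = 1 →
      closure ({w} : Set X) ⊆ g ⁻¹' {y} → closure ({w} : Set X) ⊆ Set.range i := by
    intro y w hw hwy
    by_contra hne
    let J := Scheme.IdealSheafData.vanishingIdeal (H22Alg.DevLength.cl w)
    have hsupp : (J.support : Set X) = closure {w} := Scheme.IdealSheafData.coe_support_vanishingIdeal _
    haveI : IrreducibleSpace J.subscheme := by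
      obtain ⟨t, ht⟩ : w ∈ Set.range J.subschemeι := by
        rw [H17.range_vanishingIdeal_subschemeι]
        exact subset_closure rfl
      have h1 : closure ({t} : Set J.subscheme) = Set.univ := Set.eq_univ_of_forall fun y => by
        refine (J.subschemeι.isEmbedding.isInducing.specializes_iff.1 ?_).mem_closure
        rw [ht, specializes_iff_mem_closure]
        have h' := Set.mem_range_self (f := J.subschemeι) y
        rw [H17.range_vanishingIdeal_subschemeι] at h'
        exact h'
      have h' : IsIrreducible (Set.univ : Set J.subscheme) := h1 ▸ isIrreducible_singleton.closure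
      exact (irreducibleSpace_def _).2 h'
    haveI : IsReduced J.subscheme := H17.isReduced_vanishingIdeal_subscheme _
    haveI : IsIntegral J.subscheme := isIntegral_of_irreducibleSpace_of_isReduced _
    letI : J.subscheme.Over (Spec (CommRingCat.of k)) := ⟨(J.subschemeι ≫ r) ≫ CohB1.ProjSpace.toSpec n k⟩
    haveI : IsProper (J.subscheme ↘ Spec (CommRingCat.of k)) :=
      inferInstanceAs (IsProper ((J.subschemeι ≫ r) ≫ (T ↘ Spec (CommRingCat.of k))))
    have hJdim : topologicalKrullDim J.subscheme = 1 := by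
      rw [← hw, J.subschemeι.isClosedEmbedding.isEmbedding.toHomeomorph.isHomeomorph.topologicalKrullDim_eq,
        H17.range_vanishingIdeal_subschemeι]
      rfl
    refine H22Alg.GenCurves.not_ample_of_const k hJdim (J.subschemeι ≫ r) rfl (p := h y) (fun t => ?_)
      H11Ample.isInvertible_twist
      ((Scheme.Modules.pullbackComp _ _).symm.app _ ≪≫ (Scheme.Modules.pullback J.subschemeι).mapIso τ)
      (hcur J inferInstance (by rw [hsupp]; exact hw) (by rwa [hsupp]))
    have ht : J.subschemeι t ∈ closure ({w} : Set X) := by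
      have h' := Set.mem_range_self (f := J.subschemeι) t
      rwa [H17.range_vanishingIdeal_subschemeι] at h'
    have := hwy ht
    change g _ = y at this
    rw [← this, ← hgh]
    rfl
  have hconnfib : ∀ y : Y, _root_.IsConnected (g ⁻¹' {y}) := fun y => g.isConnected_preimage_singleton y
  -- finite away from the curve
  have hproper : ∀ y : Y, g ⁻¹' {y} ≠ Set.univ := by
    intro y huniv
    obtain ⟨D, hD, hDd, hDne⟩ := hZ
    obtain ⟨a, ha, hai⟩ := Set.not_subset.1 hDne
    haveI := hD
    haveI : QuasiSober D.subscheme := inferInstance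
    set w := D.subschemeι (genericPoint D.subscheme)
    have hw : closure ({w} : Set X) = (D.support : Set X) := by
      rw [← D.range_subschemeι, ← Set.image_singleton, D.subschemeι.isClosedEmbedding.closure_image_eq,
        genericPoint_closure, Set.image_univ]
    exact hDne (hw ▸ hcurve y w (by rw [hw]; exact hDd) (fun b _ => huniv ▸ Set.mem_univ b))
  have hcomp : ∀ y : Y, IsClosed ({y} : Set Y) → (∀ x ∈ g ⁻¹' {y}, x ∉ Set.range i → IsClosed ({x} : Set X)) ∧
      (g ⁻¹' {y} \ Set.range i).Finite := by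
    intro y hy
    set F := g ⁻¹' {y} with hF
    have hFc : IsClosed F := hy.preimage g.continuous
    have hF1 : topologicalKrullDim F ≤ 1 := by
      have h1 := (H4Conn.topologicalKrullDim_add_one_le hFc (hproper y)).trans hdim
      revert h1
      generalize topologicalKrullDim F = d
      intro h1
      induction d using WithBot.recBotCoe with
      | bot => exact bot_le
      | coe d =>
        induction d using ENat.recTopCoe with
        | top => exact absurd h1 (by decide)
        | coe d =>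
          have : d + 1 ≤ 2 := by
            norm_cast at h1
            exact Nat.cast_le.1 (WithBot.coe_le_coe.1 h1)
          exact_mod_cast (show d ≤ 1 by omega)
    obtain ⟨Ts, hTs, hTc, hTi, hcov⟩ := NoetherianSpace.exists_finite_set_isClosed_irreducible hFc
    have hpt : ∀ t ∈ Ts, ¬ t ⊆ Set.range i → ∃ a, t = {a} ∧ IsClosed ({a} : Set X) := by
      intro t ht hti
      have htF : t ⊆ F := hcov ▸ Set.subset_sUnion_of_mem ht
      have htfin : t.Finite := by
        by_contra hinf
        obtain ⟨w, hwt, hw⟩ := H22Alg.GenCurves.exists_curve (hTc t ht) hinf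
        apply hti
        have heq : closure ({w} : Set X) = t := by
          by_contra hne
          haveI : PreirreducibleSpace t := Subtype.preirreducibleSpace (hTi t ht).2
          haveI : Nonempty t := (hTi t ht).nonempty.to_subtype
          haveI : IrreducibleSpace t := ⟨inferInstance⟩
          have h1 := H4Conn.topologicalKrullDim_add_one_le (F := (Subtype.val ⁻¹' closure ({w} : Set X) : Set t))
            (isClosed_closure.preimage continuous_subtype_val) (fun he => hne (Set.Subset.antisymm hwt fun a ha =>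
              (Set.eq_univ_iff_forall.1 he ⟨a, ha⟩)))
          rw [H8Props.FieldDim.dim_preimage Topology.IsEmbedding.subtypeVal, Subtype.range_val,
            Set.inter_eq_left.2 hwt, hw] at h1
          have h2 := h1.trans ((H8Props.FieldDim.dim_mono htF).trans hF1)
          norm_cast at h2
        exact heq ▸ hcurve y w hw (hwt.trans htF)
      haveI : JacobsonSpace X := LocallyOfFiniteType.jacobsonSpace (X ↘ Spec (CommRingCat.of k))
      haveI : JacobsonSpace t := JacobsonSpace.of_isClosedEmbedding (hTc t ht).isClosedEmbedding_subtypeVal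
      haveI : Finite t := htfin.to_subtype
      obtain ⟨a, ha⟩ := (hTi t ht).nonempty
      have hsub : t.Subsingleton := by
        haveI : DiscreteTopology t := inferInstance
        haveI : PreirreducibleSpace t := Subtype.preirreducibleSpace (hTi t ht).2
        intro p hp q hq
        by_contra hne
        obtain ⟨z, -, hz1, hz2⟩ := PreirreducibleSpace.isPreirreducible_univ (X := t) {⟨p, hp⟩} {⟨q, hq⟩}
          (isOpen_discrete _) (isOpen_discrete _) ⟨⟨p, hp⟩, trivial, rfl⟩ ⟨⟨q, hq⟩, trivial, rfl⟩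
        exact hne (congrArg Subtype.val (hz1.symm.trans hz2))
      have hta : t = {a} := hsub.eq_singleton_of_mem ha
      exact ⟨a, hta, hta ▸ hTc t ht⟩
    refine ⟨fun x hx hxi => ?_, ?_⟩
    · rw [hcov] at hx
      obtain ⟨t, ht, hxt⟩ := hx
      obtain ⟨a, rfl, hac⟩ := hpt t ht fun hsub => hxi (hsub hxt)
      rwa [Set.mem_singleton_iff.1 hxt]
    · refine (hTs.biUnion (t := fun t => t \ Set.range i) fun t ht => ?_).subset fun x hx => ?_
      · by_cases hti : t ⊆ Set.range i
        · rw [Set.diff_eq_empty.2 hti]; exact Set.finite_empty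
        · obtain ⟨a, rfl, -⟩ := hpt t ht hti
          exact (Set.finite_singleton a).subset Set.diff_subset
      · obtain ⟨t, ht, hxt⟩ := hcov ▸ hx.1
        exact Set.mem_biUnion ht ⟨hxt, hx.2⟩
  have hrangeF : ∀ x, x ∈ Set.range i → g x = P := by
    rintro _ ⟨z, rfl⟩; exact hgi z
  have hclosedA : ∀ y : Y, IsClosed ({y} : Set Y) → IsClosed (g ⁻¹' {y} \ Set.range i) := fun y hy => by
    rw [← Set.biUnion_of_singleton (g ⁻¹' {y} \ Set.range i)]
    exact (hcomp y hy).2.isClosed_biUnion fun x hx => (hcomp y hy).1 x hx.1 hx.2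
  have hfibP : ∀ x, g x = P → x ∈ Set.range i := by
    intro x hx
    by_contra hne
    obtain ⟨a, ha, hb, hc⟩ := isPreconnected_closed_iff.1 (hconnfib P).isPreconnected (Set.range i)
      ((g ⁻¹' ({P} : Set Y)) \ Set.range i) hZc (hclosedA P hP) (fun b hb => by
        by_cases hbi : b ∈ Set.range i
        · exact Or.inl hbi
        · exact Or.inr ⟨hb, hbi⟩) ⟨i z₀, rfl, z₀, rfl⟩ ⟨x, hx, hx, hne⟩
    exact hc.2 hb
  have hsing : ∀ y : Y, IsClosed ({y} : Set Y) → y ≠ P → ∃ x, g ⁻¹' {y} = {x} ∧ g x = y := by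
    intro y hy hyP
    have hdis : g ⁻¹' {y} \ Set.range i = g ⁻¹' {y} :=
      Set.ext fun b => ⟨fun hb => hb.1, fun hb => ⟨hb, fun hbi => hyP (hb.symm.trans (hrangeF b hbi))⟩⟩
    have hfin : (g ⁻¹' {y}).Finite := hdis ▸ (hcomp y hy).2
    obtain ⟨x, hx⟩ := (hconnfib y).nonempty
    refine ⟨x, ?_, hx⟩
    refine Set.Subset.antisymm (fun b hb => ?_) (Set.singleton_subset_iff.2 hx)
    by_contra hbx
    have hxc : IsClosed ({x} : Set X) := (hcomp y hy).1 x hx (Set.ext_iff.1 hdis x |>.2 hx).2
    have hrest : IsClosed (g ⁻¹' {y} \ {x}) := by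
      rw [← Set.biUnion_of_singleton (g ⁻¹' {y} \ {x})]
      exact (hfin.subset Set.diff_subset).isClosed_biUnion fun c hc =>
        (hcomp y hy).1 c hc.1 (Set.ext_iff.1 hdis c |>.2 hc.1).2
    obtain ⟨c, -, hc1, hc2⟩ := isPreconnected_closed_iff.1 (hconnfib y).isPreconnected {x} (g ⁻¹' {y} \ {x})
      hxc hrest (fun c hc => by
        by_cases h' : c = x
        · exact Or.inl h'
        · exact Or.inr ⟨hc, h'⟩) ⟨x, hx, rfl⟩ ⟨b, hb, hb, hbx⟩
    exact hc2.2 hc1
  haveI : IsIso g.fromNormalization := H10ZMT.isIso_fromNormalization g fun V _ =>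
    have hb := (ConcreteCategory.isIso_iff_bijective _).1 (happ V)
    ⟨hb.1, fun b _ => hb.2 b⟩
  obtain ⟨V, hV, hVq⟩ := H10ZMT.exists_open_isIso_quasiFinite g
  have hle : (⟨({P} : Set Y)ᶜ, hP.isOpen_compl⟩ : Y.Opens) ≤ V := by
    intro y hy
    haveI : JacobsonSpace Y := LocallyOfFiniteType.jacobsonSpace (Y ↘ Spec (CommRingCat.of k))
    obtain ⟨y', hy', hy'c⟩ : ∃ y', y' ∈ closure ({y} : Set Y) ∩ {P}ᶜ ∧ IsClosed ({y'} : Set Y) := by
      obtain ⟨y', h1, h2⟩ := nonempty_inter_closedPoints (X := Y)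
        (Z := closure ({y} : Set Y) ∩ {P}ᶜ) ⟨y, subset_closure rfl, hy⟩
        (isClosed_closure.isLocallyClosed.inter hP.isOpen_compl.isLocallyClosed)
      exact ⟨y', h1, h2⟩
    obtain ⟨x, hfib, hx⟩ := hsing y' hy'c hy'.2
    have hq : g.QuasiFiniteAt x := by
      refine Scheme.Hom.quasiFiniteAt_iff_isOpen_singleton_asFiber.2 ?_
      haveI : Subsingleton (g.fiber (g x)) := by
        refine ⟨fun p q => (g.fiberι (g x)).isEmbedding.injective ?_⟩
        have e : ∀ p : g.fiber (g x), g.fiberι (g x) p = x := fun p => by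
          have : g.fiberι (g x) p ∈ g ⁻¹' {g x} := by rw [← g.range_fiberι]; exact ⟨p, rfl⟩
          have h' : g.fiberι (g x) p ∈ g ⁻¹' {y'} := (Set.mem_singleton_iff.1 this).trans hx
          rw [hfib] at h'
          exact h'
        rw [e p, e q]
      exact isOpen_discrete _
    have hy'V : y' ∈ V := hx ▸ (hVq x).2 hq
    exact (specializes_iff_mem_closure.2 hy'.1).mem_open V.2 hy'V
  have hiso : IsIso (g ∣_ (⟨({P} : Set Y)ᶜ, hP.isOpen_compl⟩ : Y.Opens)) := by
    set U : Y.Opens := ⟨({P} : Set Y)ᶜ, hP.isOpen_compl⟩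
    have h1 : IsIso ((g ∣_ V) ∣_ (V.ι ⁻¹ᵁ U)) := inferInstance
    have h2 := morphismRestrictRestrict g V (V.ι ⁻¹ᵁ U)
    have h3 : V.ι ''ᵁ (V.ι ⁻¹ᵁ U) = U := by
      rw [Scheme.Hom.image_preimage_eq_opensRange_inf, Scheme.Opens.opensRange_ι, inf_eq_right.2 hle]
    have h4 : IsIso (g ∣_ (V.ι ''ᵁ (V.ι ⁻¹ᵁ U))) := by
      rw [← MorphismProperty.isomorphisms.iff] at h1 ⊢
      exact ((MorphismProperty.isomorphisms Scheme).arrow_mk_iso_iff h2).1 h1
    rwa [h3] at h4
  refine ⟨Y, Y ↘ Spec (CommRingCat.of k), g, P, hP, hgq, inferInstance, ?_, ?_,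
    fun x => ⟨hfibP x, hrangeF x⟩, hiso⟩
  · obtain ⟨D, hD, hDd, hDne⟩ := hZ
    obtain ⟨a, ha, hai⟩ := Set.not_subset.1 hDne
    have haP : g a ∈ ({P} : Set Y)ᶜ := fun h => hai (hfibP a h)
    obtain ⟨_, ⟨V₀, hV₀, rfl⟩, haV, hVle⟩ :=
      Y.isBasis_affineOpens.exists_subset_of_mem_open haP hP.isOpen_compl
    have hη : genericPoint Y ∈ V₀ := ((genericPoint_spec Y).specializes trivial).mem_open V₀.2 haV
    have hV₀iso : IsIso (g ∣_ V₀) := by
      set U : Y.Opens := ⟨({P} : Set Y)ᶜ, hP.isOpen_compl⟩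
      have hVU : V₀ ≤ U := hVle
      have h1 : IsIso ((g ∣_ U) ∣_ (U.ι ⁻¹ᵁ V₀)) := inferInstance
      have h2 := morphismRestrictRestrict g U (U.ι ⁻¹ᵁ V₀)
      have h3 : U.ι ''ᵁ (U.ι ⁻¹ᵁ V₀) = V₀ := by
        rw [Scheme.Hom.image_preimage_eq_opensRange_inf, Scheme.Opens.opensRange_ι, inf_eq_right.2 hVU]
      have h4 : IsIso (g ∣_ (U.ι ''ᵁ (U.ι ⁻¹ᵁ V₀))) := by
        rw [← MorphismProperty.isomorphisms.iff] at h1 ⊢
        exact ((MorphismProperty.isomorphisms Scheme).arrow_mk_iso_iff h2).1 h1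
      rwa [h3] at h4
    haveI := hV₀iso
    have hpre : IsAffineOpen (g ⁻¹ᵁ V₀) := by
      haveI : IsAffine (Scheme.Opens.toScheme V₀) := hV₀
      exact IsAffine.of_isIso (g ∣_ V₀)
    have hηX : genericPoint X ∈ g ⁻¹ᵁ V₀ := ((genericPoint_spec X).specializes trivial).mem_open (g ⁻¹ᵁ V₀).2 haV
    rw [← H22Alg.VarDim.cdim_genericPoint (X := Y), ← H22Alg.VarDim.cdim_genericPoint (X := X),
      H8Props.FieldDim.cdim_eq_inter (Y ↘ Spec (CommRingCat.of k)) _ hV₀ hη,
      H8Props.FieldDim.cdim_eq_inter (X ↘ Spec (CommRingCat.of k)) _ hpre hηX,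
      genericPoint_closure, genericPoint_closure, Set.univ_inter, Set.univ_inter]
    exact ((IsHomeomorph.topologicalKrullDim_eq _
      (Scheme.homeoOfIso (asIso (g ∣_ V₀))).isHomeomorph)).symm
  · have hamp : CohB1.IsAmple ((Scheme.Modules.pullback h).obj (Twist.twistProjSpace n k 1)) :=
      H11Ample.isAmple_pullback_of_isAffineHom h (H11Ample.isAmple_twistProjSpace n k)
    obtain ⟨N, ι, hι, hιq⟩ := H22Alg.CurveProj.exists_closedImmersion k Y hamp
    exact ⟨N, ι, hι, hιq⟩

end Groth.Agent.H28RR.ContractCurve
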