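import Groth.Agent.H10Coh.CI.ClosedSeq
import Groth.Agent.H10Coh.Proper2
import Groth.Agent.H10Coh.Affine
import Groth.Agent.H22Alg.DimOnePencil
import Groth.Agent.H25AbCube.DualInverse
import Groth.Agent.H28Mero.Gen
import Groth.Agent.H28Contr.RelMin
import Groth.Agent.H28Vert.Degree
import Groth.Agent.S4407

/-! # Divisors with affine support have eventually globally generated multiples -/

set_option autoImplicit false
set_option linter.style.haveILetI false
set_option linter.unusedSectionVars false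
set_option backward.isDefEq.respectTransparency.types false
set_option maxHeartbeats 1600000

universe u

open CategoryTheory CategoryTheory.Limits AlgebraicGeometry TopologicalSpace
open Groth.Agent
open Groth.Agent.LeadFF

noncomputable section

namespace Groth.Agent.H28RR.HorizontalGG

attribute [local instance 10000] H10Coh.hasSheafifyAb H10Coh.hasWeakSheafifyAb H10Coh.hasExtAb H10Coh.enoughInjAb

/-- Sections lift when the first map is injective on first cohomology. -/
theorem surjective_app_top {X : Scheme.{u}} {S : ShortComplex X.Modules} (hS : S.ShortExact)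
    (h : Function.Injective (Hm S.f 1)) : Function.Surjective (S.g.app ⊤) := by
  intro b
  let z : Coh.HH X S.X₃ 0 := (H10Coh.HH0Equiv S.X₃).symm b
  obtain ⟨t, ht⟩ := exists_Hm_g hS 0 z (h ((Hm_dl hS 0 z).trans (map_zero _).symm))
  refine ⟨H10Coh.HH0Equiv S.X₂ t, ?_⟩
  refine (H28NT.HH0Equiv_map S.g t).symm.trans ?_
  rw [ht]
  exact (H10Coh.HH0Equiv S.X₃).apply_symm_apply b

variable {A : Type u} [CommRing A]

/-- Cohomology maps are linear. -/
def hmₗ {X : Scheme.{u}} [X.Over (Spec (CommRingCat.of A))] {M N : X.Modules} (φ : M ⟶ N) (q : ℕ) :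
    Coh.HH X M q →ₗ[A] Coh.HH X N q where
  toFun := Hm φ q
  map_add' := map_add _
  map_smul' a x := by
    rw [RingHom.id_apply, ← Hm_smulMod, ← Hm_smulMod, ← Hm_comp, ← Hm_comp, smulMod_natural]

/-- The generic point is not on an effective Cartier divisor. -/
theorem genericPoint_notMem_support {X : Scheme.{u}} [IsIntegral X] {I : X.IdealSheafData}
    (hI : BlowUp.IsEffCartierIdeal I) : genericPoint X ∉ I.support := fun hm => by
  obtain ⟨U, hxU, a, ha, hIU⟩ := hI (genericPoint X)
  have h1 := (Scheme.IdealSheafData.mem_support_iff_of_mem hxU).1 hm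
  rw [Scheme.mem_zeroLocus_iff] at h1
  have h2 := h1 a (hIU ▸ Ideal.mem_span_singleton_self a)
  haveI : Nonempty (U.1 : Scheme.{u}) := ⟨⟨_, hxU⟩⟩
  haveI : Nontrivial Γ(X, U.1) := inferInstance
  have h3 : X.basicOpen a = ⊥ := by
    by_contra hne
    obtain ⟨w, hw⟩ : (X.basicOpen a : Set X).Nonempty :=
      Set.nonempty_iff_ne_empty.2 fun e => hne (Opens.ext e)
    exact h2 ((genericPoint_specializes w).mem_open (X.basicOpen a).2 hw)
  exact nonZeroDivisors.ne_zero ha ((basicOpen_eq_bot_iff a).1 h3)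

/-- A divisor which is affine has all its large multiples globally generated. -/
theorem eventually_gg [IsNoetherianRing A] {X D : Scheme.{u}} [X.Over (Spec (CommRingCat.of A))]
    [IsProper (X ↘ Spec (CommRingCat.of A))] (d : D ⟶ X) [IsClosedImmersion d] [IsAffine D]
    (hD : BlowUp.IsEffCartierIdeal d.ker) {L : X.Modules} (hL : ClSub.IsInverseOf L (ClSub.idealMod d.ker)) :
    ∃ m₀ : ℕ, 1 ≤ m₀ ∧ ∀ m : ℕ, m₀ ≤ m → Curv2.IsGloballyGenerated (CohB1.tensorPow L m) := by
  classical
  haveI : IsLocallyNoetherian X := LocallyOfFiniteType.isLocallyNoetherian (X ↘ Spec (CommRingCat.of A))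
  obtain ⟨L', hL'i, ⟨σ⟩⟩ := H11Sym.exists_inverse (H29Blow.isInvertible_of_isEffCartierIdeal _ hD)
  obtain ⟨ρ⟩ := id hL
  let IM := ClSub.idealMod d.ker
  have eLL : L ≅ L' :=
    (H10Coh.Tw.rightUnitIso L).symm ≪≫ PicGrp.tensorModIso (Iso.refl _) (σ.symm ≪≫ H10Coh.Tw.commIso _ _) ≪≫
      (H10Coh.Tw.assoc _ _ _).symm ≪≫ PicGrp.tensorModIso ρ (Iso.refl _) ≪≫ H10Coh.Tw.leftUnitIso _
  have hLi : PicF.IsInvertible L := H11Tilde.isInvertible_of_iso eLL.symm hL'i
  have hpow : ∀ n, PicF.IsInvertible (CohB1.tensorPow L n) := H28Vert.isInvertible_tensorPow hLi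
  -- the sequences
  let S : ℕ → ShortComplex X.Modules := fun n => H10Coh.CI.closedSeq d (hpow (n + 1))
  have hS : ∀ n, (S n).ShortExact := fun n => H10Coh.CI.closedSeq_shortExact d (hpow (n + 1))
  let e : ∀ n, CohB1.tensorPow L n ≅ (S n).X₁ := fun n =>
    (H10Coh.Tw.rightUnitIso _).symm ≪≫ PicGrp.tensorModIso (Iso.refl _) ρ.symm ≪≫
      (H10Coh.Tw.assoc _ _ _).symm ≪≫ H10Coh.Tw.commIso _ _
  let f : ∀ n, Coh.HH X (CohB1.tensorPow L n) 1 →ₗ[A] Coh.HH X (CohB1.tensorPow L (n + 1)) 1 := fun n =>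
    hmₗ ((e n).hom ≫ (S n).f) 1
  haveI hq : ∀ n, ((Scheme.Modules.pullback d).obj (CohB1.tensorPow L n)).IsQuasicoherent := fun n =>
    H28Mero.isQCoh_of_isInvertible (H11Ample.isInvertible_pullback d (hpow n))
  have hiso : ∀ n, Function.Bijective (Hm (e n).hom 1) := fun n => (H10Coh.HHSeq.isoₗ (A := A) (e n) 1).bijective
  have hfsurj : ∀ n, Function.Surjective (f n) := fun n y => by
    have h3 : Subsingleton (Coh.HH X (S n).X₃ 1) := by
      haveI := H10Coh.subsingleton_HH_of_isAffine ((Scheme.Modules.pullback d).obj (CohB1.tensorPow L (n + 1)))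
        (p := 1) Nat.one_pos
      exact (H7Flat.CohDim.lerayHH d ((Scheme.Modules.pullback d).obj (CohB1.tensorPow L (n + 1))) 1).toEquiv.subsingleton
    obtain ⟨x, hx⟩ := exists_Hm_f (hS n) 1 y (h3.elim _ _)
    obtain ⟨w, rfl⟩ := (hiso n).2 x
    exact ⟨w, (Hm_comp _ _ _ _).trans hx⟩
  -- composites
  let G : ∀ n, Coh.HH X (CohB1.tensorPow L 0) 1 →ₗ[A] Coh.HH X (CohB1.tensorPow L n) 1 := fun n =>
    Nat.rec LinearMap.id (fun k g => (f k).comp g) n
  have hG : ∀ n, G (n + 1) = (f n).comp (G n) := fun n => rfl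
  have hGsurj : ∀ n, Function.Surjective (G n) := fun n => by
    induction n with
    | zero => exact fun x => ⟨x, rfl⟩
    | succ n ih => rw [hG]; exact (hfsurj n).comp ih
  haveI : Module.Finite A (Coh.HH X (CohB1.tensorPow L 0) 1) :=
    H10Coh.finite_HH_proper A X _ (H11Ample.isCoh_of_isInvertible (hpow 0)) 1
  haveI : IsNoetherian A (Coh.HH X (CohB1.tensorPow L 0) 1) := isNoetherian_of_isNoetherianRing_of_finite A _
  obtain ⟨N, hN⟩ := monotone_stabilizes_iff_noetherian.2 ‹IsNoetherian A (Coh.HH X (CohB1.tensorPow L 0) 1)›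
    ⟨fun n => LinearMap.ker (G n), monotone_nat_of_le_succ fun n x hx => by
      rw [LinearMap.mem_ker, hG, LinearMap.comp_apply, LinearMap.mem_ker.1 hx, map_zero]⟩
  have hinj : ∀ n, N ≤ n → Function.Injective (Hm (S n).f 1) := by
    intro n hn
    refine (injective_iff_map_eq_zero _).2 fun x hx => ?_
    obtain ⟨w, rfl⟩ := (hiso n).2 x
    obtain ⟨v, rfl⟩ := hGsurj n w
    have h1 : v ∈ LinearMap.ker (G (n + 1)) := by
      rw [LinearMap.mem_ker, hG, LinearMap.comp_apply]
      exact (Hm_comp _ _ _ _).trans hx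
    have h2 : LinearMap.ker (G (n + 1)) = LinearMap.ker (G n) :=
      ((hN (n + 1) (hn.trans n.le_succ)).symm.trans (hN n hn) :)
    rw [h2, LinearMap.mem_ker] at h1
    rw [h1, map_zero]
  -- a section cutting out the divisor
  obtain ⟨t, ht⟩ : ∃ t : Γ(L, ⊤), H11Ample.gen L t = d.ker.support.compl := by
    obtain ⟨eN⟩ := H25AbCube.isInverseOf_dual (H29Blow.isInvertible_of_isEffCartierIdeal _ hD)
    let ψ : L ≅ RefHull.dual IM :=
      (H10Coh.Tw.rightUnitIso L).symm ≪≫ PicGrp.tensorModIso (Iso.refl _) (eN.symm ≪≫ H10Coh.Tw.commIso _ _) ≪≫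
        (H10Coh.Tw.assoc _ _ _).symm ≪≫ PicGrp.tensorModIso ρ (Iso.refl _) ≪≫ H10Coh.Tw.leftUnitIso _
    exact ⟨ψ.inv.app ⊤ (RefHull.ofHom (ClSub.idealModι d.ker) ⊤),
      (H11Ample.gen_iso ψ.inv _).trans (H25AbCube.gen_ofHom hD)⟩
  refine ⟨N + 1, Nat.le_add_left 1 N, fun m hm => H22Alg.DimOnePencil.isGloballyGenerated_of_gen (hpow m) fun x => ?_⟩
  obtain ⟨n, rfl⟩ : ∃ n, m = n + 1 := ⟨m - 1, by omega⟩
  by_cases hx : x ∈ d.ker.support
  · rw [← SetLike.mem_coe, Scheme.Hom.support_ker, d.isClosedEmbedding.isClosed_range.closure_eq] at hx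
    obtain ⟨w, rfl⟩ := hx
    have hsurj : Function.Surjective (OmegaSh.pullSect d (CohB1.tensorPow L (n + 1)) ⊤) :=
      surjective_app_top (hS n) (hinj n (by omega))
    obtain ⟨s, hs⟩ := H11Ample.exists_mem_gen_of_isGloballyGenerated (H11Ample.isInvertible_pullback d (hpow (n + 1)))
      (S4407.result D _ (hq (n + 1))) w
    obtain ⟨σ', hσ'⟩ := hsurj s
    refine ⟨σ', ?_⟩
    have h2 := H11Ample.gen_smul_pullSect d (hpow (n + 1)) σ' (isUnit_one (M := Γ(D, ⊤)))
    rw [one_smul, show H11Ample.pullTop d σ' = s from hσ'] at h2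
    exact h2.le hs
  · refine ⟨H11Ample.spow t (n + 1), ?_⟩
    rw [H11Ample.gen_spow hLi t (n + 1) (by omega), ht]
    exact hx

/-- A horizontal divisor on a fibred surface is affine. -/
theorem isAffine_of_horizontal {R : Type u} [CommRing R] [IsDedekindDomain R] (hR : ¬ IsField R) {X D : Scheme.{u}}
    (q : X ⟶ Spec (CommRingCat.of R)) [IsProper q] [IsIntegral X] (hdim : topologicalKrullDim X ≤ 2)
    (d : D ⟶ X) [IsClosedImmersion d] (hD : BlowUp.IsEffCartierIdeal d.ker)
    (hhor : ∀ p : D, ∃ p' : D, p' ⤳ p ∧ ((d ≫ q).base p').asIdeal = ⊥) : IsAffine D := by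
  haveI : IsLocallyNoetherian X := LocallyOfFiniteType.isLocallyNoetherian q
  haveI : CompactSpace X := QuasiCompact.compactSpace_of_compactSpace q
  haveI : IsNoetherian X := ⟨⟩
  have hη : ∀ w, d w ≠ genericPoint X := fun w h => genericPoint_notMem_support hD (by
    rw [← SetLike.mem_coe, Scheme.Hom.support_ker, d.isClosedEmbedding.isClosed_range.closure_eq]
    exact ⟨w, h⟩)
  have hclosed : ∀ a b : D, a ⤳ b → a ≠ b → IsClosed ({d b} : Set X) := by
    intro a b hab hne
    refine H28Contr.isClosed_of_dim_two hdim fun h1 => ?_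
    have h2 := H28Contr.ringKrullDim_stalk_lt (hab.map d.continuous) fun e => hne (d.isClosedEmbedding.injective e)
    exact hη a (H28Contr.eq_genericPoint_of_dim_lt_one (h2.trans_le h1))
  have hfin : ∀ s, ((d ≫ q) ⁻¹' {s}).Finite := by
    intro s
    haveI : IsClosedImmersion d := ‹_›
    have hF : ((d ≫ q) ⁻¹' {s}).Finite ↔ (d '' ((d ≫ q) ⁻¹' {s})).Finite :=
      (Set.finite_image_iff d.isClosedEmbedding.injective.injOn).symm
    haveI : CompactSpace D := d.isClosedEmbedding.compactSpace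
    haveI : IsLocallyNoetherian D := LocallyOfFiniteType.isLocallyNoetherian d
    haveI : IsNoetherian D := ⟨⟩
    by_cases hs : PrimeSpectrum.asIdeal (R := R) s = ⊥
    · -- over the generic point the fibre has no specialisations
      have hnospec : ∀ a ∈ (d ≫ q) ⁻¹' {s}, ∀ b ∈ (d ≫ q) ⁻¹' {s}, a ⤳ b → a = b := by
        intro a _ b hb hab
        by_contra hne
        have h1 := q.isClosedMap _ (hclosed a b hab hne)
        rw [Set.image_singleton, show q (d b) = s from hb] at h1
        have h2 : (PrimeSpectrum.asIdeal (R := R) s).IsMaximal := (PrimeSpectrum.isClosed_singleton_iff_isMaximal _).1 h1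
        rw [hs] at h2
        exact hR (Ring.isField_iff_maximal_bot.2 h2)
      rcases isEmpty_or_nonempty D with hD0 | hD0
      · exact Set.toFinite _
      refine (TopologicalSpace.NoetherianSpace.finite_irreducibleComponents.image
        (fun Z : Set D => Classical.epsilon fun w => IsGenericPoint w Z)).subset fun a ha => ?_
      refine ⟨irreducibleComponent a, irreducibleComponent_mem_irreducibleComponents a, ?_⟩
      obtain ⟨w, hw⟩ := QuasiSober.sober (isIrreducible_irreducibleComponent (x := a)) isClosed_irreducibleComponent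
      have hε := Classical.epsilon_spec (p := fun w => IsGenericPoint w (irreducibleComponent a)) ⟨w, hw⟩
      have hεa := hε.specializes mem_irreducibleComponent
      refine hnospec _ ?_ a ha hεa
      show q (d _) = s
      have h1 := (hεa.map d.continuous).map q.continuous
      rw [show q (d a) = s from ha] at h1
      refine PrimeSpectrum.ext ?_
      rw [hs]
      exact le_bot_iff.1 (hs ▸ (PrimeSpectrum.le_iff_specializes _ _).2 h1)
    · have hcl : IsClosed ({s} : Set (Spec (CommRingCat.of R))) :=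
        (PrimeSpectrum.isClosed_singleton_iff_isMaximal _).2 (Ideal.IsPrime.isMaximal (PrimeSpectrum.isPrime s) hs)
      refine H28Contr.finite_of_closed_points (hcl.preimage (d ≫ q).continuous) fun b hb => ?_
      obtain ⟨a, hab, ha⟩ := hhor b
      refine d.isClosedEmbedding.isInducing.isClosed_iff.2 ⟨{d b}, hclosed a b hab (fun e => hs ?_), ?_⟩
      · rw [← show (d ≫ q) b = s from hb, ← e]
        exact ha
      · ext w
        exact ⟨fun h => d.isClosedEmbedding.injective h, fun h => congrArg d.base h⟩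
  haveI : LocallyQuasiFinite (d ≫ q) := LocallyQuasiFinite.of_finite_preimage_singleton _ hfin
  haveI : IsFinite (d ≫ q) := IsFinite.of_isProper_of_locallyQuasiFinite (d ≫ q)
  exact isAffine_of_isAffineHom (d ≫ q)

end Groth.Agent.H28RR.HorizontalGG
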