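import Groth.Agent.H28RR.HensDivisor
import Groth.Agent.H28Vert.CompList2
import Groth.Agent.H28RR.ContractArtin
import Groth.Agent.H28RR.ContractCurve
import Groth.Agent.H28RR.ArtinH1
import Groth.Agent.H28RR.HorizontalGG
import Groth.Agent.H25AbCube.DualInverse
import Groth.Agent.LeadBC.TrivInv
import Groth.Agent.H8Props.DivisorSection
import Groth.Agent.S7913

/-!
An invertible module trivial exactly on prescribed components of the closed fibre, over a henselian
discrete valuation ring.
-/

set_option autoImplicit false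
set_option linter.style.haveILetI false
set_option backward.isDefEq.respectTransparency.types false
set_option maxHeartbeats 1600000
set_option synthInstance.maxHeartbeats 100000

universe u

open CategoryTheory CategoryTheory.Limits AlgebraicGeometry TopologicalSpace

namespace Groth.Agent.H28RR.HensContract

variable {R : Type u} [CommRing R] [IsDomain R] [IsDiscreteValuationRing R]
  (X : Over (Spec (CommRingCat.of R))) [IsIntegral X.left] [IsProper X.hom] [Flat X.hom]

theorem range_subset_special (E : ArSurf.VertComp R X) :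
    Set.range E.ι.base ⊆ Models.specialFibreSet R X := by
  rintro _ ⟨c, rfl⟩
  show X.hom (E.ι c) = IsLocalRing.closedPoint R
  rw [← Scheme.Hom.comp_apply, E.w, Scheme.Hom.comp_apply]
  exact IsLocalRing.PrimeSpectrum.comap_residue R _

/-- The range of a vertical prime divisor has two points. -/
theorem exists_ne_genPt (E : ArSurf.VertComp R X) : ∃ c, E.ι c ≠ E.ι (genericPoint E.curve.left) := by
  by_contra h
  push Not at h
  haveI : Subsingleton E.curve.left := ⟨fun a b => E.ι.isClosedEmbedding.injective ((h a).trans (h b).symm)⟩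
  haveI : Subsingleton (IrreducibleCloseds E.curve.left) := ⟨fun a b => IrreducibleCloseds.ext
    ((Subsingleton.eq_univ_of_nonempty a.2.1).trans (Subsingleton.eq_univ_of_nonempty b.2.1).symm)⟩
  have h1 : topologicalKrullDim E.curve.left ≤ 0 := Order.krullDim_nonpos_of_subsingleton
  rw [E.dim_eq] at h1
  exact absurd h1 (by decide)

/-- The range of a vertical prime divisor is a component of the closed fibre. -/
theorem range_mem_components (hdim : topologicalKrullDim X.left = 2) (E : ArSurf.VertComp R X) :
    Set.range E.ι.base ∈ Models.fibreComponents R X := by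
  haveI : IsLocallyNoetherian X.left := LocallyOfFiniteType.isLocallyNoetherian X.hom
  refine ⟨⟨?_, range_subset_special X E⟩, fun Z hZ hle => ?_⟩
  · rw [← Set.image_univ]
    exact (IrreducibleSpace.isIrreducible_univ _).image _ E.ι.continuous.continuousOn
  · have hScl : IsClosed (Models.specialFibreSet R X) :=
      (IsLocalRing.isClosed_singleton_closedPoint (R := R)).preimage X.hom.continuous
    obtain ⟨ζ, hζ⟩ := QuasiSober.sober hZ.1.closure isClosed_closure
    let ξ := E.ι (genericPoint E.curve.left)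
    have hζξ : ζ ⤳ ξ := hζ.specializes (subset_closure (hle ⟨_, rfl⟩))
    have hζS : ζ ∈ Models.specialFibreSet R X := closure_minimal hZ.2 hScl hζ.mem
    obtain ⟨c, hc⟩ := exists_ne_genPt X E
    have hξc : ξ ⤳ E.ι c := (genericPoint_specializes c).map E.ι.continuous
    obtain ⟨ϖ, hϖ⟩ := IsDiscreteValuationRing.exists_irreducible R
    have hη : genericPoint X.left ∉ Models.specialFibreSet R X :=
      (H28Vert.notMem_specialFibreSet_iff hϖ _).2
        (Ne.isUnit (G₀ := X.left.functionField) (H28Vert.stalkHom_ne_zero hϖ.ne_zero (genericPoint X.left)))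
    have heq : ζ = ξ := by
      by_contra hne
      exact ContractVert.not_chain_three hdim.le (genericPoint_specializes ζ) (fun e => hη (e ▸ hζS)) hζξ hne
        hξc (Ne.symm hc)
    intro z hz
    have h1 : z ∈ closure ({ζ} : Set X.left) := hζ.def.ge (subset_closure hz)
    rw [heq] at h1
    exact closure_minimal (Set.singleton_subset_iff.2 (Set.mem_range_self (f := ⇑E.ι) (genericPoint E.curve.left)))
      E.ι.isClosedEmbedding.isClosed_range h1

/-- A horizontal effective Cartier ideal meeting the closed fibre in a given set of closed points. -/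
theorem exists_ideal [HenselianLocalRing R] (hdim : topologicalKrullDim X.left = 2) (S : Finset X.left)
    (hS : ∀ x ∈ S, IsClosed ({x} : Set X.left) ∧ x ∈ Models.specialFibreSet R X) :
    ∃ I : X.left.IdealSheafData, BlowUp.IsEffCartierIdeal I ∧
      (∀ y ∈ I.support, ∃ q ∈ I.support, q ⤳ y ∧ q ∉ Models.specialFibreSet R X) ∧
      (I.support : Set X.left) ∩ Models.specialFibreSet R X = S := by
  classical
  induction S using Finset.induction with
  | empty =>
    refine ⟨⊤, H29Blow.isEffCartierIdeal_top, fun y hy => ?_, ?_⟩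
    · exact absurd hy (by rw [Scheme.IdealSheafData.support_top]; exact id)
    · simp
  | insert a s ha ih =>
    obtain ⟨I, hI, hIh, hIs⟩ := ih fun x hx => hS x (Finset.mem_insert_of_mem hx)
    obtain ⟨D, d, hd, hdc, hdh, hds⟩ := HensDivisor.exists_divisor X hdim (hS a (Finset.mem_insert_self a s)).1
      (hS a (Finset.mem_insert_self a s)).2
    haveI := hd
    haveI : QuasiCompact d := inferInstance
    have hsupp : (d.ker.support : Set X.left) = Set.range d := by
      rw [Scheme.Hom.support_ker]
      exact d.isClosedEmbedding.isClosed_range.closure_eq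
    have hmem : ∀ y, y ∈ (I * d.ker).support ↔ y ∈ I.support ∨ y ∈ Set.range d := fun y => by
      rw [Scheme.IdealSheafData.support_mul, ← hsupp]
      exact Iff.rfl
    refine ⟨I * d.ker, H29Blow.isEffCartierIdeal_mul hI hdc, fun y hy => ?_, ?_⟩
    · rcases (hmem y).1 hy with hy | ⟨p, rfl⟩
      · obtain ⟨q, hq, hqy, hqs⟩ := hIh y hy
        exact ⟨q, (hmem q).2 (Or.inl hq), hqy, hqs⟩
      · obtain ⟨q, hqp, hqb⟩ := hdh p
        refine ⟨d q, (hmem _).2 (Or.inr ⟨q, rfl⟩), hqp.map d.continuous, fun h => ?_⟩
        exact IsDiscreteValuationRing.not_a_field R ((congrArg PrimeSpectrum.asIdeal h).symm.trans hqb)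
    · ext y
      rw [Set.mem_inter_iff, SetLike.mem_coe, hmem, Finset.coe_insert, Set.mem_insert_iff, ← hIs]
      constructor
      · rintro ⟨h | h, hys⟩
        · exact Or.inr ⟨h, hys⟩
        · exact Or.inl (hds.le ⟨h, hys⟩)
      · rintro (rfl | ⟨h, hys⟩)
        · exact ⟨Or.inr (hds.ge rfl).1, (hds.ge rfl).2⟩
        · exact ⟨Or.inl h, hys⟩

/-- The module needed for the contraction. -/
theorem exists_module [HenselianLocalRing R] (hdim : topologicalKrullDim X.left = 2)
    (hproj : Neron.IsProjectiveOver R X) {r : ℕ} (Γ : Fin r → ArSurf.VertComp R X) (Γ' : ArSurf.VertComp R X)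
    (hΓ' : ∀ i, Set.range (Γ'.ι.base : Γ'.curve.left → X.left) ≠ Set.range (Γ i).ι.base) :
    ∃ G : X.left.Modules, PicF.IsInvertible G ∧ Curv2.IsGloballyGenerated G ∧
      0 < ArSurf.curveDeg (FractionRing R) ((Neron.genericFibre R).obj X).left
        ((Scheme.Modules.pullback (pullback.fst X.hom (Neron.genPt R))).obj G) ∧
      ∀ E : ArSurf.VertComp R X, Nonempty ((Scheme.Modules.pullback E.ι).obj G ≅ Coh.structureModule E.curve.left) ↔
        ∃ i, Set.range (E.ι.base : E.curve.left → X.left) = Set.range (Γ i).ι.base := by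
  classical
  haveI : IsLocallyNoetherian X.left := LocallyOfFiniteType.isLocallyNoetherian X.hom
  obtain ⟨n, Δ, hΔinj, hΔ⟩ := H28Vert.exists_isComponentList' (X := X) hdim
  have hpick : ∀ j, (∀ i, Set.range (Δ j).ι.base ≠ Set.range (Γ i).ι.base) →
      ∃ x ∈ Set.range (Δ j).ι.base, (∀ i, x ∉ Set.range (Γ i).ι.base) ∧ IsClosed ({x} : Set X.left) := by
    intro j hj
    let O : Set (Δ j).curve.left := (Δ j).ι.base ⁻¹' (⋃ i, Set.range (Γ i).ι.base)ᶜ
    have hO : IsOpen O :=
      (isClosed_iUnion_of_finite fun i => (Γ i).ι.isClosedEmbedding.isClosed_range).isOpen_compl.preimage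
        (Δ j).ι.continuous
    have hOne : O.Nonempty := by
      refine ⟨genericPoint (Δ j).curve.left, fun h => ?_⟩
      obtain ⟨i, hi⟩ := Set.mem_iUnion.1 h
      have hle : Set.range (Δ j).ι.base ⊆ Set.range (Γ i).ι.base := by
        rintro _ ⟨c, rfl⟩
        exact ((genericPoint_specializes c).map (Δ j).ι.continuous).mem_closed
          (Γ i).ι.isClosedEmbedding.isClosed_range hi
      exact hj i (hle.antisymm ((range_mem_components X hdim (Δ j)).2
        (range_mem_components X hdim (Γ i)).1 hle))
    haveI : LocallyOfFiniteType ((Δ j).curve.hom ≫ Spec.map (CommRingCat.ofHom (IsLocalRing.residue R))) := by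
      rw [← (Δ j).w]; infer_instance
    haveI : LocallyOfFiniteType (Δ j).curve.hom :=
      locallyOfFiniteType_of_comp _ (Spec.map (CommRingCat.ofHom (IsLocalRing.residue R)))
    haveI : JacobsonSpace (Δ j).curve.left := LocallyOfFiniteType.jacobsonSpace (Δ j).curve.hom
    obtain ⟨c, hcO, hc⟩ := nonempty_inter_closedPoints hOne hO.isLocallyClosed
    refine ⟨(Δ j).ι c, ⟨c, rfl⟩, fun i h => hcO (Set.mem_iUnion.2 ⟨i, h⟩), ?_⟩
    rw [← Set.image_singleton]
    exact (Δ j).ι.isClosedEmbedding.isClosedMap _ hc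
  choose pt hpt using hpick
  let bad : Finset (Fin n) := Finset.univ.filter fun j => ∀ i, Set.range (Δ j).ι.base ≠ Set.range (Γ i).ι.base
  let S : Finset X.left := bad.attach.image fun j => pt j.1 (Finset.mem_filter.1 j.2).2
  have hS : ∀ x ∈ S, ∃ j, ∃ hj, x = pt j hj := by
    intro x hx
    obtain ⟨j, -, rfl⟩ := Finset.mem_image.1 hx
    exact ⟨j.1, _, rfl⟩
  have hmeet : ∀ E : ArSurf.VertComp R X, (∀ i, Set.range E.ι.base ≠ Set.range (Γ i).ι.base) →
      ∃ x ∈ S, x ∈ Set.range E.ι.base := by
    intro E hE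
    obtain ⟨j, hj⟩ := hΔ.ge (range_mem_components X hdim E)
    have hj' : ∀ i, Set.range (Δ j).ι.base ≠ Set.range (Γ i).ι.base := fun i e => hE i (hj.symm.trans e)
    refine ⟨pt j hj', Finset.mem_image.2 ⟨⟨j, Finset.mem_filter.2 ⟨Finset.mem_univ _, hj'⟩⟩,
      Finset.mem_attach _ _, rfl⟩, ?_⟩
    exact hj.le (hpt j hj').1
  obtain ⟨I, hI, hIh, hIs⟩ := exists_ideal X hdim S fun x hx => by
    obtain ⟨j, hj, rfl⟩ := hS x hx
    exact ⟨(hpt j hj).2.2, range_subset_special X (Δ j) (hpt j hj).1⟩
  have hF : PicF.IsInvertible (ClSub.idealMod I) := H29Blow.isInvertible_of_isEffCartierIdeal I hI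
  let L := RefHull.dual (ClSub.idealMod I)
  have hLi : PicF.IsInvertible L := H8Props.DivisorSection.isInvertible_dual hF
  have hinv : ClSub.IsInverseOf L (ClSub.idealMod I) := H25AbCube.isInverseOf_dual hF
  have hR : ¬ IsField R := fun h => IsDiscreteValuationRing.not_a_field R
    (IsLocalRing.isField_iff_maximalIdeal_eq.1 h)
  have hker : I.subschemeι.ker = I := I.ker_subschemeι
  obtain ⟨m, hm, hgg⟩ := S7913.result hR X hdim hproj I.subscheme I.subschemeι (by rw [hker]; exact hI)
    (fun p => by
      obtain ⟨q, hq, hqp, hqs⟩ := hIh (I.subschemeι p) (I.range_subschemeι.le ⟨p, rfl⟩)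
      obtain ⟨q', rfl⟩ := I.range_subschemeι.ge hq
      refine ⟨q', I.subschemeι.isEmbedding.isInducing.specializes_iff.1 hqp, ?_⟩
      by_contra h0
      exact hqs (PrimeSpectrum.ext (IsLocalRing.eq_maximalIdeal
        ((((I.subschemeι ≫ X.hom).base q' : PrimeSpectrum R)).isPrime.isMaximal h0))))
    L (by rw [hker]; exact hinv)
  let G := CohB1.tensorPow L m
  have hG : PicF.IsInvertible G := H28Vert.isInvertible_tensorPow hLi m
  let u : Γ(G, ⊤) := H11Ample.spow (RefHull.ofHom (ClSub.idealModι I) ⊤) m
  have hu : H11Ample.gen G u = I.support.compl :=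
    (H11Ample.gen_spow hLi _ m hm).trans (H25AbCube.gen_ofHom hI)
  refine ⟨G, hG, hgg m le_rfl, ?_, fun E => ?_⟩
  · -- the generic fibre
    haveI : IsOpenImmersion (Neron.genPt R) := H28Vert.isOpenImmersion_generic (R := R)
    let j : ((Neron.genericFibre R).obj X).left ⟶ X.left := pullback.fst X.hom (Neron.genPt R)
    haveI : IsOpenImmersion j := inferInstanceAs (IsOpenImmersion (pullback.fst X.hom (Neron.genPt R)))
    have hsq : IsPullback j (pullback.snd X.hom (Neron.genPt R)) X.hom (Neron.genPt R) := IsPullback.of_hasPullback _ _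
    have hrange : ∀ y : X.left, y ∉ Models.specialFibreSet R X → y ∈ j.opensRange := by
      intro y hy
      refine H28Vert.mem_opensRange_of_isPullback hsq _ (⟨⊥, Ideal.isPrime_bot⟩ : PrimeSpectrum (FractionRing R)) ?_
      refine PrimeSpectrum.ext (Eq.trans ?_ (Ideal.comap_bot_of_injective _ (IsFractionRing.injective R (FractionRing R))).symm)
      by_contra h0
      exact hy (PrimeSpectrum.ext (IsLocalRing.eq_maximalIdeal (((X.hom.base y : PrimeSpectrum R)).isPrime.isMaximal h0)))
    obtain ⟨ϖ, hϖ⟩ := IsDiscreteValuationRing.exists_irreducible R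
    obtain ⟨e₀, he₀⟩ := hrange _ ((H28Vert.notMem_specialFibreSet_iff hϖ _).2
        (Ne.isUnit (G₀ := X.left.functionField) (H28Vert.stalkHom_ne_zero hϖ.ne_zero (genericPoint X.left))))
    haveI : Nonempty ((Neron.genericFibre R).obj X).left := ⟨e₀⟩
    haveI : IsIntegral ((Neron.genericFibre R).obj X).left := isIntegral_of_isOpenImmersion j
    haveI : IsProper (((Neron.genericFibre R).obj X).left ↘ Spec (CommRingCat.of (FractionRing R))) :=
      MorphismProperty.pullback_snd (P := @IsProper) X.hom (Neron.genPt R) ‹_›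
    have hd := ContractArtin.dim_genericFibre_eq_one (X := X) hdim
    have hGj : PicF.IsInvertible ((Scheme.Modules.pullback j).obj G) := H11Ample.isInvertible_pullback j hG
    let v : Γ((Scheme.Modules.pullback j).obj G, ⊤) := H11Ample.pullTop j u
    have hv : H11Ample.gen ((Scheme.Modules.pullback j).obj G) v = j ⁻¹ᵁ I.support.compl := by
      have h1 := H11Ample.gen_smul_pullSect j hG u (isUnit_one (M := Γ(((Neron.genericFibre R).obj X).left, ⊤)))
      rw [one_smul, hu] at h1
      exact h1
    have hv0 : v ≠ 0 := fun h0 => by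
      have h1 : e₀ ∈ H11Ample.gen ((Scheme.Modules.pullback j).obj G) v := by
        rw [hv]
        show j e₀ ∉ I.support
        rw [he₀]
        exact HorizontalGG.genericPoint_notMem_support hI
      rw [h0] at h1
      exact ArtinH1.gen_zero_notMem hGj e₀ h1
    have hne : H11Tilde.homOfGlobal ((Scheme.Modules.pullback j).obj G) v ≠ 0 := H29RR.homOfGlobal_ne_zero' hv0
    show 0 < ArSurf.curveDeg (FractionRing R) ((Neron.genericFibre R).obj X).left _
    have hnn := (H29RR.deg_nonneg_of_hom (k := FractionRing R) hd.le hGj hne).1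
    rw [← ArtinH1.curveDeg_eq_deg hd hGj] at hnn
    refine lt_of_le_of_ne hnn fun h0 => ?_
    have h1 := ArtinH1.gen_eq_top hd hGj h0.symm v hv0
    obtain ⟨x, hxS, -⟩ := hmeet Γ' hΓ'
    obtain ⟨q, hq, -, hqs⟩ := hIh x (hIs.ge hxS).1
    obtain ⟨w, hw⟩ := hrange q hqs
    have h2 : w ∈ H11Ample.gen ((Scheme.Modules.pullback j).obj G) v := h1.ge trivial
    rw [hv] at h2
    exact h2 (hw.symm ▸ hq)
  · let v : Γ((Scheme.Modules.pullback E.ι).obj G, ⊤) := H11Ample.pullTop E.ι u
    have hv : H11Ample.gen ((Scheme.Modules.pullback E.ι).obj G) v = E.ι ⁻¹ᵁ I.support.compl := by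
      have h1 := H11Ample.gen_smul_pullSect E.ι hG u (isUnit_one (M := Γ(E.curve.left, ⊤)))
      rw [one_smul, hu] at h1
      exact h1
    constructor
    · rintro ⟨φ⟩
      by_contra hne
      push Not at hne
      obtain ⟨x, hxS, c, hc⟩ := hmeet E hne
      haveI : IsProper (E.curve.hom ≫ Spec.map (CommRingCat.ofHom (IsLocalRing.residue R))) := by
        rw [← E.w]; infer_instance
      haveI : IsProper E.curve.hom :=
        IsProper.of_comp _ (Spec.map (CommRingCat.ofHom (IsLocalRing.residue R)))
      rcases ContractCurve.gen_eq_top_or_bot (k := IsLocalRing.ResidueField R) E.curve.hom φ v with h | h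
      · have h2 : c ∈ H11Ample.gen ((Scheme.Modules.pullback E.ι).obj G) v := h.ge trivial
        rw [hv] at h2
        exact h2 (hc.symm ▸ (hIs.ge hxS).1)
      · have h2 : E.ι (genericPoint E.curve.left) ∈ I.support := by
          by_contra h'
          have h3 : genericPoint E.curve.left ∈ H11Ample.gen ((Scheme.Modules.pullback E.ι).obj G) v := hv.ge h'
          exact h.le h3
        obtain ⟨j, hj, hj'⟩ := hS _ (hIs.le ⟨h2, range_subset_special X E ⟨_, rfl⟩⟩)
        obtain ⟨c', hc'⟩ := exists_ne_genPt X E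
        have h4 := (hpt j hj).2.2
        rw [← hj'] at h4
        exact hc' (((genericPoint_specializes c').map E.ι.continuous).mem_closed h4 rfl)
    · rintro ⟨i, hi⟩
      refine LeadBC.TrivInv.nonempty_iso_of_gen_eq_top v (top_unique fun c _ => hv.ge fun hc => ?_)
      obtain ⟨j, hj, hj'⟩ := hS _ (hIs.le ⟨hc, range_subset_special X E ⟨c, rfl⟩⟩)
      exact (hpt j hj).2.1 i (hj' ▸ hi.le ⟨c, rfl⟩)

end Groth.Agent.H28RR.HensContract
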