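import Groth.Agent.H28RR.SoleComponent
import Groth.Agent.H28RR.HensContract

/-!
# Self-intersection of a component of the closed fibre, and adjunction
-/

set_option autoImplicit false
set_option linter.style.haveILetI false
set_option linter.unusedSectionVars false
set_option backward.isDefEq.respectTransparency.types false
set_option maxHeartbeats 1600000

universe u

open CategoryTheory CategoryTheory.Limits AlgebraicGeometry TopologicalSpace
open Groth.Agent

noncomputable section

namespace Groth.Agent.H28RR.SoleComponent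

variable {R : Type u} [CommRing R] [IsDomain R] [IsDiscreteValuationRing R]
  {X : Over (Spec (CommRingCat.of R))}

/-- Adjunction in terms of `wdeg` and `h1`. -/
theorem adjunction (hX : ArSurf.IsArithSurface R X) (E : ArSurf.VertComp R X) {L : X.left.Modules}
    (hL : ClSub.IsInverseOf L (ClSub.idealMod E.ι.ker)) {ω : X.left.Modules}
    (hω : Canon.IsCanonical X.hom ω) :
    ArSurf.inter R X L E + ArSurf.inter R X ω E =
      -2 * ((Models.wdeg R X E : ℤ) - (Models.h1 R X E : ℤ)) := by
  rw [H17.CanonSm.inter_add_inter_eq hX E hL hω]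
  congr 1
  simp only [FGA.eulerCharLE, Finset.sum_range_succ, Finset.sum_range_zero]
  simp [Models.wdeg, Models.h1, sub_eq_add_neg]

/-- A component is a connected component of the closed fibre exactly when its self-intersection
vanishes; otherwise it is negative. -/
theorem self_inter_dichotomy (hX : ArSurf.IsArithSurface R X) (E : ArSurf.VertComp R X) {L : X.left.Modules}
    (hL : ClSub.IsInverseOf L (ClSub.idealMod E.ι.ker)) :
    (ArSurf.inter R X L E = 0 ∧
      ∃ U : X.left.Opens, (U : Set X.left) ∩ Models.specialFibreSet R X = Set.range E.ι.base) ∨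
    (ArSurf.inter R X L E < 0 ∧
      ¬ ∃ U : X.left.Opens, (U : Set X.left) ∩ Models.specialFibreSet R X = Set.range E.ι.base) := by
  classical
  haveI : IsProper X.hom := H28Vert.isProper_of_isArithSurface hX
  haveI : IsIntegral X.left := hX.2.1
  haveI : Flat X.hom := hX.2.2.2.1
  haveI : IsLocallyNoetherian X.left := LocallyOfFiniteType.isLocallyNoetherian X.hom
  obtain ⟨n, Γs, hΓs⟩ := H28Vert.exists_isComponentList' (R := R) (X := X) hX.2.2.1
  obtain ⟨i, hi⟩ := hΓs.2.ge (H28Vert.mem_fibreComponents (H28Vert.dim_fibre_le_one hΓs) E)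
  let Γ' := Function.update Γs i E
  have hii : Γ' i = E := Function.update_self ..
  have he : ∀ l, Set.range ((Γ' l).ι.base : (Γ' l).curve.left → X.left) =
      Set.range ((Γs l).ι.base : (Γs l).curve.left → X.left) := fun l => by
    rcases eq_or_ne l i with rfl | hl
    · show Set.range (Function.update Γs l E l).ι.base = _
      rw [Function.update_self]
      exact hi.symm
    · show Set.range (Function.update Γs i E l).ι.base = _
      rw [Function.update_of_ne hl]
  have hΓ' : Models.IsComponentList R X Γ' :=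
    ⟨by rw [funext he]; exact hΓs.1, by rw [funext he]; exact hΓs.2⟩
  choose L₀ hL₀i hL₀ using fun l => H11Sym.exists_inverse
    (H29Blow.isInvertible_of_isEffCartierIdeal _ (H28Vert.isEffCartierIdeal_ker hX.1 hΓ' l))
  let L' := Function.update L₀ i L
  have hL'i : L' i = L := Function.update_self ..
  have hL' : ∀ l, ClSub.IsInverseOf (L' l) (ClSub.idealMod (Γ' l).ι.ker) := fun l => by
    rcases eq_or_ne l i with rfl | hl
    · show ClSub.IsInverseOf (Function.update L₀ l L l) _
      rw [Function.update_self, hii]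
      exact hL
    · show ClSub.IsInverseOf (Function.update L₀ i L l) _
      rw [Function.update_of_ne hl]
      exact hL₀ l
  have hsum := H28Vert.sum_inter_mult hΓ' hL' i
  rw [← Finset.add_sum_erase _ _ (Finset.mem_univ i), hii, hL'i] at hsum
  have hm : (0 : ℤ) < Models.mult R X E := by
    rw [← hii]
    exact_mod_cast H28Vert.mult_pos hΓ' i
  have hrE : Set.range (Γ' i).ι.base = Set.range E.ι.base := by rw [hii]
  have hnn : ∀ l ∈ Finset.univ.erase i, 0 ≤ ArSurf.inter R X (L' l) E * (Models.mult R X (Γ' l) : ℤ) :=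
    fun l hl => by
      have h := (H28Vert.inter_offDiag hΓ' hL' (Finset.ne_of_mem_erase hl).symm).1
      rw [hii] at h
      exact mul_nonneg h (Int.natCast_nonneg _)
  by_cases hd : ∀ l, l ≠ i → Disjoint (Set.range E.ι.base) (Set.range (Γ' l).ι.base)
  · refine Or.inl ⟨?_, ?_⟩
    · rw [Finset.sum_eq_zero fun l hl => by
        have h := (H28Vert.inter_offDiag hΓ' hL' (Finset.ne_of_mem_erase hl).symm).2
        rw [hii] at h
        rw [h.2 (hd l (Finset.ne_of_mem_erase hl)), zero_mul], add_zero] at hsum
      exact (mul_eq_zero.1 hsum).resolve_right hm.ne'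
    · refine ⟨⟨(⋃ l ∈ {l | l ≠ i}, Set.range (Γ' l).ι.base)ᶜ, (IsClosed.isOpen_compl (self :=
        (Set.toFinite _).isClosed_biUnion fun l _ => (Γ' l).ι.isClosedEmbedding.isClosed_range))⟩,
        Set.Subset.antisymm ?_ fun x hx => ⟨?_, HensContract.range_subset_special X E hx⟩⟩
      · rintro x ⟨hxU, hxs⟩
        obtain ⟨W, hW, hxW⟩ := H28Vert.exists_maximal_irreducible_subset (R := R) (X := X) hxs
        obtain ⟨l, hl⟩ := hΓ'.2.ge hW
        rcases eq_or_ne l i with rfl | hne
        · exact hrE ▸ ((show Set.range (Γ' l).ι.base = W from hl).ge hxW)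
        · exact absurd (Set.mem_biUnion (x := l) (t := fun l => Set.range (Γ' l).ι.base) hne
            ((show Set.range (Γ' l).ι.base = W from hl).ge hxW)) hxU
      · intro hxo
        obtain ⟨l, hl, hxl⟩ := Set.mem_iUnion₂.1 hxo
        exact Set.disjoint_left.1 (hd l hl) hx hxl
  · push Not at hd
    obtain ⟨j, hji, hj⟩ := hd
    refine Or.inr ⟨?_, ?_⟩
    · have hpos : 0 < ArSurf.inter R X (L' j) E := by
        have h := H28Vert.inter_offDiag hΓ' hL' hji.symm
        rw [hii] at h
        exact lt_of_le_of_ne h.1 fun e => hj (h.2.1 e.symm)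
      have hrest : 0 < ∑ l ∈ Finset.univ.erase i, ArSurf.inter R X (L' l) E * (Models.mult R X (Γ' l) : ℤ) :=
        Finset.sum_pos' hnn ⟨j, Finset.mem_erase.2 ⟨hji, Finset.mem_univ j⟩,
          mul_pos hpos (by exact_mod_cast H28Vert.mult_pos hΓ' j)⟩
      by_contra h
      have := mul_nonneg (not_lt.1 h) hm.le
      omega
    · rintro ⟨U, hU⟩
      obtain ⟨x, hxE, hxj⟩ := Set.not_disjoint_iff.1 hj
      obtain ⟨w, hw⟩ := hxj
      have hxU : x ∈ U := (hU.ge hxE).1
      have hη : (Γ' j).ι (genericPoint (Γ' j).curve.left) ∈ Set.range E.ι.base := by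
        refine hU.le ⟨?_, HensContract.range_subset_special X (Γ' j) ⟨_, rfl⟩⟩
        exact ((genericPoint_specializes w).map (Γ' j).ι.continuous).mem_open U.2 (hw ▸ hxU)
      have hle : Set.range (Γ' j).ι.base ⊆ Set.range (Γ' i).ι.base := by
        rintro _ ⟨v, rfl⟩
        rw [hrE]
        exact ((genericPoint_specializes v).map (Γ' j).ι.continuous).mem_closed
          E.ι.isClosedEmbedding.isClosed_range hη
      have hmemj : Set.range (Γ' j).ι.base ∈ Models.fibreComponents R X := hΓ'.2.le ⟨j, rfl⟩
      have hmemi : Set.range (Γ' i).ι.base ∈ Models.fibreComponents R X := hΓ'.2.le ⟨i, rfl⟩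
      exact hji (hΓ'.1 (Set.Subset.antisymm hle (hmemj.2 hmemi.1 hle)))

end Groth.Agent.H28RR.SoleComponent
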