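import Groth.Agent.H28RR.CanonModel
import Groth.Agent.H28RR.ModelImage
import Groth.Agent.H22Alg.NakaiSemi
import Groth.Agent.H22Alg.MumfordQuot
import Groth.Agent.S13321

/-!
# The canonical sheaf of the canonical model is ample
-/

set_option autoImplicit false
set_option linter.style.haveILetI false
set_option linter.unusedSectionVars false
set_option backward.isDefEq.respectTransparency.types false
set_option synthInstance.maxHeartbeats 400000
set_option maxHeartbeats 1600000

universe u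

open CategoryTheory CategoryTheory.Limits AlgebraicGeometry Opposite TopologicalSpace
open Groth.Agent

namespace Groth.Agent.H28RR.CanonAmple

variable {R : Type u} [CommRing R] [IsDomain R] [IsDiscreteValuationRing R]

section Degree

variable {Y Z : Over (Spec (CommRingCat.of R))} [IsProper Y.hom] [IsProper Z.hom] (b : Y ⟶ Z)

/-- Degrees on a component are unchanged. -/
theorem inter_pullback_of_open {M : Z.left.Modules} (hM : PicF.IsInvertible M) (Δ : ArSurf.VertComp R Y)
    (O : Z.left.Opens) [IsIso (b.left ∣_ O)] (hne : b.left (Models.genPtOf R Y Δ) ∈ O)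
    (Δ' : ArSurf.VertComp R Z) (hΔ' : Set.range Δ'.ι.base = b.left.base '' Set.range Δ.ι.base) :
    ArSurf.inter R Y ((Scheme.Modules.pullback b.left).obj M) Δ = ArSurf.inter R Z M Δ' := by
  let k := IsLocalRing.ResidueField R
  haveI : IsProper (b.left ≫ Z.hom) := by rw [Over.w b]; infer_instance
  haveI : IsProper b.left := IsProper.of_comp b.left Z.hom
  obtain ⟨h, hh⟩ := H17.exists_lift_of_range_subset (Δ.ι ≫ b.left) Δ'.ι
    (by rw [Scheme.Hom.comp_base, TopCat.coe_comp, Set.range_comp]; exact hΔ'.ge)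
  haveI := H28Vert.isProper_curve Δ
  haveI := H28Vert.isProper_curve Δ'
  haveI : IsProper (Δ.curve.left ↘ Spec (CommRingCat.of k)) := inferInstanceAs (IsProper Δ.curve.hom)
  haveI : IsProper (Δ'.curve.left ↘ Spec (CommRingCat.of k)) := inferInstanceAs (IsProper Δ'.curve.hom)
  have hk : h ≫ (Δ'.curve.left ↘ Spec (CommRingCat.of k)) = Δ.curve.left ↘ Spec (CommRingCat.of k) := by
    haveI : IsClosedImmersion (Spec.map (CommRingCat.ofHom (IsLocalRing.residue R))) :=
      IsClosedImmersion.spec_of_surjective _ IsLocalRing.residue_surjective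
    show h ≫ Δ'.curve.hom = Δ.curve.hom
    rw [← cancel_mono (Spec.map (CommRingCat.ofHom (IsLocalRing.residue R))), Category.assoc, ← Δ'.w, ← Δ.w,
      ← Category.assoc, hh, Category.assoc, Over.w b]
  let U := Δ'.ι ⁻¹ᵁ O
  have hpre' : h ⁻¹ᵁ U = Δ.ι ⁻¹ᵁ (b.left ⁻¹ᵁ O) := by
    rw [← Scheme.Hom.comp_preimage, ← Scheme.Hom.comp_preimage, hh]
  haveI hcl : IsClosedImmersion (Δ.ι ∣_ b.left ⁻¹ᵁ O) :=
    IsZariskiLocalAtTarget.restrict (P := @IsClosedImmersion) Δ.isClosedImmersion _
  haveI : IsClosedImmersion (h ∣_ U) := by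
    haveI hcomp : IsClosedImmersion ((h ≫ Δ'.ι) ∣_ O) := by
      rw [hh, morphismRestrict_comp]
      exact MorphismProperty.comp_mem @IsClosedImmersion _ _ hcl (inferInstance : IsClosedImmersion (b.left ∣_ O))
    haveI : IsClosedImmersion (h ∣_ U ≫ Δ'.ι ∣_ O) := by
      rw [← morphismRestrict_comp]
      exact hcomp
    exact IsClosedImmersion.of_comp (h ∣_ U) (Δ'.ι ∣_ O)
  haveI : IsProper h := by
    haveI : IsProper (h ≫ (Δ'.curve.left ↘ Spec (CommRingCat.of k))) := hk ▸ inferInstance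
    exact IsProper.of_comp h (Δ'.curve.left ↘ Spec (CommRingCat.of k))
  haveI : Surjective h := ⟨fun v => by
    obtain ⟨w, ⟨c, rfl⟩, hw⟩ := hΔ'.le (⟨v, rfl⟩ : Δ'.ι v ∈ Set.range Δ'.ι.base)
    refine ⟨c, Δ'.ι.isClosedEmbedding.injective ?_⟩
    rw [← Scheme.Hom.comp_apply, hh, Scheme.Hom.comp_apply]
    exact hw⟩
  haveI : Surjective (h ∣_ U) := IsZariskiLocalAtTarget.restrict (P := @Surjective) inferInstance U
  haveI : IsIso (h ∣_ U) := isIso_of_isClosedImmersion_of_surjective _
  have hUne : genericPoint Δ.curve.left ∈ h ⁻¹ᵁ U := by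
    rw [hpre']
    exact hne
  have hU : Dense (U : Set Δ'.curve.left) := U.2.dense ⟨_, hUne⟩
  have hU' : Dense ((h ⁻¹ᵁ U : Δ.curve.left.Opens) : Set Δ.curve.left) := (h ⁻¹ᵁ U).2.dense ⟨_, hUne⟩
  have hP : PicF.IsInvertible ((Scheme.Modules.pullback Δ'.ι).obj M) := H11Ample.isInvertible_pullback _ hM
  have hdeg := H14Deg.deg_pullback h U Δ'.dim_eq.le hk hU hU' (H29RR.rank_one_of_isInvertible hP)
  let eI : (Scheme.Modules.pullback Δ.ι).obj ((Scheme.Modules.pullback b.left).obj M) ≅
      (Scheme.Modules.pullback h).obj ((Scheme.Modules.pullback Δ'.ι).obj M) :=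
    (Scheme.Modules.pullbackComp Δ.ι b.left).app M ≪≫ (Scheme.Modules.pullbackCongr hh.symm).app M ≪≫
      ((Scheme.Modules.pullbackComp h Δ'.ι).app M).symm
  have key : ∀ (E : Scheme.{u}) [E.Over (Spec (CommRingCat.of k))] [IsProper (E ↘ Spec (CommRingCat.of k))]
      (_ : topologicalKrullDim E = 1) (P : E.Modules) (_ : PicF.IsInvertible P),
      ArSurf.curveDeg k E P = Curv2.deg k E P 1 := by
    intro E _ _ hdE P hP'
    haveI := H28Int.isNoetherian k (X := E)
    have hd : topologicalKrullDim E ≤ ((1 : ℕ) : WithBot ℕ∞) := by simpa using hdE.le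
    rw [ArSurf.curveDeg, H28Int.eulerCharLE_eq _ hd (H11Ample.isCoh_of_isInvertible hP').1,
      H28Int.eulerCharLE_eq _ hd H10Coh.isQuasicoherent_unit, H29RR.deg_def]
  show ArSurf.curveDeg k _ _ = ArSurf.curveDeg k _ _
  rw [ContractArtin.curveDeg_congr k _ eI, key _ Δ.dim_eq _ (H11Ample.isInvertible_pullback h hP),
    key _ Δ'.dim_eq _ hP]
  exact hdeg

end Degree

variable {X Y : Over (Spec (CommRingCat.of R))} {r : ℕ} {Γ : Fin r → ArSurf.VertComp R X} [IsProper X.hom]
  [IsProper Y.hom] [Flat X.hom] [IsIntegral X.left] [IsIntegral Y.left] {f : X ⟶ Y}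

/-- Every component of the closed fibre of the model is the isomorphic image of one upstairs. -/
theorem exists_strict (h : CanonModel.IsContr Γ f) (hdim : topologicalKrullDim X.left = 2)
    (D : ArSurf.VertComp R Y) (hD : Set.range D.ι.base ∈ Models.fibreComponents R Y) :
    ∃ (V : Y.left.Opens) (C : ArSurf.VertComp R X), IsIso (f.left ∣_ V) ∧ f.left (Models.genPtOf R X C) ∈ V ∧
      Set.range D.ι.base = f.left.base '' Set.range C.ι.base ∧
      ∀ i, Set.range C.ι.base ≠ Set.range (Γ i).ι.base := by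
  haveI : IsProper (f.left ≫ Y.hom) := by rw [Over.w f]; infer_instance
  haveI : IsProper f.left := IsProper.of_comp f.left Y.hom
  haveI : IsLocallyNoetherian X.left := LocallyOfFiniteType.isLocallyNoetherian X.hom
  have hS : IsClosed (f.left.base '' ⋃ i, Set.range (Γ i).ι.base) := by
    rw [Set.image_iUnion]
    exact isClosed_iUnion_of_finite fun i => f.left.isClosedMap _ (Γ i).ι.isClosedEmbedding.isClosed_range
  let V : Y.left.Opens := ⟨_, hS.isOpen_compl⟩
  haveI hV : IsIso (f.left ∣_ V) := h.iso V (Set.compl_inter_self _)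
  -- the generic point is not a contracted point
  have hη : Models.genPtOf R Y D ∈ V := by
    intro hη
    obtain ⟨w, hw, hw'⟩ := hη
    obtain ⟨i, hi⟩ := Set.mem_iUnion.1 hw
    obtain ⟨y, hy⟩ := h.pt i
    obtain ⟨z, rfl⟩ := hi
    have hy' : Models.genPtOf R Y D = y := hw'.symm.trans (hy.le ⟨z, rfl⟩)
    have hycl : IsClosed ({y} : Set Y.left) := by
      rw [← hy, Scheme.Hom.comp_base, TopCat.coe_comp, Set.range_comp]
      exact f.left.isClosedMap _ (Γ i).ι.isClosedEmbedding.isClosed_range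
    obtain ⟨x, -, -, hspec, hne⟩ := ModelProj.exists_closed_ne D
    exact hne (hy'.trans ((hy' ▸ hspec : y ⤳ x).mem_closed hycl rfl).symm)
  obtain ⟨ξ, hξ⟩ := (f.left ∣_ V).homeomorph.surjective ⟨Models.genPtOf R Y D, hη⟩
  have hfξ : f.left ξ.1 = Models.genPtOf R Y D :=
    (morphismRestrict_base_coe f.left V ξ).symm.trans (congrArg Subtype.val hξ)
  have hsp : ∀ x : X.left, Y.hom (f.left x) = X.hom x := fun x => by
    rw [← Scheme.Hom.comp_apply, Over.w f]
  obtain ⟨n, Δ, hΔ⟩ := H28Vert.exists_isComponentList' (R := R) (X := X) hdim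
  obtain ⟨W, hW, hξW⟩ := H28Vert.exists_maximal_irreducible_subset (R := R) (X := X) (t := ξ.1)
    (show X.hom ξ.1 = IsLocalRing.closedPoint R by rw [← hsp, hfξ]; exact ModelProj.genPtOf_mem D)
  obtain ⟨k, hk⟩ := hΔ.2.ge hW
  let C := Δ k
  have hCξ : ξ.1 ∈ Set.range C.ι.base := (show Set.range C.ι.base = W from hk).ge hξW
  have hD1 : Set.range D.ι.base = closure {Models.genPtOf R Y D} :=
    LeadDev.range_eq_closure D.ι (ξ := Models.genPtOf R Y D) rfl
  have hC1 : f.left.base '' Set.range C.ι.base = closure {f.left (Models.genPtOf R X C)} := by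
    rw [LeadDev.range_eq_closure C.ι (ξ := Models.genPtOf R X C) rfl]
    refine Set.Subset.antisymm ((image_closure_subset_closure_image f.left.continuous).trans
      (by rw [Set.image_singleton])) (closure_minimal ?_ (f.left.isClosedMap _ isClosed_closure))
    exact Set.singleton_subset_iff.2 ⟨_, subset_closure rfl, rfl⟩
  have hsub : Set.range D.ι.base ⊆ f.left.base '' Set.range C.ι.base := by
    rw [hD1, hC1]
    refine closure_minimal (Set.singleton_subset_iff.2 ?_) isClosed_closure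
    rw [← hC1, ← hfξ]
    exact ⟨_, hCξ, rfl⟩
  have hirr : IsIrreducible (f.left.base '' Set.range C.ι.base) ∧
      f.left.base '' Set.range C.ι.base ⊆ Models.specialFibreSet R Y := by
    refine ⟨hC1 ▸ isIrreducible_singleton.closure, ?_⟩
    rintro _ ⟨x, hx, rfl⟩
    exact (hsp x).trans (CanonModel.range_subset_specialFibre C hx)
  have heq : Set.range D.ι.base = f.left.base '' Set.range C.ι.base :=
    Set.Subset.antisymm hsub (hD.2 hirr hsub)
  have hgen : f.left (Models.genPtOf R X C) = Models.genPtOf R Y D := by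
    have h1 : f.left (Models.genPtOf R X C) ⤳ Models.genPtOf R Y D :=
      specializes_iff_mem_closure.2 (hC1 ▸ hsub ⟨_, rfl⟩)
    have h2 : Models.genPtOf R Y D ⤳ f.left (Models.genPtOf R X C) :=
      specializes_iff_mem_closure.2 (hD1 ▸ heq.ge ⟨_, ⟨_, rfl⟩, rfl⟩)
    exact (h1.antisymm h2).eq
  refine ⟨V, C, hV, hgen ▸ hη, heq, fun i e => ?_⟩
  exact hη (hgen ▸ ⟨_, Set.mem_iUnion.2 ⟨i, e ▸ ⟨_, rfl⟩⟩, rfl⟩)

/-- The canonical sheaf of the canonical model is ample. -/
theorem isAmple (hX : ArSurf.IsArithSurface R X) (hmin : Neron.IsRelMinimalRegularModel R X)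
    (hg : FGA.eulerCharLE (FractionRing R) ((Neron.genericFibre R).obj X).left
      (Coh.structureModule ((Neron.genericFibre R).obj X).left) 1 ≤ 0)
    {ωX : X.left.Modules} (hωX : Canon.IsCanonical X.hom ωX)
    (hΓ : Function.Injective fun i => Set.range ((Γ i).ι.base : (Γ i).curve.left → X.left))
    (L : Fin r → X.left.Modules) (hL : ∀ j, ClSub.IsInverseOf (L j) (ClSub.idealMod (Γ j).ι.ker))
    (hK : ∀ i, ArSurf.inter R X ωX (Γ i) = 0)
    (hall : ∀ C : ArSurf.VertComp R X, ArSurf.inter R X ωX C = 0 →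
      ∃ i, Set.range (C.ι.base : C.curve.left → X.left) = Set.range ((Γ i).ι.base : (Γ i).curve.left → X.left))
    (hneg : ∀ c : Fin r → ℤ, c ≠ 0 →
      (Finset.univ : Finset (Fin r × Fin r)).sum (fun p => c p.1 * c p.2 * ArSurf.inter R X (L p.2) (Γ p.1)) < 0)
    (h : CanonModel.IsContr Γ f) [Flat Y.hom] (hYdim : topologicalKrullDim Y.left = 2)
    {ωY : Y.left.Modules} (hωY : Canon.IsCanonical Y.hom ωY) :
    CohB1.IsAmple ωY ∧ Nonempty ((Scheme.Modules.pullback f.left).obj ωY ≅ ωX) := by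
  haveI : IsLocallyNoetherian Y.left := LocallyOfFiniteType.isLocallyNoetherian Y.hom
  haveI : IsLocallyNoetherian X.left := LocallyOfFiniteType.isLocallyNoetherian X.hom
  have hωXi := H17.CanonSm.isInvertible_of_isCanonical hωX
  have hωYi := H17.CanonSm.isInvertible_of_isCanonical hωY
  obtain ⟨e⟩ := CanonModel.nonempty_iso hX hΓ L hL hneg h hωX hK hωY
  obtain ⟨n, D, hD⟩ := H28Vert.exists_isComponentList' (R := R) (X := Y) hYdim
  refine ⟨ModelProj.isAmple_of_pos hD hωYi fun i => ?_, ⟨e⟩⟩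
  obtain ⟨V, C, hV, hCV, heq, hne⟩ := exists_strict h hX.2.2.1 (D i) (hD.2.le ⟨i, rfl⟩)
  haveI := hV
  rw [← inter_pullback_of_open f hωYi C V hCV (D i) heq,
    H28Vert.inter_congr_iso C (H11Ample.isInvertible_pullback f.left hωYi) hωXi e]
  refine lt_of_le_of_ne ((S13321.result R X hX hg ωX hωX).1 hmin C) fun h0 => ?_
  obtain ⟨j, hj⟩ := hall C h0.symm
  exact hne j hj

/-- Some positive power of an ample module is globally generated. -/
theorem exists_gg {Z : Scheme.{u}} {M : Z.Modules} (hM : CohB1.IsAmple M) :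
    ∃ m : ℕ, 0 < m ∧ Curv2.IsGloballyGenerated (CohB1.tensorPow M m) := by
  haveI := hM.2.1
  refine H22Alg.NakaiSemi.exists_gg_of_gens hM.1 fun x => ?_
  obtain ⟨n, s, hx, -⟩ := hM.2.2 x
  exact ⟨n + 1, SecTwist.val s ⊤, n.succ_pos, (H11Ample.genLocus_eq_gen s).le hx⟩

end Groth.Agent.H28RR.CanonAmple
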