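import Groth.Agent.H17.Canon.BaseChange
import Groth.Agent.H17.Canon.QuasiRank
import Groth.Agent.H17.KoszulBC
import Groth.Agent.H29Slice.RegImm
import Groth.Agent.H29Slice.TransBC

/-!
# Canonical sheaves under flat base change
-/

set_option autoImplicit false
set_option linter.style.haveILetI false
set_option linter.unusedSectionVars false
set_option backward.isDefEq.respectTransparency.types false

universe u

open CategoryTheory CategoryTheory.Limits AlgebraicGeometry TopologicalSpace
open Groth.Agent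

noncomputable section

namespace Groth.Agent.H28RR.CanonBC

/-- Regular immersions of a given codimension are stable under flat base change. -/
theorem regularImmersion_flat {Z X Z' X' : Scheme.{u}} {i : Z ⟶ X} {i' : Z' ⟶ X'} {g : X' ⟶ X} {p : Z' ⟶ Z}
    (hsq : IsPullback p i' i g) [Flat g] {d : ℕ}
    (hi : RegImm.IsRegularImmersionOfCodim RegImm.Kind.regular d i) :
    RegImm.IsRegularImmersionOfCodim RegImm.Kind.regular d i' := by
  haveI := hi.1
  refine ⟨MorphismProperty.of_isPullback (P := @IsImmersion) hsq hi.1, fun z' => ?_⟩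
  obtain ⟨U, hz, hcl, rs, hlen, hrs, hker⟩ := hi.2 (p z')
  have hzz : i' z' ∈ g ⁻¹ᵁ U.1 := by
    show g (i' z') ∈ U.1
    rw [← Scheme.Hom.comp_apply, ← hsq.w]
    exact hz
  obtain ⟨W, hW, hzW, hWU⟩ := exists_isAffineOpen_mem_and_subset (U := g ⁻¹ᵁ U.1) hzz
  obtain ⟨hcl', hker'⟩ := H29Slice.restrict_baseChange hsq U.2 hcl hW (e := hWU)
  letI := (g.appLE U.1 W hWU).hom.toAlgebra
  haveI : Module.Flat Γ(X, U.1) Γ(X', W) := HasRingHomProperty.appLE @Flat g inferInstance U ⟨W, hW⟩ hWU
  have hk : RingHom.ker (i'.app W).hom = Ideal.ofList (rs.map (algebraMap Γ(X, U.1) Γ(X', W))) := by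
    rw [hker', hker, Ideal.map_ofList]
    rfl
  refine ⟨⟨W, hW⟩, hzW, hcl', rs.map (algebraMap Γ(X, U.1) Γ(X', W)), (List.length_map _).trans hlen, ?_, hk⟩
  exact H29Slice.isRegular_of_mem _ z' hzW hrs.toIsWeaklyRegular.of_flat hk

/-- A canonical sheaf pulls back to a canonical sheaf under flat base change. -/
theorem isCanonical_baseChange {X X' Y Y' : Scheme.{u}} {f : X ⟶ Y} {f' : X' ⟶ Y'} {p : X' ⟶ X} {u : Y' ⟶ Y}
    (sq : IsPullback p f' f u) [Flat u] [IsLocallyNoetherian X'] {ω : X.Modules} (hω : Canon.IsCanonical f ω) :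
    Canon.IsCanonical f' ((Scheme.Modules.pullback p).obj ω) := by
  obtain ⟨Z, i, g, c, n, hfac, hreg, hn, hqc, hqs, hvia⟩ := hω
  haveI := hreg.1
  haveI := hqc
  haveI := hqs
  let pZ := pullback.fst g u
  let g' := pullback.snd g u
  haveI : Flat pZ := inferInstanceAs (Flat (pullback.fst g u))
  have hw : (p ≫ i) ≫ g = f' ≫ u := by rw [Category.assoc, hfac]; exact sq.w
  let i' : X' ⟶ pullback g u := pullback.lift (p ≫ i) f' hw
  have H : IsPullback p i' i pZ := by
    refine IsPullback.of_bot (h₃₁ := u) (v₂₁ := g') (v₂₂ := g) ?_ (pullback.lift_fst _ _ _).symm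
      (IsPullback.of_hasPullback g u)
    rw [pullback.lift_snd, hfac]
    exact sq
  haveI : IsImmersion i' := MorphismProperty.of_isPullback (P := @IsImmersion) H hreg.1
  haveI : QuasiCompact i' := MorphismProperty.of_isPullback (P := @QuasiCompact) H hqc
  haveI : QuasiSeparated g' := inferInstanceAs (QuasiSeparated (pullback.snd g u))
  obtain ⟨-, h⟩ := H17.CanonSm.exists_via_baseChange H (IsPullback.of_hasPullback g u)
    (H17.CanonSm.isQuasiOfCodim_of_regular hreg) (Or.inr ‹_›) hvia
  haveI := hn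
  haveI := smoothOfRelativeDimension_isStableUnderBaseChange n
  exact ⟨pullback g u, i', g', c, n, pullback.lift_snd _ _ _, regularImmersion_flat H hreg,
    MorphismProperty.pullback_snd (P := @SmoothOfRelativeDimension n) g u hn, ‹_›, ‹_›, h⟩

end Groth.Agent.H28RR.CanonBC
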