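import Groth.Agent.H28Int.Curves
import Groth.Agent.H28Int.Positive
import Groth.Agent.H28Vert.Symm
import Groth.Agent.H25FinCov.Cover
import Groth.Agent.H10Coh.ProjFormulaFLF
import Groth.Agent.S1558
import Groth.Agent.S12131
import Groth.Agent.S19692
import Groth.Agent.H16Derived.GTheory.FlatLoc
import Groth.Agent.H22Alg.FibreCount
import Groth.Agent.H22Alg.SnapperCoeff
import Groth.Agent.LeadProper.Supp
import Groth.Agent.H25Par.FiniteSupport
import Groth.Agent.H22Alg.RedIntegral

/-! # Euler characteristics of inverse images along finite étale morphisms -/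

set_option autoImplicit false
set_option linter.style.haveILetI false
set_option linter.unusedSectionVars false
set_option backward.isDefEq.respectTransparency.types false

universe u

open CategoryTheory CategoryTheory.Limits AlgebraicGeometry TopologicalSpace Opposite

noncomputable section

namespace Groth.Agent.H28RR.EtaleEuler

open H28Int

section gen

variable {X : Scheme.{u}} [IsNoetherian X] {ψ : X.Modules → ℤ} (hψ : IsAddFn ψ) {r : ℕ}
  (h0 : ∀ F, Coh.IsCoh F → topologicalKrullDim (CohB1.support F) < (r : WithBot ℕ∞) → ψ F = 0)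

include hψ h0

/-- An additive function vanishing below the dimension of an integral subscheme is a multiple there of
its value on the structure sheaf. -/
theorem eq_mult {Z : Scheme.{u}} (i : Z ⟶ X) [IsClosedImmersion i] [IsIntegral Z]
    (hd : topologicalKrullDim (Set.range i) ≤ (r : WithBot ℕ∞)) (F : X.Modules) (hF : Coh.IsCoh F)
    (hs : CohB1.support F ⊆ Set.range i) :
    ∃ m : ℕ, ψ F = m * ψ ((Coh.push i).obj (Coh.structureModule Z)) ∧
      (i (genericPoint Z) ∈ CohB1.support F → 0 < m) := by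
  refine LeadDev.devissage_induction (Set.range i)
    (fun G => ∃ m : ℕ, ψ G = m * ψ ((Coh.push i).obj (Coh.structureModule Z)) ∧
      (i (genericPoint Z) ∈ CohB1.support G → 0 < m))
    (fun A B ⟨e⟩ ⟨m, h1, h2⟩ => ⟨m, (hψ.congr e).symm.trans h1,
      fun h => h2 (LeadDev.support_subset_of_iso e.symm h)⟩)
    (fun A hA => ⟨0, by simp [hψ.zero hA], fun h => by simp [LeadDev.support_eq_empty_of_isZero hA] at h⟩)
    (fun S hS h₁ h₂ h₃ ⟨m₁, e₁, p₁⟩ ⟨m₃, e₃, p₃⟩ => ⟨m₁ + m₃, by
      rw [hψ.add S hS h₁ h₂ h₃, e₁, e₃]; push_cast; ring, fun h => by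
      rcases LeadDev.support_subset_of_shortExact hS h with h' | h'
      · exact Nat.lt_of_lt_of_le (p₁ h') (Nat.le_add_right _ _)
      · exact Nat.lt_of_lt_of_le (p₃ h') (Nat.le_add_left _ _)⟩)
    ?_ F hF hs
  intro Z₂ i₂ _ _ hrange _ I ι _ hI
  haveI : I.IsQuasicoherent := hI
  let P₂ := (Coh.push i₂).obj (Coh.structureModule Z₂)
  let G := (Coh.push i₂).obj I
  have hP : Coh.IsCoh P₂ := LeadDev.isCoh_push_structure i₂
  have hG : Coh.IsCoh G := H10Coh.isCoh_of_mono ((Coh.push i₂).map ι) (H10Coh.isQuasicoherent_pushforward i₂ I) hP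
  have hGs : CohB1.support G ⊆ Set.range i₂ := fun x hx => by
    by_contra hxr
    exact LeadDev.notMem_support_push i₂ I hxr hx
  have hclZ : closure {i (genericPoint Z)} = Set.range i := (LeadDev.range_eq_closure i rfl).symm
  by_cases hmem : i (genericPoint Z) ∈ Set.range i₂
  swap
  · exact ⟨0, by
      rw [Nat.cast_zero, zero_mul]
      exact h0 G hG ((dim_le_of_subset hGs).trans_lt (dim_lt_of_notMem hclZ hd
        i₂.isClosedEmbedding.isClosed_range (fun _ hx => hrange hx) hmem)),
      fun h => absurd (hGs h) hmem⟩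
  by_cases hne : IsZero I
  · exact ⟨0, by simp [hψ.zero ((Coh.push i₂).map_isZero hne)], fun h => by
      simp [LeadDev.support_eq_empty_of_isZero ((Coh.push i₂).map_isZero hne)] at h⟩
  refine ⟨1, ?_, fun _ => Nat.one_pos⟩
  have hr : Set.range i₂ = Set.range i := le_antisymm hrange
    (hclZ.symm.le.trans (closure_minimal (Set.singleton_subset_iff.2 hmem) i₂.isClosedEmbedding.isClosed_range))
  have hker : i₂.ker = i.ker := by
    rw [H17.ker_eq_vanishingIdeal, H17.ker_eq_vanishingIdeal]
    congr 1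
    refine Closeds.ext ?_
    show closure (Set.range i₂) = closure (Set.range i)
    rw [hr]
  let e : P₂ ≅ (Coh.push i).obj (Coh.structureModule Z) :=
    (H28Vert.quotModKerIso i₂).symm ≪≫ eqToIso (by rw [hker]) ≪≫ H28Vert.quotModKerIso i
  let φ := (Coh.push i₂).map ι
  have hQ := H10Coh.isCoh_cokernel φ hG.1 hP
  have hS : (ShortComplex.mk φ (cokernel.π φ) (cokernel.condition φ)).ShortExact :=
    ShortComplex.ShortExact.mk' (ShortComplex.exact_cokernel φ) inferInstance inferInstance
  let ξ := i₂ (genericPoint Z₂)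
  obtain ⟨W, hW, hξW, -⟩ := exists_isAffineOpen_mem_and_subset (U := (⊤ : X.Opens)) (x := ξ) trivial
  have hcl : closure {ξ} = Set.range i₂ := (LeadDev.range_eq_closure i₂ (ξ := ξ) rfl).symm
  have hPs : CohB1.support P₂ ⊆ Set.range i₂ := fun x hx => by
    by_contra hxr
    exact LeadDev.notMem_support_push i₂ _ hxr hx
  have hQ0 := h0 (cokernel φ) hQ
    (dim_lt_of_notMem hcl (hr.symm ▸ hd) (H10Coh.isClosed_support _ hQ.2)
      (fun x hx => hPs (LeadDev.support_subset_of_epi (cokernel.π φ) hx))
      (LeadDev.notMem_support_cokernel φ hG.1 hP.1 hW hξW (LeadDev.surjAt_push_map i₂ rfl I ι hI hne hW hξW)))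
  have hadd := hψ.add _ hS hG hP hQ
  change ψ P₂ = ψ G + ψ (cokernel φ) at hadd
  rw [hQ0, add_zero] at hadd
  rw [Nat.cast_one, one_mul, ← hψ.congr e]
  exact hadd.symm

/-- An additive function killing all direct images from a finite cover vanishes. -/
theorem eq_zero_of_push {X' : Scheme.{u}} [IsNoetherian X'] (g : X' ⟶ X) [IsFinite g] [Surjective g]
    (hG : ∀ G : X'.Modules, Coh.IsCoh G → ψ ((Coh.push g).obj G) = 0) (F : X.Modules) (hF : Coh.IsCoh F)
    (hd : topologicalKrullDim (CohB1.support F) ≤ (r : WithBot ℕ∞)) : ψ F = 0 := by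
  refine LeadDev.devissage_induction (CohB1.support F) (fun G => ψ G = 0)
    (fun A B ⟨e⟩ h => (hψ.congr e).symm.trans h) (fun A hA => hψ.zero hA)
    (fun S hS h₁ h₂ h₃ p₁ p₃ => (hψ.add S hS h₁ h₂ h₃).trans (by rw [p₁, p₃, add_zero]))
    ?_ F hF le_rfl
  intro Z i _ _ hrange _ I ι _ hI
  haveI : I.IsQuasicoherent := hI
  have hI' : Coh.IsCoh ((Coh.push i).obj I) := H10Coh.isCoh_of_mono ((Coh.push i).map ι)
    (H10Coh.isQuasicoherent_pushforward i I) (LeadDev.isCoh_push_structure i)
  have hrd := (dim_le_of_subset hrange).trans hd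
  obtain ⟨m, hm, -⟩ := eq_mult hψ h0 i hrd _ hI' fun x hx => by
    by_contra hxr
    exact LeadDev.notMem_support_push i I hxr hx
  suffices hP : ψ ((Coh.push i).obj (Coh.structureModule Z)) = 0 by rw [hm, hP, mul_zero]
  obtain ⟨w, hw⟩ := g.surjective (i (genericPoint Z))
  let J := Scheme.IdealSheafData.vanishingIdeal (X := X') ⟨closure ({w} : Set X'), isClosed_closure⟩
  haveI : IsIntegral J.subscheme := H22Alg.isIntegral_vanishingIdeal_closure w
  let j := J.subschemeι
  have hrj : Set.range j = closure {w} := H17.range_vanishingIdeal_subschemeι _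
  have hjw : j (genericPoint J.subscheme) = w := by
    have h1 : Set.range j = closure {j (genericPoint J.subscheme)} := LeadDev.range_eq_closure j rfl
    rw [hrj] at h1
    exact ((specializes_iff_mem_closure.2 (h1 ▸ subset_closure rfl)).antisymm
      (specializes_iff_mem_closure.2 (h1.symm ▸ subset_closure rfl))).eq
  let A := (Coh.push g).obj ((Coh.push j).obj (Coh.structureModule J.subscheme))
  have hA : Coh.IsCoh A := H10Coh.isCoh_push_of_isFinite (M := _) g (LeadDev.isCoh_push_structure j)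
  let eA : A ≅ (Coh.push (j ≫ g)).obj (Coh.structureModule J.subscheme) :=
    (Scheme.Modules.pushforwardComp j g).app _
  have hAs : CohB1.support A ⊆ Set.range i := (LeadDev.support_subset_of_iso eA).trans
    (Curves.support_push_subset (j ≫ g) _ i.isClosedEmbedding.isClosed_range (by
      rintro _ ⟨y, rfl⟩
      rw [LeadDev.range_eq_closure i rfl, ← hw]
      have hy : j y ∈ closure ({w} : Set X') := hrj ▸ ⟨y, rfl⟩
      exact ((specializes_iff_mem_closure.2 hy).map g.continuous).mem_closure))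
  obtain ⟨m', hm', hpos⟩ := eq_mult hψ h0 i hrd A hA hAs
  have hmem : i (genericPoint Z) ∈ CohB1.support A := by
    refine LeadDev.support_subset_of_iso eA.symm ?_
    have h := Curves.mem_support_push_structure (j ≫ g) (genericPoint J.subscheme)
    rwa [show (j ≫ g) (genericPoint J.subscheme) = i (genericPoint Z) by
      rw [Scheme.Hom.comp_apply, hjw, hw]] at h
  have h := hG _ (LeadDev.isCoh_push_structure j)
  rw [show ψ ((Coh.push g).obj ((Coh.push j).obj (Coh.structureModule J.subscheme))) = _ from hm'] at h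
  exact (mul_eq_zero.1 h).resolve_left (by exact_mod_cast (hpos hmem).ne')

end gen

variable (k : Type u) [Field k]

section dim0

variable {X : Scheme.{u}} [X.Over (Spec (CommRingCat.of k))] [IsProper (X ↘ Spec (CommRingCat.of k))]

omit [IsProper (X ↘ Spec (CommRingCat.of k))] [X.Over (Spec (CommRingCat.of k))] in
theorem support_push_subset_image {Y : Scheme.{u}} (g : Y ⟶ X) [IsFinite g] (G : Y.Modules)
    (hS : IsClosed (CohB1.support G)) : CohB1.support ((Coh.push g).obj G) ⊆ g '' CohB1.support G := by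
  intro x hx
  by_contra hn
  let U : X.Opens := ⟨(g '' CohB1.support G)ᶜ, (g.isClosedMap _ hS).isOpen_compl⟩
  refine hx ⟨fun a b => ?_⟩
  suffices h : ∀ c : ((Coh.push g).obj G).presheaf.stalk x, c = 0 from (h a).trans (h b).symm
  intro c
  obtain ⟨T, hxT, t, rfl⟩ := TopCat.Presheaf.exists_germ_eq _ c
  let O : X.Opens := T ⊓ U
  haveI : Subsingleton Γ(G, g ⁻¹ᵁ O) := subsingleton_of_forall_eq 0 fun m =>
    H25Par.section_eq_zero (H10Coh.sh G) (fun y (hy : y ∈ g ⁻¹ᵁ O) => not_not.1 fun hsup => hy.2 ⟨y, hsup, rfl⟩) m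
  let t' : Γ(G, g ⁻¹ᵁ O) := ((Coh.push g).obj G).presheaf.map (homOfLE (inf_le_left : O ≤ T)).op t
  have h0 : t' = 0 := Subsingleton.elim _ _
  rw [← TopCat.Presheaf.germ_res_apply _ (homOfLE (inf_le_left : O ≤ T)) x ⟨hxT, hn⟩]
  erw [show ((Coh.push g).obj G).presheaf.map (homOfLE (inf_le_left : O ≤ T)).op t = 0 from h0, map_zero]

theorem euler_nonneg (F : X.Modules) (hF : Coh.IsCoh F)
    (hd : topologicalKrullDim (CohB1.support F) ≤ ((0 : ℕ) : WithBot ℕ∞)) :
    0 ≤ Curv2.euler k X F := by
  haveI := H28Int.isNoetherian k (X := X)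
  haveI : X.IsSeparated := Scheme.IsSeparated.mk (by
    rw [← terminal.comp_from (X ↘ Spec (CommRingCat.of k))]; infer_instance)
  rw [H25Euler.euler_eq_sum F 1 fun p hp => @Equiv.subsingleton _ _ (H10Coh.HHEquiv F p).toEquiv
    (H28Int.subsingleton_HnM_of_support (X := X) ⟨CohB1.support F, H10Coh.isClosed_support F hF.2⟩ 0 hd F hF.1
      subset_rfl p (by omega))]
  simp

omit [X.Over (Spec (CommRingCat.of k))] [IsProper (X ↘ Spec (CommRingCat.of k))] in
theorem isZero_of_sections (M : X.Modules) (h : ∀ U, Subsingleton Γ(M, U)) : IsZero M :=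
  (IsZero.iff_id_eq_zero M).2 (Scheme.Modules.hom_ext _ _ fun U =>
    haveI := h U
    ConcreteCategory.hom_ext _ _ fun _ => Subsingleton.elim _ _)

theorem lt_zero_empty (F : X.Modules) (hF : Coh.IsCoh F)
    (hd : topologicalKrullDim (CohB1.support F) < ((0 : ℕ) : WithBot ℕ∞)) : IsZero F :=
  H16Derived.KFlat.Stalk.isZero_of_stalk fun x => (H25Euler.notMem_support_iff F x).1 fun hx => by
    haveI : Nonempty (IrreducibleCloseds (CohB1.support F)) :=
      ⟨⟨closure {⟨x, hx⟩}, isIrreducible_singleton.closure, isClosed_closure⟩⟩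
    exact absurd hd (not_lt.2 Order.krullDim_nonneg)

theorem closed_of_dim0 {S : Set X} (hS : IsClosed S) (hd : topologicalKrullDim S ≤ ((0 : ℕ) : WithBot ℕ∞))
    {x : X} (hx : x ∈ S) : IsClosed ({x} : Set X) := by
  refine closure_subset_iff_isClosed.1 fun y hy => ?_
  by_contra hne
  have hxy : x ⤳ y := specializes_iff_mem_closure.2 hy
  have hcS : closure ({x} : Set X) ⊆ S := closure_minimal (Set.singleton_subset_iff.2 hx) hS
  have h := dim_lt_of_notMem (C := closure {x}) (S := closure {y}) rfl ((dim_le_of_subset hcS).trans hd)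
    isClosed_closure (fun z hz => closure_minimal (Set.singleton_subset_iff.2 hy) isClosed_closure hz)
    (fun hc => hne (Set.mem_singleton_iff.2 ((specializes_iff_mem_closure.2 hc).antisymm hxy).eq))
  haveI : Nonempty (IrreducibleCloseds (closure ({y} : Set X))) :=
    ⟨⟨Set.univ, ⟨⟨⟨y, subset_closure rfl⟩, trivial⟩,
      (Subtype.preirreducibleSpace isIrreducible_singleton.closure.isPreirreducible).1⟩, isClosed_univ⟩⟩
  exact absurd h (not_lt.2 Order.krullDim_nonneg)

theorem dim0_of_closed {S : Set X} (hS : IsClosed S) (h : ∀ x ∈ S, IsClosed ({x} : Set X)) :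
    topologicalKrullDim S ≤ ((0 : ℕ) : WithBot ℕ∞) := by
  haveI : QuasiSober S := hS.isClosedEmbedding_subtypeVal.quasiSober
  haveI : T1Space S := ⟨fun x => by
    convert (h x.1 x.2).preimage continuous_subtype_val
    ext y
    simp [Subtype.ext_iff]⟩
  rw [Nat.cast_zero]
  refine Order.krullDim_nonpos_iff_forall_isMax.2 fun A B hAB z hz => ?_
  have hB : IsIrreducible (B : Set S) := B.isIrreducible
  obtain ⟨a, ha⟩ := A.isIrreducible.nonempty
  have hBs : (B : Set S) = {hB.genericPoint} := by
    rw [← closure_singleton (x := hB.genericPoint), hB.closure_genericPoint B.isClosed]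
  have hz' : z ∈ ({hB.genericPoint} : Set S) := hBs ▸ hz
  have ha' : a ∈ ({hB.genericPoint} : Set S) := hBs ▸ hAB ha
  rw [Set.mem_singleton_iff.1 hz', ← Set.mem_singleton_iff.1 ha']
  exact ha

include k in
theorem exists_dim_lt : ∃ n : ℕ, topologicalKrullDim X < (n : WithBot ℕ∞) := by
  cases isEmpty_or_nonempty X with
  | inl h =>
    refine ⟨0, ?_⟩
    haveI : IsEmpty (IrreducibleCloseds X) := ⟨fun A => IsEmpty.false A.isIrreducible.nonempty.some⟩
    rw [topologicalKrullDim, Order.krullDim_eq_bot]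
    exact WithBot.bot_lt_coe _
  | inr h =>
    obtain ⟨η, -, hη⟩ := H22Alg.FibreCount.exists_dim_eq (X ↘ Spec (CommRingCat.of k))
    obtain ⟨t, ht, -⟩ := H22Alg.VarDim.exists_cdim_trdeg k X η
    refine ⟨t + 1, ?_⟩
    rw [hη]
    change H8Props.FieldDim.cdim η < _
    rw [ht]
    exact_mod_cast Nat.lt_succ_self t

end dim0

section finite

variable {k}
variable {X X' : Scheme.{u}} [X.Over (Spec (CommRingCat.of k))] [X'.Over (Spec (CommRingCat.of k))]
  [IsProper (X ↘ Spec (CommRingCat.of k))] [IsProper (X' ↘ Spec (CommRingCat.of k))]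
  (g : X' ⟶ X) [IsFinite g]

omit [X.Over (Spec (CommRingCat.of k))] [X'.Over (Spec (CommRingCat.of k))]
  [IsProper (X ↘ Spec (CommRingCat.of k))] [IsProper (X' ↘ Spec (CommRingCat.of k))] in
theorem isClosed_image_pt {x : X'} (hx : IsClosed ({x} : Set X')) : IsClosed ({g x} : Set X) := by
  rw [← Set.image_singleton]
  exact g.isClosedMap _ hx

include k in
theorem isClosed_over_pt {x : X} (hx : IsClosed ({x} : Set X)) {y : X'} (hy : g y = x) :
    IsClosed ({y} : Set X') := by
  haveI : JacobsonSpace X' := LocallyOfFiniteType.jacobsonSpace (X' ↘ Spec (CommRingCat.of k))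
  have hS : IsClosed (g ⁻¹' {x}) := hx.preimage g.continuous
  have hfin : (g ⁻¹' {x}).Finite := g.finite_preimage_singleton x
  have hclo : IsClosed (g ⁻¹' {x} ∩ closedPoints X') := by
    rw [← Set.biUnion_of_singleton (g ⁻¹' {x} ∩ closedPoints X')]
    exact (hfin.subset Set.inter_subset_left).isClosed_biUnion fun z hz => mem_closedPoints_iff.1 hz.2
  have h := JacobsonSpace.closure_inter_closedPoints hS
  rw [hclo.closure_eq] at h
  exact mem_closedPoints_iff.1 (h.ge hy).2

theorem dim_push {G : X'.Modules} (hG : Coh.IsCoh G)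
    (hd : topologicalKrullDim (CohB1.support G) ≤ ((0 : ℕ) : WithBot ℕ∞)) :
    topologicalKrullDim (CohB1.support ((Coh.push g).obj G)) ≤ ((0 : ℕ) : WithBot ℕ∞) := by
  have hS := H10Coh.isClosed_support G hG.2
  have him : IsClosed (g '' CohB1.support G) := g.isClosedMap _ hS
  refine (dim_le_of_subset (support_push_subset_image g G hS)).trans (dim0_of_closed him ?_)
  rintro _ ⟨z, hz, rfl⟩
  exact isClosed_image_pt g (closed_of_dim0 hS hd hz)

include k in
theorem dim_pull {G : X.Modules} (hG : Coh.IsCoh G)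
    (hd : topologicalKrullDim (CohB1.support G) ≤ ((0 : ℕ) : WithBot ℕ∞)) :
    topologicalKrullDim (CohB1.support ((Scheme.Modules.pullback g).obj G)) ≤ ((0 : ℕ) : WithBot ℕ∞) := by
  haveI := H28Int.isNoetherian k (X := X)
  rw [LeadProper.support_pullback G hG.1 hG.2 g]
  have hS := H10Coh.isClosed_support G hG.2
  refine dim0_of_closed (hS.preimage g.continuous) fun y hy => ?_
  exact isClosed_over_pt (k := k) g (closed_of_dim0 hS hd hy) rfl

include k in
theorem exists_point_module {x : X} (hx : IsClosed ({x} : Set X)) :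
    ∃ G : X.Modules, Coh.IsCoh G ∧ CohB1.support G = {x} ∧ 0 < Curv2.euler k X G ∧
      topologicalKrullDim (CohB1.support G) ≤ ((0 : ℕ) : WithBot ℕ∞) := by
  haveI := H28Int.isNoetherian k (X := X)
  let J := Scheme.IdealSheafData.vanishingIdeal (X := X) ⟨closure ({x} : Set X), isClosed_closure⟩
  haveI : IsIntegral J.subscheme := H22Alg.isIntegral_vanishingIdeal_closure x
  have hr : Set.range J.subschemeι = closure {x} := H17.range_vanishingIdeal_subschemeι _
  have hd : topologicalKrullDim (Set.range J.subschemeι) ≤ ((0 : ℕ) : WithBot ℕ∞) := by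
    rw [hr]
    exact (Curves.cdim_closed hx).le
  have hs : CohB1.support ((Coh.push J.subschemeι).obj (Coh.structureModule J.subscheme)) = {x} := by
    rw [H28Int.support_push_structure_eq J.subschemeι, hr, hx.closure_eq]
  exact ⟨_, LeadDev.isCoh_push_structure _, hs, H28Int.euler_push_structure_pos k J.subschemeι hd,
    (dim_le_of_subset (H28Int.support_push_structure_eq J.subschemeι).le).trans hd⟩

end finite

section iso

variable {X Y : Scheme.{u}}

/-- The inverse image along an isomorphism is the direct image along its inverse. -/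
def pullbackIsoPushInv (e : X ≅ Y) :
    Scheme.Modules.pullback e.hom ≅ Scheme.Modules.pushforward e.inv :=
  let α : Scheme.Modules.pushforward e.hom ⋙ Scheme.Modules.pushforward e.inv ≅ 𝟭 _ :=
    Scheme.Modules.pushforwardComp _ _ ≪≫ Scheme.Modules.pushforwardCongr e.hom_inv_id ≪≫
      Scheme.Modules.pushforwardId _
  let β : Scheme.Modules.pushforward e.inv ⋙ Scheme.Modules.pushforward e.hom ≅ 𝟭 _ :=
    Scheme.Modules.pushforwardComp _ _ ≪≫ Scheme.Modules.pushforwardCongr e.inv_hom_id ≪≫
      Scheme.Modules.pushforwardId _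
  let E : Y.Modules ≌ X.Modules :=
    CategoryTheory.Equivalence.mk (Scheme.Modules.pushforward e.inv) (Scheme.Modules.pushforward e.hom) β.symm α
  (Scheme.Modules.pullbackPushforwardAdjunction e.hom).leftAdjointUniq E.toAdjunction

/-- The Euler characteristic is invariant under isomorphisms of the space. -/
theorem euler_pullback_iso [X.Over (Spec (CommRingCat.of k))] [Y.Over (Spec (CommRingCat.of k))] (e : X ≅ Y)
    (he : e.hom ≫ (Y ↘ Spec (CommRingCat.of k)) = X ↘ Spec (CommRingCat.of k))
    (F : Y.Modules) [F.IsQuasicoherent] :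
    Curv2.euler k X ((Scheme.Modules.pullback e.hom).obj F) = Curv2.euler k Y F :=
  (H25Euler.euler_congr ((pullbackIsoPushInv e).app F)).trans
    (H28Int.Push.euler_push k e.inv (by rw [← he, e.inv_hom_id_assoc]) F)

end iso

section split

variable {X : Scheme.{u}} [X.Over (Spec (CommRingCat.of k))] [IsProper (X ↘ Spec (CommRingCat.of k))]

theorem isClosedImmersion_ι (V W : X.Opens) (hd : V ⊓ W = ⊥) (hc : V ⊔ W = ⊤) : IsClosedImmersion V.ι := by
  refine IsClosedImmersion.of_isPreimmersion V.ι ?_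
  have : Set.range V.ι = (W : Set X)ᶜ := by
    rw [Scheme.Opens.range_ι]
    ext x
    refine ⟨fun hV hW => ?_, fun hW => ?_⟩
    · exact (show x ∈ (⊥ : X.Opens) from hd ▸ ⟨hV, hW⟩).elim
    · exact (show x ∈ V ⊔ W from hc ▸ trivial).resolve_right hW
  rw [this]
  exact W.2.isClosed_compl

theorem subsingleton_push_restrict (W : X.Opens) (G : (↑W : Scheme.{u}).Modules) (U : X.Opens)
    (h : U ⊓ W = ⊥) : Subsingleton Γ((Scheme.Modules.pushforward W.ι).obj G, U) := by
  have hV : W.ι ⁻¹ᵁ U = ⊥ := Opens.ext (Set.eq_empty_iff_forall_notMem.2 fun z hz =>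
    (show W.ι z ∈ (⊥ : X.Opens) from h ▸ ⟨hz, z.2⟩).elim)
  haveI : Subsingleton Γ(↑W, W.ι ⁻¹ᵁ U) := by rw [hV]; infer_instance
  exact Module.subsingleton Γ(↑W, W.ι ⁻¹ᵁ U) Γ(G, W.ι ⁻¹ᵁ U)

theorem bijective_unit_app (V : X.Opens) (F : X.Modules) (U : X.Opens) (hU : U ≤ V) :
    Function.Bijective (((Scheme.Modules.restrictAdjunction V.ι).unit.app F).app U) := by
  rw [Scheme.Modules.restrictAdjunction_unit_app_app]
  have h : V.ι ''ᵁ V.ι ⁻¹ᵁ U = U := by
    rw [Scheme.Hom.image_preimage_eq_opensRange_inf, Scheme.Opens.opensRange_ι, inf_eq_right.2 hU]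
  have key : ∀ (A : X.Opens) (hA : A ≤ U), A = U → Function.Bijective (F.presheaf.map (homOfLE hA).op) := by
    rintro A hA rfl
    rw [show (homOfLE hA).op = 𝟙 _ from rfl, F.presheaf.map_id]
    exact Function.bijective_id
  exact key _ _ h

/-- A section of a biproduct one of whose components has no nonzero sections. -/
theorem ext_biprod {A B : X.Modules} (U : X.Opens) {s t : Γ(A ⊞ B, U)}
    (h₁ : (biprod.fst : A ⊞ B ⟶ A).app U s = (biprod.fst : A ⊞ B ⟶ A).app U t)
    (h₂ : (biprod.snd : A ⊞ B ⟶ B).app U s = (biprod.snd : A ⊞ B ⟶ B).app U t) : s = t := by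
  have hz : ∀ z : Γ(A ⊞ B, U), z = (biprod.inl : A ⟶ A ⊞ B).app U ((biprod.fst : A ⊞ B ⟶ A).app U z) +
      (biprod.inr : B ⟶ A ⊞ B).app U ((biprod.snd : A ⊞ B ⟶ B).app U z) := fun z => by
    have h := congrArg (fun φ : A ⊞ B ⟶ A ⊞ B => φ.app U z) (biprod.total (X := A) (Y := B))
    simp only [Scheme.Modules.Hom.add_app, Scheme.Modules.Hom.comp_app] at h
    exact h.symm
  rw [hz s, hz t, h₁, h₂]

/-- Two maps bijective on complementary opens, the other target vanishing there, give an isomorphism. -/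
theorem isIso_lift_of_disjoint {A B F : X.Modules} (u : F ⟶ A) (v : F ⟶ B) (V W : X.Opens) (hc : V ⊔ W = ⊤)
    (hu : ∀ U : X.Opens, U ≤ V → Function.Bijective (u.app U))
    (hB : ∀ U : X.Opens, U ≤ V → Subsingleton Γ(B, U))
    (hv : ∀ U : X.Opens, U ≤ W → Function.Bijective (v.app U))
    (hA : ∀ U : X.Opens, U ≤ W → Subsingleton Γ(A, U)) : IsIso (biprod.lift u v) := by
  refine H28Pinch.isIso_of_locally_bijective _ fun x => ?_
  have hl₁ : ∀ U a, (biprod.fst : A ⊞ B ⟶ A).app U ((biprod.lift u v).app U a) = u.app U a := fun U a => by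
    rw [← CategoryTheory.comp_apply, ← Scheme.Modules.Hom.comp_app, biprod.lift_fst]
  have hl₂ : ∀ U a, (biprod.snd : A ⊞ B ⟶ B).app U ((biprod.lift u v).app U a) = v.app U a := fun U a => by
    rw [← CategoryTheory.comp_apply, ← Scheme.Modules.Hom.comp_app, biprod.lift_snd]
  rcases (show x ∈ V ⊔ W from hc ▸ trivial) with hx | hx
  · refine ⟨V, hx, fun U hU => ?_⟩
    haveI := hB U hU
    refine ⟨fun a b hab => (hu U hU).1 ?_, fun t => ?_⟩
    · have h := congrArg ((biprod.fst : A ⊞ B ⟶ A).app U) hab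
      rwa [hl₁, hl₁] at h
    · obtain ⟨a, ha⟩ := (hu U hU).2 ((biprod.fst : A ⊞ B ⟶ A).app U t)
      exact ⟨a, ext_biprod U ((hl₁ U a).trans ha) (Subsingleton.elim _ _)⟩
  · refine ⟨W, hx, fun U hU => ?_⟩
    haveI := hA U hU
    refine ⟨fun a b hab => (hv U hU).1 ?_, fun t => ?_⟩
    · have h := congrArg ((biprod.snd : A ⊞ B ⟶ B).app U) hab
      rwa [hl₂, hl₂] at h
    · obtain ⟨a, ha⟩ := (hv U hU).2 ((biprod.snd : A ⊞ B ⟶ B).app U t)
      exact ⟨a, ext_biprod U (Subsingleton.elim _ _) ((hl₂ U a).trans ha)⟩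

theorem euler_biprod {A B : X.Modules} (hA : Coh.IsCoh A) (hB : Coh.IsCoh B) (hAB : Coh.IsCoh (A ⊞ B)) :
    Curv2.euler k X (A ⊞ B) = Curv2.euler k X A + Curv2.euler k X B := by
  haveI := H28Int.isNoetherian k (X := X)
  let S : ShortComplex X.Modules := ShortComplex.mk (biprod.inl : A ⟶ A ⊞ B) biprod.snd biprod.inl_snd
  have hS : S.ShortExact := ShortComplex.Splitting.shortExact
      { r := biprod.fst, s := biprod.inr, f_r := biprod.inl_fst, s_g := biprod.inr_snd, id := biprod.total }
  have h := H25Euler.euler_add (k := k) (S := S) hS hA hAB hB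
  exact h

/-- The Euler characteristic on a disjoint union of two opens. -/
theorem euler_split (V W : X.Opens) (hd : V ⊓ W = ⊥) (hc : V ⊔ W = ⊤) (F : X.Modules) (hF : Coh.IsCoh F)
    [(↑V : Scheme.{u}).Over (Spec (CommRingCat.of k))] [(↑W : Scheme.{u}).Over (Spec (CommRingCat.of k))]
    (hV : V.ι ≫ (X ↘ Spec (CommRingCat.of k)) = (↑V : Scheme.{u}) ↘ Spec (CommRingCat.of k))
    (hW : W.ι ≫ (X ↘ Spec (CommRingCat.of k)) = (↑W : Scheme.{u}) ↘ Spec (CommRingCat.of k)) :
    Curv2.euler k X F = Curv2.euler k (↑V) ((Scheme.Modules.pullback V.ι).obj F) +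
      Curv2.euler k (↑W) ((Scheme.Modules.pullback W.ι).obj F) := by
  haveI := H28Int.isNoetherian k (X := X)
  haveI := isClosedImmersion_ι V W hd hc
  haveI := isClosedImmersion_ι W V (by rw [inf_comm, hd]) (by rw [sup_comm, hc])
  haveI : F.IsQuasicoherent := hF.1
  have hcV := H17.ConsProp.isCoh_pullback V.ι hF
  have hcW := H17.ConsProp.isCoh_pullback W.ι hF
  haveI := hcV.1
  haveI := hcW.1
  rw [← Push.euler_push k V.ι hV, ← Push.euler_push k W.ι hW]
  let A := (Scheme.Modules.pushforward V.ι).obj (F.restrict V.ι)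
  let B := (Scheme.Modules.pushforward W.ι).obj (F.restrict W.ι)
  let u : F ⟶ A := (Scheme.Modules.restrictAdjunction V.ι).unit.app F
  let v : F ⟶ B := (Scheme.Modules.restrictAdjunction W.ι).unit.app F
  haveI : IsIso (biprod.lift u v) := isIso_lift_of_disjoint u v V W hc
    (fun U hU => bijective_unit_app V F U hU)
    (fun U hU => subsingleton_push_restrict W (F.restrict W.ι) U
      (le_bot_iff.1 ((inf_le_inf_right W hU).trans hd.le)))
    (fun U hU => bijective_unit_app W F U hU)
    (fun U hU => subsingleton_push_restrict V (F.restrict V.ι) U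
      (le_bot_iff.1 ((inf_le_inf_right V hU).trans (by rw [inf_comm, hd]))))
  let eA : A ≅ (Coh.push V.ι).obj ((Scheme.Modules.pullback V.ι).obj F) :=
    (Scheme.Modules.pushforward V.ι).mapIso ((Scheme.Modules.restrictFunctorIsoPullback V.ι).app F)
  let eB : B ≅ (Coh.push W.ι).obj ((Scheme.Modules.pullback W.ι).obj F) :=
    (Scheme.Modules.pushforward W.ι).mapIso ((Scheme.Modules.restrictFunctorIsoPullback W.ι).app F)
  have hA : Coh.IsCoh A := H10Coh.isCoh_of_iso eA.symm (H10Coh.isCoh_push_of_isFinite (M := _) V.ι hcV)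
  have hB : Coh.IsCoh B := H10Coh.isCoh_of_iso eB.symm (H10Coh.isCoh_push_of_isFinite (M := _) W.ι hcW)
  have hAB : Coh.IsCoh (A ⊞ B) := H10Coh.isCoh_of_iso (asIso (biprod.lift u v)) hF
  have h₁ : Curv2.euler k X F = Curv2.euler k X (A ⊞ B) := H25Euler.euler_congr (asIso (biprod.lift u v))
  have h₂ : Curv2.euler k X (A ⊞ B) = Curv2.euler k X A + Curv2.euler k X B :=
    euler_biprod k hA hB hAB
  exact h₁.trans (h₂.trans (congrArg₂ (· + ·) (H25Euler.euler_congr eA) (H25Euler.euler_congr eB)))

end split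

section main

/-- Multiplicativity of the Euler characteristic on modules with finite support. -/
def Mult0 {W W' : Scheme.{u}} [W.Over (Spec (CommRingCat.of k))] [W'.Over (Spec (CommRingCat.of k))]
    (g : W' ⟶ W) (d : ℕ) : Prop :=
  ∀ F : W.Modules, Coh.IsCoh F → topologicalKrullDim (CohB1.support F) ≤ ((0 : ℕ) : WithBot ℕ∞) →
    Curv2.euler k W' ((Scheme.Modules.pullback g).obj F) = d * Curv2.euler k W F

variable {W W' : Scheme.{u}} [W.Over (Spec (CommRingCat.of k))] [W'.Over (Spec (CommRingCat.of k))]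
  [IsProper (W ↘ Spec (CommRingCat.of k))]

theorem isProper_total (g : W' ⟶ W) [IsFinite g]
    (hg : g ≫ (W ↘ Spec (CommRingCat.of k)) = W' ↘ Spec (CommRingCat.of k)) :
    IsProper (W' ↘ Spec (CommRingCat.of k)) :=
  hg ▸ MorphismProperty.comp_mem @IsProper _ _ (inferInstance : IsProper g) ‹_›

theorem shortExact_pull (g : W' ⟶ W) [Flat g] {S : ShortComplex W.Modules} (hS : S.ShortExact) :
    (S.map (Scheme.Modules.pullback g)).ShortExact := by
  haveI := H16Derived.GTheory.preservesFiniteLimits_pullback (g := g)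
  haveI : PreservesFiniteColimits (Scheme.Modules.pullback g) :=
    haveI : PreservesColimitsOfSize.{u, u} (Scheme.Modules.pullback g) :=
      (Scheme.Modules.pullbackPushforwardAdjunction g).leftAdjoint_preservesColimits
    PreservesColimitsOfSize.preservesFiniteColimits.{u, u} _
  exact hS.map_of_exact _

theorem isAddFn_pull (g : W' ⟶ W) [IsFinite g] [Flat g]
    (hg : g ≫ (W ↘ Spec (CommRingCat.of k)) = W' ↘ Spec (CommRingCat.of k)) (d : ℕ) :
    IsAddFn fun F : W.Modules => Curv2.euler k W' ((Scheme.Modules.pullback g).obj F) - d * Curv2.euler k W F where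
  congr e := by
    simp only [H25Euler.euler_congr ((Scheme.Modules.pullback g).mapIso e), H25Euler.euler_congr e]
  add S hS h₁ h₂ h₃ := by
    haveI := isProper_total k g hg
    haveI := H28Int.isNoetherian k (X := W)
    haveI := H28Int.isNoetherian k (X := W')
    haveI : (Scheme.Modules.pullback g).IsLeftAdjoint :=
      (Scheme.Modules.pullbackPushforwardAdjunction g).isLeftAdjoint
    have hS' := shortExact_pull g hS
    have h := H25Euler.euler_add (k := k) hS' (H17.ConsProp.isCoh_pullback g h₁)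
      (H17.ConsProp.isCoh_pullback g h₂) (H17.ConsProp.isCoh_pullback g h₃)
    have h' := H25Euler.euler_add (k := k) hS h₁ h₂ h₃
    simp only [ShortComplex.map_X₂, ShortComplex.map_X₁, ShortComplex.map_X₃] at h
    simp only [h, h']
    ring

/-- A finite locally free morphism of degree `d` multiplies lengths by `d`. -/
theorem mult0_of_deg (g : W' ⟶ W) [IsFinite g] [Flat g]
    (hg : g ≫ (W ↘ Spec (CommRingCat.of k)) = W' ↘ Spec (CommRingCat.of k)) (d : ℕ)
    (hd : Mor2.IsFinLocFreeOfDeg d g) : Mult0 k g d := by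
  intro F hF hdim
  haveI := isProper_total k g hg
  haveI := H28Int.isNoetherian k (X := W)
  haveI := H28Int.isNoetherian k (X := W')
  have hE : FlatMod.IsFinLocFreeOfRank d ((Coh.push g).obj (Coh.structureModule W')) :=
    ((S19692.result g d).1 hd).2
  have hψ := isAddFn_pull k g hg d
  have h0 : ∀ G, Coh.IsCoh G → topologicalKrullDim (CohB1.support G) < ((0 : ℕ) : WithBot ℕ∞) →
      Curv2.euler k W' ((Scheme.Modules.pullback g).obj G) - d * Curv2.euler k W G = 0 := fun G hG h =>
    hψ.zero (lt_zero_empty G hG h)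
  rw [← sub_eq_zero]
  refine LeadDev.devissage_induction (CohB1.support F)
    (fun G => Curv2.euler k W' ((Scheme.Modules.pullback g).obj G) - d * Curv2.euler k W G = 0)
    (fun A B ⟨e⟩ h => (hψ.congr e).symm.trans h) (fun A hA => hψ.zero hA)
    (fun S hS h₁ h₂ h₃ p₁ p₃ => (hψ.add S hS h₁ h₂ h₃).trans (by simp only [p₁, p₃, add_zero]))
    ?_ F hF le_rfl
  intro Z i _ _ hrange _ I ι _ hI
  haveI : I.IsQuasicoherent := hI
  obtain ⟨m, hm, -⟩ := eq_mult hψ h0 i ((dim_le_of_subset hrange).trans hdim) _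
    (H10Coh.isCoh_of_mono ((Coh.push i).map ι) (H10Coh.isQuasicoherent_pushforward i I)
      (LeadDev.isCoh_push_structure i)) (fun x hx => by
        by_contra hxr
        exact LeadDev.notMem_support_push i I hxr hx)
  let P := (Coh.push i).obj (Coh.structureModule Z)
  suffices hP : Curv2.euler k W' ((Scheme.Modules.pullback g).obj P) - d * Curv2.euler k W P = 0 by
    rw [hm, hP, mul_zero]
  letI : Z.Over (Spec (CommRingCat.of k)) := ⟨i ≫ (W ↘ Spec (CommRingCat.of k))⟩
  let T := pullback i g
  let g' : T ⟶ Z := pullback.fst i g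
  let i' : T ⟶ W' := pullback.snd i g
  have hsq : IsPullback g' i' i g := IsPullback.of_hasPullback i g
  letI : T.Over (Spec (CommRingCat.of k)) := ⟨i' ≫ (W' ↘ Spec (CommRingCat.of k))⟩
  have hg' : g' ≫ (Z ↘ Spec (CommRingCat.of k)) = T ↘ Spec (CommRingCat.of k) := by
    show g' ≫ i ≫ _ = i' ≫ _
    rw [← Category.assoc, hsq.w, Category.assoc, hg]
  let O := Coh.structureModule W'
  let E := (Coh.push g).obj O
  haveI : (Coh.structureModule Z).IsQuasicoherent := H10Coh.isQuasicoherent_unit
  haveI : Coh.IsQCoh (Coh.structureModule Z) := H10Coh.isQuasicoherent_unit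
  haveI : Coh.IsQCoh O := H10Coh.isQuasicoherent_unit
  haveI : (Coh.structureModule T).IsQuasicoherent := H10Coh.isQuasicoherent_unit
  haveI : ((Scheme.Modules.pullback g').obj (Coh.structureModule Z)).IsQuasicoherent :=
    H10Coh.isQuasicoherent_of_iso (H16Derived.KFlat.Stalk.structurePullbackIso g').symm
  haveI : ((Scheme.Modules.pullback i').obj O).IsQuasicoherent :=
    H10Coh.isQuasicoherent_of_iso (H16Derived.KFlat.Stalk.structurePullbackIso i').symm
  let e₁ : (Scheme.Modules.pullback g).obj P ≅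
      (Coh.push i').obj ((Scheme.Modules.pullback g').obj (Coh.structureModule Z)) :=
    @asIso _ _ _ _ _ (S12131.result i g g' i' hsq (Coh.structureModule Z))
  let e₂ : (Scheme.Modules.pullback i).obj E ≅
      (Coh.push g').obj ((Scheme.Modules.pullback i').obj O) :=
    @asIso _ _ _ _ _ (S12131.result g i i' g' hsq.flip O)
  let eO : (Scheme.Modules.pullback g').obj (Coh.structureModule Z) ≅ (Scheme.Modules.pullback i').obj O :=
    H16Derived.KFlat.Stalk.structurePullbackIso g' ≪≫ (H16Derived.KFlat.Stalk.structurePullbackIso i').symm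
  haveI : IsFinite g' := MorphismProperty.of_isPullback hsq.flip (inferInstance : IsFinite g)
  haveI : IsAffineHom i' := MorphismProperty.of_isPullback hsq (inferInstance : IsAffineHom i)
  haveI : ((Scheme.Modules.pullback i).obj E).IsQuasicoherent :=
    (H16Derived.KFlat.Stalk.isCoh_of_isFinLocFree
      (H16Derived.KFlat.Stalk.isFinLocFree_pullback i (fun x => let ⟨U, hU, h⟩ := hE x; ⟨U, _, hU, h⟩ : FlatMod.IsFinLocFree E))).1
  have h1 : Curv2.euler k W' ((Scheme.Modules.pullback g).obj P) =
      Curv2.euler k W (CohB1.tensorMod P E) := by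
    rw [H25Euler.euler_congr e₁, Push.euler_push k i' rfl _, H25Euler.euler_congr eO,
      ← Push.euler_push k g' hg' _, ← H25Euler.euler_congr e₂, ← Push.euler_push k i rfl _]
    haveI := H10Coh.PF.isIso_ψ_of_isFinLocFree i (fun x => let ⟨U, hU, h⟩ := hE x; ⟨U, _, hU, h⟩ : FlatMod.IsFinLocFree E) (Coh.structureModule Z)
    exact (H25Euler.euler_congr (@asIso _ _ _ _ (H10Coh.PF.ψT i E (Coh.structureModule Z))
      (H10Coh.PF.isIso_ψ_of_isFinLocFree i (fun x => let ⟨U, hU, h⟩ := hE x; ⟨U, _, hU, h⟩ : FlatMod.IsFinLocFree E) _) ≪≫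
      (Coh.push i).mapIso (H10Coh.Tw.leftUnitIso _))).symm
  have hPd : topologicalKrullDim (CohB1.support P) ≤ 0 := by
    refine (dim_le_of_subset (fun x hx => hrange ?_)).trans (hdim.trans_eq Nat.cast_zero)
    by_contra hxr
    exact LeadDev.notMem_support_push i _ hxr hx
  rw [h1, S1558.result k W P (LeadDev.isCoh_push_structure i) hPd d E hE, sub_self]

/-- The Euler characteristic of an inverse image along a finite étale morphism of degree `d`. -/
theorem euler_pullback_etale : ∀ (d : ℕ) {W W' : Scheme.{u}} [W.Over (Spec (CommRingCat.of k))]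
    [W'.Over (Spec (CommRingCat.of k))] [IsProper (W ↘ Spec (CommRingCat.of k))] (g : W' ⟶ W) [IsFinite g]
    [Etale g] (_ : g ≫ (W ↘ Spec (CommRingCat.of k)) = W' ↘ Spec (CommRingCat.of k)), Mult0 k g d →
    ∀ F : W.Modules, Coh.IsCoh F →
      Curv2.euler k W' ((Scheme.Modules.pullback g).obj F) = d * Curv2.euler k W F := by
  intro d
  induction d using Nat.strong_induction_on with
  | _ d ih =>
  intro W W' _ _ _ g _ _ hg h0 F hF
  haveI := isProper_total k g hg
  haveI := H28Int.isNoetherian k (X := W)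
  haveI := H28Int.isNoetherian k (X := W')
  -- the square
  let D := pullback g g
  let p : D ⟶ W' := pullback.fst g g
  let q : D ⟶ W' := pullback.snd g g
  have hsq : IsPullback p q g g := IsPullback.of_hasPullback g g
  letI : D.Over (Spec (CommRingCat.of k)) := ⟨p ≫ (W' ↘ Spec (CommRingCat.of k))⟩
  haveI : IsFinite p := MorphismProperty.pullback_fst _ _ ‹IsFinite g›
  haveI : IsFinite q := MorphismProperty.pullback_snd _ _ ‹IsFinite g›
  haveI : Etale p := MorphismProperty.pullback_fst _ _ ‹Etale g›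
  haveI := isProper_total k p rfl
  haveI := H28Int.isNoetherian k (X := D)
  have hqk : q ≫ (W' ↘ Spec (CommRingCat.of k)) = D ↘ Spec (CommRingCat.of k) := by
    show _ = p ≫ _
    rw [← hg, ← Category.assoc, ← hsq.w, Category.assoc]
  have hbc : ∀ G : W'.Modules, Coh.IsCoh G →
      Curv2.euler k D ((Scheme.Modules.pullback p).obj G) =
        Curv2.euler k W' ((Scheme.Modules.pullback g).obj ((Coh.push g).obj G)) := by
    intro G hG
    haveI : Coh.IsQCoh G := hG.1
    haveI : G.IsQuasicoherent := hG.1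
    haveI : ((Scheme.Modules.pullback p).obj G).IsQuasicoherent := (H17.ConsProp.isCoh_pullback p hG).1
    rw [← Push.euler_push k q hqk _]
    exact (H25Euler.euler_congr (@asIso _ _ _ _ _ (S12131.result g g p q hsq G))).symm
  -- the diagonal
  let s : W' ⟶ D := pullback.diagonal g
  haveI : IsOpenImmersion s := FormallyUnramified.isOpenImmersion_diagonal g
  haveI : IsClosedImmersion s := IsSeparated.isClosedImmersion_diagonal
  let V : D.Opens := s.opensRange
  let R : D.Opens := ⟨(Set.range s)ᶜ, s.isClosedEmbedding.isClosed_range.isOpen_compl⟩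
  have hd : V ⊓ R = ⊥ := Opens.ext (Set.eq_empty_iff_forall_notMem.2 fun x hx => hx.2 hx.1)
  have hc : V ⊔ R = ⊤ := top_unique fun x _ => (em (x ∈ Set.range s))
  haveI := isClosedImmersion_ι R V (by rw [inf_comm, hd]) (by rw [sup_comm, hc])
  let r : (↑R : Scheme.{u}) ⟶ W' := R.ι ≫ p
  haveI : IsFinite r := MorphismProperty.comp_mem @IsFinite _ _ (inferInstance : IsFinite R.ι) ‹IsFinite p›
  haveI : Etale r := inferInstanceAs (Etale (R.ι ≫ p))
  letI : (↑R : Scheme.{u}).Over (Spec (CommRingCat.of k)) := ⟨R.ι ≫ (D ↘ Spec (CommRingCat.of k))⟩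
  letI : (↑V : Scheme.{u}).Over (Spec (CommRingCat.of k)) := ⟨V.ι ≫ (D ↘ Spec (CommRingCat.of k))⟩
  have hr : r ≫ (W' ↘ Spec (CommRingCat.of k)) = (↑R : Scheme.{u}) ↘ Spec (CommRingCat.of k) := Category.assoc _ _ _
  have hsplit : ∀ G : W'.Modules, Coh.IsCoh G →
      Curv2.euler k D ((Scheme.Modules.pullback p).obj G) =
        Curv2.euler k W' G + Curv2.euler k (↑R) ((Scheme.Modules.pullback r).obj G) := by
    intro G hG
    haveI : G.IsQuasicoherent := hG.1
    rw [euler_split k V R hd hc _ (H17.ConsProp.isCoh_pullback p hG) rfl rfl]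
    congr 1
    · have hVs : (s.isoOpensRange).hom ≫ V.ι = s := s.isoOpensRange_hom_ι
      let e : (↑V : Scheme.{u}) ≅ W' := s.isoOpensRange.symm
      have he : e.hom = V.ι ≫ p := by
        rw [← cancel_epi s.isoOpensRange.hom]
        show s.isoOpensRange.hom ≫ s.isoOpensRange.inv = _
        rw [Iso.hom_inv_id, ← Category.assoc, hVs]
        exact (pullback.diagonal_fst g).symm
      rw [← euler_pullback_iso k e (by rw [he]; exact Category.assoc _ _ _) G]
      exact H25Euler.euler_congr ((Scheme.Modules.pullbackComp V.ι p).app G ≪≫ eqToIso (by rw [he]))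
    · exact H25Euler.euler_congr ((Scheme.Modules.pullbackComp R.ι p).app G)
  -- modules with finite support
  have hpush : ∀ G : W'.Modules, Coh.IsCoh G → topologicalKrullDim (CohB1.support G) ≤ ((0 : ℕ) : WithBot ℕ∞) →
      Curv2.euler k D ((Scheme.Modules.pullback p).obj G) = d * Curv2.euler k W' G := by
    intro G hG hdG
    haveI : G.IsQuasicoherent := hG.1
    rw [hbc G hG, h0 _ (H10Coh.isCoh_push_of_isFinite (M := _) g hG) (dim_push g hG hdG), Push.euler_push k g hg G]
  rcases d with _ | d'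
  · -- degree zero: the cover is empty
    haveI : IsEmpty W' := by
      by_contra hne
      rw [not_isEmpty_iff] at hne
      haveI : JacobsonSpace W' := LocallyOfFiniteType.jacobsonSpace (W' ↘ Spec (CommRingCat.of k))
      obtain ⟨w, -, hw⟩ := nonempty_inter_closedPoints (Z := (Set.univ : Set W')) Set.univ_nonempty
        isClosed_univ.isLocallyClosed
      obtain ⟨G, hG, -, hpos, hdG⟩ := exists_point_module (k := k) (mem_closedPoints_iff.1 hw)
      have h := hpush G hG hdG
      rw [hsplit G hG] at h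
      haveI := isProper_total k r hr
      have hnn := euler_nonneg k _ (H17.ConsProp.isCoh_pullback r hG) (dim_pull (k := k) r hG hdG)
      simp at h
      omega
    rw [H25Euler.euler_eq_zero_of_isZero (isZero_of_sections _ fun U => ?_), Nat.cast_zero, zero_mul]
    have hU : U = ⊥ := Opens.ext (Set.eq_empty_iff_forall_notMem.2 fun z _ => IsEmpty.false z)
    haveI : Subsingleton Γ(W', U) := by rw [hU]; infer_instance
    exact Module.subsingleton Γ(W', U) _
  have hr0 : Mult0 k r d' := by
    intro G hG hdG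
    have h := hpush G hG hdG
    rw [hsplit G hG] at h
    push_cast at h
    linarith
  have hψ := isAddFn_pull k g hg (d' + 1)
  have hkill : ∀ G : W'.Modules, Coh.IsCoh G →
      Curv2.euler k W' ((Scheme.Modules.pullback g).obj ((Coh.push g).obj G)) -
        ((d' + 1 : ℕ) : ℤ) * Curv2.euler k W ((Coh.push g).obj G) = 0 := by
    intro G hG
    haveI : G.IsQuasicoherent := hG.1
    rw [← hbc G hG, hsplit G hG, ih d' (Nat.lt_succ_self _) r hr hr0 G hG, Push.euler_push k g hg G]
    push_cast
    ring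
  haveI : JacobsonSpace W := LocallyOfFiniteType.jacobsonSpace (W ↘ Spec (CommRingCat.of k))
  haveI : Surjective g := by
    refine ⟨Set.range_eq_univ.1 ?_⟩
    by_contra hne
    obtain ⟨w, hw, hwc⟩ := nonempty_inter_closedPoints (Z := (Set.range g)ᶜ) (Set.nonempty_compl.2 hne)
      g.isClosedMap.isClosed_range.isOpen_compl.isLocallyClosed
    obtain ⟨G, hG, hs, hpos, hdG⟩ := exists_point_module (k := k) (mem_closedPoints_iff.1 hwc)
    have h := h0 G hG hdG
    have hz : IsZero ((Scheme.Modules.pullback g).obj G) :=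
      H16Derived.KFlat.Stalk.isZero_of_stalk fun y => (H25Euler.notMem_support_iff _ y).1 fun hy => by
        rw [LeadProper.support_pullback G hG.1 hG.2 g, hs] at hy
        exact hw ⟨y, hy⟩
    rw [H25Euler.euler_eq_zero_of_isZero hz] at h
    have hp : (0 : ℤ) < ((d' + 1 : ℕ) : ℤ) * Curv2.euler k W G := by positivity
    omega
  rw [← sub_eq_zero]
  suffices h : ∀ (n : ℕ) (F : W.Modules), Coh.IsCoh F → topologicalKrullDim (CohB1.support F) < (n : WithBot ℕ∞) →
      Curv2.euler k W' ((Scheme.Modules.pullback g).obj F) - ((d' + 1 : ℕ) : ℤ) * Curv2.euler k W F = 0 by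
    obtain ⟨n, hn⟩ := exists_dim_lt k (X := W)
    exact h n F hF (Topology.IsInducing.subtypeVal.topologicalKrullDim_le.trans_lt hn)
  intro n
  induction n with
  | zero => exact fun G hG h => hψ.zero (lt_zero_empty G hG h)
  | succ n ihn =>
    intro G hG h
    exact eq_zero_of_push hψ ihn g hkill G hG (H22Alg.Snapper.le_of_lt_succ h)

end main

end Groth.Agent.H28RR.EtaleEuler
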