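import Groth.Agent.H28RR.ModelUnique
import Groth.Agent.H22Alg.AffineImage
import Groth.Agent.H11Tilde.ModLoc
import Groth.Agent.H28Int.Push
import Groth.Agent.H25Par.GPDeg
import Groth.Agent.H28Curve.DegOneIso
import Groth.Agent.H28RR.EtaleEuler
import Groth.Agent.H10Coh.AffinePush
import Groth.Agent.H28Vert.ExcConverse

/-! # Minimal models of curves of genus zero -/

set_option autoImplicit false
set_option linter.style.haveILetI false
set_option linter.unusedSectionVars false
set_option backward.isDefEq.respectTransparency.types false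
set_option maxHeartbeats 1600000

universe u

open CategoryTheory CategoryTheory.Limits AlgebraicGeometry TopologicalSpace

noncomputable section

namespace Groth.Agent.H28RR.ModelGenusZero

open ModelContract

section Curves

theorem bijective_app_of_restrict {E D : Scheme.{u}} (π : E ⟶ D) (W : D.Opens) [IsIso (π ∣_ W)] :
    Function.Bijective (π.app W) := by
  have h : IsIso ((π ∣_ W).appTop) := inferInstanceAs (IsIso ((π ∣_ W).app ⊤))
  rw [morphismRestrict_appTop] at h
  haveI := h
  haveI h1 : IsIso (π.app (W.ι ''ᵁ ⊤)) := by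
    refine @IsIso.of_isIso_comp_right _ _ _ _ _ _ _ ?_ h
    exact Functor.map_isIso E.presheaf _
  rw [Scheme.Opens.ι_image_top] at h1
  exact ConcreteCategory.bijective_of_isIso _

/-- Euler characteristics of isomorphic curves agree. -/
theorem eulerIso {k : Type u} [Field k] {E D : Scheme.{u}} [E.Over (Spec (CommRingCat.of k))]
    [D.Over (Spec (CommRingCat.of k))] (σ : E ⟶ D) [IsIso σ]
    (hσ : σ ≫ (D ↘ Spec (CommRingCat.of k)) = E ↘ Spec (CommRingCat.of k)) :
    Curv2.euler k E (Coh.structureModule E) = Curv2.euler k D (Coh.structureModule D) := by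
  haveI : (Coh.structureModule D).IsQuasicoherent := H10Coh.isQuasicoherent_unit
  obtain ⟨s⟩ := H11Ample.nonempty_pullback_structureModule_iso σ
  exact (H25Euler.euler_congr s.symm).trans (EtaleEuler.euler_pullback_iso k (asIso σ) hσ (Coh.structureModule D))

variable {k : Type u} [Field k] {E D : Scheme.{u}} [E.Over (Spec (CommRingCat.of k))]
  [D.Over (Spec (CommRingCat.of k))] [IsProper (E ↘ Spec (CommRingCat.of k))]
  [IsProper (D ↘ Spec (CommRingCat.of k))] [IsIntegral E] [IsIntegral D]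

omit [E.Over (Spec (CommRingCat.of k))] [D.Over (Spec (CommRingCat.of k))]
  [IsProper (E ↘ Spec (CommRingCat.of k))] [IsProper (D ↘ Spec (CommRingCat.of k))] in
/-- A morphism of integral schemes which is an isomorphism over a non-empty open is birational. -/
theorem map_genericPoint_of_iso {π : E ⟶ D} {U : D.Opens} (hU : (U : Set D).Nonempty) [IsIso (π ∣_ U)] :
    π (genericPoint E) = genericPoint D := by
  have hη : genericPoint D ∈ U := ((genericPoint_spec D).mem_open_set_iff U.isOpen).2 (by simpa using hU)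
  obtain ⟨e, he⟩ := (π ∣_ U).homeomorph.surjective ⟨genericPoint D, hη⟩
  have h1 : π e.1 = genericPoint D := (morphismRestrict_base_coe π U e).symm.trans (congrArg Subtype.val he)
  have h2 : π (genericPoint E) ⤳ π e.1 := (genericPoint_specializes e.1).map π.continuous
  rw [h1] at h2
  exact (h2.antisymm (genericPoint_specializes _)).eq

omit [IsProper (D ↘ Spec (CommRingCat.of k))] in
/-- Euler characteristics of birational proper integral curves, with equality only for isomorphisms. -/
theorem euler_le [IsProper (D ↘ Spec (CommRingCat.of k))] (π : E ⟶ D)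
    (hπ : π ≫ (D ↘ Spec (CommRingCat.of k)) = E ↘ Spec (CommRingCat.of k))
    (hdE : topologicalKrullDim E ≤ 1) (hdD : topologicalKrullDim D ≤ 1) {U : D.Opens}
    (hU : (U : Set D).Nonempty) [IsIso (π ∣_ U)] :
    Curv2.euler k D (Coh.structureModule D) ≤ Curv2.euler k E (Coh.structureModule E) ∧
      (Curv2.euler k E (Coh.structureModule E) = Curv2.euler k D (Coh.structureModule D) → IsIso π) := by
  haveI : IsNoetherian E := H28Int.isNoetherian k (X := E)
  haveI : IsNoetherian D := H28Int.isNoetherian k (X := D)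
  have hgen := map_genericPoint_of_iso (π := π) hU
  have hη : genericPoint D ∈ U := ((genericPoint_spec D).mem_open_set_iff U.isOpen).2 (by simpa using hU)
  haveI : IsProper π := by
    haveI : IsProper (π ≫ (D ↘ Spec (CommRingCat.of k))) := by rw [hπ]; infer_instance
    exact IsProper.of_comp π (D ↘ Spec (CommRingCat.of k))
  haveI : LocallyQuasiFinite π := by
    refine locallyQuasiFinite_iff_finite_preimage_singleton.2 fun z => ?_
    by_cases hz : z ∈ U
    · refine Set.Subsingleton.finite fun a ha b hb => ?_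
      exact congrArg Subtype.val ((π ∣_ U).isOpenEmbedding.injective (a₁ := ⟨a, show π a ∈ U from ha.symm ▸ hz⟩)
        (a₂ := ⟨b, show π b ∈ U from hb.symm ▸ hz⟩) (Subtype.ext (by
          rw [morphismRestrict_base_coe, morphismRestrict_base_coe]
          exact ha.trans hb.symm)))
    · have h1 := H25Par.finite_of_isClosed_of_notMem hdE ((U.isOpen.isClosed_compl).preimage π.continuous)
        (fun h => h (hgen.symm ▸ hη))
      exact h1.1.subset fun a ha => show π a ∉ U from (show π a = z from ha) ▸ hz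
  haveI : IsFinite π := (IsFinite.iff_isProper_and_locallyQuasiFinite π).2 ⟨inferInstance, inferInstance⟩
  let i : Coh.structureModule D ⟶ (Coh.push π).obj (Coh.structureModule E) := ClSub.unitToPush π
  haveI : Mono i := H11Tilde.mono_of_injective _ fun V s hs x hx => ⟨V, le_rfl, hx, by
    have h := H22Alg.AffineImage.app_injective π hgen (N := V) ⟨x, hx⟩
      (a₁ := s) (a₂ := 0) (hs.trans (map_zero (π.app V).hom).symm)
    rw [h]; exact map_zero _⟩
  have hEq : Coh.IsCoh (Coh.structureModule E) := H10Coh.isCoh_structureModule' E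
  haveI := hEq.1
  have hFc : Coh.IsCoh (Coh.structureModule D) := H10Coh.isCoh_structureModule' D
  have hEc : Coh.IsCoh ((Coh.push π).obj (Coh.structureModule E)) :=
    H10Coh.isCoh_push_of_isFinite π _ hEq
  have hC := H10Coh.isCoh_cokernel i hFc.1 hEc
  have hsupp : genericPoint D ∉ CohB1.support (cokernel i) := by
    intro h
    refine h (subsingleton_of_forall_eq 0 fun a => ?_)
    haveI : Epi ((DerSch.stalkFunctor D (genericPoint D)).map (cokernel.π i)) :=
      (DerSch.stalkFunctor D (genericPoint D)).map_epi _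
    obtain ⟨b, rfl⟩ : ∃ b, (H06Mod.stalkLin (cokernel.π i) (genericPoint D)) b = a :=
      (ModuleCat.epi_iff_surjective ((DerSch.stalkFunctor D (genericPoint D)).map (cokernel.π i))).1 inferInstance a
    obtain ⟨V, hηV, t, rfl⟩ := ((Coh.push π).obj (Coh.structureModule E)).presheaf.germ_exist b
    let W : D.Opens := V ⊓ U
    rw [← TopCat.Presheaf.germ_res_apply ((Coh.push π).obj (Coh.structureModule E)).presheaf
      (homOfLE (inf_le_left : W ≤ V)) (genericPoint D) ⟨hηV, hη⟩]
    haveI := ContractVert.isIso_restrict_of_le π (inf_le_right : W ≤ U)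
    obtain ⟨r, hr⟩ := (bijective_app_of_restrict π W).2
      (((Coh.push π).obj (Coh.structureModule E)).presheaf.map (homOfLE (inf_le_left : W ≤ V)).op t)
    rw [← hr]
    erw [H06Mod.stalkLin_germ]
    have h0 : (cokernel.π i).app W (i.app W r) = 0 := by
      show ((i ≫ cokernel.π i).app W) r = 0
      rw [cokernel.condition]
      rfl
    exact (congrArg _ h0).trans (map_zero _)
  obtain ⟨hTfin, hTcl⟩ := H25Par.finite_of_isClosed_of_notMem hdD (H10Coh.isClosed_support _ hC.2) hsupp
  have h0 := H25Par.euler_sub_eq_h0 (k := k) hFc hEc i hC hTfin hTcl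
  rw [H28Int.Push.euler_push k π hπ] at h0
  refine ⟨by omega, fun he => ?_⟩
  rw [he, sub_self] at h0
  haveI : Module.Finite k (Coh.HH D (cokernel i) 0) := H10Coh.finite_HH_proper k D _ hC 0
  haveI : Subsingleton (Coh.HH D (cokernel i) 0) := Module.finrank_zero_iff.1 (by exact_mod_cast h0.symm)
  haveI := (H25Par.germs_bijective (k := k) (cokernel i) hTfin hTcl (fun y hy => not_not.1 hy)).2.subsingleton
  have hz : IsZero (cokernel i) := H25Par.isZero_of_stalks _ fun y => by
    by_cases hy : y ∈ CohB1.support (cokernel i)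
    · classical
      refine subsingleton_of_forall_eq 0 fun a => ?_
      have := congrFun (Subsingleton.elim (Function.update
        (0 : ∀ z : CohB1.support (cokernel i), H25Par.Stk k (cokernel i) z.1) ⟨y, hy⟩ a) 0) ⟨y, hy⟩
      erw [Function.update_self] at this
      exact this
    · exact not_not.1 hy
  haveI : Epi i := Preadditive.epi_of_cokernel_zero (hz.eq_of_tgt _ _)
  haveI : IsIso i := isIso_of_mono_of_epi i
  refine H28Curve.isIso_of_bijective_app π fun V => ?_
  exact ConcreteCategory.bijective_of_isIso (i.app V)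

omit [IsProper (D ↘ Spec (CommRingCat.of k))] in
/-- A birational morphism of proper integral curves with the same Euler characteristic is an isomorphism. -/
theorem isIso_of_euler_eq [IsProper (D ↘ Spec (CommRingCat.of k))] (π : E ⟶ D)
    (hπ : π ≫ (D ↘ Spec (CommRingCat.of k)) = E ↘ Spec (CommRingCat.of k))
    (hdE : topologicalKrullDim E ≤ 1) (hdD : topologicalKrullDim D ≤ 1) {U : D.Opens}
    (hU : (U : Set D).Nonempty) [IsIso (π ∣_ U)]
    (he : Curv2.euler k E (Coh.structureModule E) = Curv2.euler k D (Coh.structureModule D)) : IsIso π :=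
  (euler_le π hπ hdE hdD hU).2 he

end Curves

variable {R : Type u} [CommRing R] [IsDomain R] [IsDiscreteValuationRing R]

omit [IsDiscreteValuationRing R] in
theorem isIso_of_restrict_top {E D : Scheme.{u}} (π : E ⟶ D) [IsIso (π ∣_ (⊤ : D.Opens))] : IsIso π := by
  haveI : IsIso (π ⁻¹ᵁ (⊤ : D.Opens)).ι := inferInstanceAs (IsIso E.topIso.hom)
  haveI : IsIso (⊤ : D.Opens).ι := inferInstanceAs (IsIso D.topIso.hom)
  haveI : IsIso ((π ⁻¹ᵁ (⊤ : D.Opens)).ι ≫ π) := by rw [← morphismRestrict_ι]; infer_instance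
  exact IsIso.of_isIso_comp_left (π ⁻¹ᵁ (⊤ : D.Opens)).ι π

/-- Intersection numbers on isomorphic vertical curves agree. -/
theorem inter_iso {X : Over (Spec (CommRingCat.of R))} [IsProper X.hom] {n : ℕ} {Γs : Fin n → ArSurf.VertComp R X}
    (_ : Models.IsComponentList R X Γs) {Δ Δ₀ : ArSurf.VertComp R X} (σ : Δ.curve.left ⟶ Δ₀.curve.left) [IsIso σ]
    (hσ : σ ≫ Δ₀.ι = Δ.ι) (hσs : σ ≫ Δ₀.curve.hom = Δ.curve.hom) {L : X.left.Modules} (hL : PicF.IsInvertible L) :
    ArSurf.inter R X L Δ = ArSurf.inter R X L Δ₀ := by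
  let k := IsLocalRing.ResidueField R
  haveI := H28Vert.isProper_curve Δ
  haveI := H28Vert.isProper_curve Δ₀
  haveI : IsProper (Δ.curve.left ↘ Spec (CommRingCat.of k)) := inferInstanceAs (IsProper Δ.curve.hom)
  haveI : IsProper (Δ₀.curve.left ↘ Spec (CommRingCat.of k)) := inferInstanceAs (IsProper Δ₀.curve.hom)
  haveI := H28Int.isNoetherian k (X := Δ.curve.left)
  haveI := H28Int.isNoetherian k (X := Δ₀.curve.left)
  have hd : ∀ Θ : ArSurf.VertComp R X, topologicalKrullDim Θ.curve.left ≤ ((1 : ℕ) : WithBot ℕ∞) := fun Θ => by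
    simpa using Θ.dim_eq.le
  have hM : PicF.IsInvertible ((Scheme.Modules.pullback Δ₀.ι).obj L) := H11Ample.isInvertible_pullback _ hL
  haveI := H28Mero.isQCoh_of_isInvertible hM
  have e : (Scheme.Modules.pullback Δ.ι).obj L ≅
      (Scheme.Modules.pullback σ).obj ((Scheme.Modules.pullback Δ₀.ι).obj L) :=
    (Scheme.Modules.pullbackCongr hσ.symm).app L ≪≫ ((Scheme.Modules.pullbackComp σ Δ₀.ι).app L).symm
  show FGA.eulerCharLE k _ _ 1 - FGA.eulerCharLE k _ _ 1 = FGA.eulerCharLE k _ _ 1 - FGA.eulerCharLE k _ _ 1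
  rw [H28Int.eulerCharLE_eq _ (hd Δ) (H11Ample.isCoh_of_isInvertible (H11Ample.isInvertible_pullback _ hL)).1,
    H28Int.eulerCharLE_eq _ (hd Δ₀) (H11Ample.isCoh_of_isInvertible hM).1,
    H28Int.eulerCharLE_eq _ (hd Δ) H10Coh.isQuasicoherent_unit,
    H28Int.eulerCharLE_eq _ (hd Δ₀) H10Coh.isQuasicoherent_unit, eulerIso (k := k) σ hσs, H25Euler.euler_congr e]
  exact congrArg (· - _) (EtaleEuler.euler_pullback_iso k (asIso σ) hσs _)

/-- Birational morphisms compose. -/
theorem birational_comp {E D F : Scheme.{u}} [IsIntegral D] [IsIntegral F] (h : E ⟶ D) (π : D ⟶ F) {U : D.Opens}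
    (hU : (U : Set D).Nonempty) [hh : IsIso (h ∣_ U)] {U₂ : F.Opens} (hU₂ : (U₂ : Set F).Nonempty)
    [hπ : IsIso (π ∣_ U₂)] :
    ∃ V : F.Opens, (V : Set F).Nonempty ∧ IsIso ((h ≫ π) ∣_ V) := by
  obtain ⟨V, hVne, hVle, hVpre⟩ : ∃ V : F.Opens, (V : Set F).Nonempty ∧ V ≤ U₂ ∧ π ⁻¹ᵁ V ≤ U := by
    let S : Set F := π.base '' ((π ⁻¹ᵁ U₂ ⊓ U : D.Opens) : Set _)
    have hS : IsOpen S := by
      have h1 : ((π ⁻¹ᵁ U₂).ι ≫ π) = (π ∣_ U₂) ≫ U₂.ι := (morphismRestrict_ι π U₂).symm
      have h2 : IsOpenMap ((π ⁻¹ᵁ U₂).ι ≫ π).base := by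
        rw [h1]
        exact ((π ∣_ U₂) ≫ U₂.ι).isOpenEmbedding.isOpenMap
      have h3 := h2 _ ((π ⁻¹ᵁ U₂).ι ⁻¹ᵁ U).isOpen
      convert h3 using 1
      rw [Scheme.Hom.comp_base, TopCat.coe_comp, Set.image_comp]
      refine congrArg (π.base '' ·) (Set.ext fun x => ⟨fun hx => ⟨⟨x, hx.1⟩, hx.2, rfl⟩, ?_⟩)
      rintro ⟨y, hy, rfl⟩
      exact ⟨y.2, hy⟩
    refine ⟨⟨S, hS⟩, ⟨_, genericPoint D, ⟨?_, ?_⟩, rfl⟩, ?_, ?_⟩
    · show π _ ∈ U₂
      rw [map_genericPoint_of_iso (π := π) hU₂]
      exact ((genericPoint_spec _).mem_open_set_iff U₂.isOpen).2 (by simpa using hU₂)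
    · exact ((genericPoint_spec _).mem_open_set_iff U.isOpen).2 (by simpa using hU)
    · rintro _ ⟨x, hx, rfl⟩
      exact hx.1
    · rintro x ⟨y, hy, hyx⟩
      have hx2 : π x ∈ U₂ := by rw [← show π.base y = π.base x from hyx]; exact hy.1
      have := (π ∣_ U₂).isOpenEmbedding.injective (a₁ := ⟨y, hy.1⟩) (a₂ := ⟨x, hx2⟩) (Subtype.ext (by
        rw [morphismRestrict_base_coe, morphismRestrict_base_coe]; exact hyx))
      have h4 : y = x := congrArg Subtype.val this
      exact h4 ▸ hy.2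
  refine ⟨V, hVne, ?_⟩
  haveI h1 : IsIso (h ∣_ (π ⁻¹ᵁ V)) := ContractVert.isIso_restrict_of_le h hVpre
  haveI h2 : IsIso (π ∣_ V) := ContractVert.isIso_restrict_of_le π hVle
  rw [morphismRestrict_comp]
  exact @IsIso.comp_isIso _ _ _ _ _ _ _ h1 h2

/-- The lift of a curve which is not contracted, and how its canonical degree changes. -/
theorem exists_image_curve {W X : Scheme.{u}} {g : W ⟶ X} (hg : Models.IsContractionSeq g) :
    ∀ (q : W ⟶ Spec (CommRingCat.of R)) (p : X ⟶ Spec (CommRingCat.of R)), q = g ≫ p → IsProper p →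
      ArSurf.IsArithSurface R (Over.mk q) → ∀ (E : ArSurf.VertComp R (Over.mk q)) (ωW : W.Modules),
      Canon.IsCanonical q ωW →
      ∀ ωX : X.Modules, Canon.IsCanonical p ωX →
      (∃ (Δ : ArSurf.VertComp R (Over.mk p)) (π : E.curve.left ⟶ Δ.curve.left),
        π ≫ Δ.ι = E.ι ≫ g ∧ π ≫ Δ.curve.hom = E.curve.hom ∧
        (∃ U : Δ.curve.left.Opens, (U : Set Δ.curve.left).Nonempty ∧ IsIso (π ∣_ U)) ∧
        ArSurf.inter R (Over.mk p) ωX Δ ≤ ArSurf.inter R (Over.mk q) ωW E ∧
        (ArSurf.inter R (Over.mk p) ωX Δ = ArSurf.inter R (Over.mk q) ωW E → IsIso π)) ∨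
      ((∃ x : X, Set.range ((E.ι ≫ g).base : E.curve.left → X) = {x}) ∧
        ∃ (D : Over (Spec (CommRingCat.of (IsLocalRing.ResidueField R)))) (π : E.curve.left ⟶ D.left)
          (_ : IsIntegral D.left) (_ : IsProper D.hom), π ≫ D.hom = E.curve.hom ∧ topologicalKrullDim D.left ≤ 1 ∧
          (∃ U : D.left.Opens, (U : Set D.left).Nonempty ∧ IsIso (π ∣_ U)) ∧
          0 < Curv2.euler (IsLocalRing.ResidueField R) D.left (Coh.structureModule D.left)) := by
  induction hg with
  | @iso W X e =>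
    intro q p hqp hp hW E ωW hωW ωX hωX
    haveI : IsIntegral W := hW.2.1
    let Δ : ArSurf.VertComp R (Over.mk p) :=
      { curve := E.curve
        ι := E.ι ≫ e.hom
        isClosedImmersion := inferInstanceAs (IsClosedImmersion (E.ι ≫ e.hom))
        isIntegral := E.isIntegral
        dim_eq := E.dim_eq
        w := by
          show (E.ι ≫ e.hom) ≫ p = _
          rw [Category.assoc, ← hqp]
          exact E.w }
    haveI : IsIntegral E.curve.left := E.isIntegral
    obtain ⟨φ⟩ := H17.CanonSm.nonempty_pullback_iso_of_isCanonical (𝟙 W) e.hom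
      (show 𝟙 W ≫ q = e.hom ≫ p by rw [Category.id_comp, hqp]) hωW hωX
    have key : ArSurf.inter R (Over.mk p) ωX Δ = ArSurf.inter R (Over.mk q) ωW E :=
      ContractArtin.curveDeg_congr (IsLocalRing.ResidueField R) E.curve.left
        (((Scheme.Modules.pullbackComp E.ι e.hom).app ωX).symm ≪≫
          (Scheme.Modules.pullback E.ι).mapIso (φ.symm ≪≫ (Scheme.Modules.pullbackId W).app ωW))
    left
    exact ⟨Δ, 𝟙 _, Category.id_comp _, Category.id_comp _, ⟨⊤, ⟨genericPoint _, trivial⟩, inferInstance⟩,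
      key.le, fun _ => inferInstance⟩
  | @step W Z X F ι b r hι hF hb hr ih =>
    intro q p hqp hp hW E ωW hωW ωX hωX
    haveI := hι
    haveI := hp
    haveI := ModelUnique.isProper_seq hr
    haveI hbp : IsProper b := hb.2.1
    let qZ := r ≫ p
    have hq : q = b ≫ qZ := hqp.trans (Category.assoc _ _ _)
    subst hq
    obtain ⟨E₁, -, -, hE₁, hb₁⟩ :=
      ModelUnique.exists_vertComp (W := Over.mk (b ≫ qZ)) ι hF b hb qZ rfl
    let b' : Over.mk (b ≫ qZ) ⟶ Over.mk qZ := Over.homMk b
    obtain ⟨z, hz, hZ, hpre, hiso⟩ := ModelImage.contraction_facts hW E₁ hE₁ b' hb₁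
    haveI := hiso
    haveI : IsProper (Over.mk (b ≫ qZ)).hom := H28Vert.isProper_of_isArithSurface hW
    haveI : IsProper (Over.mk qZ).hom := H28Vert.isProper_of_isArithSurface hZ
    haveI : IsIntegral (Over.mk (b ≫ qZ)).left := hW.2.1
    haveI : IsIntegral (Over.mk qZ).left := hZ.2.1
    haveI : Flat (Over.mk (b ≫ qZ)).hom := hW.2.2.2.1
    haveI : Flat (Over.mk qZ).hom := hZ.2.2.2.1
    haveI : IsLocallyNoetherian Z := LocallyOfFiniteType.isLocallyNoetherian (Over.mk qZ).hom
    haveI : CompactSpace Z := QuasiCompact.compactSpace_of_compactSpace (Over.mk qZ).hom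
    haveI : IsNoetherian Z := ⟨⟩
    by_cases heq₁ : Set.range E.ι.base = Set.range E₁.ι.base
    · right
      let k := IsLocalRing.ResidueField R
      haveI := E.isClosedImmersion
      haveI := E₁.isClosedImmersion
      haveI := E.isIntegral
      haveI := E₁.isIntegral
      obtain ⟨σ, hσ⟩ := H17.exists_lift_of_range_subset E.ι E₁.ι heq₁.le
      haveI : IsClosedImmersion σ := by
        haveI : IsClosedImmersion (σ ≫ E₁.ι) := by rw [hσ]; infer_instance
        exact IsClosedImmersion.of_comp σ E₁.ι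
      haveI : Surjective σ := ⟨fun v => by
        obtain ⟨w, hw⟩ := heq₁.ge (⟨v, rfl⟩ : E₁.ι v ∈ Set.range E₁.ι.base)
        exact ⟨w, E₁.ι.isClosedEmbedding.injective (by rw [← Scheme.Hom.comp_apply, hσ]; exact hw)⟩⟩
      haveI : IsIso σ := isIso_of_isClosedImmersion_of_surjective σ
      have hσs : σ ≫ E₁.curve.hom = E.curve.hom := by
        haveI : IsClosedImmersion (Spec.map (CommRingCat.ofHom (IsLocalRing.residue R))) :=
          IsClosedImmersion.spec_of_surjective _ IsLocalRing.residue_surjective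
        rw [← cancel_mono (Spec.map (CommRingCat.ofHom (IsLocalRing.residue R)))]
        exact (Category.assoc _ _ _).trans ((congrArg (σ ≫ ·) E₁.w.symm).trans
          ((Category.assoc _ _ _).symm.trans ((congrArg (· ≫ (Over.mk (b ≫ qZ)).hom) hσ).trans E.w)))
      haveI := H28Vert.isProper_curve E₁
      obtain ⟨L₁, hL₁i, hL₁⟩ := H11Sym.exists_inverse (H29Blow.isInvertible_of_isEffCartierIdeal _ hE₁.1)
      obtain ⟨h1E, -⟩ := H28Vert.exc_facts hE₁ hL₁i hL₁
      refine ⟨⟨r z, Set.ext fun x => ⟨?_, ?_⟩⟩, E₁.curve, σ, inferInstance, inferInstance, hσs, E₁.dim_eq.le,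
        ⟨⊤, ⟨genericPoint _, trivial⟩, inferInstance⟩, ?_⟩
      · rintro ⟨w, rfl⟩
        have h1 : b (E.ι w) = z := hpre.ge (heq₁.le ⟨w, rfl⟩)
        show r (b (E.ι w)) = r z
        rw [h1]
      · rintro rfl
        refine ⟨genericPoint _, ?_⟩
        have h1 : b (E.ι (genericPoint E.curve.left)) = z := hpre.ge (heq₁.le ⟨_, rfl⟩)
        show r (b (E.ι (genericPoint E.curve.left))) = r z
        rw [h1]
      · haveI : IsProper (E₁.curve.left ↘ Spec (CommRingCat.of k)) := inferInstanceAs (IsProper E₁.curve.hom)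
        haveI := H28Int.isNoetherian k (X := E₁.curve.left)
        rw [← H28Int.eulerCharLE_eq _ (by simpa using E₁.dim_eq.le : topologicalKrullDim E₁.curve.left ≤
          ((1 : ℕ) : WithBot ℕ∞)) H10Coh.isQuasicoherent_unit]
        simp only [FGA.eulerCharLE, Finset.sum_range_succ, Finset.sum_range_zero]
        have h1E' : Module.finrank k (Coh.HH E₁.curve.left (Coh.structureModule E₁.curve.left) 1) = 0 := h1E
        rw [h1E']
        have hw : 0 < Module.finrank k (Coh.HH E₁.curve.left (Coh.structureModule E₁.curve.left) 0) :=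
          H28Vert.wdeg_pos E₁
        simpa using hw
    have hne : Set.range E.ι.base ≠ Set.range E₁.ι.base := heq₁
    obtain ⟨m, Δs, hΔs⟩ := H28Vert.exists_isComponentList' (R := R) (X := Over.mk qZ) hZ.2.2.1
    have himg := ModelImage.image_mem b' z hz E₁ hpre hW.2.2.1 hZ.2.2.1 E hne
    obtain ⟨i, hi⟩ := hΔs.2.ge himg
    obtain ⟨ωZ, hωZi, hωZ⟩ := ModelCanon.exists_canonical hZ
    obtain ⟨L₁, hL₁i, hL₁⟩ := H11Sym.exists_inverse (H29Blow.isInvertible_of_isEffCartierIdeal _ hE₁.1)
    obtain ⟨hN, -, z', hz', hrange, -, -, hblow⟩ := hb₁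
    have hzz : z = z' := by
      have h1 : b (E₁.ι (genericPoint E₁.curve.left)) = z' := hrange.le ⟨_, rfl⟩
      exact (h1.symm.trans (hpre.ge ⟨_, rfl⟩)).symm
    subst hzz
    have hzs : qZ z = IsLocalRing.closedPoint R := by
      have h1 : b (Models.genPtOf R _ E₁) = z := hpre.ge ⟨_, rfl⟩
      exact h1 ▸ (mem_special_iff b' _).2 (ModelProj.genPtOf_mem E₁)
    obtain ⟨φ⟩ := H17.CanonSm.nonempty_canonical_blowUp_iso (Y := Over.mk qZ) hZ.1 hZ.2.2.1 hz hzs b hblow E₁
      hpre.symm L₁ hL₁ ωZ hωZ ωW hωW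
    have hM : PicF.IsInvertible ((Scheme.Modules.pullback b).obj ωZ) := H11Ample.isInvertible_pullback b hωZi
    have hωWi : PicF.IsInvertible ωW := H17.CanonSm.isInvertible_of_isCanonical hωW
    have hgne := ModelImage.map_genPt_ne b' z E₁ hpre E hne
    have hsum : ArSurf.inter R (Over.mk (b ≫ qZ)) ωW E =
        ArSurf.inter R (Over.mk qZ) ωZ (Δs i) + ArSurf.inter R (Over.mk (b ≫ qZ)) L₁ E := by
      rw [H28Vert.inter_congr_iso E hωWi (H11Ample.isInvertible_tensor hM hL₁i) φ,
        H28Vert.inter_tensor E hM hL₁i]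
      exact congrArg (· + _) (ModelImage.inter_pullback b' z hz hωZi E hgne (Δs i) hi)
    obtain ⟨hnn, hzero⟩ := H28Vert.inter_nonneg E E₁.ι.ker (H28Vert.genericPoint_notMem E E₁ hne) hL₁
    have hi' : Set.range (Δs i).ι.base = b.base '' Set.range E.ι.base := hi
    obtain ⟨h, hh⟩ := H17.exists_lift_of_range_subset (E.ι ≫ b) (Δs i).ι
      (by rw [Scheme.Hom.comp_base, TopCat.coe_comp, Set.range_comp]; exact hi'.ge)
    have hk : h ≫ (Δs i).curve.hom = E.curve.hom := by
      haveI : IsClosedImmersion (Spec.map (CommRingCat.ofHom (IsLocalRing.residue R))) :=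
        IsClosedImmersion.spec_of_surjective _ IsLocalRing.residue_surjective
      rw [← cancel_mono (Spec.map (CommRingCat.ofHom (IsLocalRing.residue R)))]
      exact (Category.assoc _ _ _).trans ((congrArg (h ≫ ·) (Δs i).w.symm).trans
        ((Category.assoc _ _ _).symm.trans ((congrArg (· ≫ qZ) hh).trans ((Category.assoc _ _ _).trans E.w))))
    let O : Z.Opens := ⟨{z}ᶜ, hz.isOpen_compl⟩
    let U := (Δs i).ι ⁻¹ᵁ O
    haveI : IsIso (b ∣_ O) := hiso
    haveI := E.isClosedImmersion
    haveI := (Δs i).isClosedImmersion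
    haveI := E.isIntegral
    haveI := (Δs i).isIntegral
    haveI hcl : IsClosedImmersion (E.ι ∣_ b ⁻¹ᵁ O) :=
      IsZariskiLocalAtTarget.restrict (P := @IsClosedImmersion) E.isClosedImmersion _
    haveI : IsClosedImmersion (h ∣_ U) := by
      haveI hcomp : IsClosedImmersion ((h ≫ (Δs i).ι) ∣_ O) := by
        rw [hh, morphismRestrict_comp]
        exact MorphismProperty.comp_mem @IsClosedImmersion _ _ hcl (inferInstance : IsClosedImmersion (b ∣_ O))
      haveI : IsClosedImmersion (h ∣_ U ≫ (Δs i).ι ∣_ O) := by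
        rw [← morphismRestrict_comp]
        exact hcomp
      exact IsClosedImmersion.of_comp (h ∣_ U) ((Δs i).ι ∣_ O)
    haveI : Surjective h := ⟨fun v => by
      obtain ⟨w, ⟨c, rfl⟩, hw⟩ := hi'.le (⟨v, rfl⟩ : (Δs i).ι v ∈ Set.range (Δs i).ι.base)
      refine ⟨c, (Δs i).ι.isClosedEmbedding.injective ?_⟩
      rw [← Scheme.Hom.comp_apply, hh, Scheme.Hom.comp_apply]
      exact hw⟩
    haveI : Surjective (h ∣_ U) := IsZariskiLocalAtTarget.restrict (P := @Surjective) inferInstance U
    haveI hUiso : IsIso (h ∣_ U) := isIso_of_isClosedImmersion_of_surjective _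
    have hUne : h (genericPoint E.curve.left) ∈ U := by
      show (Δs i).ι (h _) ∈ O
      rw [← Scheme.Hom.comp_apply, hh]
      exact hgne
    rcases ih qZ p rfl hp hZ (Δs i) ωZ hωZ ωX hωX with ⟨Δ, π, hπι, hπs, ⟨U₂, hU₂, hU₂iso⟩, hle, heq⟩ |
      ⟨⟨x, hx⟩, D, π, hDi, hDp, hπs, hdD, ⟨U₂, hU₂, hU₂iso⟩, hpos⟩
    swap
    · right
      haveI := hDi
      haveI := hU₂iso
      refine ⟨⟨x, ?_⟩, D, h ≫ π, hDi, hDp, by rw [Category.assoc, hπs, hk], hdD,
        birational_comp h π ⟨_, hUne⟩ hU₂, hpos⟩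
      rw [← hx, Scheme.Hom.comp_base, TopCat.coe_comp, Scheme.Hom.comp_base, TopCat.coe_comp,
          Scheme.Hom.comp_base, TopCat.coe_comp, Set.range_comp, Set.range_comp, Set.image_comp]
      exact congrArg (r.base '' ·) hi'.symm
    left
    haveI := Δ.isIntegral
    refine ⟨Δ, h ≫ π, ?_, ?_, ?_, ?_, ?_⟩
    · exact (Category.assoc _ _ _).trans ((congrArg (h ≫ ·) hπι).trans ((Category.assoc _ _ _).symm.trans
        ((congrArg (· ≫ r) hh).trans (Category.assoc _ _ _))))
    · rw [Category.assoc, hπs, hk]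
    · haveI := hU₂iso
      exact birational_comp h π ⟨_, hUne⟩ hU₂
    · omega
    · intro h0
      haveI : IsIso π := heq (by omega)
      have hdis := hzero.1 (by omega)
      have hU : U = ⊤ := by
        refine eq_top_iff.2 fun v _ hv => ?_
        obtain ⟨c, hc⟩ := h.surjective v
        refine Set.disjoint_left.1 hdis ⟨c, rfl⟩ ?_
        rw [Scheme.Hom.support_ker, IsClosed.closure_eq E₁.ι.isClosedEmbedding.isClosed_range]
        refine hpre.le ?_
        show b (E.ι c) = z
        rw [← Scheme.Hom.comp_apply, ← hh, Scheme.Hom.comp_apply, hc]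
        exact hv
      haveI : IsIso h := by
        haveI : IsIso (h ∣_ (⊤ : (Δs i).curve.left.Opens)) := hU ▸ hUiso
        exact isIso_of_restrict_top h
      infer_instance

variable {C X : Scheme.{u}} {f : C ⟶ Spec (CommRingCat.of (FractionRing R))}
  {p : X ⟶ Spec (CommRingCat.of R)}

/-- The closed fibre of a minimal model of a curve of genus zero. -/
theorem fibre_facts (hC : Curve.IsSmoothProperCurve (FractionRing R) C f) (hH0 : IsIso f.appTop)
    (hg : Models.curveGenus (FractionRing R) C f = 0) (hX : Models.IsMinimalModel R X p C f)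
    {ω : X.Modules} (hω : Canon.IsCanonical p ω) :
    ∃ Δ : ArSurf.VertComp R (Over.mk p), Models.IsComponentList R (Over.mk p) (fun _ : Fin 1 => Δ) ∧
      Models.mult R (Over.mk p) Δ = 1 ∧ Models.wdeg R (Over.mk p) Δ = 1 ∧ Models.h1 R (Over.mk p) Δ = 0 ∧
      ArSurf.inter R (Over.mk p) ω Δ = -2 := by
  classical
  have hA := ModelProj.isArithSurface_of_model hC hX.1
  haveI : IsProper (Over.mk p).hom := H28Vert.isProper_of_isArithSurface hA
  haveI : IsIntegral (Over.mk p).left := hA.2.1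
  haveI : Flat (Over.mk p).hom := hA.2.2.2.1
  haveI : IsLocallyNoetherian (Over.mk p).left := LocallyOfFiniteType.isLocallyNoetherian (Over.mk p).hom
  obtain ⟨n, Γ, hΓ⟩ := H28Vert.exists_isComponentList' (R := R) (X := Over.mk p) hA.2.2.1
  have hkerX : ∀ j, BlowUp.IsEffCartierIdeal (Γ j).ι.ker := H28Vert.isEffCartierIdeal_ker hA.1 hΓ
  choose L hLi hL using fun j => H11Sym.exists_inverse (H29Blow.isInvertible_of_isEffCartierIdeal _ (hkerX j))
  obtain ⟨T, hm, ha, hw, hh1, -⟩ := H28Vert.exists_numericalType f p hC hH0 hX.1 Γ hΓ L hL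
  have hadj : ∀ i, ArSurf.inter R (Over.mk p) ω (Γ i) + T.a i i = -2 * (T.w i - T.w i * T.g i) := by
    intro i
    have h := H17.CanonSm.inter_add_inter_eq hA (Γ i) (hL i) hω
    have hχ : FGA.eulerCharLE (IsLocalRing.ResidueField R) (Γ i).curve.left
        (Coh.structureModule (Γ i).curve.left) 1 = T.w i - T.w i * T.g i := by
      rw [hh1, hw]
      simp only [FGA.eulerCharLE, Finset.sum_range_succ, Finset.sum_range_zero]
      simp [Models.wdeg, Models.h1, sub_eq_add_neg]
    rw [hχ, ← ha i i] at h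
    omega
  have hgen := S3321.result R C X f p hC hH0 hX.1 Γ hΓ L hL
  have hgen' : ∑ i, T.m i * (2 * (T.w i * T.g i - T.w i) - T.a i i) = -2 := by
    rw [hg] at hgen
    have h1 : ∑ i, T.m i * (2 * (T.w i * T.g i - T.w i) - T.a i i) =
        ∑ i, (Models.mult R (Over.mk p) (Γ i) : ℤ) *
          (2 * ((Models.h1 R (Over.mk p) (Γ i) : ℤ) - (Models.wdeg R (Over.mk p) (Γ i) : ℤ)) -
            ArSurf.inter R (Over.mk p) (L i) (Γ i)) :=
      Finset.sum_congr rfl fun i _ => by rw [hm, hh1, hw, ha]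
    rw [h1]
    push_cast at hgen
    omega
  have hn1 : n = 1 := by
    by_contra hn'
    obtain ⟨i, hi⟩ : ∃ i, ArSurf.inter R (Over.mk p) ω (Γ i) < 0 := by
      by_contra h
      push Not at h
      have h2 : 0 ≤ ∑ i, T.m i * (2 * (T.w i * T.g i - T.w i) - T.a i i) :=
        Finset.sum_nonneg fun i _ => mul_nonneg (T.m_pos i).le (by linarith [h i, hadj i])
      omega
    have hn : 1 < n := by have := T.pos; omega
    have hmul : ∑ j, T.a i j * T.m j = 0 := congrFun T.mulVec_m i
    obtain ⟨s, hs, j, hj, hne⟩ := T.connected {i} (Finset.singleton_nonempty i)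
      (fun h => by
        have hc := congrArg Finset.card h
        rw [Finset.card_singleton, Finset.card_univ, Fintype.card_fin] at hc
        omega)
    rw [Finset.mem_singleton] at hs hj
    subst hs
    have hpos : 0 < T.a s j := lt_of_le_of_ne (T.offDiag_nonneg s j (Ne.symm hj)) (Ne.symm hne)
    have hlt : T.a s s * T.m s < 0 := by
      rw [← Finset.add_sum_erase _ _ (Finset.mem_univ s)] at hmul
      have h1 : 0 < ∑ l ∈ Finset.univ.erase s, T.a s l * T.m l :=
        Finset.sum_pos' (fun l hl => mul_nonneg (T.offDiag_nonneg s l (Finset.ne_of_mem_erase hl).symm) (T.m_pos l).le)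
          ⟨j, Finset.mem_erase.2 ⟨hj, Finset.mem_univ j⟩, mul_pos hpos (T.m_pos j)⟩
      omega
    have hass : T.a s s < 0 := by
      by_contra h
      exact hlt.not_ge (mul_nonneg (not_lt.1 h) (T.m_pos s).le)
    obtain ⟨c, hc⟩ := T.w_dvd s s
    have hc0 : c < 0 := by
      by_contra h
      rw [hc] at hass
      exact hass.not_ge (mul_nonneg (T.w_pos s).le (not_lt.1 h))
    have hadjs := hadj s
    have hgs : T.g s = 0 := by
      by_contra h
      have h1 : 1 ≤ T.g s := by have := T.g_nonneg s; omega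
      have h2 : T.w s ≤ T.w s * T.g s := le_mul_of_one_le_right (T.w_pos s).le h1
      omega
    have hc1 : c = -1 := by
      by_contra h
      have h2 : c ≤ -2 := by omega
      have h3 : T.w s * c ≤ T.w s * (-2) := mul_le_mul_of_nonneg_left h2 (T.w_pos s).le
      rw [hgs] at hadjs
      omega
    refine hX.2 (Γ s) (H28Vert.isExcCurve_of_numbers (hkerX s) (hLi s) (hL s) ?_ ?_)
    · have h0 := hh1 s
      rw [hgs, mul_zero] at h0
      exact_mod_cast h0.symm
    · rw [← ha, hc, hc1, hw]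
      ring
  subst hn1
  have hmul : T.a 0 0 * T.m 0 = 0 := by
    have := congrFun T.mulVec_m 0
    simpa [Matrix.mulVec, dotProduct, Fin.sum_univ_one] using this
  have haa : T.a 0 0 = 0 := (mul_eq_zero.1 hmul).resolve_right (T.m_pos 0).ne'
  rw [Fin.sum_univ_one, haa] at hgen'
  have hmw : T.m 0 * T.w 0 * (1 - T.g 0) = 1 := by linarith [hgen']
  have hw1 : T.w 0 = 1 := Int.eq_one_of_mul_eq_one_right (T.w_pos 0).le
    (show T.w 0 * (T.m 0 * (1 - T.g 0)) = 1 by linear_combination hmw)
  have hm1 : T.m 0 = 1 := Int.eq_one_of_mul_eq_one_right (T.m_pos 0).le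
    (show T.m 0 * (T.w 0 * (1 - T.g 0)) = 1 by linear_combination hmw)
  have hg0 : T.g 0 = 0 := by rw [hw1, hm1] at hmw; linarith
  refine ⟨Γ 0, ?_, ?_, ?_, ?_, ?_⟩
  · have : Γ = fun _ => Γ 0 := funext fun i => by rw [Subsingleton.elim i 0]
    rw [← this]
    exact hΓ
  · exact_mod_cast (hm 0).symm.trans hm1
  · exact_mod_cast (hw 0).symm.trans hw1
  · have h0 := hh1 0
    rw [hg0, mul_zero] at h0
    exact_mod_cast h0.symm
  · have := hadj 0
    rw [haa, hw1, hg0] at this
    omega

variable (hC : Curve.IsSmoothProperCurve (FractionRing R) C f) (hH0 : IsIso f.appTop)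
  (hg : Models.curveGenus (FractionRing R) C f = 0) (hX : Models.IsMinimalModel R X p C f)
  {gX : C ⟶ X} (hgX : IsPullback gX f p (Spec.map (CommRingCat.ofHom (algebraMap R (FractionRing R)))))

include hC hH0 hg hX hgX in
/-- A morphism to a minimal model descends along contractions unless the closed fibre is a line. -/
theorem exists_descend {W Y : Scheme.{u}} {b : W ⟶ Y} (hb : Models.IsContractionSeq b) :
    ∀ (qW : W ⟶ Spec (CommRingCat.of R)) (qY : Y ⟶ Spec (CommRingCat.of R)) (gW : C ⟶ W) (g : W ⟶ X),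
      qW = b ≫ qY → IsProper qY → Models.IsRegularProperModel R W qW C f →
      IsPullback gW f qW (Spec.map (CommRingCat.ofHom (algebraMap R (FractionRing R)))) →
      g ≫ p = qW → gW ≫ g = gX →
      (∃ h : Y ⟶ X, b ≫ h = g) ∨
      ∃ Δ : ArSurf.VertComp R (Over.mk p), Models.IsComponentList R (Over.mk p) (fun _ : Fin 1 => Δ) ∧
        Models.mult R (Over.mk p) Δ = 1 ∧
        ∃ e : Δ.curve.left ≅ CohB1.ProjSpace 1 (IsLocalRing.ResidueField R),
          e.hom ≫ CohB1.ProjSpace.toSpec 1 (IsLocalRing.ResidueField R) = Δ.curve.hom := by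
  induction hb with
  | iso e =>
    intro qW qY gW g _ _ _ _ _ _
    exact Or.inl ⟨e.inv ≫ g, e.hom_inv_id_assoc g⟩
  | @step W Z Y F ι b r hι hF hbc hr ih =>
    intro qW qY gW g hq hqY hW hgW hgp hgg
    haveI := hι
    haveI := hqY
    haveI := ModelUnique.isProper_seq hr
    haveI hbp : IsProper b := hbc.2.1
    let qZ := r ≫ qY
    have hq' : qW = b ≫ qZ := hq.trans (Category.assoc _ _ _)
    subst hq'
    obtain ⟨E₁, -, -, hE₁, hb₁⟩ :=
      ModelUnique.exists_vertComp (W := Over.mk (b ≫ qZ)) ι hF b hbc qZ rfl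
    have hA : ArSurf.IsArithSurface R (Over.mk (b ≫ qZ)) := ModelProj.isArithSurface_of_model hC hW
    haveI : IsProper (Over.mk (b ≫ qZ)).hom := H28Vert.isProper_of_isArithSurface hA
    haveI : IsLocallyNoetherian W := LocallyOfFiniteType.isLocallyNoetherian (Over.mk (b ≫ qZ)).hom
    haveI : CompactSpace W := QuasiCompact.compactSpace_of_compactSpace (Over.mk (b ≫ qZ)).hom
    haveI : IsNoetherian W := ⟨⟩
    obtain ⟨ωW, -, hωW⟩ := ModelCanon.exists_canonical hA
    obtain ⟨ωX, -, hωX⟩ := ModelCanon.exists_canonical (ModelProj.isArithSurface_of_model hC hX.1)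
    by_cases hcontr : ∃ x : X, Set.range ((E₁.ι ≫ g).base : E₁.curve.left → X) = {x}
    · obtain ⟨x, hx⟩ := hcontr
      haveI := E₁.isClosedImmersion
      haveI : IsNoetherian (Over.mk (b ≫ qZ)).left := ‹IsNoetherian W›
      obtain ⟨g₁, hg₁, -⟩ := S7307.result E₁.ι hE₁ b hb₁ g x hx
      have hxs : Set.range ((E₁.ι ≫ b ≫ qZ).base : E₁.curve.left → Spec (CommRingCat.of R)) = {p x} := by
        rw [show E₁.ι ≫ b ≫ qZ = (E₁.ι ≫ g) ≫ p by rw [Category.assoc, hgp], Scheme.Hom.comp_base,
          TopCat.coe_comp, Set.range_comp, hx, Set.image_singleton]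
      obtain ⟨ψ, -, huni⟩ := S7307.result E₁.ι hE₁ b hb₁ (b ≫ qZ) _ hxs
      have hg₁p : g₁ ≫ p = qZ :=
        (huni _ (show b ≫ g₁ ≫ p = b ≫ qZ by rw [← Category.assoc, hg₁]; exact hgp)).trans (huni _ rfl).symm
      let b' : Over.mk (b ≫ qZ) ⟶ Over.mk qZ := Over.homMk b
      obtain ⟨z, hz, hZ, hpre, hiso⟩ := ModelImage.contraction_facts hA E₁ hE₁ b' hb₁
      haveI := hiso
      have hzs : z ∈ Models.specialFibreSet R (Over.mk qZ) := by
        have h1 : b'.left (Models.genPtOf R _ E₁) = z := hpre.ge ⟨_, rfl⟩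
        exact h1 ▸ (mem_special_iff b' _).2 (ModelProj.genPtOf_mem E₁)
      have hgZ := isPullback_comp b' z hz hzs gW hgW
      haveI : IsProper qZ := inferInstanceAs (IsProper (r ≫ qY))
      have hZm : Models.IsRegularProperModel R Z qZ C f :=
        ⟨⟨hZ.2.2.2.1, inferInstance, inferInstance, gW ≫ b, hgZ⟩, inferInstance, hZ.1⟩
      rcases ih qZ qY (gW ≫ b) g₁ rfl hqY hZm hgZ hg₁p (by rw [Category.assoc, hg₁, hgg]) with ⟨h, hh⟩ | hline
      · exact Or.inl ⟨h, by rw [Category.assoc, hh, hg₁]⟩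
      · exact Or.inr hline
    · right
      let k := IsLocalRing.ResidueField R
      obtain ⟨Δ₀, hΔ₀, hm₀, hw₀, hh₀, hK₀⟩ := fibre_facts hC hH0 hg hX hωX
      obtain ⟨Δ, π, hπι, hπs, ⟨U, hU, hUiso⟩, hle, heq⟩ :=
        (exists_image_curve (ModelUnique.isContractionSeq_of_hom hC hX hgX hW hgW g hgp hgg) (b ≫ qZ) p
          hgp.symm hX.1.2.1 hA E₁ ωW hωW ωX hωX).resolve_right fun h => hcontr h.1
      have hAX := ModelProj.isArithSurface_of_model hC hX.1
      haveI : IsProper (Over.mk p).hom := H28Vert.isProper_of_isArithSurface hAX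
      have hrΔ : Set.range Δ.ι.base = Set.range Δ₀.ι.base := by
        have h1 := H28Vert.mem_fibreComponents (H28Vert.dim_fibre_le_one hΔ₀) Δ
        obtain ⟨_, h2⟩ := hΔ₀.2.ge h1
        exact h2.symm
      haveI := Δ.isClosedImmersion
      haveI := Δ₀.isClosedImmersion
      haveI := Δ.isIntegral
      haveI := Δ₀.isIntegral
      obtain ⟨σ, hσ⟩ := H17.exists_lift_of_range_subset Δ.ι Δ₀.ι hrΔ.le
      haveI : IsClosedImmersion σ := by
        haveI : IsClosedImmersion (σ ≫ Δ₀.ι) := by rw [hσ]; infer_instance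
        exact IsClosedImmersion.of_comp σ Δ₀.ι
      haveI : Surjective σ := ⟨fun v => by
        obtain ⟨w, hw⟩ := hrΔ.ge (⟨v, rfl⟩ : Δ₀.ι v ∈ Set.range Δ₀.ι.base)
        exact ⟨w, Δ₀.ι.isClosedEmbedding.injective (by rw [← Scheme.Hom.comp_apply, hσ]; exact hw)⟩⟩
      haveI : IsIso σ := isIso_of_isClosedImmersion_of_surjective σ
      have hσs : σ ≫ Δ₀.curve.hom = Δ.curve.hom := by
        haveI : IsClosedImmersion (Spec.map (CommRingCat.ofHom (IsLocalRing.residue R))) :=
          IsClosedImmersion.spec_of_surjective _ IsLocalRing.residue_surjective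
        rw [← cancel_mono (Spec.map (CommRingCat.ofHom (IsLocalRing.residue R))), Category.assoc, ← Δ₀.w, ← Δ.w,
          ← Category.assoc, hσ]
      obtain ⟨L, hLi, hL⟩ := H11Sym.exists_inverse (H29Blow.isInvertible_of_isEffCartierIdeal _ hE₁.1)
      obtain ⟨h1E, h2E⟩ := H28Vert.exc_facts hE₁ hLi hL
      have hKE : ArSurf.inter R (Over.mk (b ≫ qZ)) ωW E₁ = -(Models.wdeg R (Over.mk (b ≫ qZ)) E₁ : ℤ) := by
        have h3 := H17.CanonSm.inter_add_inter_eq hA E₁ hL hωW
        have h4 : FGA.eulerCharLE k E₁.curve.left (Coh.structureModule E₁.curve.left) 1 =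
            (Models.wdeg R (Over.mk (b ≫ qZ)) E₁ : ℤ) - (Models.h1 R (Over.mk (b ≫ qZ)) E₁ : ℤ) := by
          simp only [FGA.eulerCharLE, Finset.sum_range_succ, Finset.sum_range_zero]
          simp [Models.wdeg, Models.h1, k, sub_eq_add_neg]
        rw [h4, h1E, h2E] at h3
        omega
      haveI hpE₀ := H28Vert.isProper_curve Δ
      have hKΔ : ArSurf.inter R (Over.mk p) ωX Δ = -2 := by
        rw [← hK₀]
        exact inter_iso hΔ₀ σ hσ hσs (H17.CanonSm.isInvertible_of_isCanonical hωX)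
      haveI hpE := H28Vert.isProper_curve E₁
      haveI hpΔ := H28Vert.isProper_curve Δ
      haveI hpΔ₀ := H28Vert.isProper_curve Δ₀
      haveI : IsProper (E₁.curve.left ↘ Spec (CommRingCat.of k)) := inferInstanceAs (IsProper E₁.curve.hom)
      haveI : IsProper (Δ.curve.left ↘ Spec (CommRingCat.of k)) := inferInstanceAs (IsProper Δ.curve.hom)
      haveI : IsProper (Δ₀.curve.left ↘ Spec (CommRingCat.of k)) := inferInstanceAs (IsProper Δ₀.curve.hom)
      haveI := E₁.isIntegral
      haveI := hUiso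
      have hχ : ∀ {S : Over (Spec (CommRingCat.of R))} (Θ : ArSurf.VertComp R S),
          IsProper (Θ.curve.left ↘ Spec (CommRingCat.of k)) →
          Curv2.euler k Θ.curve.left (Coh.structureModule Θ.curve.left) =
            (Models.wdeg R S Θ : ℤ) - (Models.h1 R S Θ : ℤ) := by
        intro S Θ hΘ
        haveI := hΘ
        haveI := H28Int.isNoetherian k (X := Θ.curve.left)
        rw [← H28Int.eulerCharLE_eq _ (by simpa using Θ.dim_eq.le : topologicalKrullDim Θ.curve.left ≤
          ((1 : ℕ) : WithBot ℕ∞)) H10Coh.isQuasicoherent_unit]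
        simp only [FGA.eulerCharLE, Finset.sum_range_succ, Finset.sum_range_zero]
        simp [Models.wdeg, Models.h1, k, sub_eq_add_neg]
      have hw2 : (Models.wdeg R (Over.mk (b ≫ qZ)) E₁ : ℤ) ≤ 2 := by omega
      have hwp := H28Vert.wdeg_pos E₁
      have hχΔ : Curv2.euler k Δ.curve.left (Coh.structureModule Δ.curve.left) = 1 := by
        rw [show (1 : ℤ) = Curv2.euler k Δ₀.curve.left (Coh.structureModule Δ₀.curve.left) by
          rw [hχ Δ₀ ‹_›, hw₀, hh₀]; norm_num]
        exact eulerIso (k := k) σ hσs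
      have hw1 : Models.wdeg R (Over.mk (b ≫ qZ)) E₁ = 1 := by
        by_contra hne
        have h2 : Models.wdeg R (Over.mk (b ≫ qZ)) E₁ = 2 := by omega
        haveI : IsIso π := heq (by omega)
        have h3 := eulerIso (k := k) π hπs
        rw [hχ E₁ ‹_›, hχΔ, h1E, h2] at h3
        norm_num at h3
      haveI hπiso : IsIso π := isIso_of_euler_eq (k := k) π hπs E₁.dim_eq.le Δ.dim_eq.le hU
        (by rw [hχ E₁ ‹_›, hχΔ, h1E, hw1]; norm_num)
      obtain ⟨e, he⟩ := H28Vert.exists_iso_residueField hLi hL hE₁.1 hw1 h1E h2E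
      refine ⟨Δ₀, hΔ₀, hm₀, (asIso (π ≫ σ)).symm ≪≫ e, ?_⟩
      rw [Iso.trans_hom, Category.assoc, he, Iso.symm_hom, Iso.inv_comp_eq]
      show E₁.curve.hom = (π ≫ σ) ≫ Δ₀.curve.hom
      rw [Category.assoc, hσs, hπs]

omit gX hgX in
/-- A contraction sequence out of a minimal model is an isomorphism. -/
theorem isIso_of_seq {Y X' : Scheme.{u}} {h : Y ⟶ X'} (hh : Models.IsContractionSeq h) :
    ∀ (q : Y ⟶ Spec (CommRingCat.of R)) (p' : X' ⟶ Spec (CommRingCat.of R)), q = h ≫ p' → IsProper p' →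
      Models.IsMinimalModel R Y q C f → IsIso h := by
  cases hh with
  | iso e => intro _ _ _ _ _; infer_instance
  | step ι b r hι hF hb hr =>
    intro q p' hq hp' hY
    haveI := hι
    haveI := hp'
    haveI := ModelUnique.isProper_seq hr
    have hq' : q = b ≫ r ≫ p' := hq.trans (Category.assoc _ _ _)
    subst hq'
    obtain ⟨E, -, -, hE, -⟩ := ModelUnique.exists_vertComp (W := Over.mk (b ≫ r ≫ p')) ι hF b hb (r ≫ p') rfl
    exact absurd hE (hY.2 E)

include hC hH0 hg hX hgX in
/-- If another minimal model is different, the closed fibre is a projective line. -/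
theorem exists_line_of_ne {Y : Scheme.{u}} {q : Y ⟶ Spec (CommRingCat.of R)} (hYm : Models.IsMinimalModel R Y q C f)
    {gY : C ⟶ Y} (hgY : IsPullback gY f q (Spec.map (CommRingCat.ofHom (algebraMap R (FractionRing R)))))
    (hne : ∀ e : Y ≅ X, e.hom ≫ p = q → gY ≫ e.hom ≠ gX) :
    ∃ e : Models.specialFibre R X p ≅ CohB1.ProjSpace 1 (IsLocalRing.ResidueField R),
      e.hom ≫ CohB1.ProjSpace.toSpec 1 (IsLocalRing.ResidueField R) =
        pullback.snd p (Spec.map (CommRingCat.ofHom (algebraMap R (IsLocalRing.ResidueField R)))) := by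
  have hY := hYm.1
  haveI : IsProper p := hX.1.2.1
  haveI : IsProper q := hY.2.1
  haveI hgenO := H28Vert.isOpenImmersion_generic (R := R)
  haveI : IsOpenImmersion gY := MorphismProperty.of_isPullback hgY.flip inferInstance
  haveI : IsIntegral C := hC.2.2.1
  let gen := Spec.map (CommRingCat.ofHom (algebraMap R (FractionRing R)))
  let U := gY.opensRange
  let φ : (U : Scheme.{u}) ⟶ X := gY.isoOpensRange.inv ≫ gX
  have hi : gY.isoOpensRange.inv ≫ gY = U.ι := gY.isoOpensRange_inv_comp
  have hφ : φ ≫ p = U.ι ≫ q := by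
    rw [Category.assoc, hgX.w, ← hgY.w, ← Category.assoc, hi]
  obtain ⟨W, b, g, hb, hgp, hagree⟩ := S7941.result R (Over.mk q) (ModelProj.isArithSurface_of_model hC hY)
    (Over.mk p) (ModelProj.isArithSurface_of_model hC hX.1).2.2.2.2 U ⟨gY (genericPoint C), ⟨_, rfl⟩⟩ φ hφ
  have hUeq : U = q ⁻¹ᵁ gen.opensRange := by
    ext y
    constructor
    · rintro ⟨c, rfl⟩
      refine ⟨f c, ?_⟩
      rw [← Scheme.Hom.comp_apply, ← hgY.w]
      rfl
    · rintro ⟨t, ht⟩
      exact H28Vert.mem_opensRange_of_isPullback hgY y t ht.symm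
  haveI : IsIso (b ∣_ U) := by
    rw [hUeq]
    exact ModelUnique.isIso_generic hb q inferInstance
  let gW : C ⟶ W := gY.isoOpensRange.hom ≫ inv (b ∣_ U) ≫ (b ⁻¹ᵁ U).ι
  have hgWb : gW ≫ b = gY := by
    simp only [gW, Category.assoc, ← morphismRestrict_ι, IsIso.inv_hom_id_assoc]
    exact gY.isoOpensRange_hom_ι
  have hgWg : gW ≫ g = gX := by
    simp only [gW, Category.assoc]
    rw [hagree, IsIso.inv_hom_id_assoc]
    exact gY.isoOpensRange.hom_inv_id_assoc gX
  haveI : IsProper b := ModelUnique.isProper_seq hb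
  have hgW : IsPullback gW f (b ≫ q) gen := by
    refine (IsOpenImmersion.isPullback f gW gen (b ≫ q)
      (by rw [← Category.assoc, hgWb, hgY.w]) ?_).flip
    rw [Scheme.Hom.comp_preimage, ← hUeq]
    simp [gW, Scheme.Hom.opensRange_comp_of_isIso]
  have hWm : Models.IsRegularProperModel R W (b ≫ q) C f := by
    have hA := ModelProj.isArithSurface_of_model hC hY
    obtain ⟨hWi, hWr, hWg⟩ := ModelUnique.regular_of_seq hb hA.2.1 hA.1
    haveI : IsIntegral Y := hA.2.1
    haveI := hWi
    haveI : Flat q := hY.1.1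
    haveI : Flat (Over.mk q).hom := hY.1.1
    haveI : IsIntegral (Over.mk q).left := hA.2.1
    have heq : b (genericPoint W) = genericPoint Y := (hWg _ (genericPoint_spec W)).eq (genericPoint_spec Y)
    haveI : Flat (b ≫ q) := by
      refine H18Subtr.flat_of_isIntegral_of_map_genericPoint (Z := W) (b ≫ q) ?_
      rw [Scheme.Hom.comp_apply, heq]
      exact H28Vert.hom_genericPoint_eq_bot (X := Over.mk q)
    exact ⟨⟨inferInstance, inferInstance, inferInstance, gW, hgW⟩, inferInstance, hWr⟩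
  rcases exists_descend hC hH0 hg hX hgX hb (b ≫ q) q gW g rfl inferInstance hWm hgW hgp hgWg with
    ⟨h, hh⟩ | ⟨Δ, hΔ, hm, e, he⟩
  · exfalso
    have hgh : gY ≫ h = gX := by rw [← hgWb, Category.assoc, hh, hgWg]
    have hhp : h ≫ p = q := ModelUnique.eq_of_generic hC hY hgY (terminal.from (Spec (CommRingCat.of R)))
      (terminal.hom_ext _ _) (by rw [← Category.assoc, hgh, hgX.w, hgY.w])
    haveI : IsIso h := isIso_of_seq (ModelUnique.isContractionSeq_of_hom hC hX hgX hY hgY h hhp hgh) q p hhp.symm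
      inferInstance hYm
    exact hne (asIso h) hhp hgh
  · have hA := ModelProj.isArithSurface_of_model hC hX.1
    haveI : IsProper (Over.mk p).hom := hX.1.2.1
    haveI : Flat (Over.mk p).hom := hA.2.2.2.1
    haveI : IsLocallyNoetherian (Over.mk p).left := LocallyOfFiniteType.isLocallyNoetherian (Over.mk p).hom
    haveI := Δ.isClosedImmersion
    let fs := pullback.fst (Over.mk p).hom (H28Vert.closedPt R)
    have hker : fs.ker = Δ.ι.ker := by
      rw [H28Vert.ker_fst_eq, H28Vert.specialFibreIdeal_eq_prod hA.1 hΔ, Fin.prod_univ_one, hm, pow_one]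
    let t := IsClosedImmersion.lift Δ.ι fs hker.ge
    have ht : t ≫ Δ.ι = fs := IsClosedImmersion.lift_fac _ _ _
    have h1 : H28Vert.toFibre Δ ≫ t = 𝟙 _ := by
      rw [← cancel_mono Δ.ι, Category.assoc, ht, H28Vert.toFibre_fst, Category.id_comp]
    have h2 : t ≫ H28Vert.toFibre Δ = 𝟙 _ := by
      rw [← cancel_mono fs, Category.assoc, H28Vert.toFibre_fst, ht, Category.id_comp]
    refine ⟨Iso.mk t (H28Vert.toFibre Δ) h2 h1 ≪≫ e, ?_⟩
    rw [Iso.trans_hom, Category.assoc, he]
    show t ≫ Δ.curve.hom = pullback.snd (Over.mk p).hom (H28Vert.closedPt R)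
    rw [← cancel_mono (H28Vert.closedPt R), Category.assoc, ← pullback.condition]
    exact (congrArg (t ≫ ·) Δ.w.symm).trans ((Category.assoc _ _ _).symm.trans (congrArg (· ≫ (Over.mk p).hom) ht))

end Groth.Agent.H28RR.ModelGenusZero
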