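import Groth.Agent.H28RR.ModelArith
import Groth.Agent.H28RR.ContractArtin
import Groth.Agent.H28Vert.VertGen
import Groth.Agent.H28Vert.CompList
import Groth.Agent.H28Vert.CompList2
import Groth.Agent.H28Vert.PicInter
import Groth.Agent.H10Coh.AmpleClosedFibre
import Groth.Agent.H10Coh.AmpleDevissage
import Groth.Agent.H11Ample.ImmersionPn
import Groth.Agent.H11Proj.PnGlobal
import Groth.Agent.S1530
import Groth.Agent.S1684

/-! # A regular surface proper and flat over a discrete valuation ring is projective -/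

set_option autoImplicit false
set_option linter.style.haveILetI false
set_option linter.unusedSectionVars false
set_option backward.isDefEq.respectTransparency.types false
set_option maxHeartbeats 1600000

universe u

open CategoryTheory CategoryTheory.Limits AlgebraicGeometry TopologicalSpace

noncomputable section

namespace Groth.Agent.H28RR.ModelProj

section affine

/-- A proper scheme over an affine scheme with an ample module is a closed subscheme of a projective space. -/
theorem exists_closedImmersion_of_isAmple {X Y : Scheme.{u}} [IsAffine Y] (q : X ⟶ Y) [IsProper q]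
    {L : X.Modules} (hA : CohB1.IsAmple L) :
    ∃ (n : ℕ) (i : X ⟶ CohB1.ProjSpaceOver n Y),
      IsClosedImmersion i ∧ i ≫ CohB1.ProjSpaceOver.toBase n Y = q := by
  obtain ⟨m₀, hm⟩ := H11Proj.eventually_globalVA q hA
  obtain ⟨n, v, hv⟩ := hm m₀ le_rfl
  have hM : PicF.IsInvertible (CohB1.tensorPow L m₀) := H11Ample.isInvertible_tensorPow hA.1 _
  obtain ⟨n', i, hi, hiq⟩ := H11Ample.exists_immersion_of_sections q hM v Set.univ
    (fun x => (hv.cover x).imp fun _ h => ⟨trivial, h⟩) (fun _ => ⊤) (fun _ _ => isAffineOpen_top Y)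
    (fun _ _ => le_top) (fun j _ => by
      have h := hv.affine ⊤ (isAffineOpen_top Y) j
      rwa [Scheme.Hom.preimage_top, inf_top_eq] at h)
    (fun j _ => by
      have h := hv.surj ⊤ (isAffineOpen_top Y) j
      exact (show ∀ (G : X.Opens) (hG' : G ≤ q ⁻¹ᵁ ⊤), G = H11Ample.gen (CohB1.tensorPow L m₀) (v j) ⊓ q ⁻¹ᵁ ⊤ →
        Subring.closure (Set.range (q.appLE ⊤ G hG') ∪ H11Proj.globalCoefs v j G) = ⊤ from
        fun G hG' e => by subst e; exact h) _ le_top (by rw [Scheme.Hom.preimage_top, inf_top_eq]))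
  haveI := hi
  exact ⟨n', i, H11Proj.isClosedImmersion_of_isImmersion q i hiq, hiq⟩

end affine

variable {R : Type u} [CommRing R] [IsDomain R] [IsDiscreteValuationRing R]
  {X : Over (Spec (CommRingCat.of R))} [IsProper X.hom]

theorem genPtOf_mem (Δ : ArSurf.VertComp R X) : Models.genPtOf R X Δ ∈ Models.specialFibreSet R X := by
  show X.hom (Δ.ι _) = IsLocalRing.closedPoint R
  rw [← Scheme.Hom.comp_apply, Δ.w, Scheme.Hom.comp_apply]
  exact IsLocalRing.PrimeSpectrum.comap_residue R _

/-- A vertical curve has a closed point different from its generic point. -/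
theorem exists_closed_ne (Δ : ArSurf.VertComp R X) :
    ∃ x : X.left, IsClosed ({x} : Set X.left) ∧ x ∈ Set.range Δ.ι.base ∧ Models.genPtOf R X Δ ⤳ x ∧
      Models.genPtOf R X Δ ≠ x := by
  haveI := H28Vert.isProper_curve Δ
  haveI : CompactSpace Δ.curve.left := QuasiCompact.compactSpace_of_compactSpace Δ.curve.hom
  obtain ⟨c, -, hc⟩ := (isClosed_univ (X := Δ.curve.left)).exists_closed_singleton
    ⟨genericPoint Δ.curve.left, trivial⟩
  refine ⟨Δ.ι c, ?_, ⟨c, rfl⟩, (genericPoint_specializes c).map Δ.ι.continuous, fun e => ?_⟩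
  · have := Δ.ι.isClosedEmbedding.isClosedMap _ hc
    rwa [Set.image_singleton] at this
  have e' : genericPoint Δ.curve.left = c := Δ.ι.isClosedEmbedding.injective e
  have hall : ∀ z : Δ.curve.left, z = c := fun z => (e' ▸ genericPoint_specializes z : c ⤳ z).mem_closed hc rfl
  haveI : Subsingleton Δ.curve.left := ⟨fun a b => (hall a).trans (hall b).symm⟩
  haveI : Subsingleton (IrreducibleCloseds Δ.curve.left) := ⟨fun a b => SetLike.coe_injective (by
    ext w
    obtain ⟨p₁, h₁⟩ := a.isIrreducible'.nonempty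
    obtain ⟨p₂, h₂⟩ := b.isIrreducible'.nonempty
    exact ⟨fun _ => Subsingleton.elim p₂ w ▸ h₂, fun _ => Subsingleton.elim p₁ w ▸ h₁⟩)⟩
  have h0 : topologicalKrullDim Δ.curve.left ≤ 0 := Order.krullDim_nonpos_of_subsingleton
  rw [Δ.dim_eq] at h0
  exact absurd h0 (by decide)

variable [Flat X.hom] [IsIntegral X.left]

theorem genericPoint_notMem : genericPoint X.left ∉ Models.specialFibreSet R X := by
  haveI : IsLocallyNoetherian X.left := LocallyOfFiniteType.isLocallyNoetherian X.hom
  obtain ⟨ϖ, hϖ⟩ := IsDiscreteValuationRing.exists_irreducible R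
  rw [H28Vert.notMem_specialFibreSet_iff hϖ]
  exact (Ne.isUnit (H28Vert.stalkHom_ne_zero hϖ.ne_zero _) :
    IsUnit (Models.stalkHom R X (genericPoint X.left) ϖ : X.left.functionField))

variable (hdim : topologicalKrullDim X.left = 2)
include hdim

/-- A horizontal point is not generalization of a component of the closed fibre. -/
theorem genPt_notMem_closure {ξ : X.left} (hξ : ξ ∉ Models.specialFibreSet R X) (hne : ξ ≠ genericPoint X.left)
    (Δ : ArSurf.VertComp R X) : Models.genPtOf R X Δ ∉ closure ({ξ} : Set X.left) := fun h => by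
  obtain ⟨x, -, -, hgx, hgne⟩ := exists_closed_ne Δ
  exact ContractVert.not_chain_three hdim.le ((genericPoint_spec X.left).specializes trivial : genericPoint X.left ⤳ ξ)
    hne.symm (specializes_iff_mem_closure.2 h) (fun e => hξ (e ▸ genPtOf_mem Δ)) hgx hgne

/-- Through each closed fibre component a horizontal point of codimension one specializes. -/
theorem exists_horizontal (hreg : Models.IsRegularScheme X.left) (Γ : ArSurf.VertComp R X) :
    ∃ ξ : X.left, ξ ∉ Models.specialFibreSet R X ∧ ξ ≠ genericPoint X.left ∧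
      ringKrullDim (X.left.presheaf.stalk ξ) = 1 ∧ ∃ x ∈ Set.range Γ.ι.base, ξ ⤳ x := by
  classical
  haveI : IsLocallyNoetherian X.left := LocallyOfFiniteType.isLocallyNoetherian X.hom
  obtain ⟨ϖ, hϖ⟩ := IsDiscreteValuationRing.exists_irreducible R
  obtain ⟨x, hxc, hxΓ, hgx, hgne⟩ := exists_closed_ne Γ
  obtain ⟨V, hV, hxV, -⟩ := exists_isAffineOpen_mem_and_subset (U := (⊤ : X.left.Opens)) (x := x) trivial
  letI := TopCat.Presheaf.algebra_section_stalk X.left.presheaf (⟨x, hxV⟩ : V)
  haveI hloc := hV.isLocalization_stalk ⟨x, hxV⟩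
  let A := X.left.presheaf.stalk x
  haveI : IsNoetherianRing A := (hreg x).toIsNoetherian
  haveI := (H28Vert.ufd_stalk hreg x).1
  let t : A := Models.stalkHom R X x ϖ
  have ht : t ≠ 0 := H28Vert.stalkHom_ne_zero hϖ.ne_zero x
  obtain ⟨P, hP⟩ : ∃ P : Spec (X.left.presheaf.stalk x), X.left.fromSpecStalk x P = Models.genPtOf R X Γ :=
    Set.mem_range.1 (Scheme.range_fromSpecStalk (X := X.left) (x := x) ▸ hgx)
  have hPt : t ∈ P.asIdeal := by
    have h1 : (Spec.map (CommRingCat.ofHom (Models.stalkHom R X x))) P = IsLocalRing.closedPoint R := by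
      rw [← H28Vert.hom_fromSpecStalk x, Scheme.Hom.comp_apply, hP]
      exact genPtOf_mem Γ
    have h2 : ϖ ∈ ((Spec.map (CommRingCat.ofHom (Models.stalkHom R X x))) P).asIdeal := by
      rw [h1]
      exact hϖ.not_isUnit
    exact h2
  have hmnot : IsLocalRing.maximalIdeal A ∉ (Ideal.span {t}).minimalPrimes := fun hmin => hgne <| by
    have hle : IsLocalRing.maximalIdeal A ≤ P.asIdeal :=
      hmin.2 ⟨P.isPrime, (Ideal.span_singleton_le_iff_mem _).2 hPt⟩ (IsLocalRing.le_maximalIdeal P.isPrime.ne_top)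
    have : P = IsLocalRing.closedPoint A :=
      PrimeSpectrum.ext ((IsLocalRing.le_maximalIdeal P.isPrime.ne_top).antisymm hle)
    rw [← hP, this, Scheme.fromSpecStalk_closedPoint]
  obtain ⟨a, ha, ha'⟩ : ∃ a ∈ IsLocalRing.maximalIdeal A, ∀ q ∈ (Ideal.span {t}).minimalPrimes, a ∉ q := by
    by_contra h
    push Not at h
    have hfin := (Ideal.span {t}).finite_minimalPrimes_of_isNoetherianRing A
    obtain ⟨q, hq, hle⟩ : ∃ q ∈ (Ideal.span {t}).minimalPrimes, IsLocalRing.maximalIdeal A ≤ q := by
      have := (Ideal.subset_union_prime (s := hfin.toFinset) (f := id) ⊥ ⊥ fun i hi _ _ =>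
        (hfin.mem_toFinset.1 hi).1.1).1 fun b hb => by
          obtain ⟨q, hq, hbq⟩ := h b hb
          exact Set.mem_iUnion₂.2 ⟨q, hfin.mem_toFinset.2 hq, hbq⟩
      obtain ⟨q, hq, hle⟩ := this
      exact ⟨q, hfin.mem_toFinset.1 hq, hle⟩
    exact hmnot ((IsLocalRing.le_maximalIdeal hq.1.1.ne_top).antisymm hle ▸ hq)
  obtain ⟨q₀, hq₀⟩ := Ideal.nonempty_minimalPrimes (I := Ideal.span {t}) fun htop =>
    P.isPrime.ne_top (top_le_iff.1 (htop ▸ (Ideal.span_singleton_le_iff_mem _).2 hPt))
  have ha0 : a ≠ 0 := fun e => ha' q₀ hq₀ (e ▸ Ideal.zero_mem _)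
  obtain ⟨p, hp⟩ := Ideal.nonempty_minimalPrimes (I := Ideal.span {a}) fun htop =>
    (IsLocalRing.maximalIdeal.isMaximal A).ne_top
      (top_le_iff.1 (htop ▸ (Ideal.span_singleton_le_iff_mem _).2 ha))
  haveI hpp : p.IsPrime := hp.1.1
  have hap : a ∈ p := hp.1.2 (Ideal.mem_span_singleton_self a)
  have hph : p.height = 1 := by
    refine le_antisymm (Ideal.height_le_one_of_isPrincipal_of_mem_minimalPrimes _ _ hp) ?_
    rw [← Ideal.height_span_singleton_eq_one_of_mem_nonZeroDivisors (mem_nonZeroDivisors_of_ne_zero ha0) ha]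
    exact Ideal.height_mono ((Ideal.span_singleton_le_iff_mem _).2 hap)
  have htp : t ∉ p := fun htp => by
    obtain ⟨q, hq, hqp⟩ := Ideal.exists_minimalPrimes_le ((Ideal.span_singleton_le_iff_mem _).2 htp)
    haveI : q.IsPrime := hq.1.1
    have htq : t ∈ q := hq.1.2 (Ideal.mem_span_singleton_self t)
    have htu : ¬ IsUnit t := fun h => hpp.ne_top (Ideal.eq_top_of_isUnit_mem _ htp h)
    rcases hqp.lt_or_eq with hlt | rfl
    · have h1 : (1 : ℕ∞) ≤ q.height := by
        rw [← Ideal.height_span_singleton_eq_one_of_mem_nonZeroDivisors (mem_nonZeroDivisors_of_ne_zero ht) htu]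
        exact Ideal.height_mono ((Ideal.span_singleton_le_iff_mem _).2 htq)
      have h2 := Ideal.height_strict_mono_of_isPrime hlt
      rw [hph] at h2
      exact absurd (h1.trans_lt h2) (lt_irrefl _)
    · exact ha' q hq hap
  let z : PrimeSpectrum Γ(X.left, V) := ⟨p.under Γ(X.left, V), inferInstance⟩
  have hzV : hV.fromSpec z ∈ V := by
    have h1 : hV.fromSpec z ∈ Set.range hV.fromSpec := ⟨z, rfl⟩
    rwa [hV.range_fromSpec] at h1
  have hzle : z.asIdeal ≤ (hV.primeIdealOf ⟨x, hxV⟩).asIdeal := by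
    rw [← IsLocalization.AtPrime.under_maximalIdeal A (hV.primeIdealOf ⟨x, hxV⟩).asIdeal]
    exact Ideal.comap_mono (IsLocalRing.le_maximalIdeal hpp.ne_top)
  have hsp : hV.fromSpec z ⤳ x := by
    have h1 := ((PrimeSpectrum.le_iff_specializes z (hV.primeIdealOf ⟨x, hxV⟩)).1 hzle).map hV.fromSpec.continuous
    rwa [hV.fromSpec_primeIdealOf] at h1
  letI := (X.left.presheaf.germ V (hV.fromSpec z) hzV).hom.toAlgebra
  haveI : IsLocalization.AtPrime (X.left.presheaf.stalk (hV.fromSpec z)) z.asIdeal := hV.isLocalization_stalk' z hzV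
  have hdimξ : ringKrullDim (X.left.presheaf.stalk (hV.fromSpec z)) = 1 := by
    rw [IsLocalization.AtPrime.ringKrullDim_eq_height z.asIdeal, show z.asIdeal.height = 1 from
      (IsLocalization.height_under (hV.primeIdealOf ⟨x, hxV⟩).asIdeal.primeCompl p).trans hph]
    rfl
  refine ⟨hV.fromSpec z, ?_, fun e => ?_, hdimξ, x, hxΓ, hsp⟩
  · rw [H28Vert.notMem_specialFibreSet_iff hϖ]
    have h3 : ∀ (w : X.left) (hw : w ∈ V),
        (X.left.presheaf.germ V w hw) (H28Vert.baseSect X ϖ V) = Models.stalkHom R X w ϖ := fun w hw => by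
      show _ = (X.left.presheaf.germ ⊤ w trivial) (X.hom.appTop ((Scheme.ΓSpecIso (CommRingCat.of R)).inv ϖ))
      exact H28Vert.germ_appLE_top V hw _
    rw [← h3 _ hzV]
    refine (IsLocalization.AtPrime.isUnit_to_map_iff (X.left.presheaf.stalk (hV.fromSpec z)) z.asIdeal _).2 fun hm => htp ?_
    have hm' : algebraMap Γ(X.left, V) A (H28Vert.baseSect X ϖ V) ∈ p := hm
    show t ∈ p
    exact (show algebraMap Γ(X.left, V) A (H28Vert.baseSect X ϖ V) = t from h3 x hxV) ▸ hm'
  · rw [e] at hdimξ
    have h0 : ringKrullDim X.left.functionField = 0 := ringKrullDim_eq_zero_of_field _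
    exact absurd (h0.symm.trans hdimξ) zero_ne_one

/-- For each component an invertible module of positive degree on it and non-negative on all of them. -/
theorem exists_positive_one (hreg : Models.IsRegularScheme X.left) (Γ : ArSurf.VertComp R X) :
    ∃ L : X.left.Modules, PicF.IsInvertible L ∧ 0 < ArSurf.inter R X L Γ ∧
      ∀ Δ : ArSurf.VertComp R X, 0 ≤ ArSurf.inter R X L Δ := by
  haveI : IsLocallyNoetherian X.left := LocallyOfFiniteType.isLocallyNoetherian X.hom
  obtain ⟨ξ, hξ, hξη, hξ1, x, hxΓ, hξx⟩ := exists_horizontal hdim hreg Γ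
  let Z : Closeds X.left := ⟨closure {ξ}, isClosed_closure⟩
  let I := Scheme.IdealSheafData.vanishingIdeal Z
  have hsupp : (I.support : Set X.left) = closure {ξ} := Scheme.IdealSheafData.coe_support_vanishingIdeal Z
  haveI : IsReduced I.subscheme := H17.isReduced_vanishingIdeal_subscheme _
  let e : I.subscheme ≃ₜ (closure ({ξ} : Set X.left)) :=
    I.subschemeι.isClosedEmbedding.isEmbedding.toHomeomorph.trans
      (Homeomorph.setCongr (by rw [Scheme.IdealSheafData.range_subschemeι]; exact hsupp))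
  haveI : IrreducibleSpace I.subscheme := by
    haveI : IrreducibleSpace (closure ({ξ} : Set X.left)) := Subtype.irreducibleSpace isIrreducible_singleton.closure
    exact e.symm.isHomeomorph.isQuotientMap.surjective.irreducibleSpace e.symm.continuous
  haveI : IsIntegral I.subscheme := isIntegral_of_irreducibleSpace_of_isReduced _
  have hgen : I.subschemeι (genericPoint I.subscheme) = ξ := by
    have h1 : I.subschemeι (genericPoint I.subscheme) ∈ closure ({ξ} : Set X.left) := by
      rw [← hsupp, ← Scheme.IdealSheafData.range_subschemeι]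
      exact ⟨_, rfl⟩
    obtain ⟨w, hw⟩ : ξ ∈ Set.range I.subschemeι := by
      rw [Scheme.IdealSheafData.range_subschemeι, hsupp]
      exact subset_closure rfl
    exact (((genericPoint_specializes w).map I.subschemeι.continuous).trans (hw ▸ specializes_rfl)).antisymm
      (specializes_iff_mem_closure.2 h1) |>.eq
  have hI : BlowUp.IsEffCartierIdeal I := by
    refine S1684.result X.left I ?_ fun y _ => H28Vert.ufd_stalk hreg y
    rw [hgen]
    exact hξ1
  obtain ⟨L, hL, hinv⟩ := H11Sym.exists_inverse (H29Blow.isInvertible_of_isEffCartierIdeal _ hI)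
  have hnot : ∀ Δ : ArSurf.VertComp R X, Models.genPtOf R X Δ ∉ (I.support : Set X.left) := fun Δ => by
    rw [hsupp]
    exact genPt_notMem_closure hdim hξ hξη Δ
  refine ⟨L, hL, ?_, fun Δ => (H28Vert.inter_nonneg Δ I (hnot Δ) hinv).1⟩
  obtain ⟨h0, h1⟩ := H28Vert.inter_nonneg Γ I (hnot Γ) hinv
  refine lt_of_le_of_ne h0 fun e => Set.disjoint_left.1 (h1.1 e.symm) hxΓ ?_
  rw [hsupp]
  exact hξx.mem_closure

/-- An invertible module of positive degree on every component. -/
theorem exists_positive (hreg : Models.IsRegularScheme X.left) :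
    ∃ (n : ℕ) (Γ : Fin n → ArSurf.VertComp R X) (L : X.left.Modules),
      Models.IsComponentList R X Γ ∧ PicF.IsInvertible L ∧ ∀ i, 0 < ArSurf.inter R X L (Γ i) := by
  classical
  obtain ⟨n, Γ, hΓ⟩ := H28Vert.exists_isComponentList' (R := R) (X := X) hdim
  choose M hM hpos hnn using fun i => exists_positive_one hdim hreg (Γ i)
  have hmem : ∀ A ∈ (List.finRange n).map M, PicF.IsInvertible A := fun A hA => by
    obtain ⟨i, -, rfl⟩ := List.mem_map.1 hA
    exact hM i
  refine ⟨n, Γ, FGA.tensorList ((List.finRange n).map M), hΓ,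
    H28Int.isInvertible_tensorList _ hmem, fun i => ?_⟩
  rw [H28Vert.inter_tensorList (Γ i) M hM, ← List.ofFn_eq_map, List.sum_ofFn]
  exact lt_of_lt_of_le (hpos i) (Finset.single_le_sum (fun j _ => hnn j (Γ i)) (Finset.mem_univ i))

omit hdim in
/-- A module of positive degree on the components of the closed fibre is ample. -/
theorem isAmple_of_pos {n : ℕ} {Γ : Fin n → ArSurf.VertComp R X} (hΓ : Models.IsComponentList R X Γ)
    {L : X.left.Modules} (hL : PicF.IsInvertible L) (hpos : ∀ i, 0 < ArSurf.inter R X L (Γ i)) :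
    CohB1.IsAmple L := by
  letI : X.left.Over (Spec (CommRingCat.of R)) := ⟨X.hom⟩
  haveI : IsProper (X.left ↘ Spec (CommRingCat.of R)) := inferInstanceAs (IsProper X.hom)
  let m := IsLocalRing.maximalIdeal R
  refine H10Coh.ClosedFibre.isAmple m (IsLocalRing.maximalIdeal_le_jacobson _) hL ?_
  let b := CohB1.thickι (X.left ↘ Spec (CommRingCat.of R)) m 0
  haveI : IsClosedImmersion b := H10Coh.ClosedFibre.isClosedImmersion_thickι (X := X.left) m 0
  let t := CohB1.thickToBase (X.left ↘ Spec (CommRingCat.of R)) m 0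
  haveI : IsProper t :=
    MorphismProperty.of_isPullback (IsPullback.of_hasPullback (X.left ↘ Spec (CommRingCat.of R)) (CohB1.specQuot m 0))
      (inferInstance : IsProper (X.left ↘ Spec (CommRingCat.of R)))
  let ε : Spec (CommRingCat.of (IsLocalRing.ResidueField R)) ⟶ Spec (CommRingCat.of (R ⧸ m ^ (0 + 1))) :=
    Spec.map (CommRingCat.ofHom (Ideal.quotEquivOfEq (pow_one m)).toRingHom)
  have hε : ε ≫ CohB1.specQuot m 0 = H28Vert.closedPt R := by
    show Spec.map _ ≫ Spec.map _ = Spec.map _
    rw [← Spec.map_comp]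
    exact congrArg Spec.map (CommRingCat.hom_ext (RingHom.ext fun a => rfl))
  let j : ∀ i, (Γ i).curve.left ⟶ CohB1.thick (X.left ↘ Spec (CommRingCat.of R)) m 0 := fun i =>
    pullback.lift (Γ i).ι ((Γ i).curve.hom ≫ ε) (by rw [Category.assoc, hε]; exact (Γ i).w)
  have hj : ∀ i, j i ≫ b = (Γ i).ι := fun i => pullback.lift_fst _ _ _
  haveI : ∀ i, IsClosedImmersion (j i) := fun i => by
    haveI : IsClosedImmersion (j i ≫ b) := by rw [hj]; infer_instance
    exact IsClosedImmersion.of_comp (j i) b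
  refine H10Coh.Tw.isAmple_of_closed_cover t (H11Ample.isInvertible_pullback b hL)
    (fun i => (Γ i).curve.left) j (fun y => ?_) fun i => ?_
  · have hy : b y ∈ Models.specialFibreSet R X := by
      show X.hom (b y) = IsLocalRing.closedPoint R
      rw [show X.hom = X.left ↘ Spec (CommRingCat.of R) from rfl, ← Scheme.Hom.comp_apply,
        show b ≫ (X.left ↘ Spec (CommRingCat.of R)) = t ≫ CohB1.specQuot m 0 from pullback.condition,
        Scheme.Hom.comp_apply]
      refine PrimeSpectrum.ext (le_antisymm (IsLocalRing.le_maximalIdeal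
        ((CohB1.specQuot m 0) (t y)).isPrime.ne_top) fun r hr => ?_)
      show (Ideal.Quotient.mk (m ^ (0 + 1))) r ∈ (t y).asIdeal
      rw [Ideal.Quotient.eq_zero_iff_mem.2 ((pow_one m).symm ▸ hr)]
      exact Ideal.zero_mem _
    obtain ⟨W, hW, hyW⟩ := H28Vert.exists_maximal_irreducible_subset (R := R) (X := X) hy
    obtain ⟨i, hi⟩ := hΓ.2.ge hW
    obtain ⟨z, hz⟩ := (show b y ∈ Set.range (Γ i).ι.base from ((show Set.range (Γ i).ι.base = W from hi).symm ▸ hyW))
    exact ⟨i, z, b.isClosedEmbedding.injective ((Scheme.Hom.comp_apply _ _ _).symm.trans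
      ((congrArg (fun φ : (Γ i).curve.left ⟶ X.left => φ z) (hj i)).trans hz))⟩
  · rw [← H11Ample.isAmple_pullback_comp_iff, hj]
    haveI := H28Vert.isProper_curve (Γ i)
    haveI : IsProper ((Γ i).curve.left ↘ Spec (CommRingCat.of (IsLocalRing.ResidueField R))) :=
      inferInstanceAs (IsProper (Γ i).curve.hom)
    have hdC : topologicalKrullDim (Γ i).curve.left ≤ ((1 : ℕ) : WithBot ℕ∞) := by simpa using (Γ i).dim_eq.le
    have hP : PicF.IsInvertible ((Scheme.Modules.pullback (Γ i).ι).obj L) :=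
      H11Ample.isInvertible_pullback _ hL
    refine (S1530.result (IsLocalRing.ResidueField R) _ (Γ i).dim_eq _ hP).2 ?_
    have h := hpos i
    rw [ArSurf.inter, ArSurf.curveDeg, H28Int.eulerCharLE_eq _ hdC (H11Ample.isCoh_of_isInvertible hP).1,
      H28Int.eulerCharLE_eq _ hdC H10Coh.isQuasicoherent_unit] at h
    rw [H29RR.deg_def]
    exact h

omit [IsProper X.hom] [Flat X.hom] [IsIntegral X.left] hdim in
/-- A regular proper model of a curve is an arithmetic surface. -/
theorem isArithSurface_of_model' {C Y : Scheme.{u}} {f : C ⟶ Spec (CommRingCat.of (FractionRing R))}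
    {q : Y ⟶ Spec (CommRingCat.of R)} (hC : IsProper f ∧ IsIntegral C ∧ topologicalKrullDim C = 1)
    (hY : Models.IsRegularProperModel R Y q C f) : ArSurf.IsArithSurface R (Over.mk q) := by
  obtain ⟨⟨hfl, -, -, -⟩, hp, hreg⟩ := id hY
  haveI : IsProper (Over.mk q).hom := hp
  haveI : Flat (Over.mk q).hom := hfl
  haveI : IsIntegral (Over.mk q).left := ModelArith.isIntegral_model' hC hY
  have hd : topologicalKrullDim (Over.mk q).left = 2 := ModelArith.dim_model' hC hY
  obtain ⟨n, Γ, L, hΓ, hL, hpos⟩ := exists_positive hd hreg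
  exact ⟨hreg, inferInstance, hd, hfl,
    exists_closedImmersion_of_isAmple (Over.mk q).hom (isAmple_of_pos hΓ hL hpos)⟩

omit [IsProper X.hom] [Flat X.hom] [IsIntegral X.left] hdim in
/-- A regular proper model of a smooth curve is an arithmetic surface. -/
theorem isArithSurface_of_model {C Y : Scheme.{u}} {f : C ⟶ Spec (CommRingCat.of (FractionRing R))}
    {q : Y ⟶ Spec (CommRingCat.of R)} (hC : Curve.IsSmoothProperCurve (FractionRing R) C f)
    (hY : Models.IsRegularProperModel R Y q C f) : ArSurf.IsArithSurface R (Over.mk q) :=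
  isArithSurface_of_model' ⟨hC.1, hC.2.2.1, hC.2.2.2⟩ hY

end Groth.Agent.H28RR.ModelProj
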