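import Groth.Agent.H28RR.PrincipalOffSet
import Groth.Agent.H28RR.ContractVert
import Groth.Agent.H28RR.ModelProj
import Groth.Agent.H28RR.ModelGenusZero
import Groth.Agent.H28Contr.BlowRegular
import Groth.Agent.H28Vert.VertGroup
import Groth.Agent.H28Pinch.ContractionUnique
import Groth.Agent.H17.Canon.BlowVert
import Groth.Agent.H10Coh.SerreVanishing2
import Groth.Agent.LeadBC.SeesawBC

/-!
# The canonical sheaf of the canonical model pulls back to the canonical sheaf
-/

set_option autoImplicit false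
set_option linter.style.haveILetI false
set_option linter.unusedSectionVars false
set_option backward.isDefEq.respectTransparency.types false
set_option synthInstance.maxHeartbeats 400000
set_option maxHeartbeats 1600000

universe u

open CategoryTheory CategoryTheory.Limits AlgebraicGeometry Opposite TopologicalSpace
open Groth.Agent Groth.Agent.H28Vert

namespace Groth.Agent.H28RR.CanonModel

attribute [local instance] picLaw

variable {R : Type u} [CommRing R] [IsDomain R] [IsDiscreteValuationRing R]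
  {X Y : Over (Spec (CommRingCat.of R))} {r : ℕ} {Γ : Fin r → ArSurf.VertComp R X}

theorem isProper_of_projective (hY : Neron.IsProjectiveOver R Y) : IsProper Y.hom := by
  obtain ⟨n, i, hi, hiY⟩ := hY
  haveI := hi
  rw [← hiY]
  infer_instance

theorem range_subset_specialFibre (Δ : ArSurf.VertComp R X) :
    Set.range Δ.ι.base ⊆ Models.specialFibreSet R X := by
  rintro _ ⟨z, rfl⟩
  show X.hom (Δ.ι z) = IsLocalRing.closedPoint R
  rw [← Scheme.Hom.comp_apply, Δ.w, Scheme.Hom.comp_apply]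
  exact IsLocalRing.PrimeSpectrum.comap_residue R _

/-- The hypotheses on a contraction of the curves `Γ`. -/
structure IsContr (Γ : Fin r → ArSurf.VertComp R X) (f : X ⟶ Y) : Prop where
  pt : ∀ i, ∃ y : Y.left, Set.range (((Γ i).ι ≫ f.left).base : (Γ i).curve.left → Y.left) = {y}
  pre : f.left.base ⁻¹' (f.left.base '' ⋃ i, Set.range (Γ i).ι.base) = ⋃ i, Set.range (Γ i).ι.base
  iso : ∀ V : Y.left.Opens, (V : Set Y.left) ∩ f.left.base '' (⋃ i, Set.range (Γ i).ι.base) = ∅ →
      IsIso (f.left ∣_ V)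

variable [IsProper X.hom] [IsProper Y.hom] {f : X ⟶ Y}

/-- A contraction is an isomorphism over the complement of finitely many closed points. -/
theorem exists_open (h : IsContr Γ f) : ∃ V : Y.left.Opens, IsIso (f.left ∣_ V) ∧
    ∀ x : X.left, f.left x ∈ V ↔ ∀ i, x ∉ Set.range (Γ i).ι.base := by
  haveI : IsProper (f.left ≫ Y.hom) := by rw [Over.w f]; infer_instance
  haveI : IsProper f.left := IsProper.of_comp f.left Y.hom
  have hcl : IsClosed (f.left.base '' ⋃ i, Set.range (Γ i).ι.base) := by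
    rw [Set.image_iUnion]
    exact isClosed_iUnion_of_finite fun i =>
      f.left.isClosedMap _ (Γ i).ι.isClosedEmbedding.isClosed_range
  refine ⟨⟨_, hcl.isOpen_compl⟩, h.iso _ (Set.compl_inter_self _), fun x => ?_⟩
  show ¬ _ ↔ _
  rw [show (f.left x ∈ f.left.base '' ⋃ i, Set.range (Γ i).ι.base) ↔ x ∈ ⋃ i, Set.range (Γ i).ι.base from
    (iff_of_eq (congrArg (x ∈ ·) h.pre)), Set.mem_iUnion, not_exists]

variable [Flat X.hom] [IsIntegral X.left] [IsIntegral Y.left]

theorem birational (h : IsContr Γ f) : f.left (genericPoint X.left) = genericPoint Y.left ∧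
    Function.Bijective (f.left.stalkMap (genericPoint X.left)) := by
  obtain ⟨V, hV, hmem⟩ := exists_open h
  haveI := hV
  have hη : f.left (genericPoint X.left) ∈ V :=
    (hmem _).2 fun i hi => ModelProj.genericPoint_notMem (range_subset_specialFibre (Γ i) hi)
  haveI := H28Contr.isIso_stalkMap_of_restrict f.left V _ hη
  exact ⟨ModelGenusZero.map_genericPoint_of_iso (π := f.left) (U := V) ⟨_, hη⟩,
    ConcreteCategory.bijective_of_isIso _⟩

theorem isIso_app (h : IsContr Γ f) (hY : ∀ q : Y.left, IsIntegrallyClosed (Y.left.presheaf.stalk q))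
    (U : Y.left.Opens) : IsIso (f.left.app U) := by
  haveI : IsProper (f.left ≫ Y.hom) := by rw [Over.w f]; infer_instance
  haveI : IsProper f.left := IsProper.of_comp f.left Y.hom
  obtain ⟨h1, h2⟩ := birational h
  exact (ConcreteCategory.isIso_iff_bijective _).2
    (H28Pinch.bijective_app_of_birational f.left (fun y => ⟨inferInstance, hY y⟩) h1 h2 U)

/-- Pullbacks along a contraction have degree zero on the contracted curves. -/
theorem inter_pullback (h : IsContr Γ f) {A : Y.left.Modules} (hA : PicF.IsInvertible A) (i : Fin r) :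
    ArSurf.inter R X ((Scheme.Modules.pullback f.left).obj A) (Γ i) = 0 := by
  obtain ⟨y, hy⟩ := h.pt i
  obtain ⟨t⟩ := ContractVert.nonempty_trivial_of_const ((Γ i).ι ≫ f.left) hA (q := y) fun z => hy.le ⟨z, rfl⟩
  exact ContractVert.curveDeg_eq_zero _ _ ((Scheme.Modules.pullbackComp (Γ i).ι f.left).app A ≪≫ t)

/-- The canonical sheaf of a surface is the pullback of that of a contraction of curves of canonical degree zero. -/
theorem nonempty_iso (hX : ArSurf.IsArithSurface R X)
    (hΓ : Function.Injective fun i => Set.range ((Γ i).ι.base : (Γ i).curve.left → X.left))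
    (L : Fin r → X.left.Modules) (hL : ∀ j, ClSub.IsInverseOf (L j) (ClSub.idealMod (Γ j).ι.ker))
    (hneg : ∀ c : Fin r → ℤ, c ≠ 0 →
      (Finset.univ : Finset (Fin r × Fin r)).sum (fun p => c p.1 * c p.2 * ArSurf.inter R X (L p.2) (Γ p.1)) < 0)
    (h : IsContr Γ f) {ωX : X.left.Modules} (hωX : Canon.IsCanonical X.hom ωX)
    (hK : ∀ i, ArSurf.inter R X ωX (Γ i) = 0) {ωY : Y.left.Modules} (hωY : Canon.IsCanonical Y.hom ωY) :
    Nonempty ((Scheme.Modules.pullback f.left).obj ωY ≅ ωX) := by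
  classical
  haveI : IsLocallyNoetherian X.left := LocallyOfFiniteType.isLocallyNoetherian X.hom
  obtain ⟨V, hV, hmem⟩ := exists_open h
  haveI := hV
  have hωXi := H17.CanonSm.isInvertible_of_isCanonical hωX
  have hWi := H11Ample.isInvertible_pullback f.left (H17.CanonSm.isInvertible_of_isCanonical hωY)
  -- a trivialisation off the curves
  let j : (V : Scheme.{u}) ⟶ X.left := inv (f.left ∣_ V) ≫ (f.left ⁻¹ᵁ V).ι
  have hj : j ≫ f.left = V.ι := by rw [Category.assoc, ← morphismRestrict_ι, IsIso.inv_hom_id_assoc]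
  have hη : f.left (genericPoint X.left) ∈ V :=
    (hmem _).2 fun i hi => ModelProj.genericPoint_notMem (range_subset_specialFibre (Γ i) hi)
  haveI : Nonempty (V : Scheme.{u}) := ⟨⟨_, hη⟩⟩
  haveI : IsIntegral (V : Scheme.{u}) := isIntegral_of_isOpenImmersion V.ι
  obtain ⟨w⟩ := H17.CanonSm.nonempty_pullback_iso_of_isCanonical j V.ι (p₁ := X.hom) (p₂ := Y.hom)
    (show j ≫ X.hom = V.ι ≫ Y.hom by rw [← hj, Category.assoc j, Over.w f]) hωX hωY
  obtain ⟨W', hW', ⟨eW⟩⟩ := H11Sym.exists_inverse hWi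
  have hM := H11Ample.isInvertible_tensor hωXi hW'
  obtain ⟨g₀, hg₀⟩ := H28Vert.exists_gen_of_trivial_pullback j (CohB1.tensorMod ωX W')
    ⟨H25Theta.pT j ωX W' ≪≫
      H25Theta.tI (w ≪≫ (H25Theta.pC j f.left hj ωY).symm) (Iso.refl _) ≪≫ (H25Theta.pT j _ W').symm ≪≫
      (Scheme.Modules.pullback j).mapIso (H10Coh.Tw.commIso _ _ ≪≫ eW) ≪≫
      H16Derived.KFlat.Stalk.structurePullbackIso j⟩
  obtain ⟨n, Δ, hΔ⟩ := H28Vert.exists_isComponentList' (R := R) (X := X) hX.2.2.1
  have hσ : ∀ i, ∃ k, Set.range (Δ k).ι.base = Set.range (Γ i).ι.base := fun i => by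
    have hm := H28Vert.mem_fibreComponents (H28Vert.dim_fibre_le_one hΔ) (Γ i)
    rw [← hΔ.2] at hm
    exact hm
  choose σ hσ using hσ
  have hσi : Function.Injective σ := fun a b e => hΓ ((hσ a).symm.trans ((by rw [e] : _ = _).trans (hσ b)))
  obtain ⟨c, hc⟩ := PrincipalOffSet.cls_eq_prod_of_gen (X := X) hX.1 hΔ (Finset.univ.image σ) j.opensRange
    (fun z hz => by
      have hz' : f.left z ∈ V := (hmem z).2 fun i hi =>
        hz (σ i) (Finset.mem_image_of_mem σ (Finset.mem_univ i)) ((hσ i).ge hi)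
      refine ⟨(f.left ∣_ V) ⟨z, hz'⟩, ?_⟩
      show (inv (f.left ∣_ V) ≫ (f.left ⁻¹ᵁ V).ι) ((f.left ∣_ V) ⟨z, hz'⟩) = z
      rw [← Scheme.Hom.comp_apply, IsIso.hom_inv_id_assoc]
      rfl) hM hg₀
  have hLi : ∀ i, PicF.IsInvertible (L i) := fun i =>
    H17.InvertibleTensor.isInvertible_of_tensor_iso _ _ (hL i).some
  have hQ : ∀ i, idealCls (isEffCartierIdeal_ker hX.1 hΔ (σ i)) = (PicGrp.cls (L i) (hLi i))⁻¹ := fun i => by
    have hker : (Δ (σ i)).ι.ker = (Γ i).ι.ker := by
      haveI := (Δ (σ i)).isIntegral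
      haveI := (Γ i).isIntegral
      rw [H17.ker_eq_vanishingIdeal, H17.ker_eq_vanishingIdeal]
      exact congrArg Scheme.IdealSheafData.vanishingIdeal (Closeds.ext (congrArg closure (hσ i)))
    have hE : BlowUp.IsEffCartierIdeal (Γ i).ι.ker := hker ▸ isEffCartierIdeal_ker hX.1 hΔ (σ i)
    rw [H28Vert.idealCls_congr _ hE hker]
    exact (PicGrp.cls_inv_eq_cls (hLi i) (H29Blow.isInvertible_of_isEffCartierIdeal _ hE) (hL i)).symm
  rw [Finset.prod_image fun a _ b _ e => hσi e] at hc
  let a : Fin r → ℤ := fun i => c (σ i)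
  have hcls : PicGrp.cls ωX hωXi = PicGrp.cls _ hWi * ∏ i, (PicGrp.cls (L i) (hLi i))⁻¹ ^ a i := by
    rw [show PicGrp.cls _ hM = PicGrp.cls ωX hωXi * PicGrp.cls W' hW' from
        Subtype.ext (PicGrp.cls_mul_cls_val hωXi hW').symm,
      show PicGrp.cls W' hW' = (PicGrp.cls _ hWi)⁻¹ from
        (PicGrp.cls_inv_eq_cls hWi hW' ⟨H10Coh.Tw.commIso _ _ ≪≫ eW⟩).symm] at hc
    simp only [← hQ]
    rw [← hc, mul_comm (PicGrp.cls ωX hωXi), mul_inv_cancel_left]
  have hdeg : ∀ k, ∑ i, a i * ArSurf.inter R X (L i) (Γ k) = 0 := fun k => by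
    have h1 := congrArg (fun t => Multiplicative.toAdd (degHom (X := X) (Γ k) t)) hcls
    simp only [map_mul, map_prod, map_zpow, map_inv, degHom_cls, toAdd_mul, toAdd_prod, toAdd_zpow, toAdd_inv,
      toAdd_ofAdd, hK, inter_pullback h (H17.CanonSm.isInvertible_of_isCanonical hωY), smul_eq_mul,
      zero_add, mul_neg, Finset.sum_neg_distrib] at h1
    linarith
  have ha : a = 0 := by
    by_contra hne
    refine (hneg a hne).ne ?_
    rw [Fintype.sum_prod_type]
    refine Finset.sum_eq_zero fun k _ => ?_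
    simp only [mul_assoc, ← Finset.mul_sum, hdeg k, mul_zero]
  refine (PicGrp.cls_eq_cls_iff hWi hωXi).1 ?_
  simp only [hcls, ha, Pi.zero_apply, zpow_zero, Finset.prod_const_one, mul_one]

/-- Powers of a module pulled back along a contraction. -/
theorem nonempty_pow (h : IsContr Γ f) (hY : ∀ q : Y.left, IsIntegrallyClosed (Y.left.presheaf.stalk q))
    {A : Y.left.Modules} (hA : PicF.IsInvertible A) {B : X.left.Modules}
    (e : (Scheme.Modules.pullback f.left).obj A ≅ B) (q : ℕ) :
    Nonempty ((Scheme.Modules.pullback f.left).obj (CohB1.tensorPow A q) ≅ CohB1.tensorPow B q) ∧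
    Nonempty ((Scheme.Modules.pushforward f.left).obj (CohB1.tensorPow B q) ≅ CohB1.tensorPow A q) := by
  obtain ⟨e₁⟩ := H11Ample.exists_iso_pullback_tensorPow f.left hA q
  let e₂ := e₁ ≪≫ H10Coh.Tw.tensorPowIso e q
  obtain ⟨e₃⟩ := LeadBC.Seesaw.nonempty_iso_push_pull (f := f.left) (isIso_app h hY) (isInvertible_tensorPow hA q)
  exact ⟨⟨e₂⟩, ⟨(Scheme.Modules.pushforward f.left).mapIso e₂.symm ≪≫ e₃.symm⟩⟩

omit [IsProper X.hom] [IsProper Y.hom] [Flat X.hom] [IsIntegral X.left] [IsIntegral Y.left] in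
/-- The pullback of an inverse is the inverse of the pullback. -/
theorem nonempty_pullback_inverse {A A' : Y.left.Modules} {B B' : X.left.Modules} (hA : PicF.IsInvertible A)
    (hA' : ClSub.IsInverseOf A' A) (hB' : ClSub.IsInverseOf B' B) (e : (Scheme.Modules.pullback f.left).obj A ≅ B) :
    Nonempty ((Scheme.Modules.pullback f.left).obj A' ≅ B') := by
  obtain ⟨eA⟩ := hA'
  obtain ⟨eB⟩ := hB'
  have hA'i := H17.InvertibleTensor.isInvertible_of_tensor_iso A' A eA
  have hB'i := H17.InvertibleTensor.isInvertible_of_tensor_iso B' B eB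
  have hW := H11Ample.isInvertible_pullback f.left hA
  have hW' := H11Ample.isInvertible_pullback f.left hA'i
  refine (PicGrp.cls_eq_cls_iff hW' hB'i).1 ?_
  rw [← PicGrp.cls_inv_eq_cls hW hW' ⟨H10Coh.Tw.commIso _ _ ≪≫ (H25Theta.pT f.left A' A).symm ≪≫
        (Scheme.Modules.pullback f.left).mapIso eA ≪≫ H16Derived.KFlat.Stalk.structurePullbackIso f.left⟩,
    ← PicGrp.cls_inv_eq_cls hW hB'i ⟨H10Coh.Tw.commIso _ _ ≪≫ PicGrp.tensorModIso (Iso.refl _) e ≪≫ eB⟩]

end Groth.Agent.H28RR.CanonModel
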