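import Groth.Agent.H28RR.NefGlue
import Groth.Agent.H28Pinch.ContractionUnique

/-!
# Automorphisms of the generic fibre extend to the canonical model
-/

set_option autoImplicit false
set_option linter.style.haveILetI false
set_option linter.unusedSectionVars false
set_option backward.isDefEq.respectTransparency.types false
set_option maxHeartbeats 1600000

universe u

open CategoryTheory CategoryTheory.Limits AlgebraicGeometry TopologicalSpace
open Groth.Agent

noncomputable section

attribute [-instance] instAlgebraAtPrimeFractionRing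

namespace Groth.Agent.H28RR.CanonicalAut

variable {R : Type u} [CommRing R] [IsDomain R] [IsDiscreteValuationRing R]

/-- An isomorphism over the generic fibre induces an isomorphism of generic fibres. -/
theorem isIso_genericFibre_of_restrict {X Y : Over (Spec (CommRingCat.of R))} (g : X ⟶ Y)
    (h : haveI := H28Vert.isOpenImmersion_generic (R := R)
      IsIso (g.left ∣_ (Y.hom ⁻¹ᵁ (Neron.genPt R).opensRange))) :
    IsIso ((Neron.genericFibre R).map g) := by
  haveI : IsOpenImmersion (Neron.genPt R) := H28Vert.isOpenImmersion_generic (R := R)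
  let φ := ((Neron.genericFibre R).map g).left
  let bY := pullback.fst Y.hom (Neron.genPt R)
  haveI : IsOpenImmersion bY := inferInstanceAs (IsOpenImmersion (pullback.fst Y.hom (Neron.genPt R)))
  have hφ : φ ≫ bY = pullback.fst X.hom (Neron.genPt R) ≫ g.left := pullback.lift_fst _ _ _
  have hφs : φ ≫ pullback.snd Y.hom (Neron.genPt R) = pullback.snd X.hom (Neron.genPt R) :=
    pullback.lift_snd _ _ _
  have hsq : IsPullback (pullback.fst X.hom (Neron.genPt R)) φ g.left bY := by
    refine IsPullback.of_bot (h₃₁ := Neron.genPt R) (v₂₁ := pullback.snd Y.hom (Neron.genPt R))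
      (v₂₂ := Y.hom) ?_ hφ.symm (IsPullback.of_hasPullback _ _)
    rw [hφs, Over.w g]
    exact IsPullback.of_hasPullback _ _
  have hV : Y.hom ⁻¹ᵁ (Neron.genPt R).opensRange = bY.opensRange :=
    TopologicalSpace.Opens.ext (Scheme.Pullback.range_fst Y.hom (Neron.genPt R)).symm
  change IsIso (g.left ∣_ (Y.hom ⁻¹ᵁ (Neron.genPt R).opensRange)) at h
  rw [hV] at h
  haveI : IsIso (pullback.snd g.left bY) :=
    ((MorphismProperty.isomorphisms _).arrow_mk_iso_iff (morphismRestrictOpensRange g.left bY)).1 h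
  haveI : IsIso φ := by
    rw [← hsq.isoPullback_hom_snd]
    infer_instance
  haveI : IsIso ((Over.forget _).map ((Neron.genericFibre R).map g)) := ‹IsIso φ›
  exact isIso_of_reflects_iso _ (Over.forget _)

/-- A preconnected subset of a finite set of closed points has at most one point. -/
theorem subsingleton_of_preconnected {T : Type*} [TopologicalSpace T] {S F : Set T} (hS : IsPreconnected S)
    (hF : F.Finite) (hcl : ∀ a ∈ F, IsClosed ({a} : Set T)) (hSF : S ⊆ F) {a b : T} (ha : a ∈ S) (hb : b ∈ S) :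
    a = b := by
  by_contra hne
  obtain ⟨c, -, hc1, hc2⟩ := isPreconnected_closed_iff.1 hS {a} (⋃ d ∈ F \ {a}, {d}) (hcl a (hSF ha))
    ((hF.subset Set.sdiff_subset).isClosed_biUnion fun d hd => hcl d hd.1)
    (fun d hd => by
      by_cases e : d = a
      · exact Or.inl e
      · exact Or.inr (Set.mem_biUnion (x := d) ⟨hSF hd, e⟩ rfl))
    ⟨a, ha, rfl⟩ ⟨b, hb, Set.mem_biUnion (x := b) ⟨hSF hb, Ne.symm hne⟩ rfl⟩
  obtain ⟨d, hd, hcd⟩ := Set.mem_iUnion₂.1 hc2
  exact hd.2 ((hcd : c = d).symm.trans (hc1 : c = a))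

variable {X Y : Over (Spec (CommRingCat.of R))} {r : ℕ} {Γ : Fin r → ArSurf.VertComp R X} {f : X ⟶ Y}

/-- The image of a component under an automorphism. -/
def mapComp (τ : X ⟶ X) [IsIso τ] (C : ArSurf.VertComp R X) : ArSurf.VertComp R X :=
  haveI : IsIso τ.left := inferInstanceAs (IsIso ((Over.forget _).map τ))
  { curve := C.curve
    ι := C.ι ≫ τ.left
    isClosedImmersion := haveI := C.isClosedImmersion; inferInstance
    isIntegral := C.isIntegral
    dim_eq := C.dim_eq
    w := by rw [Category.assoc, Over.w τ]; exact C.w }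

/-- An automorphism of the generic fibre of a contraction of the `K`-trivial curves extends. -/
theorem exists_extension (hX : ArSurf.IsArithSurface R X) (hmin : Neron.IsRelMinimalRegularModel R X)
    (hg : FGA.eulerCharLE (FractionRing R) ((Neron.genericFibre R).obj X).left
      (Coh.structureModule ((Neron.genericFibre R).obj X).left) 1 ≤ 0)
    (ωX : X.left.Modules) (hωX : Canon.IsCanonical X.hom ωX)
    (hK : ∀ i, ArSurf.inter R X ωX (Γ i) = 0)
    (hall : ∀ C : ArSurf.VertComp R X, ArSurf.inter R X ωX C = 0 →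
      ∃ i, Set.range (C.ι.base : C.curve.left → X.left) = Set.range ((Γ i).ι.base : (Γ i).curve.left → X.left))
    (hYint : IsIntegral Y.left) (hYnor : ∀ q : Y.left, IsIntegrallyClosed (Y.left.presheaf.stalk q))
    (hYfl : Flat Y.hom) [IsProper Y.hom]
    (hfpt : ∀ i, ∃ y : Y.left, Set.range (((Γ i).ι ≫ f.left).base : (Γ i).curve.left → Y.left) = {y})
    (hfpre : f.left.base ⁻¹' (f.left.base '' ⋃ i, Set.range (Γ i).ι.base) = ⋃ i, Set.range (Γ i).ι.base)
    (hfiso : ∀ V : Y.left.Opens, (V : Set Y.left) ∩ f.left.base '' (⋃ i, Set.range (Γ i).ι.base) = ∅ →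
      IsIso (f.left ∣_ V))
    (σ : (Neron.genericFibre R).obj Y ≅ (Neron.genericFibre R).obj Y) :
    ∃! τ : Y ⟶ Y, IsIso τ ∧ (Neron.genericFibre R).map τ = σ.hom := by
  classical
  haveI := hYint
  haveI := hYfl
  haveI : IsIntegral X.left := hX.2.1
  haveI : Flat X.hom := hX.2.2.2.1
  haveI : IsProper X.hom := H28Vert.isProper_of_isArithSurface hX
  haveI : IsProper (f.left ≫ Y.hom) := by rw [Over.w f]; infer_instance
  haveI : IsProper f.left := IsProper.of_comp f.left Y.hom
  haveI : IsLocallyNoetherian Y.left := LocallyOfFiniteType.isLocallyNoetherian Y.hom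
  haveI : Y.left.IsSeparated := ⟨by rw [← terminal.comp_from Y.hom]; infer_instance⟩
  haveI : IsOpenImmersion (Neron.genPt R) := H28Vert.isOpenImmersion_generic (R := R)
  choose y hy using hfpt
  let D : Set X.left := ⋃ i, Set.range (Γ i).ι.base
  have himg : f.left.base '' D = Set.range y := by
    rw [Set.image_iUnion, ← Set.iUnion_singleton_eq_range]
    refine Set.iUnion_congr fun i => ?_
    rw [← hy i, Scheme.Hom.comp_base, TopCat.coe_comp, Set.range_comp]
  have hyc : ∀ i, IsClosed ({y i} : Set Y.left) := fun i => by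
    rw [← hy i]
    haveI := (Γ i).isClosedImmersion
    exact ((Γ i).ι ≫ f.left).isClosedMap.isClosed_range
  have hDcl : IsClosed (f.left.base '' D) := by
    rw [himg, ← Set.iUnion_singleton_eq_range]
    exact isClosed_iUnion_of_finite hyc
  let V : Y.left.Opens := ⟨(f.left.base '' D)ᶜ, hDcl.isOpen_compl⟩
  haveI hV : IsIso (f.left ∣_ V) := hfiso V (Set.compl_inter_self _)
  -- the generic fibre
  have hgenV : Y.hom ⁻¹ᵁ (Neron.genPt R).opensRange ≤ V := fun q hq hqD => by
    obtain ⟨x, hx, rfl⟩ := hqD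
    obtain ⟨i, hi⟩ := Set.mem_iUnion.1 hx
    obtain ⟨w, rfl⟩ := hi
    obtain ⟨s, hs⟩ : Y.hom (f.left ((Γ i).ι w)) ∈ Set.range (Neron.genPt R) := hq
    rw [← Scheme.Hom.comp_apply f.left, Over.w f, ← Scheme.Hom.comp_apply, (Γ i).w, Scheme.Hom.comp_apply,
      NefGlue.genPt_apply] at hs
    exact IsDiscreteValuationRing.not_a_field R
      (congrArg PrimeSpectrum.asIdeal (hs.trans (IsLocalRing.PrimeSpectrum.comap_residue R _))).symm
  have hfgen : IsIso ((Neron.genericFibre R).map f) := by
    refine isIso_genericFibre_of_restrict f ?_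
    exact ContractVert.isIso_restrict_of_le f.left hgenV
  let fK := asIso ((Neron.genericFibre R).map f)
  obtain ⟨hgen, hisoη⟩ := H28Contr.generic_of_birational f.left V
    ⟨genericPoint Y.left, hgenV ⟨genericPoint _, (NefGlue.genPt_apply _).trans (H28Vert.hom_genericPoint_eq_bot).symm⟩⟩
  haveI := hisoη
  have hbij := ConcreteCategory.bijective_of_isIso (f.left.stalkMap (genericPoint X.left))
  have hnor : Pi1.IsNormalScheme Y.left := fun q => ⟨inferInstance, hYnor q⟩
  haveI : IsDominant f.left := H10ZMT.isDominant_of_apply_genericPoint f.left hgen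
  have hcancel : ∀ b b' : Y ⟶ Y, f.left ≫ b.left = f.left ≫ b'.left → b = b' := fun b b' h =>
    Over.OverMorphism.ext (ext_of_isDominant_of_isSeparated Y.hom (by rw [Over.w b, Over.w b']) f.left h)
  have hsep : IsSeparated Y.hom := inferInstance
  haveI : IrreducibleSpace ((Neron.genericFibre R).obj X).left := by
    haveI := (LocalGlue.curve_facts (IsDiscreteValuationRing.not_isField R) hX
      (IsPullback.of_hasPullback X.hom (Neron.genPt R))).2.1
    exact inferInstanceAs (IrreducibleSpace (pullback X.hom (Neron.genPt R) : Scheme.{u}))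
  have huni : ∀ b b' : Y ⟶ Y, (Neron.genericFibre R).map b = (Neron.genericFibre R).map b' → b = b' := by
    intro b b' h
    refine hcancel b b' ?_
    refine congrArg CommaMorphism.left (LocalExtend.eq_of_generic (b := f ≫ b) (b' := f ≫ b') hX
      (f := ((Neron.genericFibre R).obj X).hom) (g := pullback.fst X.hom (Neron.genPt R))
      (C := ((Neron.genericFibre R).obj X).left) (IsPullback.of_hasPullback _ _) ?_)
    have h1 := congrArg (fun t => ((Neron.genericFibre R).map f ≫ t).left ≫ pullback.fst Y.hom (Neron.genPt R)) h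
    simp only [← Functor.map_comp] at h1
    exact (pullback.lift_fst _ _ _).symm.trans (h1.trans (pullback.lift_fst _ _ _))
  have hext : ∀ σ : (Neron.genericFibre R).obj Y ≅ (Neron.genericFibre R).obj Y,
      ∃ τ : Y ⟶ Y, (Neron.genericFibre R).map τ = σ.hom := by
    intro σ
    obtain ⟨τX, ⟨hτi, hτ⟩, -⟩ := NefGlue.existsUnique_iso X X hX hX hmin hmin hg (fK ≪≫ σ ≪≫ fK.symm)
    haveI := hτi
    haveI : IsIso τX.left := inferInstanceAs (IsIso ((Over.forget _).map τX))
    let g := τX.left ≫ f.left
    have hperm : ∀ i, ∃ j, ∀ w, g ((Γ i).ι w) = y j := by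
      intro i
      have hk : ArSurf.inter R X ωX (mapComp τX (Γ i)) = 0 := by
        obtain ⟨φ⟩ := H17.CanonSm.nonempty_pullback_iso_of_isCanonical (𝟙 X.left) τX.left
          (show 𝟙 X.left ≫ X.hom = τX.left ≫ X.hom by rw [Category.id_comp, Over.w τX]) hωX hωX
        rw [← hK i]
        exact ContractArtin.curveDeg_congr (IsLocalRing.ResidueField R) (Γ i).curve.left
          (((Scheme.Modules.pullbackComp (Γ i).ι τX.left).app ωX).symm ≪≫
            (Scheme.Modules.pullback (Γ i).ι).mapIso (φ.symm ≪≫ (Scheme.Modules.pullbackId X.left).app ωX))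
      obtain ⟨j, hj⟩ := hall _ hk
      refine ⟨j, fun w => ?_⟩
      obtain ⟨v, hv⟩ : τX.left ((Γ i).ι w) ∈ Set.range (Γ j).ι.base := hj.le ⟨w, rfl⟩
      show f.left (τX.left ((Γ i).ι w)) = y j
      rw [← hv]
      exact (hy j).le ⟨v, rfl⟩
    have hconst : ∀ x x' : X.left, f.left x = f.left x' → g x = g x' := by
      intro x x' hxx
      by_cases hxV : f.left x ∈ V
      · have : x = x' := congrArg Subtype.val ((f.left ∣_ V).isEmbedding.injective (a₁ := (⟨x, hxV⟩ : ↥(f.left ⁻¹ᵁ V)))
          (a₂ := ⟨x', show f.left x' ∈ V from hxx ▸ hxV⟩) (Subtype.ext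
            ((morphismRestrict_base_coe f.left V _).trans (hxx.trans (morphismRestrict_base_coe f.left V ⟨x', _⟩).symm))))
        rw [this]
      · have hfib : f.left ⁻¹' {f.left x} ⊆ D := fun z hz => by
          by_contra hzD
          refine hxV fun hxD => ?_
          obtain ⟨z', hz'D, hz'⟩ := hxD
          exact hzD (hfpre.le ⟨z', hz'D, hz'.trans (show f.left z = f.left x from hz).symm⟩)
        have hgD : g '' (f.left ⁻¹' {f.left x}) ⊆ Set.range y := by
          rintro _ ⟨z, hz, rfl⟩
          obtain ⟨i, w, rfl⟩ := Set.mem_iUnion.1 (hfib hz)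
          obtain ⟨j, hj⟩ := hperm i
          exact ⟨j, (hj w).symm⟩
        exact subsingleton_of_preconnected ((H28Pinch.isPreconnected_fibre_of_birational f.left hnor hgen hbij _).image g
          g.continuous.continuousOn) (Set.finite_range y) (by rintro _ ⟨i, rfl⟩; exact hyc i) hgD
          ⟨x, rfl, rfl⟩ ⟨x', hxx.symm, rfl⟩
    obtain ⟨h, hh, -⟩ := H28Pinch.exists_desc_of_birational f.left hnor hgen hbij g hconst
    have hhY : h ≫ Y.hom = Y.hom := by
      refine ext_of_isDominant_of_isSeparated (terminal.from (Spec (CommRingCat.of R))) (terminal.hom_ext _ _)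
        f.left ?_
      rw [← Category.assoc, hh, Category.assoc, Over.w f, Over.w τX]
    refine ⟨Over.homMk h hhY, ?_⟩
    have hc : f ≫ Over.homMk h hhY = τX ≫ f := Over.OverMorphism.ext hh
    have h2 := congrArg (Neron.genericFibre R).map hc
    rw [Functor.map_comp, Functor.map_comp, hτ] at h2
    refine (cancel_epi fK.hom).1 (h2.trans ?_)
    simp [fK]
  obtain ⟨τ, hτ⟩ := hext σ
  obtain ⟨τ', hτ'⟩ := hext σ.symm
  refine ⟨τ, ⟨⟨τ', huni _ _ ?_, huni _ _ ?_⟩, hτ⟩, fun b hb => huni _ _ (hb.2.trans hτ.symm)⟩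
  · rw [Functor.map_comp, hτ, hτ', CategoryTheory.Functor.map_id]; exact σ.hom_inv_id
  · rw [Functor.map_comp, hτ, hτ', CategoryTheory.Functor.map_id]; exact σ.inv_hom_id

end Groth.Agent.H28RR.CanonicalAut
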