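import Mathlib

/-! # The cotangent space of a localisation at a maximal ideal -/

set_option autoImplicit false
set_option linter.style.haveILetI false

universe u

open IsLocalRing

namespace Groth.Agent.H28RR.CastAlg

variable {A O : Type u} [CommRing A] [CommRing O] [IsLocalRing O] [Algebra A O] (m : Ideal A) [m.IsMaximal]
  [IsLocalization.AtPrime O m]

theorem map_eq_maximalIdeal : m.map (algebraMap A O) = maximalIdeal O :=
  IsLocalization.AtPrime.map_eq_maximalIdeal m O

theorem exists_sub_mem_sq {x : O} (hx : x ∈ maximalIdeal O) :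
    ∃ a ∈ m, x - algebraMap A O a ∈ maximalIdeal O ^ 2 := by
  rw [← map_eq_maximalIdeal m] at hx
  obtain ⟨⟨⟨a, ha⟩, s⟩, hs⟩ := (IsLocalization.mem_map_algebraMap_iff m.primeCompl O).1 hx
  obtain ⟨u, i, hi, hus⟩ := Ideal.IsMaximal.exists_inv (inferInstance : m.IsMaximal) s.2
  refine ⟨u * a, m.mul_mem_left u ha, ?_⟩
  have h1 : x - algebraMap A O (u * a) = x * algebraMap A O i := by
    have h2 : (algebraMap A O u) * (algebraMap A O (s : A)) + algebraMap A O i = 1 := by
      rw [← map_mul, ← map_add, hus, map_one]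
    rw [map_mul, ← hs]
    linear_combination (-x) * h2
  rw [h1, pow_two, ← map_eq_maximalIdeal m]
  refine Ideal.mul_mem_mul ?_ (Ideal.mem_map_of_mem _ hi)
  exact (IsLocalization.mem_map_algebraMap_iff m.primeCompl O).2 ⟨⟨⟨a, ha⟩, s⟩, hs⟩

theorem mem_sq_of_map_mem {a : A} (ha : algebraMap A O a ∈ maximalIdeal O ^ 2) : a ∈ m ^ 2 := by
  rw [← map_eq_maximalIdeal m, ← Ideal.map_pow, IsLocalization.algebraMap_mem_map_algebraMap_iff m.primeCompl O] at ha
  obtain ⟨s, hs, hsa⟩ := ha
  obtain ⟨u, i, hi, hus⟩ := Ideal.IsMaximal.exists_inv (inferInstance : m.IsMaximal) hs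
  have h3 : (u + u * i) * s + i * i = 1 := by linear_combination (1 + i) * hus
  have h4 : a = (u + u * i) * (s * a) + (i * i) * a := by linear_combination (-a) * h3
  rw [h4]
  exact Ideal.add_mem _ (Ideal.mul_mem_left _ _ hsa)
    (Ideal.mul_mem_right _ _ (by rw [pow_two]; exact Ideal.mul_mem_mul hi hi))

/-- The cotangent space computed by a map from the maximal ideal onto a space over the residue field. -/
theorem finrank_cotangent_eq {K T : Type u} [Field K] [AddCommGroup T] [Module K T] (φ : A →+* K)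
    (hφ : Function.Surjective φ) (hker : RingHom.ker φ = m) (τ : m →+ T) (hτ : Function.Surjective τ)
    (hlin : ∀ (r : A) (x : m), τ (r • x) = φ r • τ x) (hτ0 : ∀ x : m, τ x = 0 ↔ (x : A) ∈ m ^ 2) :
    Module.finrank (ResidueField O) (CotangentSpace O) = Module.finrank K T := by
  let ρ : A →+* ResidueField O := (residue O).comp (algebraMap A O)
  have hρker : RingHom.ker ρ = m := by
    ext a
    rw [RingHom.mem_ker, RingHom.comp_apply, residue_eq_zero_iff]
    exact IsLocalization.AtPrime.to_map_mem_maximal_iff O m a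
  have hρ : Function.Surjective ρ := by
    intro z
    obtain ⟨x, rfl⟩ := residue_surjective z
    obtain ⟨⟨a, s⟩, hs⟩ := IsLocalization.surj m.primeCompl x
    obtain ⟨u, i, hi, hus⟩ := Ideal.IsMaximal.exists_inv (inferInstance : m.IsMaximal) s.2
    refine ⟨u * a, ?_⟩
    have h1 : ρ i = 0 := (RingHom.mem_ker).1 (hρker ▸ hi)
    have h2 := congrArg ρ hus
    rw [map_add, map_mul, h1, add_zero, map_one] at h2
    have h3 := congrArg (residue O) hs
    rw [map_mul] at h3
    change residue O x * ρ s = ρ a at h3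
    rw [map_mul, ← h3]
    linear_combination residue O x * h2
  let i : K ≃+* ResidueField O :=
    (RingHom.quotientKerEquivOfSurjective hφ).symm.trans
      ((Ideal.quotEquivOfEq (hker.trans hρker.symm)).trans (RingHom.quotientKerEquivOfSurjective hρ))
  have hi : ∀ a, i (φ a) = ρ a := fun a => by
    have h1 : (RingHom.quotientKerEquivOfSurjective hφ).symm (φ a) = Ideal.Quotient.mk (RingHom.ker φ) a := by
      rw [RingEquiv.symm_apply_eq]
      rfl
    show (RingHom.quotientKerEquivOfSurjective hρ) ((Ideal.quotEquivOfEq (hker.trans hρker.symm))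
      ((RingHom.quotientKerEquivOfSurjective hφ).symm (φ a))) = ρ a
    rw [h1]
    rfl
  let χ : m →+ CotangentSpace O :=
    (maximalIdeal O).toCotangent.toAddMonoidHom.comp
      ({ toFun := fun x => ⟨algebraMap A O x, (IsLocalization.AtPrime.to_map_mem_maximal_iff O m _).2 x.2⟩
         map_zero' := by simp
         map_add' := fun x y => by simp } : m →+ maximalIdeal O)
  have hχ : Function.Surjective χ := by
    intro z
    obtain ⟨⟨x, hx⟩, rfl⟩ := Ideal.toCotangent_surjective _ z
    obtain ⟨a, ha, hxa⟩ := exists_sub_mem_sq m hx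
    refine ⟨⟨a, ha⟩, Ideal.toCotangent_eq _ |>.2 ?_⟩
    rw [← neg_sub]
    exact neg_mem hxa
  have hχ0 : ∀ x : m, χ x = 0 ↔ (x : A) ∈ m ^ 2 := fun x => by
    refine (Ideal.toCotangent_eq_zero _ _).trans ⟨mem_sq_of_map_mem m, fun h => ?_⟩
    show algebraMap A O x ∈ _
    rw [← map_eq_maximalIdeal m, ← Ideal.map_pow]
    exact Ideal.mem_map_of_mem _ h
  have hex : ∀ t : T, ∃ x, τ x = t := hτ
  choose sec hsec using hex
  have hsame : ∀ {x y : m}, τ x = τ y ↔ χ x = χ y := fun {x y} => by
    rw [← sub_eq_zero, ← map_sub, hτ0, ← sub_eq_zero (a := χ x), ← map_sub, hχ0]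
  let j : T ≃+ CotangentSpace O :=
    AddEquiv.ofBijective
      ({ toFun := fun t => χ (sec t)
         map_zero' := by rw [← map_zero χ, ← hsame, hsec, map_zero]
         map_add' := fun t t' => by rw [← map_add χ, ← hsame, hsec, map_add, hsec, hsec] } : T →+ CotangentSpace O)
      ⟨fun t t' h => by rw [← hsec t, ← hsec t']; exact hsame.2 h,
        fun z => (hχ z).imp' τ fun x hx => by
          show χ (sec (τ x)) = z
          rw [← hx, ← hsame, hsec]⟩
  have hj : ∀ x, j (τ x) = χ x := fun x => hsame.1 (hsec (τ x))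
  refine congrArg Cardinal.toNat (rank_eq_of_equiv_equiv (R := K) (R' := ResidueField O) i j i.bijective ?_).symm
  intro r t
  obtain ⟨a, rfl⟩ := hφ r
  obtain ⟨x, rfl⟩ := hτ t
  rw [← hlin, hj, hj, hi]
  show χ (a • x) = ρ a • χ x
  show (maximalIdeal O).toCotangent _ = residue O (algebraMap A O a) • (maximalIdeal O).toCotangent _
  have hsm : ∀ (c : O) (z : CotangentSpace O), residue O c • z = c • z := fun c z => rfl
  rw [hsm, ← map_smul]
  exact congrArg _ (Subtype.ext (map_mul (algebraMap A O) a (x : A)))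

end Groth.Agent.H28RR.CastAlg
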