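import Groth.Agent.H28Contr.CechOne
import Groth.Agent.H11Ample.Extend
import Groth.Agent.H10Coh.Affine

/-! # Cocycles of rational functions on the locus where a section generates -/

set_option autoImplicit false
set_option linter.style.haveILetI false
set_option linter.unusedSectionVars false
set_option backward.isDefEq.respectTransparency.types false

universe u

open CategoryTheory CategoryTheory.Limits AlgebraicGeometry Opposite TopologicalSpace

noncomputable section

namespace Groth.Agent.H28RR.CastCocycle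

variable {X : Scheme.{u}} [IsIntegral X]

/-- A section as a rational function. -/
abbrev fK (O : X.Opens) (hη : genericPoint X ∈ O) : Γ(X, O) →+* X.functionField :=
  (X.presheaf.germ O (genericPoint X) hη).hom

theorem fK_injective {O : X.Opens} (hη : genericPoint X ∈ O) : Function.Injective (fK O hη) :=
  germ_injective_of_isIntegral X (genericPoint X) hη

theorem fK_res {O O' : X.Opens} (h : O' ≤ O) (hη : genericPoint X ∈ O') (s : Γ(X, O)) :
    fK O' hη (X.presheaf.map (homOfLE h).op s) = fK O (h hη) s :=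
  TopCat.Presheaf.germ_res_apply X.presheaf (homOfLE h) _ hη s

/-- A rational function which is regular on an open set. -/
def Reg (O : X.Opens) (z : X.functionField) : Prop :=
  ∃ (h : genericPoint X ∈ O) (s : Γ(X, O)), fK O h s = z

theorem Reg.mono {O O' : X.Opens} {z : X.functionField} (hz : Reg O z) (h : O' ≤ O) (hη : genericPoint X ∈ O') :
    Reg O' z := by
  obtain ⟨hO, s, rfl⟩ := hz
  exact ⟨hη, _, fK_res h hη s⟩

theorem reg_of_local {O : X.Opens} (hη : genericPoint X ∈ O) {z : X.functionField}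
    (h : ∀ x ∈ O, ∃ O' : X.Opens, x ∈ O' ∧ O' ≤ O ∧ Reg O' z) : Reg O z := by
  choose U hxU hUO hη' s hs using fun x : O => h x.1 x.2
  obtain ⟨w, hw, -⟩ := TopCat.Sheaf.existsUnique_gluing' (X.sheaf) U O (fun x => homOfLE (hUO x))
    (fun x hx => Opens.mem_iSup.2 ⟨⟨x, hx⟩, hxU ⟨x, hx⟩⟩) s fun a b => fK_injective (O := U a ⊓ U b) ⟨hη' a, hη' b⟩ (by
      refine (fK_res (inf_le_left : U a ⊓ U b ≤ U a) ⟨hη' a, hη' b⟩ (s a)).trans ?_
      rw [hs, ← hs b]
      exact (fK_res (inf_le_right : U a ⊓ U b ≤ U b) ⟨hη' a, hη' b⟩ (s b)).symm)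
  refine ⟨hη, w, ?_⟩
  rw [← hs ⟨genericPoint X, hη⟩, ← hw ⟨genericPoint X, hη⟩]
  exact (fK_res (hUO _) (hη' _) w).symm

theorem coeff_inj {M : X.Modules} {V W : X.Opens} {e : Γ(M, V)} (he : H11Tilde.IsGen M e) (h : W ≤ V)
    {a b : Γ(X, W)} (hab : a • M.presheaf.map (homOfLE h).op e = b • M.presheaf.map (homOfLE h).op e) : a = b :=
  (he.bijective h).1 hab

/-- If the powers of an invertible module have no first cohomology, cocycles of rational functions on
affine pieces of the locus where a section generates are coboundaries. -/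
theorem exists_cover_split [CompactSpace X] [X.IsSeparated] {N : X.Modules} (hN : PicF.IsInvertible N)
    (s : Γ(N, ⊤)) (hη : genericPoint X ∈ H11Ample.gen N s) {n₀ : ℕ}
    (hvan : ∀ n, n₀ ≤ n → Subsingleton (Coh.HH X (CohB1.tensorPow N n) 1)) :
    ∃ (ι : Type u) (A : ι → X.Opens), (∀ i, IsAffineOpen (A i)) ∧ (∀ i, genericPoint X ∈ A i) ∧
      (∀ i, A i ≤ H11Ample.gen N s) ∧ (∀ x ∈ H11Ample.gen N s, ∃ i, x ∈ A i) ∧
      ∀ c : ι → ι → X.functionField, (∀ i j, Reg (A i ⊓ A j) (c i j)) → (∀ i j k, c i j + c j k = c i k) →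
        ∃ h : ι → X.functionField, (∀ i, Reg (A i) (h i)) ∧ ∀ i j, h i - h j = c i j := by
  classical
  obtain ⟨J, hJ, V, e, hV, he, hcov⟩ := H11Ample.exists_finite_gen_cover hN
  let ι := {j : J // genericPoint X ∈ V j}
  have hcov' : ∀ x, ∃ i : ι, x ∈ V i.1 := fun x => by
    obtain ⟨j, hj⟩ := hcov x
    exact ⟨⟨j, ((genericPoint_spec X).specializes trivial).mem_open (V j).2 hj⟩, hj⟩
  choose f hf using fun i : ι => H11Ample.exists_coeff (he i.1) (N.presheaf.map (homOfLE (le_top : V i.1 ≤ ⊤)).op s)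
  let W := H11Ample.gen N s
  have hD : ∀ i : ι, W ⊓ V i.1 = X.basicOpen (f i) := fun i =>
    H11Ample.gen_inf_eq_basicOpen (he i.1) s (f i) (hf i)
  refine ⟨ι, fun i => X.basicOpen (f i), fun i => (hV i.1).basicOpen (f i), fun i => (hD i).le ⟨hη, i.2⟩,
    fun i => (hD i).ge.trans inf_le_left, fun x hx => ?_, fun c hc hcoc => ?_⟩
  · obtain ⟨i, hi⟩ := hcov' x
    exact ⟨i, (hD i).le ⟨hx, hi⟩⟩
  let φ : ι → X.functionField := fun i => fK (V i.1) i.2 (f i)
  have hφ : ∀ i, φ i ≠ 0 := fun i h0 => by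
    have h1 : f i = 0 := fK_injective i.2 (h0.trans (map_zero _).symm)
    have h2 := (hD i).le ⟨hη, i.2⟩
    rw [h1, Scheme.basicOpen_zero] at h2
    exact h2
  have hηij : ∀ i j : ι, genericPoint X ∈ V i.1 ⊓ V j.1 := fun i j => ⟨i.2, j.2⟩
  -- the cleared cocycle
  have hclear : ∀ p : ι × ι, ∃ m, ∀ n, m ≤ n → ∃ t : Γ(X, V p.1.1 ⊓ V p.2.1),
      fK _ (hηij p.1 p.2) t = φ p.1 ^ n * c p.1 p.2 := by
    rintro ⟨i, j⟩
    let Vij := V i.1 ⊓ V j.1
    let g : Γ(X, Vij) := X.presheaf.map (homOfLE (inf_le_left : Vij ≤ V i.1)).op (f i)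
    have hg : X.basicOpen g = X.basicOpen (f i) ⊓ X.basicOpen (f j) := by
      rw [Scheme.basicOpen_res, ← hD i, ← hD j]
      refine le_antisymm ?_ ?_
      · rintro x ⟨⟨hi, hj⟩, hx, -⟩
        exact ⟨⟨hx, hi⟩, hx, hj⟩
      · rintro x ⟨⟨hx, hi⟩, -, hj⟩
        exact ⟨⟨hi, hj⟩, hx, hi⟩
    obtain ⟨hηg, s₀, hs₀⟩ := (hc i j).mono hg.le (hg.ge ⟨(hD i).le ⟨hη, i.2⟩, (hD j).le ⟨hη, j.2⟩⟩)
    haveI : (Coh.structureModule X).IsQuasicoherent := H29Blow.isQCoh_structureModule X
    obtain ⟨m, t, ht⟩ := H10Coh.exists_pow_smul_eq_res (Coh.structureModule X)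
      ((hV i.1).inf (hV j.1)) g s₀
    have ht' : fK Vij (hηij i j) t = φ i ^ m * c i j := by
      have h1 : fK (X.basicOpen g) hηg (X.presheaf.map (homOfLE (X.basicOpen_le g)).op t) =
          fK (X.basicOpen g) hηg ((X.presheaf.map (homOfLE (X.basicOpen_le g)).op (g ^ m)) * s₀) :=
        congrArg (fK (X.basicOpen g) hηg) ht
      rw [map_mul, hs₀, fK_res (X.basicOpen_le g) hηg t, fK_res (X.basicOpen_le g) hηg, map_pow,
        fK_res (inf_le_left : Vij ≤ V i.1)] at h1
      exact h1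
    refine ⟨m, fun n hn => ⟨g ^ (n - m) * (show Γ(X, Vij) from t), ?_⟩⟩
    rw [map_mul, map_pow, ht', fK_res (inf_le_left : Vij ≤ V i.1), ← mul_assoc, ← pow_add, Nat.sub_add_cancel hn]
  choose m hm using hclear
  haveI := Fintype.ofFinite ι
  obtain ⟨n, hn₀, hn⟩ : ∃ n, n₀ ≤ n ∧ ∀ p, m p ≤ n :=
    ⟨n₀ + Finset.univ.sup m, Nat.le_add_right _ _,
      fun p => (Finset.le_sup (Finset.mem_univ p)).trans (Nat.le_add_left _ _)⟩
  choose t ht₀ using fun p => hm p n (hn p)
  have ht : ∀ i j : ι, fK (V i.1 ⊓ V j.1) (hηij i j) (t (i, j)) = φ i ^ n * c i j := fun i j => ht₀ (i, j)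
  let M := CohB1.tensorPow N n
  let E : ∀ i : ι, Γ(M, V i.1) := fun i => H11Ample.spow (e i.1) n
  have hE : ∀ i, H11Tilde.IsGen M (E i) := fun i => H11Ample.isGen_spow (he i.1) n
  choose a ha using fun (i j : ι) => H11Ample.transition (ei := e i.1) (he j.1) (Vj := V j.1)
  have hφa : ∀ i j, φ j = φ i * fK _ (hηij i j) (a i j) := fun i j => by
    have h1 := congrArg (N.presheaf.map (homOfLE (inf_le_left : V i.1 ⊓ V j.1 ≤ V i.1)).op) (hf i)
    have h2 := congrArg (N.presheaf.map (homOfLE (inf_le_right : V i.1 ⊓ V j.1 ≤ V j.1)).op) (hf j)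
    rw [Scheme.Modules.map_smul, H10Coh.mres_mres] at h1 h2
    rw [ha i j, smul_smul, h2] at h1
    have h3 := congrArg (fK _ (hηij i j)) (coeff_inj (he j.1) inf_le_right h1)
    rw [map_mul, fK_res, fK_res] at h3
    exact h3
  -- the cocycle of sections
  let cc : ∀ i j : ι, Γ(M, V i.1 ⊓ V j.1) := fun i j => t (i, j) • M.presheaf.map (homOfLE inf_le_left).op (E i)
  have hEji : ∀ (i j : ι) (W' : X.Opens) (hW' : W' ≤ V i.1 ⊓ V j.1),
      M.presheaf.map (homOfLE (hW'.trans inf_le_left)).op (E i) =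
        X.presheaf.map (homOfLE hW').op (a i j) ^ n • M.presheaf.map (homOfLE (hW'.trans inf_le_right)).op (E j) := by
    intro i j W' hW'
    have h1 := congrArg (N.presheaf.map (homOfLE hW').op) (ha i j)
    rw [Scheme.Modules.map_smul, H10Coh.mres_mres, H10Coh.mres_mres] at h1
    rw [H11Ample.spow_res, H11Ample.spow_res, h1, H11Ample.spow_smul]
  have hcc : H28Contr.IsCocycle M (fun i : ι => V i.1) cc := by
    intro i j k W' h₁ h₂ h₃
    show M.presheaf.map (homOfLE h₁).op (t (i, j) • M.presheaf.map (homOfLE inf_le_left).op (E i)) +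
        M.presheaf.map (homOfLE h₂).op (t (j, k) • M.presheaf.map (homOfLE inf_le_left).op (E j)) =
      M.presheaf.map (homOfLE h₃).op (t (i, k) • M.presheaf.map (homOfLE inf_le_left).op (E i))
    simp only [Scheme.Modules.map_smul, H10Coh.mres_mres]
    rw [hEji j i W' (le_inf (h₁.trans inf_le_right) (h₁.trans inf_le_left)), smul_smul, ← add_smul]
    congr 1
    by_cases hW : genericPoint X ∈ W'
    · refine fK_injective hW ?_
      rw [map_add, map_mul, map_pow, fK_res, fK_res, fK_res, fK_res, ht, ht, ht, hφa j i, mul_pow, ← hcoc i j k]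
      ring
    · have hbot : W' = ⊥ := by
        refine eq_bot_iff.2 fun x hx => hW (((genericPoint_spec X).specializes trivial).mem_open W'.2 hx)
      subst hbot
      exact Subsingleton.elim _ _
  obtain ⟨α, hα⟩ := H28Contr.trivOn_of_vanish hcc (W := (⊤ : X.Opens))
    (fun x _ => Opens.mem_iSup.2 (hcov' x)) (by
      haveI := hvan n hn₀
      exact (H10Coh.HHEquiv M 1).symm.toEquiv.subsingleton)
  choose β hβ using fun i : ι => H11Ample.exists_coeff (hE i)
    (M.presheaf.map (homOfLE (le_inf le_rfl le_top : V i.1 ≤ V i.1 ⊓ ⊤)).op (α i))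
  have hηD : ∀ i : ι, genericPoint X ∈ X.basicOpen (f i) := fun i => (hD i).le ⟨hη, i.2⟩
  refine ⟨fun i => fK _ i.2 (β i) / φ i ^ n, fun i => ?_, fun i j => ?_⟩
  · have hu : IsUnit (X.presheaf.map (homOfLE (X.basicOpen_le (f i))).op (f i)) :=
      RingedSpace.isUnit_res_basicOpen _ (f i)
    obtain ⟨v, hv⟩ := hu.exists_left_inv
    refine ⟨hηD i, X.presheaf.map (homOfLE (X.basicOpen_le (f i))).op (β i) * v ^ n, ?_⟩
    have h1 : fK (X.basicOpen (f i)) (hηD i) v * φ i = 1 := by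
      have h2 := congrArg (fK (X.basicOpen (f i)) (hηD i)) hv
      rw [map_mul, map_one, fK_res] at h2
      exact h2
    rw [map_mul, map_pow, fK_res, eq_div_iff (pow_ne_zero _ (hφ i)), mul_assoc, ← mul_pow, h1, one_pow, mul_one]
  · let P := V i.1 ⊓ V j.1
    have h1 := hα i j P (le_inf inf_le_left le_top) (le_inf inf_le_right le_top) le_rfl
    have hres : ∀ (l : ι) (h : P ≤ V l.1),
        M.presheaf.map (homOfLE (le_inf h le_top : P ≤ V l.1 ⊓ ⊤)).op (α l) =
          X.presheaf.map (homOfLE h).op (β l) • M.presheaf.map (homOfLE h).op (E l) := fun l h => by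
      have h2 := congrArg (M.presheaf.map (homOfLE h).op) (hβ l)
      rw [H10Coh.mres_mres, Scheme.Modules.map_smul] at h2
      exact h2
    change M.presheaf.map (homOfLE _).op (α i) - M.presheaf.map (homOfLE _).op (α j) =
      M.presheaf.map (homOfLE le_rfl).op (t (i, j) • M.presheaf.map (homOfLE inf_le_left).op (E i)) at h1
    rw [hres i inf_le_left, hres j inf_le_right, H10Coh.mres_self,
      hEji j i P (le_inf inf_le_right inf_le_left), smul_smul, ← sub_smul] at h1
    have h3 := congrArg (fK P (hηij i j)) (coeff_inj (hE i) inf_le_left h1)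
    rw [map_sub, map_mul, map_pow, fK_res, fK_res, fK_res, ht] at h3
    show fK _ i.2 (β i) / φ i ^ n - fK _ j.2 (β j) / φ j ^ n = c i j
    rw [div_sub_div _ _ (pow_ne_zero _ (hφ i)) (pow_ne_zero _ (hφ j)),
      div_eq_iff (mul_ne_zero (pow_ne_zero _ (hφ i)) (pow_ne_zero _ (hφ j)))]
    have h4 : φ i ^ n = φ j ^ n * fK _ (hηij j i) (a j i) ^ n := by rw [← mul_pow, ← hφa]
    linear_combination φ j ^ n * h3 + fK _ j.2 (β j) * (-h4)

end Groth.Agent.H28RR.CastCocycle
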