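import Groth.Agent.H28RR.EtaleEuler
import Groth.Agent.H28RR.ContractArtin
import Groth.Agent.H28Vert.ExcConverse
import Groth.Agent.H10Coh.Pn.HyperPn
import Groth.Agent.H28Vert.Chain
import Groth.Agent.S1697

/-! # Invertible modules on a vertical projective line -/

set_option autoImplicit false
set_option linter.style.haveILetI false
set_option linter.unusedSectionVars false
set_option backward.isDefEq.respectTransparency.types false

universe u

open CategoryTheory CategoryTheory.Limits AlgebraicGeometry TopologicalSpace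

noncomputable section

namespace Groth.Agent.H28RR.CastLine

attribute [local instance 10000] H10Coh.hasSheafifyAb H10Coh.hasWeakSheafifyAb H10Coh.hasExtAb H10Coh.enoughInjAb

variable (k : Type u) [Field k] {E : Scheme.{u}} [E.Over (Spec (CommRingCat.of k))]
variable {k' : Type u} [Field k'] [Algebra k k'] (e : E ≅ CohB1.ProjSpace 1 k')

/-- The projective line seen over its field. -/
abbrev overK : E.Over (Spec (CommRingCat.of k')) := ⟨e.hom ≫ CohB1.ProjSpace.toSpec 1 k'⟩

theorem toGlobal_tower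
    (he : e.hom ≫ CohB1.ProjSpace.toSpec 1 k' ≫ Spec.map (CommRingCat.ofHom (algebraMap k k')) =
      E ↘ Spec (CommRingCat.of k)) (a : k) :
    letI := overK e
    Coh.toGlobal (E ↘ Spec (CommRingCat.of k')) (algebraMap k k' a) = Coh.toGlobal (E ↘ Spec (CommRingCat.of k)) a := by
  letI := overK e
  show (e.hom ≫ CohB1.ProjSpace.toSpec 1 k').appTop ((Scheme.ΓSpecIso (CommRingCat.of k')).inv (algebraMap k k' a)) =
    (E ↘ Spec (CommRingCat.of k)).appTop ((Scheme.ΓSpecIso (CommRingCat.of k)).inv a)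
  rw [← he, ← Category.assoc, Scheme.Hom.comp_appTop]
  exact congrArg (fun z => (e.hom ≫ CohB1.ProjSpace.toSpec 1 k').appTop z)
    (congrArg (fun φ => φ a) (Scheme.ΓSpecIso_inv_naturality (CommRingCat.ofHom (algebraMap k k'))))

theorem euler_twist (j : ℤ) :
    letI := overK e
    Curv2.euler k' E ((Scheme.Modules.pullback e.hom).obj (Twist.twistProjSpace 1 k' j)) = j + 1 := by
  letI := overK e
  letI : (CohB1.ProjSpace 1 k').Over (Spec (CommRingCat.of k')) := ⟨CohB1.ProjSpace.toSpec 1 k'⟩
  haveI : IsProper (CohB1.ProjSpace 1 k' ↘ Spec (CommRingCat.of k')) := H27Weil.isProper_toSpec 1 k'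
  haveI : (Twist.twistProjSpace 1 k' j).IsQuasicoherent :=
    H28Mero.isQCoh_of_isInvertible ((H10Coh.Stab.isTwistFamily_projSpace 1 k').inv j)
  rw [EtaleEuler.euler_pullback_iso k' e rfl, H29RR.euler_eq_sub (k := k') (H28Curve.projLine_facts k').2.2.le,
    (H10Coh.Hyper.finrank_H0 (F := k') one_ne_zero j).2, (H10Coh.Hyper.finrank_top (F := k') one_ne_zero j).2,
    Nat.choose_one_right, Nat.choose_one_right]
  omega

theorem exists_twist {M : E.Modules} (hM : PicF.IsInvertible M) :
    ∃ j : ℤ, Nonempty (M ≅ (Scheme.Modules.pullback e.hom).obj (Twist.twistProjSpace 1 k' j)) := by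
  obtain ⟨j, ⟨φ⟩⟩ := S1697.result k' 1 _ (H11Ample.isInvertible_pullback e.inv hM)
  exact ⟨j, ⟨(Scheme.Modules.pullbackId E).symm.app M ≪≫ (Scheme.Modules.pullbackCongr e.hom_inv_id.symm).app M ≪≫
    ((Scheme.Modules.pullbackComp e.hom e.inv).app M).symm ≪≫ (Scheme.Modules.pullback e.hom).mapIso φ⟩⟩

theorem subsingleton_H1 {j : ℤ} (hj : -1 ≤ j) {M : E.Modules} (hM : PicF.IsInvertible M)
    (φ : M ≅ (Scheme.Modules.pullback e.hom).obj (Twist.twistProjSpace 1 k' j)) :
    Subsingleton (Coh.HH E M 1) := by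
  haveI : M.IsQuasicoherent := H28Mero.isQCoh_of_isInvertible hM
  exact H28Vert.subsingleton_HH_of_pullback_iso e.symm M 1 (H10Coh.subsingleton_HH_of_iso
    ((Scheme.Modules.pullback e.inv).mapIso φ ≪≫ (Scheme.Modules.pullbackComp e.inv e.hom).app _ ≪≫
      (Scheme.Modules.pullbackCongr e.inv_hom_id).app _ ≪≫ (Scheme.Modules.pullbackId _).app _).symm 1
    (H10Coh.Pn.subsingleton_HH_Od (n := 1) (R := k') (d := j) 1 (by omega) (by omega)))

variable (hdim : topologicalKrullDim E ≤ 1) [IsProper (E ↘ Spec (CommRingCat.of k))]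
  (he : e.hom ≫ CohB1.ProjSpace.toSpec 1 k' ≫ Spec.map (CommRingCat.ofHom (algebraMap k k')) =
      E ↘ Spec (CommRingCat.of k))

include hdim he in
theorem curveDeg_twist {M : E.Modules} (j : ℤ)
    (φ : M ≅ (Scheme.Modules.pullback e.hom).obj (Twist.twistProjSpace 1 k' j)) :
    ArSurf.curveDeg k E M = (Module.finrank k k' : ℤ) * j := by
  letI := overK e
  haveI : IsProper (E ↘ Spec (CommRingCat.of k')) :=
    MorphismProperty.comp_mem @IsProper _ _ (inferInstance : IsProper e.hom) (H27Weil.isProper_toSpec 1 k')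
  have hmul := H28Vert.finrank_HH_tower k k' (E := E) (toGlobal_tower k e he)
  obtain ⟨z⟩ := (H10Coh.Stab.isTwistFamily_projSpace 1 k').zero
  obtain ⟨s⟩ := H11Ample.nonempty_pullback_structureModule_iso e.hom
  have h1 : Curv2.euler k' E M = j + 1 := (H25Euler.euler_congr φ).trans (euler_twist e j)
  have h2 : Curv2.euler k' E (Coh.structureModule E) = 0 + 1 :=
    (H25Euler.euler_congr (s.symm ≪≫ (Scheme.Modules.pullback e.hom).mapIso z.symm)).trans (euler_twist e 0)
  rw [H29RR.euler_eq_sub (k := k') hdim] at h1 h2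
  rw [ArSurf.curveDeg]
  simp only [FGA.eulerCharLE, Finset.sum_range_succ, Finset.sum_range_zero, zero_add, pow_zero, pow_one, one_mul,
    hmul, Nat.cast_mul]
  linear_combination (Module.finrank k k' : ℤ) * h1 - (Module.finrank k k' : ℤ) * h2

theorem finrank_H0 {M : E.Modules} (hM : PicF.IsInvertible M) (hdim : topologicalKrullDim E ≤ 1) (d : ℕ)
    (φ : M ≅ (Scheme.Modules.pullback e.hom).obj (Twist.twistProjSpace 1 k' (d : ℤ))) :
    letI := overK e
    Module.finrank k' (Coh.HH E M 0) = d + 1 := by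
  letI := overK e
  haveI : IsProper (E ↘ Spec (CommRingCat.of k')) :=
    MorphismProperty.comp_mem @IsProper _ _ (inferInstance : IsProper e.hom) (H27Weil.isProper_toSpec 1 k')
  haveI := subsingleton_H1 e (j := d) (by omega) hM φ
  have h1 : Curv2.euler k' E M = (d : ℤ) + 1 := (H25Euler.euler_congr φ).trans (euler_twist e d)
  rw [H29RR.euler_eq_sub (k := k') hdim, Module.finrank_zero_of_subsingleton (M := Coh.HH E M 1)] at h1
  omega

variable [FiniteDimensional k k']

include hdim he in
theorem finrank_dvd {M : E.Modules} (hM : PicF.IsInvertible M) :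
    (Module.finrank k k' : ℤ) ∣ ArSurf.curveDeg k E M := by
  obtain ⟨j, ⟨φ⟩⟩ := exists_twist e hM
  exact ⟨j, curveDeg_twist k e hdim he j φ⟩

include hdim he in
theorem exists_twist_of_deg {M : E.Modules} (hM : PicF.IsInvertible M) {j : ℤ}
    (h : ArSurf.curveDeg k E M = (Module.finrank k k' : ℤ) * j) :
    Nonempty (M ≅ (Scheme.Modules.pullback e.hom).obj (Twist.twistProjSpace 1 k' j)) := by
  obtain ⟨i, ⟨φ⟩⟩ := exists_twist e hM
  have hN : (Module.finrank k k' : ℤ) ≠ 0 := by exact_mod_cast (Module.finrank_pos (R := k) (M := k')).ne'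
  obtain rfl : i = j := mul_left_cancel₀ hN ((curveDeg_twist k e hdim he i φ).symm.trans h)
  exact ⟨φ⟩

include hdim he in
theorem nonempty_trivial {M : E.Modules} (hM : PicF.IsInvertible M) (h : ArSurf.curveDeg k E M = 0) :
    Nonempty (M ≅ Coh.structureModule E) := by
  obtain ⟨φ⟩ := exists_twist_of_deg k e hdim he hM (j := 0) (by rw [h, mul_zero])
  obtain ⟨z⟩ := (H10Coh.Stab.isTwistFamily_projSpace 1 k').zero
  obtain ⟨s⟩ := H11Ample.nonempty_pullback_structureModule_iso e.hom
  exact ⟨φ ≪≫ (Scheme.Modules.pullback e.hom).mapIso z ≪≫ s⟩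

include hdim he in
theorem subsingleton_H1_of_deg {M : E.Modules} (hM : PicF.IsInvertible M)
    (h : -(Module.finrank k k' : ℤ) ≤ ArSurf.curveDeg k E M) : Subsingleton (Coh.HH E M 1) := by
  obtain ⟨j, ⟨φ⟩⟩ := exists_twist e hM
  rw [curveDeg_twist k e hdim he j φ] at h
  have hN : (0 : ℤ) < Module.finrank k k' := by exact_mod_cast (Module.finrank_pos (R := k) (M := k'))
  exact subsingleton_H1 e (by nlinarith) hM φ

theorem finiteDimensional_of_iso {R : Type u} [CommRing R] [IsDomain R] [IsDiscreteValuationRing R]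
    {X : Over (Spec (CommRingCat.of R))} [IsProper X.hom] (Δ : ArSurf.VertComp R X)
    {F : Type u} [Field F] [Algebra (IsLocalRing.ResidueField R) F] (e : Δ.curve.left ≅ CohB1.ProjSpace 1 F)
    (he : e.hom ≫ CohB1.ProjSpace.toSpec 1 F ≫
      Spec.map (CommRingCat.ofHom (algebraMap (IsLocalRing.ResidueField R) F)) = Δ.curve.hom) :
    FiniteDimensional (IsLocalRing.ResidueField R) F := by
  haveI := H28Vert.isProper_curve Δ
  haveI : IsIntegral Δ.curve.left := Δ.isIntegral
  haveI : Nonempty (⊤ : Δ.curve.left.Opens) := ⟨⟨genericPoint Δ.curve.left, trivial⟩⟩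
  haveI := Δ.curve.left.component_nontrivial ⊤
  letI := overK e
  letI : Algebra (IsLocalRing.ResidueField R) Γ(Δ.curve.left, ⊤) :=
    (Δ.curve.hom.appTop.hom.comp (Scheme.ΓSpecIso (CommRingCat.of (IsLocalRing.ResidueField R))).inv.hom).toAlgebra
  haveI : Module.Finite (IsLocalRing.ResidueField R) Γ(Δ.curve.left, ⊤) :=
    H28Vert.finite_toGlobal_of_isProper Δ.curve.hom
  let ψ : F →ₐ[IsLocalRing.ResidueField R] Γ(Δ.curve.left, ⊤) :=
    { Coh.toGlobal (Δ.curve.left ↘ Spec (CommRingCat.of F)) with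
      commutes' := fun a => toGlobal_tower (IsLocalRing.ResidueField R) e he a }
  exact FiniteDimensional.of_injective ψ.toLinearMap ψ.toRingHom.injective

end Groth.Agent.H28RR.CastLine
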