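import Groth.Agent.H28RR.CastLine
import Groth.Agent.H11Ample.ToPn
import Groth.Agent.H22Alg.CurveAmple

/-! # Sections and constants on a projective line -/

set_option autoImplicit false
set_option linter.style.haveILetI false
set_option linter.unusedSectionVars false
set_option backward.isDefEq.respectTransparency.types false

universe u

open CategoryTheory CategoryTheory.Limits AlgebraicGeometry TopologicalSpace

noncomputable section

namespace Groth.Agent.H28RR.CastLine

attribute [local instance 10000] H10Coh.hasSheafifyAb H10Coh.hasWeakSheafifyAb H10Coh.hasExtAb H10Coh.enoughInjAb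

variable {E : Scheme.{u}} {k' : Type u} [Field k'] (e : E ≅ CohB1.ProjSpace 1 k')

theorem exists_two_sections {T : E.Modules} (d : ℕ)
    (φ : T ≅ (Scheme.Modules.pullback e.hom).obj (Twist.twistProjSpace 1 k' (d : ℤ))) :
    ∃ v : Fin 2 → Γ(T, ⊤), ∀ z, ∃ i, z ∈ H11Ample.gen T (v i) := by
  obtain ⟨ψ⟩ := (H10Coh.Stab.isTwistFamily_projSpace 1 k').nonempty_tensorPow d
  let O := Twist.twistProjSpace 1 k' (d : ℤ)
  have hO : PicF.IsInvertible O := (H10Coh.Stab.isTwistFamily_projSpace 1 k').inv d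
  refine ⟨fun i => φ.inv.app ⊤ (H11Ample.pullTop e.hom (ψ.hom.app ⊤ (H11Ample.spow (ProjUP.coord 1 k' i) d))),
    fun z => ?_⟩
  obtain ⟨i, hi⟩ := H11Ample.exists_mem_basicOpen_X (n := 1) (R := k') (e.hom z)
  refine ⟨i, ?_⟩
  rw [H11Ample.gen_iso φ.inv]
  have h1 := H11Ample.gen_smul_pullSect e.hom hO (ψ.hom.app ⊤ (H11Ample.spow (ProjUP.coord 1 k' i) d))
    (isUnit_one (M := Γ(E, ⊤)))
  rw [one_smul] at h1
  rw [h1]
  show e.hom z ∈ H11Ample.gen O (ψ.hom.app ⊤ (H11Ample.spow (ProjUP.coord 1 k' i) d))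
  rw [H11Ample.gen_iso ψ.hom]
  exact H22Alg.CurveAmple.mem_gen_spow ((H11Ample.gen_coord i).ge hi) d

/-- The global functions are the field of the line. -/
theorem bijective_toGlobal [IsIntegral E] (hdim : topologicalKrullDim E ≤ 1) :
    letI := overK e
    Function.Bijective (Coh.toGlobal (E ↘ Spec (CommRingCat.of k'))) := by
  letI := overK e
  obtain ⟨z⟩ := (H10Coh.Stab.isTwistFamily_projSpace 1 k').zero
  obtain ⟨s⟩ := H11Ample.nonempty_pullback_structureModule_iso e.hom
  have h1 := finrank_H0 e (M := Coh.structureModule E) H11Ample.isInvertible_structureModule hdim 0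
    (s.symm ≪≫ (Scheme.Modules.pullback e.hom).mapIso (z.symm ≪≫ eqToIso (congrArg _ Nat.cast_zero.symm)))
  rw [zero_add] at h1
  haveI : Nonempty (⊤ : E.Opens) := ⟨⟨genericPoint E, trivial⟩⟩
  haveI := E.component_nontrivial ⊤
  haveI : Nontrivial (Coh.Γtop E) := E.component_nontrivial ⊤
  refine ⟨(Coh.toGlobal (E ↘ Spec (CommRingCat.of k'))).injective, fun x => ?_⟩
  let S := H29RR.sec (Coh.structureModule E)
  have hne : S.symm (show Γ(Coh.structureModule E, ⊤) from (1 : Γ(E, ⊤))) ≠ 0 := fun h => by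
    have := congrArg S h
    rw [AddEquiv.apply_symm_apply, map_zero] at this
    exact one_ne_zero (α := Γ(E, ⊤)) this
  obtain ⟨a, ha⟩ := (finrank_eq_one_iff_of_nonzero' _ hne).1 h1 (S.symm (show Γ(Coh.structureModule E, ⊤) from x))
  refine ⟨a, ?_⟩
  have := congrArg S ha
  rw [H29RR.sec_smul, AddEquiv.apply_symm_apply, AddEquiv.apply_symm_apply] at this
  exact (mul_one _).symm.trans this

end Groth.Agent.H28RR.CastLine
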