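import Groth.Agent.H28RR.CastLine

/-! # Twisting by a negative projective line -/

set_option autoImplicit false
set_option linter.style.haveILetI false
set_option linter.unusedSectionVars false
set_option backward.isDefEq.respectTransparency.types false
set_option maxHeartbeats 1600000

universe u

open CategoryTheory CategoryTheory.Limits AlgebraicGeometry TopologicalSpace

noncomputable section

namespace Groth.Agent.H28RR.CastVan

variable {R : Type u} [CommRing R] [IsDomain R] [IsDiscreteValuationRing R]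
  {X : Over (Spec (CommRingCat.of R))} (E : ArSurf.VertComp R X)

/-- Removing one copy of the curve. -/
def stepIso {M L : X.left.Modules} (ρ : CohB1.tensorMod L (ClSub.idealMod E.ι.ker) ≅ Coh.structureModule X.left)
    (j : ℕ) :
    CohB1.tensorMod (ClSub.idealMod E.ι.ker) (CohB1.tensorMod M (CohB1.tensorPow L (j + 1))) ≅
      CohB1.tensorMod M (CohB1.tensorPow L j) :=
  H10Coh.Tw.commIso _ _ ≪≫ H10Coh.Tw.assoc _ _ _ ≪≫
    PicGrp.tensorModIso (Iso.refl M) (H10Coh.Tw.assoc _ _ _ ≪≫
      PicGrp.tensorModIso (Iso.refl _) ρ ≪≫ H10Coh.Tw.rightUnitIso _)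

theorem isInvertible_inverse (hE : BlowUp.IsEffCartierIdeal E.ι.ker) {L : X.left.Modules}
    (hL : ClSub.IsInverseOf L (ClSub.idealMod E.ι.ker)) : PicF.IsInvertible L := by
  obtain ⟨ρ⟩ := hL
  exact H17.InvertibleTensor.isInvertible_of_tensor_iso _ _ ρ

theorem exists_section_inverse (hE : BlowUp.IsEffCartierIdeal E.ι.ker) {L : X.left.Modules}
    (hL : ClSub.IsInverseOf L (ClSub.idealMod E.ι.ker)) :
    ∃ t : Γ(L, ⊤), H11Ample.gen L t = E.ι.ker.support.compl := by
  obtain ⟨ρ⟩ := hL
  obtain ⟨eN⟩ := H25AbCube.isInverseOf_dual (H29Blow.isInvertible_of_isEffCartierIdeal _ hE)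
  let ψ : L ≅ RefHull.dual (ClSub.idealMod E.ι.ker) :=
    (H10Coh.Tw.rightUnitIso L).symm ≪≫ PicGrp.tensorModIso (Iso.refl _) (eN.symm ≪≫ H10Coh.Tw.commIso _ _) ≪≫
      (H10Coh.Tw.assoc _ _ _).symm ≪≫ PicGrp.tensorModIso ρ (Iso.refl _) ≪≫ H10Coh.Tw.leftUnitIso _
  exact ⟨ψ.inv.app ⊤ (RefHull.ofHom (ClSub.idealModι E.ι.ker) ⊤),
    (H11Ample.gen_iso ψ.inv _).trans (H25AbCube.gen_ofHom hE)⟩

theorem inter_twist [IsProper X.hom] {M L : X.left.Modules} (hM : PicF.IsInvertible M) (hL : PicF.IsInvertible L)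
    (j : ℕ) : ArSurf.inter R X (CohB1.tensorMod M (CohB1.tensorPow L j)) E =
      ArSurf.inter R X M E + (j : ℤ) * ArSurf.inter R X L E := by
  rw [H28Vert.inter_tensor E hM (H28Vert.isInvertible_tensorPow hL j), H28Vert.inter_tensorPow E hL j]

variable {k' : Type u} [Field k'] [Algebra (IsLocalRing.ResidueField R) k']
  [FiniteDimensional (IsLocalRing.ResidueField R) k'] (e : E.curve.left ≅ CohB1.ProjSpace 1 k')
  (he : e.hom ≫ CohB1.ProjSpace.toSpec 1 k' ≫
      Spec.map (CommRingCat.ofHom (algebraMap (IsLocalRing.ResidueField R) k')) = E.curve.hom)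
  [IsProper X.hom] (hE : BlowUp.IsEffCartierIdeal E.ι.ker) {L : X.left.Modules}
  (hL : ClSub.IsInverseOf L (ClSub.idealMod E.ι.ker))

include he hE hL in
/-- First cohomology stays zero as long as the degree on the curve is not too negative. -/
theorem subsingleton_H1 (hneg : ArSurf.inter R X L E < 0) {M : X.left.Modules} (hM : PicF.IsInvertible M)
    (h1 : Subsingleton (Coh.HH X.left M 1)) :
    ∀ i : ℕ, -(Module.finrank (IsLocalRing.ResidueField R) k' : ℤ) ≤
        ArSurf.inter R X M E + (i : ℤ) * ArSurf.inter R X L E →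
      Subsingleton (Coh.HH X.left (CohB1.tensorMod M (CohB1.tensorPow L i)) 1)
  | 0, _ => H10Coh.subsingleton_HH_of_iso (H10Coh.Tw.rightUnitIso M).symm 1 h1
  | i + 1, h => by
    haveI := H28Vert.isProper_curve E
    haveI : IsProper (E.curve.left ↘ Spec (CommRingCat.of (IsLocalRing.ResidueField R))) :=
      inferInstanceAs (IsProper E.curve.hom)
    have hLi := isInvertible_inverse E hE hL
    have ih := subsingleton_H1 hneg hM h1 i (by push_cast at h; linarith)
    have hG : PicF.IsInvertible (CohB1.tensorMod M (CohB1.tensorPow L (i + 1))) :=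
      H11Ample.isInvertible_tensor hM (H28Vert.isInvertible_tensorPow hLi _)
    have hGE := H11Ample.isInvertible_pullback E.ι hG
    haveI : ((Scheme.Modules.pullback E.ι).obj (CohB1.tensorMod M (CohB1.tensorPow L (i + 1)))).IsQuasicoherent :=
      H28Mero.isQCoh_of_isInvertible hGE
    have h3 : Subsingleton (Coh.HH E.curve.left
        ((Scheme.Modules.pullback E.ι).obj (CohB1.tensorMod M (CohB1.tensorPow L (i + 1)))) 1) :=
      CastLine.subsingleton_H1_of_deg _ e E.dim_eq.le he hGE (h.trans_eq (inter_twist E hM hLi (i + 1)).symm)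
    obtain ⟨ρ⟩ := hL
    exact H10Coh.HHSeq.subsingleton₂ (H10Coh.CI.closedSeq_shortExact E.ι hG)
      (H10Coh.subsingleton_HH_of_iso (stepIso E ρ i).symm 1 ih)
      ((H7Flat.CohDim.lerayHH E.ι
        ((Scheme.Modules.pullback E.ι).obj (CohB1.tensorMod M (CohB1.tensorPow L (i + 1)))) 1).toEquiv.subsingleton)

include he hE hL in
/-- Twisting down to degree zero keeps global generation. -/
theorem trivial_and_gg (hneg : ArSurf.inter R X L E < 0) {M : X.left.Modules} (hM : PicF.IsInvertible M)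
    (h1 : Subsingleton (Coh.HH X.left M 1)) (hgg : Curv2.IsGloballyGenerated M) (r : ℕ)
    (hr : ArSurf.inter R X M E + (r : ℤ) * ArSurf.inter R X L E = 0) :
    Nonempty ((Scheme.Modules.pullback E.ι).obj (CohB1.tensorMod M (CohB1.tensorPow L r)) ≅
        Coh.structureModule E.curve.left) ∧
      Curv2.IsGloballyGenerated (CohB1.tensorMod M (CohB1.tensorPow L r)) := by
  haveI := H28Vert.isProper_curve E
  haveI : IsProper (E.curve.left ↘ Spec (CommRingCat.of (IsLocalRing.ResidueField R))) :=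
    inferInstanceAs (IsProper E.curve.hom)
  have hLi := isInvertible_inverse E hE hL
  have hG : PicF.IsInvertible (CohB1.tensorMod M (CohB1.tensorPow L r)) :=
    H11Ample.isInvertible_tensor hM (H28Vert.isInvertible_tensorPow hLi r)
  obtain ⟨φ⟩ := CastLine.nonempty_trivial _ e E.dim_eq.le he (H11Ample.isInvertible_pullback E.ι hG)
    ((inter_twist E hM hLi r).trans hr)
  refine ⟨⟨φ⟩, ?_⟩
  obtain ⟨t, ht⟩ := exists_section_inverse E hE hL
  haveI : IsLocallyNoetherian X.left := LocallyOfFiniteType.isLocallyNoetherian X.hom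
  haveI : CompactSpace X.left := QuasiCompact.compactSpace_of_compactSpace X.hom
  haveI : IsNoetherian X.left := ⟨⟩
  refine H22Alg.DimOnePencil.isGloballyGenerated_of_gen hG fun x => ?_
  obtain ⟨g, hg⟩ := H11Ample.exists_mem_gen_of_isGloballyGenerated hM hgg x
  by_cases hx : r = 0 ∨ x ∈ E.ι.ker.support.compl
  · rcases hx with rfl | hx
    · exact ⟨(H10Coh.Tw.rightUnitIso M).inv.app ⊤ g, (H11Ample.gen_iso (H10Coh.Tw.rightUnitIso M).inv g).ge hg⟩
    · refine ⟨H11Ample.tm g (H11Ample.spow t r), ?_⟩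
      rw [H11Ample.gen_tm hM (H28Vert.isInvertible_tensorPow hLi r)]
      exact ⟨hg, H22Alg.CurveAmple.mem_gen_spow (ht.ge hx) r⟩
  · push Not at hx
    obtain ⟨l, rfl⟩ := Nat.exists_eq_succ_of_ne_zero hx.1
    obtain ⟨w, hw⟩ : x ∈ Set.range E.ι := by
      rw [← E.ι.isClosedEmbedding.isClosed_range.closure_eq, ← Scheme.Hom.support_ker]
      exact not_not.1 hx.2
    let s₁ : Γ((Scheme.Modules.pullback E.ι).obj (CohB1.tensorMod M (CohB1.tensorPow L (l + 1))), ⊤) :=
      φ.inv.app ⊤ (H11Ample.one (X := E.curve.left) ⊤)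
    have hs₁ : H11Tilde.IsGen ((Scheme.Modules.pullback E.ι).obj (CohB1.tensorMod M (CohB1.tensorPow L (l + 1)))) s₁ :=
      H11Tilde.IsGen.map_iso φ.symm (H11Ample.isGen_one ⊤)
    obtain ⟨ρ⟩ := id hL
    have hvan : Subsingleton (Coh.HH X.left
        (CohB1.tensorMod (ClSub.idealMod E.ι.ker) (CohB1.tensorMod M (CohB1.tensorPow L (l + 1)))) 1) :=
      H10Coh.subsingleton_HH_of_iso (stepIso E ρ l).symm 1
        (subsingleton_H1 E e he hE hL hneg hM h1 l (by
          have := (Nat.cast_nonneg (α := ℤ) (Module.finrank (IsLocalRing.ResidueField R) k'))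
          push_cast at hr
          linarith))
    obtain ⟨σ, hσ⟩ := H10Coh.CI.surjective_pullSect E.ι hG hvan s₁
    refine ⟨σ, ?_⟩
    have h2 := H11Ample.gen_smul_pullSect E.ι hG σ (isUnit_one (M := Γ(E.curve.left, ⊤)))
    rw [one_smul, show H11Ample.pullTop E.ι σ = s₁ from hσ] at h2
    rw [← hw]
    exact h2.le ((H11Ample.mem_gen_iff (H11Ample.isInvertible_pullback E.ι hG) s₁ w).2 (hs₁ w trivial))

end Groth.Agent.H28RR.CastVan
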