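import Groth.Agent.H28RR.ContractVert
import Groth.Agent.H22Alg.RedIntegral
import Groth.Agent.H28Neron.EtaleNeron

/-! # The contraction defined by a globally generated module, with its ample module -/

set_option autoImplicit false
set_option linter.style.haveILetI false
set_option backward.isDefEq.respectTransparency.types false
set_option maxHeartbeats 1600000
universe u
open AlgebraicGeometry CategoryTheory CategoryTheory.Limits TopologicalSpace
open ArSurf

namespace Groth.Agent.H28RR.ContractMap

/-- A globally generated module trivial exactly on given vertical curves is pulled back from an ample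
module of the surface on which these are contracted. -/
theorem exists_contraction (R : Type u) [CommRing R] [IsDomain R] [IsDiscreteValuationRing R]
    (X : Over (Spec (CommRingCat.of R))) [IsIntegral X.left]
    (hnor : ∀ x : X.left, IsIntegrallyClosed (X.left.presheaf.stalk x))
    (hdim : topologicalKrullDim X.left = 2) [Flat X.hom] (hproj : Neron.IsProjectiveOver R X)
    {r : ℕ} (Γ : Fin r → ArSurf.VertComp R X)
    (hΓ : Function.Injective fun i => Set.range ((Γ i).ι.base : (Γ i).curve.left → X.left))
    (L : X.left.Modules) (hL : PicF.IsInvertible L) (hgg : Curv2.IsGloballyGenerated L)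
    (hdeg : 0 < ArSurf.curveDeg (FractionRing R) ((Neron.genericFibre R).obj X).left
      ((Scheme.Modules.pullback (pullback.fst X.hom (Neron.genPt R))).obj L))
    (htriv : ∀ E : ArSurf.VertComp R X,
      Nonempty ((Scheme.Modules.pullback E.ι).obj L ≅ Coh.structureModule E.curve.left) ↔
        ∃ i, Set.range (E.ι.base : E.curve.left → X.left) = Set.range (Γ i).ι.base) :
    ∃ (Y : Scheme.{u}) (πY : Y ⟶ Spec (CommRingCat.of R)) (g : X.left ⟶ Y) (M : Y.Modules),
      g ≫ πY = X.hom ∧ IsIntegral Y ∧ (∀ q : Y, IsIntegrallyClosed (Y.presheaf.stalk q)) ∧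
      topologicalKrullDim Y = 2 ∧ Flat πY ∧ Neron.IsProjectiveOver R (Over.mk πY) ∧
      IsProper πY ∧ IsProper g ∧ (∀ U : Y.Opens, IsIso (g.app U)) ∧ Function.Surjective g ∧
      CohB1.IsAmple M ∧ Nonempty ((Scheme.Modules.pullback g).obj M ≅ L) ∧
      (∀ i, ∃ y : Y, IsClosed ({y} : Set Y) ∧
        Set.range (((Γ i).ι ≫ g).base : (Γ i).curve.left → Y) = {y}) ∧
      g.base ⁻¹' (g.base '' ⋃ i, Set.range (Γ i).ι.base) = ⋃ i, Set.range (Γ i).ι.base ∧
      ∀ V : Y.Opens, (V : Set Y) ∩ g.base '' (⋃ i, Set.range (Γ i).ι.base) = ∅ →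
        IsIso (g ∣_ V) := by
  classical
  haveI : IsProper X.hom := by
    obtain ⟨n, i, hi, hiX⟩ := hproj
    haveI := hi
    rw [← hiX]
    infer_instance
  haveI : IsLocallyNoetherian X.left := LocallyOfFiniteType.isLocallyNoetherian X.hom
  haveI : CompactSpace X.left := QuasiCompact.compactSpace_of_compactSpace X.hom
  haveI : IsNoetherian X.left := ⟨⟩
  -- the map to projective space and its Stein factorisation
  obtain ⟨n, v, hv⟩ := H22Alg.GenCurves.exists_fin_gen hL hgg
  obtain ⟨r, hr, ⟨τ⟩, hgen, -⟩ := H11Ample.exists_toPn X.hom hL v hv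
  let T := CohB1.ProjSpace n R
  haveI : IsProper (CohB1.ProjSpace.toSpec n R) := H27Weil.isProper_toSpec n R
  haveI : IsProper (r ≫ CohB1.ProjSpace.toSpec n R) := hr.symm ▸ inferInstance
  haveI : IsProper r := IsProper.of_comp r (CohB1.ProjSpace.toSpec n R)
  haveI : IsLocallyNoetherian T := LocallyOfFiniteType.isLocallyNoetherian (CohB1.ProjSpace.toSpec n R)
  haveI : IsFinite r.fromNormalization := Groth.Agent.S1297.result r
  let g : X.left ⟶ r.normalization := r.toNormalization
  let h : r.normalization ⟶ T := r.fromNormalization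
  have hgh : g ≫ h = r := r.toNormalization_fromNormalization
  have hrg : ∀ x, h (g x) = r x := fun x => by
    rw [← Scheme.Hom.comp_apply]
    exact congrArg (fun φ : X.left ⟶ T => φ x) hgh
  let πY : r.normalization ⟶ Spec (CommRingCat.of R) := h ≫ CohB1.ProjSpace.toSpec n R
  haveI : IsProper πY := MorphismProperty.comp_mem @IsProper _ _ (inferInstance : IsProper h) ‹_›
  have hgπ : g ≫ πY = X.hom := by
    show g ≫ h ≫ _ = _
    rw [← Category.assoc, hgh, hr]
  haveI : IsProper (g ≫ h) := hgh.symm ▸ inferInstance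
  haveI : IsProper g := IsProper.of_comp g h
  haveI : IsLocallyNoetherian r.normalization := LocallyOfFiniteType.isLocallyNoetherian πY
  haveI : CompactSpace r.normalization := QuasiCompact.compactSpace_of_compactSpace πY
  have happ : ∀ U : r.normalization.Opens, IsIso (g.app U) := fun U => H10ZMT.isIso_app_toNormalization r U
  haveI : GeometricallyConnected g := H10ZMT.geometricallyConnected_toNormalization r
  have hconnfib : ∀ y, _root_.IsConnected (g ⁻¹' {y}) := fun y => g.isConnected_preimage_singleton y
  have hsurj : Function.Surjective g := fun y => (hconnfib y).nonempty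
  have hgenY : g (genericPoint X.left) = genericPoint r.normalization := by
    refine ((genericPoint_spec _).eq (show IsGenericPoint (g (genericPoint X.left)) Set.univ from ?_)).symm
    refine Set.eq_univ_of_forall fun y => ?_
    obtain ⟨x, rfl⟩ := hsurj y
    exact (((genericPoint_spec X.left).specializes trivial).map g.continuous).mem_closure
  have hπ : ∀ x, πY (g x) = X.hom x := fun x => by rw [← Scheme.Hom.comp_apply, hgπ]
  -- the two points of the base
  let s : Spec (CommRingCat.of R) := IsLocalRing.closedPoint R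
  have hscl : IsClosed ({s} : Set (Spec (CommRingCat.of R))) := IsLocalRing.isClosed_singleton_closedPoint (R := R)
  have hs_spec : ∀ t : Spec (CommRingCat.of R), t ⤳ s := fun t => IsLocalRing.specializes_closedPoint t
  have hone : ∀ t : Spec (CommRingCat.of R), t ≠ s → t.asIdeal = ⊥ := fun t ht => by
    by_contra hne
    exact ht (PrimeSpectrum.ext (IsLocalRing.eq_maximalIdeal (Ideal.IsPrime.isMaximal t.isPrime hne)))
  have hsne : (s : PrimeSpectrum R).asIdeal ≠ ⊥ := IsDiscreteValuationRing.not_a_field R
  have hclosedX : ∀ x : X.left, IsClosed ({x} : Set X.left) → X.hom x = s := fun x hx => by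
    have h1 := X.hom.isClosedMap _ hx
    rw [Set.image_singleton] at h1
    exact ((hs_spec (X.hom x)).mem_closed h1 rfl).symm
  have hclosedY : ∀ y : r.normalization, IsClosed ({y} : Set r.normalization) → πY y = s := fun y hy => by
    have h1 := πY.isClosedMap _ hy
    rw [Set.image_singleton] at h1
    exact ((hs_spec (πY y)).mem_closed h1 rfl).symm
  have hXη : X.hom (genericPoint X.left) ≠ s := fun e => by
    let t0 : Spec (CommRingCat.of R) := ⟨⊥, Ideal.isPrime_bot⟩
    have ht0 : t0 ≠ s := fun e' => hsne (congrArg PrimeSpectrum.asIdeal e').symm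
    have hsp : t0 ⤳ X.hom (genericPoint X.left) := e ▸ hs_spec t0
    obtain ⟨x', hx', hx''⟩ := Flat.generalizingMap X.hom hsp
    rw [(hx'.antisymm ((genericPoint_spec X.left).specializes trivial)).eq] at hx''
    exact ht0 (hx''.symm.trans e)
  have hexcl : ∀ a : X.left, ∃ c, a ⤳ c ∧ IsClosed ({c} : Set X.left) := fun a => by
    obtain ⟨c, hc, hcc⟩ := (isClosed_closure (s := ({a} : Set X.left))).exists_closed_singleton
      ⟨a, subset_closure rfl⟩
    exact ⟨c, specializes_iff_mem_closure.2 hc, hcc⟩
  have hd2 : topologicalKrullDim X.left ≤ 2 := hdim.le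
  have hηsp : ∀ x : X.left, genericPoint X.left ⤳ x := fun x => (genericPoint_spec X.left).specializes trivial
  -- points of the generic fibre have no proper specialisations there
  have hgenfib : ∀ a b : X.left, X.hom b ≠ s → a ≠ genericPoint X.left → a ⤳ b → a = b := by
    intro a b hb ha hab
    by_contra hne
    obtain ⟨c, hbc, hc⟩ := hexcl b
    exact ContractVert.not_chain_three hd2 (hηsp a) (fun e => ha e.symm) hab hne hbc
      (fun e => hb (e ▸ hclosedX c hc))
  have hspecial : ∀ a b : X.left, X.hom a = s → a ⤳ b → a ≠ b → IsClosed ({b} : Set X.left) := by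
    intro a b ha hab hne
    obtain ⟨c, hbc, hc⟩ := hexcl b
    by_cases hbc' : b = c
    · exact hbc'.symm ▸ hc
    · exact (ContractVert.not_chain_three hd2 (hηsp a) (fun e => hXη (e ▸ ha)) hab hne hbc hbc').elim
  -- the map is not constant on the generic fibre
  have hnc : ¬ ∀ c : X.left, X.hom c ≠ s → g c = g (genericPoint X.left) := by
    intro hc
    let p := pullback.fst X.hom (Neron.genPt R)
    have hconst : ∀ z, (p ≫ r) z = h (g (genericPoint X.left)) := fun z => by
      have hz : X.hom (p z) ≠ s := by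
        rw [← Scheme.Hom.comp_apply, show p ≫ X.hom = pullback.snd _ _ ≫ Neron.genPt R from pullback.condition,
          Scheme.Hom.comp_apply]
        intro e
        have h1 : (Neron.genPt R (pullback.snd X.hom (Neron.genPt R) z)).asIdeal = ⊥ := by
          refine (congrArg (Ideal.comap (algebraMap R (FractionRing R))) (Ideal.eq_bot_of_prime
            (PrimeSpectrum.asIdeal (R := FractionRing R) (pullback.snd X.hom (Neron.genPt R) z)))).trans ?_
          exact Ideal.comap_bot_of_injective _ (IsFractionRing.injective R (FractionRing R))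
        exact hsne (by rw [← e]; exact h1)
      rw [Scheme.Hom.comp_apply, ← hrg, hc _ hz]
    obtain ⟨e⟩ := ContractVert.nonempty_trivial_of_const (p ≫ r) H11Ample.isInvertible_twist hconst
    rw [ContractVert.curveDeg_eq_zero (FractionRing R) ((Neron.genericFibre R).obj X).left
      ((Scheme.Modules.pullback p).mapIso τ.symm ≪≫ (Scheme.Modules.pullbackComp p r).app _ ≪≫ e)] at hdeg
    exact lt_irrefl _ hdeg
  -- vertical curves contracted by the map are among the given ones
  have hcurve : ∀ a b : X.left, X.hom a = s → a ⤳ b → a ≠ b → g b = g a → ∃ i, a ∈ Set.range (Γ i).ι.base := by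
    intro a b ha hab hne hga
    let C : Closeds X.left := ⟨closure {a}, isClosed_closure⟩
    let J := Scheme.IdealSheafData.vanishingIdeal C
    haveI : IsIntegral J.subscheme := H22Alg.isIntegral_vanishingIdeal_closure a
    have hrange : Set.range J.subschemeι = closure {a} := H17.range_vanishingIdeal_subschemeι _
    have hC : closure ({a} : Set X.left) ⊆ X.hom ⁻¹' {s} :=
      closure_minimal (Set.singleton_subset_iff.2 ha) (hscl.preimage X.hom.continuous)
    haveI : IsClosedImmersion (Spec.map (CommRingCat.ofHom (IsLocalRing.residue R))) :=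
      IsClosedImmersion.spec_of_surjective _ IsLocalRing.residue_surjective
    obtain ⟨q, hq⟩ := H17.exists_lift_of_range_subset (J.subschemeι ≫ X.hom)
      (Spec.map (CommRingCat.ofHom (IsLocalRing.residue R))) (by
        rintro _ ⟨z, rfl⟩
        have hz : X.hom (J.subschemeι z) = s := hC (hrange ▸ ⟨z, rfl⟩)
        rw [Scheme.Hom.comp_apply, hz]
        refine ⟨(⟨⊥, Ideal.isPrime_bot⟩ : PrimeSpectrum (IsLocalRing.ResidueField R)), PrimeSpectrum.ext ?_⟩
        exact IsLocalRing.ker_residue.trans rfl)
    have hdimC : topologicalKrullDim J.subscheme = 1 := by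
      rw [J.subschemeι.isClosedEmbedding.isEmbedding.toHomeomorph.isHomeomorph.topologicalKrullDim_eq, hrange]
      refine le_antisymm ?_ (ContractVert.one_le_dim_closure hab hne)
      have h1 := (H4Conn.topologicalKrullDim_add_one_le (F := closure ({a} : Set X.left)) isClosed_closure
        (fun e => hXη (hC (e.symm ▸ Set.mem_univ _)))).trans hd2
      revert h1
      generalize topologicalKrullDim (closure ({a} : Set X.left)) = d
      intro h1
      induction d using WithBot.recBotCoe with
      | bot => exact bot_le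
      | coe d =>
        induction d using ENat.recTopCoe with
        | top => exact absurd h1 (by decide)
        | coe d =>
          have : d + 1 ≤ 2 := by
            norm_cast at h1
            exact Nat.cast_le.1 (WithBot.coe_le_coe.1 h1)
          exact_mod_cast (show d ≤ 1 by omega)
    let E : ArSurf.VertComp R X :=
      ⟨Over.mk q, J.subschemeι, inferInstanceAs (IsClosedImmersion J.subschemeι),
        inferInstanceAs (IsIntegral J.subscheme), hdimC, hq.symm⟩
    have hbc : IsClosed ({b} : Set X.left) := hspecial a b ha hab hne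
    have hgc : IsClosed ({g a} : Set r.normalization) := by
      have h1 := g.isClosedMap _ hbc
      rwa [Set.image_singleton, hga] at h1
    have hconst : ∀ z, (J.subschemeι ≫ r) z = h (g a) := fun z => by
      have hz : g (J.subschemeι z) = g a :=
        (closure_minimal (Set.singleton_subset_iff.2 rfl) (hgc.preimage g.continuous) :
          closure ({a} : Set X.left) ⊆ g ⁻¹' {g a}) (hrange ▸ ⟨z, rfl⟩)
      rw [Scheme.Hom.comp_apply, ← hrg, hz]
    obtain ⟨e⟩ := ContractVert.nonempty_trivial_of_const (J.subschemeι ≫ r) H11Ample.isInvertible_twist hconst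
    obtain ⟨i, hi⟩ := (htriv E).1
      ⟨(Scheme.Modules.pullback J.subschemeι).mapIso τ.symm ≪≫ (Scheme.Modules.pullbackComp _ _).app _ ≪≫ e⟩
    exact ⟨i, hi ▸ hrange.symm ▸ subset_closure rfl⟩
  -- the given curves go to closed points
  have hΓs : ∀ i z, X.hom ((Γ i).ι z) = s := fun i z => by
    rw [← Scheme.Hom.comp_apply, (Γ i).w, Scheme.Hom.comp_apply]
    exact PrimeSpectrum.ext ((congrArg (Ideal.comap (IsLocalRing.residue R))
      (Ideal.eq_bot_of_prime (PrimeSpectrum.asIdeal (R := IsLocalRing.ResidueField R) ((Γ i).curve.hom z)))).trans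
      IsLocalRing.ker_residue)
  have hpt : ∀ i, ∃ P : r.normalization, IsClosed ({P} : Set r.normalization) ∧
      Set.range (((Γ i).ι ≫ g).base : (Γ i).curve.left → r.normalization) = {P} := by
    intro i
    haveI := H28Vert.isProper_curve (Γ i)
    obtain ⟨φ⟩ := (htriv (Γ i)).2 ⟨i, rfl⟩
    obtain ⟨z₀⟩ : Nonempty (Γ i).curve.left := inferInstance
    obtain ⟨j, hj⟩ := hv ((Γ i).ι z₀)
    have hall : ∀ z, (Γ i).ι z ∈ H11Ample.gen L (v j) := by
      have h1 := H11Ample.gen_smul_pullSect (Γ i).ι hL (v j) (isUnit_one (M := Γ((Γ i).curve.left, ⊤)))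
      rw [one_smul] at h1
      rcases ContractCurve.gen_eq_top_or_bot (IsLocalRing.ResidueField R) (Γ i).curve.hom φ
        (H11Ample.pullTop (Γ i).ι (v j)) with h2 | h2
      · intro z
        exact (h1.symm.trans h2).ge (Opens.mem_top z)
      · exact absurd ((h1.symm.trans h2).le (show z₀ ∈ (Γ i).ι ⁻¹ᵁ H11Ample.gen L (v j) from hj)) (by simp)
    have hri : ∀ z, r ((Γ i).ι z) = r ((Γ i).ι z₀) := fun z => by
      refine ContractCurve.subsingleton_range_of_affine (IsLocalRing.ResidueField R) (Γ i).curve.hom
        ((Γ i).ι ≫ r) (H11Ample.isAffineOpen_gen_coord (n := n) (R := R) j) (fun w => ?_) z z₀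
      rw [H11Ample.gen_coord]
      exact (hgen j).ge (hall w)
    have hfinite : (h ⁻¹' {r ((Γ i).ι z₀)}).Finite := h.finite_preimage_singleton _
    have hsub : Set.range ((Γ i).ι ≫ g) ⊆ h ⁻¹' {r ((Γ i).ι z₀)} := by
      rintro _ ⟨z, rfl⟩
      show h (g ((Γ i).ι z)) = _
      rw [← hri z, hrg]
    haveI : DiscreteTopology (h ⁻¹' {r ((Γ i).ι z₀)}) := by
      haveI : Finite (h.fiber (r ((Γ i).ι z₀))) := (h.fiberHomeo _).finite_iff.mpr hfinite.to_subtype
      exact (h.fiberHomeo _).discreteTopology
    have hgi : ∀ z, g ((Γ i).ι z) = g ((Γ i).ι z₀) := fun z =>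
      congrArg Subtype.val ((isPreconnected_range
        (f := fun z => (⟨g ((Γ i).ι z), hsub ⟨z, rfl⟩⟩ : h ⁻¹' {r ((Γ i).ι z₀)}))
        (by exact ((Γ i).ι ≫ g).continuous.subtype_mk _)).subsingleton ⟨z, rfl⟩ ⟨z₀, rfl⟩)
    have hre : Set.range (((Γ i).ι ≫ g).base : (Γ i).curve.left → r.normalization) = {g ((Γ i).ι z₀)} :=
      Set.eq_singleton_iff_unique_mem.2 ⟨⟨z₀, rfl⟩, by rintro _ ⟨z, rfl⟩; exact hgi z⟩
    refine ⟨_, ?_, hre⟩
    have h1 := g.isClosedMap _ (Γ i).ι.isClosedEmbedding.isClosed_range
    rwa [← Set.range_comp, show Set.range (g ∘ (Γ i).ι) = {g ((Γ i).ι z₀)} from hre] at h1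
  choose P hPc hPr using hpt
  have hgΓ : ∀ i, ∀ a ∈ Set.range (Γ i).ι.base, g a = P i := by
    rintro i _ ⟨z, rfl⟩
    exact (hPr i).subset ⟨z, rfl⟩
  set S : Set X.left := ⋃ i, Set.range (Γ i).ι.base
  have himg : g '' S = Set.range P := by
    refine Set.Subset.antisymm ?_ ?_
    · rintro _ ⟨a, ha, rfl⟩
      obtain ⟨i, hi⟩ := Set.mem_iUnion.1 ha
      exact ⟨i, (hgΓ i a hi).symm⟩
    · rintro _ ⟨i, rfl⟩
      obtain ⟨z⟩ : Nonempty (Γ i).curve.left := inferInstance
      exact ⟨(Γ i).ι z, Set.mem_iUnion.2 ⟨i, z, rfl⟩, hgΓ i _ ⟨z, rfl⟩⟩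
  have himgc : IsClosed (g '' S) := by
    rw [himg, ← Set.iUnion_singleton_eq_range]
    exact isClosed_iUnion_of_finite hPc
  have hSc : IsClosed S := isClosed_iUnion_of_finite fun i => (Γ i).ι.isClosedEmbedding.isClosed_range
  -- away from the images the fibres are points
  have hfib : ∀ y, y ∉ g '' S → Subsingleton (g.fiber y) := by
    intro y hy
    haveI : NoetherianSpace (g.fiber y) := (g.fiberι y).isEmbedding.isInducing.noetherianSpace
    haveI : PreconnectedSpace (g ⁻¹' {y} : Set X.left) := Subtype.preconnectedSpace (hconnfib y).isPreconnected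
    haveI : PreconnectedSpace (g.fiber y) :=
      (g.fiberHomeo y).symm.surjective.denseRange.preconnectedSpace (g.fiberHomeo y).symm.continuous
    refine ContractVert.subsingleton_of_no_specialization fun a' b' hab' => ?_
    by_contra hne'
    have hmem : ∀ c, g (g.fiberι y c) = y := fun c => (g.range_fiberι y).subset ⟨c, rfl⟩
    have hab := hab'.map (g.fiberι y).continuous
    have hne : g.fiberι y a' ≠ g.fiberι y b' := fun e => hne' ((g.fiberι y).isEmbedding.injective e)
    by_cases hys : πY y = s
    · obtain ⟨i, hi⟩ := hcurve _ _ (by rw [← hπ, hmem]; exact hys) hab hne (by rw [hmem, hmem])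
      exact hy ⟨_, Set.mem_iUnion.2 ⟨i, hi⟩, hmem a'⟩
    · have hb : X.hom (g.fiberι y b') ≠ s := by rw [← hπ, hmem]; exact hys
      have ha : g.fiberι y a' = genericPoint X.left := by
        by_contra ha
        exact hne (hgenfib _ _ hb ha hab)
      refine hnc fun c hc => ?_
      rw [← ha, hmem]
      have h1 : y ⤳ g c := by
        rw [← hmem a', ha]
        exact (hηsp c).map g.continuous
      obtain ⟨d, hd, hdc⟩ : g c ∈ g '' closure {g.fiberι y b'} :=
        h1.mem_closed (g.isClosedMap _ isClosed_closure) ⟨_, subset_closure rfl, hmem b'⟩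
      have hd' : X.hom d ≠ s := by rw [← hπ, hdc, hπ]; exact hc
      have hb' : g.fiberι y b' ≠ genericPoint X.left := fun e => hne (ha.trans e.symm)
      rw [← hdc, ← hgenfib _ _ hd' hb' (specializes_iff_mem_closure.2 hd), hmem]
  -- the isomorphism
  haveI : IsIso g.fromNormalization := H10ZMT.isIso_fromNormalization g fun V _ =>
    have hb := (ConcreteCategory.isIso_iff_bijective _).1 (happ V)
    ⟨hb.1, fun b _ => hb.2 b⟩
  obtain ⟨V₀, hV₀, hVq⟩ := H10ZMT.exists_open_isIso_quasiFinite g
  haveI := hV₀
  have hle : ∀ y, y ∉ g '' S → y ∈ V₀ := by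
    intro y hy
    obtain ⟨x, rfl⟩ := hsurj y
    refine (hVq x).2 ?_
    rw [Scheme.Hom.quasiFiniteAt_iff_isOpen_singleton_asFiber]
    haveI := hfib _ hy
    exact isOpen_discrete _
  -- the preimage
  have hpre : g ⁻¹' (g '' S) = S := by
    refine Set.Subset.antisymm (fun x hx => ?_) (Set.subset_preimage_image g S)
    by_contra hxS
    rw [himg] at hx
    obtain ⟨i, hi⟩ := hx
    set F := g ⁻¹' ({P i} : Set r.normalization) with hF
    have hFc : IsClosed F := (hPc i).preimage g.continuous
    have hFs : ∀ a ∈ F, X.hom a = s := fun a ha => by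
      rw [← hπ, show g a = P i from ha]
      exact hclosedY _ (hPc i)
    have hiso : ∀ a ∈ F \ S, IsClosed ({a} : Set X.left) ∧ ∀ c ∈ F, c ⤳ a → c = a := by
      intro a ha
      refine ⟨?_, fun c hc hca => ?_⟩
      · obtain ⟨c, hac, hc⟩ := hexcl a
        by_cases e : a = c
        · exact e.symm ▸ hc
        · obtain ⟨l, hl⟩ := hcurve a c (hFs a ha.1) hac e
            ((hac.mem_closed hFc ha.1 : g c = P i).trans (ha.1 : g a = P i).symm)
          exact (ha.2 (Set.mem_iUnion.2 ⟨l, hl⟩)).elim
      · by_contra e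
        obtain ⟨l, hl⟩ := hcurve c a (hFs c hc) hca e ((ha.1 : g a = P i).trans (hc : g c = P i).symm)
        exact ha.2 (hca.mem_closed hSc (Set.mem_iUnion.2 ⟨l, hl⟩))
    obtain ⟨Ts, hTs, hTc, hTi, hcov⟩ := NoetherianSpace.exists_finite_set_isClosed_irreducible hFc
    have hfinA : (F \ S).Finite := by
      refine (hTs.biUnion (t := fun t => {a | t = ({a} : Set X.left)}) fun t _ => ?_).subset fun a ha => ?_
      · refine Set.Subsingleton.finite fun p hp q hq => ?_
        exact Set.singleton_eq_singleton_iff.1 ((hp : t = {p}).symm.trans hq)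
      · obtain ⟨t, ht, hat⟩ := hcov ▸ ha.1
        refine Set.mem_biUnion ht ?_
        have hgp := (hTi t ht).isGenericPoint_genericPoint_closure
        rw [(hTc t ht).closure_eq] at hgp
        have hin : (hTi t ht).genericPoint ∈ F := hcov ▸ Set.mem_sUnion.2 ⟨t, ht, hgp.mem⟩
        have e := (hiso a ha).2 _ hin (hgp.specializes hat)
        show t = {a}
        rw [← hgp.def, e, (hiso a ha).1.closure_eq]
    have hAc : IsClosed (F \ S) := by
      rw [← Set.biUnion_of_singleton (F \ S)]
      exact hfinA.isClosed_biUnion fun a ha => (hiso a ha).1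
    obtain ⟨z⟩ : Nonempty (Γ i).curve.left := inferInstance
    obtain ⟨a, -, h1, h2⟩ := isPreconnected_closed_iff.1 (hconnfib (P i)).isPreconnected S (F \ S) hSc hAc
      (fun a ha => (em (a ∈ S)).imp id fun h' => ⟨ha, h'⟩)
      ⟨(Γ i).ι z, hgΓ i _ ⟨z, rfl⟩, Set.mem_iUnion.2 ⟨i, z, rfl⟩⟩ ⟨x, hi.symm, hi.symm, hxS⟩
    exact h2.2 h1
  -- dimension
  obtain ⟨c, hc, hcne⟩ : ∃ c, X.hom c ≠ s ∧ g c ≠ g (genericPoint X.left) := by
    simpa using hnc
  have hYdim : topologicalKrullDim r.normalization = 2 := by
    refine le_antisymm ((H17.topologicalKrullDim_le_of_specializingMap g g.isClosedMap.specializingMap hsurj).trans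
      hd2) ?_
    obtain ⟨d, hcd, hd⟩ := hexcl c
    have hgd : IsClosed ({g d} : Set r.normalization) := by
      have h1 := g.isClosedMap _ hd
      rwa [Set.image_singleton] at h1
    exact ContractVert.two_le_dim ((hηsp c).map g.continuous) (Ne.symm hcne) (hcd.map g.continuous)
      (fun e => hc (by rw [← hπ, e, hclosedY _ hgd]))
  have hflat : Flat πY := by
    refine H29Curve.flat_of_dominant_normal πY ?_ (fun t => ?_) ?_
    · refine PrimeSpectrum.ext ?_
      rw [← hgenY, hπ, hone _ hXη]
      refine ((hone (genericPoint (Spec (CommRingCat.of R))) fun e => hsne ?_)).symm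
      have h1 : genericPoint (Spec (CommRingCat.of R)) ⤳ (⟨⊥, Ideal.isPrime_bot⟩ : PrimeSpectrum R) :=
        (genericPoint_spec _).specializes trivial
      rw [e] at h1
      have h2 := (PrimeSpectrum.le_iff_specializes _ _).2 h1
      exact le_bot_iff.1 h2
    · refine (H28Neron.EtaleNeron.isNormalScheme_Spec R (fun p _ => ?_) t).2
      haveI := IsLocalization.isDomain_localization (R := R) p.primeCompl_le_nonZeroDivisors
      exact ⟨inferInstance, isIntegrallyClosed_of_isLocalization (Localization.AtPrime p) p.primeCompl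
        p.primeCompl_le_nonZeroDivisors⟩
    · show topologicalKrullDim (PrimeSpectrum R) ≤ 1
      rw [PrimeSpectrum.topologicalKrullDim_eq_ringKrullDim]
      exact (IsDiscreteValuationRing.ringKrullDim_eq_one R).le
  have hamp : CohB1.IsAmple ((Scheme.Modules.pullback h).obj (Twist.twistProjSpace n R 1)) :=
    H11Ample.isAmple_pullback_of_isAffineHom h (H11Ample.isAmple_twistProjSpace n R)
  haveI : QuasiSeparatedSpace r.normalization := H11Ample.quasiSeparatedSpace_of_isAmple hamp
  refine ⟨r.normalization, πY, g, _, hgπ, inferInstance,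
    ContractVert.isIntegrallyClosed_stalk_of_app hnor g hgenY happ, hYdim, hflat,
    H11Proj.isHProjective_of_isAmple πY hamp, inferInstance, inferInstance, happ, hsurj, hamp,
    ⟨(Scheme.Modules.pullbackComp g h).app _ ≪≫ (Scheme.Modules.pullbackCongr hgh).app _ ≪≫ τ⟩,
    fun i => ⟨P i, hPc i, hPr i⟩, hpre, fun V hV => ?_⟩
  refine ContractVert.isIso_restrict_of_le g (V := V₀) fun y hy => hle y fun hy' => ?_
  exact (Set.eq_empty_iff_forall_notMem.1 hV y) ⟨hy, hy'⟩
end Groth.Agent.H28RR.ContractMap
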