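import Groth.Agent.H28RR.CastStalk
import Groth.Agent.H28RR.CastVan
import Groth.Agent.H28RR.ContractMap

/-! # Contracting a projective line of negative self-intersection -/

set_option autoImplicit false
set_option linter.style.haveILetI false
set_option linter.unusedSectionVars false
set_option backward.isDefEq.respectTransparency.types false
set_option maxHeartbeats 4000000

universe u

open CategoryTheory CategoryTheory.Limits AlgebraicGeometry TopologicalSpace
open Groth.Agent

noncomputable section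

namespace Groth.Agent.H28RR.CastMain

/-- Contraction of a vertical projective line of negative self-intersection. -/
theorem exists_contraction (R : Type u) [CommRing R] [IsDomain R] [IsDiscreteValuationRing R]
    (X : Over (Spec (CommRingCat.of R))) (hX : ArSurf.IsArithSurface R X) (E : ArSurf.VertComp R X)
    (k' : Type u) [Field k'] [Algebra (IsLocalRing.ResidueField R) k']
    [FiniteDimensional (IsLocalRing.ResidueField R) k']
    (e : E.curve.left ≅ CohB1.ProjSpace 1 k')
    (he : e.hom ≫ CohB1.ProjSpace.toSpec 1 k' ≫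
      Spec.map (CommRingCat.ofHom (algebraMap (IsLocalRing.ResidueField R) k')) = E.curve.hom)
    (L : X.left.Modules) (hL : ClSub.IsInverseOf L (ClSub.idealMod E.ι.ker)) (d : ℕ) (hd : 1 ≤ d)
    (hself : ArSurf.inter R X L E = -((d : ℤ) * (Module.finrank (IsLocalRing.ResidueField R) k' : ℤ))) :
    ∃ (Y : Over (Spec (CommRingCat.of R))) (f : X ⟶ Y) (y : Y.left) (hy : IsClosed ({y} : Set Y.left)),
      IsIntegral Y.left ∧ (∀ q : Y.left, IsIntegrallyClosed (Y.left.presheaf.stalk q)) ∧
      topologicalKrullDim Y.left = 2 ∧ Flat Y.hom ∧ Neron.IsProjectiveOver R Y ∧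
      Set.range ((E.ι ≫ f.left).base : E.curve.left → Y.left) = {y} ∧
      (f.left ⁻¹ᵁ (⟨{y}ᶜ, hy.isOpen_compl⟩ : Y.left.Opens) : Set X.left) = (Set.range E.ι.base)ᶜ ∧
      IsIso (f.left ∣_ (⟨{y}ᶜ, hy.isOpen_compl⟩ : Y.left.Opens)) ∧
      Module.finrank (IsLocalRing.ResidueField (Y.left.presheaf.stalk y))
        (IsLocalRing.CotangentSpace (Y.left.presheaf.stalk y)) = d + 1 ∧
      ∀ q : Y.left, q ≠ y → IsRegularLocalRing (Y.left.presheaf.stalk q) := by
  classical
  obtain ⟨hreg, hint, hdim, hflat, hproj⟩ := id hX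
  haveI := hint
  haveI := hflat
  haveI : IsProper X.hom := H28Vert.isProper_of_isArithSurface hX
  haveI : IsLocallyNoetherian X.left := LocallyOfFiniteType.isLocallyNoetherian X.hom
  haveI : CompactSpace X.left := QuasiCompact.compactSpace_of_compactSpace X.hom
  haveI : IsNoetherian X.left := ⟨⟩
  haveI : X.left.IsSeparated := ⟨by
    rw [← terminal.comp_from X.hom]
    infer_instance⟩
  have hnor : ∀ x : X.left, IsIntegrallyClosed (X.left.presheaf.stalk x) := fun x =>
    (H29Ref.isNormalScheme_of_regular hreg x).2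
  obtain ⟨nc, Γc, hΓc⟩ := H28Vert.exists_isComponentList' (R := R) (X := X) hdim
  have hker : ∀ Δ : ArSurf.VertComp R X, BlowUp.IsEffCartierIdeal Δ.ι.ker := fun Δ =>
    H28Vert.isEffCartierIdeal_ker_of_mem hreg Δ
      (H28Vert.mem_fibreComponents (H28Vert.dim_fibre_le_one hΓc) Δ)
  haveI := H28Vert.isProper_curve E
  haveI : IsProper (E.curve.left ↘ Spec (CommRingCat.of (IsLocalRing.ResidueField R))) :=
    inferInstanceAs (IsProper E.curve.hom)
  -- numbers
  obtain ⟨np, ip, hip, hipX⟩ := hproj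
  haveI := hip
  obtain ⟨M₀, hM₀⟩ := H8Props.Ample.exists_isAmple_projSpaceOver np (S := Spec (CommRingCat.of R))
    (H17.LocalProj.exists_isAmple_of_isAffine _)
  let H : X.left.Modules := (Scheme.Modules.pullback ip).obj M₀
  have hH : CohB1.IsAmple H := H11Ample.isAmple_pullback_of_isAffineHom ip hM₀
  have hHi : PicF.IsInvertible H := hH.1
  have hLi : PicF.IsInvertible L := CastVan.isInvertible_inverse E (hker E) hL
  let N : ℤ := (Module.finrank (IsLocalRing.ResidueField R) k' : ℤ)
  have hN : 0 < N := Int.natCast_pos.2 (Module.finrank_pos (R := IsLocalRing.ResidueField R) (M := k'))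
  have hd' : (1 : ℤ) ≤ d := by exact_mod_cast hd
  have hneg : ArSurf.inter R X L E < 0 := by rw [hself]; nlinarith
  obtain ⟨δz, hδz⟩ := CastLine.finrank_dvd _ e E.dim_eq.le he (H11Ample.isInvertible_pullback E.ι hHi)
  have hHE : ArSurf.inter R X H E = N * δz := hδz
  have hδpos : 0 < δz := by
    have h := ContractArtin.inter_pos_of_ample E hH
    rw [hHE] at h
    exact pos_of_mul_pos_right h hN.le
  obtain ⟨δ, rfl⟩ := Int.eq_ofNat_of_zero_le hδpos.le
  have hδ : 0 < δ := by exact_mod_cast hδpos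
  obtain ⟨m₁, hm₁, hgg₁⟩ := H22Alg.NakaiSemi.exists_gg_of_gens hHi fun x => by
    obtain ⟨-, -, hx⟩ := H11Ample.isAmple_iff.1 hH
    obtain ⟨j, w, hj, hxw, -⟩ := hx x
    exact ⟨j, w, hj, hxw⟩
  obtain ⟨k₀, hk₀⟩ := H10Coh.Tw.exists_vanishing_ample X.hom hH (Coh.structureModule X.left)
    (H10Coh.isCoh_structureModule' X.left)
  let t := m₁ * (k₀ + 2)
  let m := d * t
  let a := t * δ
  have ht2 : k₀ + 2 ≤ t := Nat.le_mul_of_pos_left _ hm₁
  have hm0 : 0 < m := Nat.mul_pos hd (by omega)
  have hmk : k₀ ≤ m := le_trans (by omega) (Nat.le_mul_of_pos_left t hd)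
  have ha2 : 2 ≤ a := le_trans (by omega) (Nat.le_mul_of_pos_right t hδ)
  have hpow : ∀ j, PicF.IsInvertible (CohB1.tensorPow H j) := H28Vert.isInvertible_tensorPow hHi
  have hbal : (m : ℤ) * ArSurf.inter R X H E + (a : ℤ) * ArSurf.inter R X L E = 0 := by
    rw [hHE, hself]
    simp only [m, a, N]
    push_cast
    ring
  have hvanH : ∀ j, k₀ ≤ j → Subsingleton (Coh.HH X.left (CohB1.tensorPow H j) 1) := fun j hj => by
    haveI := hk₀ j hj 1 Nat.one_pos
    exact H10Coh.subsingleton_HH_of_iso (H10Coh.Tw.leftUnitIso _) 1 (H10Coh.HHEquiv _ 1).toEquiv.subsingleton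
  have hHgg : Curv2.IsGloballyGenerated (CohB1.tensorPow H m) := by
    refine H22Alg.DimOnePencil.isGloballyGenerated_of_gen (hpow m) fun x => ?_
    obtain ⟨g₁, hg₁⟩ := H11Ample.exists_mem_gen_of_isGloballyGenerated (hpow m₁) hgg₁ x
    obtain ⟨v, hv⟩ := H22Alg.NakaiGen.exists_gen_mul hHi hg₁ (d * (k₀ + 2))
    have e' : m₁ * (d * (k₀ + 2)) = m := by simp only [m, t]; ring
    exact e' ▸ ⟨v, hv⟩
  -- the module
  let G := CohB1.tensorMod (CohB1.tensorPow H m) (CohB1.tensorPow L a)
  have hG : PicF.IsInvertible G := H11Ample.isInvertible_tensor (hpow m) (H28Vert.isInvertible_tensorPow hLi a)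
  have hinter : ∀ E' : ArSurf.VertComp R X, ArSurf.inter R X G E' =
      (m : ℤ) * ArSurf.inter R X H E' + (a : ℤ) * ArSurf.inter R X L E' := fun E' => by
    rw [CastVan.inter_twist E' (hpow m) hLi a, H28Vert.inter_tensorPow E' hHi m]
  obtain ⟨⟨φE⟩, hgG⟩ := CastVan.trivial_and_gg E e he (hker E) hL hneg (hpow m) (hvanH m hmk) hHgg a (by
    rw [H28Vert.inter_tensorPow E hHi m]; exact hbal)
  let Γ : Fin 1 → ArSurf.VertComp R X := fun _ => E
  have htriv : ∀ E' : ArSurf.VertComp R X,
      Nonempty ((Scheme.Modules.pullback E'.ι).obj G ≅ Coh.structureModule E'.curve.left) ↔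
        ∃ i, Set.range (E'.ι.base : E'.curve.left → X.left) = Set.range (Γ i).ι.base := by
    intro E'
    constructor
    · rintro ⟨ψ⟩
      by_contra hne
      push Not at hne
      have h0 := (hinter E').symm.trans (ContractArtin.inter_congr_pullback E' ψ)
      have h1 : 0 ≤ ArSurf.inter R X L E' :=
        (H28Vert.inter_nonneg E' E.ι.ker (H28Vert.genericPoint_notMem E' E (hne 0)) hL).1
      have h2 := mul_pos (Int.natCast_pos.2 hm0) (ContractArtin.inter_pos_of_ample E' hH)
      have h3 : 0 ≤ (a : ℤ) * ArSurf.inter R X L E' := mul_nonneg (Nat.cast_nonneg _) h1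
      omega
    · rintro ⟨i, hi⟩
      obtain ⟨q, hq⟩ := H17.exists_lift_of_range_subset E'.ι E.ι hi.le
      exact ⟨eqToIso (by rw [← hq]) ≪≫ ((Scheme.Modules.pullbackComp q E.ι).app G).symm ≪≫
        (Scheme.Modules.pullback q).mapIso φE ≪≫ H16Derived.KFlat.Stalk.structurePullbackIso q⟩
  -- the generic fibre
  haveI : IsOpenImmersion (Neron.genPt R) := H28Vert.isOpenImmersion_generic (R := R)
  let j : ((Neron.genericFibre R).obj X).left ⟶ X.left := pullback.fst X.hom (Neron.genPt R)
  haveI : IsOpenImmersion j := inferInstanceAs (IsOpenImmersion (pullback.fst X.hom (Neron.genPt R)))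
  have hsq : IsPullback j (pullback.snd X.hom (Neron.genPt R)) X.hom (Neron.genPt R) := IsPullback.of_hasPullback _ _
  obtain ⟨e₀, -⟩ : genericPoint X.left ∈ j.opensRange := by
    refine H28Vert.mem_opensRange_of_isPullback hsq _ (⟨⊥, Ideal.isPrime_bot⟩ : PrimeSpectrum (FractionRing R)) ?_
    rw [H28Vert.hom_genericPoint_eq_bot]
    exact PrimeSpectrum.ext (Ideal.comap_bot_of_injective _ (IsFractionRing.injective R (FractionRing R))).symm
  haveI : Nonempty ((Neron.genericFibre R).obj X).left := ⟨e₀⟩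
  haveI : IsIntegral ((Neron.genericFibre R).obj X).left := isIntegral_of_isOpenImmersion j
  haveI : IsProper (((Neron.genericFibre R).obj X).left ↘ Spec (CommRingCat.of (FractionRing R))) :=
    MorphismProperty.pullback_snd (P := @IsProper) X.hom (Neron.genPt R) ‹_›
  haveI : IsAffineHom j := MorphismProperty.pullback_fst (P := @IsAffineHom) X.hom (Neron.genPt R) inferInstance
  have hdeg : 0 < ArSurf.curveDeg (FractionRing R) ((Neron.genericFibre R).obj X).left
      ((Scheme.Modules.pullback j).obj G) := by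
    obtain ⟨s, hs⟩ := CastVan.exists_section_inverse E (hker E) hL
    have hout : ∀ w, j w ∈ E.ι.ker.support.compl := fun w hw => by
      have hw' : j w ∈ Set.range E.ι := by
        rw [← E.ι.isClosedEmbedding.isClosed_range.closure_eq, ← Scheme.Hom.support_ker]
        exact hw
      obtain ⟨c, hc⟩ := hw'
      have h1 : X.hom (j w) = IsLocalRing.closedPoint R := by
        rw [← hc, ← Scheme.Hom.comp_apply, E.w, Scheme.Hom.comp_apply]
        exact IsLocalRing.PrimeSpectrum.comap_residue R _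
      have h2 : X.hom (j w) = (⊥ : PrimeSpectrum R) := by
        rw [← Scheme.Hom.comp_apply, hsq.w, Scheme.Hom.comp_apply]
        refine PrimeSpectrum.ext ((congrArg (Ideal.comap (algebraMap R (FractionRing R))) (Ideal.eq_bot_of_prime
          (PrimeSpectrum.asIdeal (R := FractionRing R) (pullback.snd X.hom (Neron.genPt R) w)))).trans ?_)
        exact Ideal.comap_bot_of_injective _ (IsFractionRing.injective R (FractionRing R))
      exact IsDiscreteValuationRing.not_a_field R (congrArg PrimeSpectrum.asIdeal (h1.symm.trans h2))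
    have hgen : H11Ample.gen ((Scheme.Modules.pullback j).obj L) (H11Ample.pullTop j s) = ⊤ := by
      have h1 := H11Ample.gen_smul_pullSect j hLi s
        (isUnit_one (M := Γ(((Neron.genericFibre R).obj X).left, ⊤)))
      rw [one_smul, hs] at h1
      exact h1.trans (top_unique fun w _ => hout w)
    obtain ⟨τ⟩ := LeadBC.TrivInv.nonempty_iso_of_gen_eq_top _ hgen
    let u := H10Coh.Tw.powUnitIso (X := ((Neron.genericFibre R).obj X).left) a
    let eG : (Scheme.Modules.pullback j).obj G ≅ CohB1.tensorPow ((Scheme.Modules.pullback j).obj H) m :=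
      (H16Derived.KFlat.Stalk.pullTensorLIso j (CohB1.tensorPow L a)).app (CohB1.tensorPow H m) ≪≫
        PicGrp.tensorModIso (H11Ample.exists_iso_pullback_tensorPow j hHi m).some
          ((H11Ample.exists_iso_pullback_tensorPow j hLi a).some ≪≫ H10Coh.Tw.tensorPowIso τ a ≪≫ u) ≪≫
        H10Coh.Tw.rightUnitIso _
    rw [ContractArtin.curveDeg_congr (FractionRing R) _ eG]
    refine ContractArtin.curveDeg_pos_of_ample _ _ (ContractArtin.dim_genericFibre_eq_one hdim) ?_
    exact (H11Ample.isAmple_tensorPow_iff (H11Ample.isInvertible_pullback j hHi) m hm0).1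
      (H11Ample.isAmple_pullback_of_isAffineHom j hH)
  obtain ⟨Y, πY, g, M, hgπ, hYint, hYnor, hYdim, hYflat, hYproj, hπp, hgp, happ, hsurj, hM, ⟨ψ⟩, hpt, hpre, hiso⟩ :=
    ContractMap.exists_contraction R X hnor hdim ⟨np, ip, hip, hipX⟩ Γ
      (fun i i' _ => Subsingleton.elim i i') G hG hgG hdeg htriv
  obtain ⟨y, hyc, hyr⟩ := hpt 0
  haveI := hgp
  have hU : (⋃ i, Set.range (Γ i).ι.base) = Set.range E.ι.base := Set.ext fun x =>
    ⟨fun h => by obtain ⟨i, hi⟩ := Set.mem_iUnion.1 h; exact hi, fun h => Set.mem_iUnion.2 ⟨0, h⟩⟩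
  have himg : g.base '' Set.range E.ι.base = {y} := by
    rw [← Set.range_comp]
    exact hyr
  have hpre' : g.base ⁻¹' {y} = Set.range E.ι.base := by
    rw [← himg, ← hU]
    exact hpre
  haveI : IsIntegral (Over.mk πY).left := hYint
  let O : Y.Opens := ⟨{y}ᶜ, hyc.isOpen_compl⟩
  haveI hisoO : IsIso (g ∣_ O) := hiso O (by
    have h : g.base '' (⋃ i, Set.range (Γ i).ι.base) = {y} := by rw [hU]; exact himg
    refine Eq.trans ?_ (Set.compl_inter_self ({y} : Set Y))
    rw [← h]
    exact congrArg (· ∩ _) (congrArg compl h).symm)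
  refine ⟨Over.mk πY, Over.homMk g hgπ, y, hyc, hYint, hYnor, hYdim, hYflat, hYproj, hyr, ?_, hisoO, ?_, ?_⟩
  · show g.base ⁻¹' ({y}ᶜ) = _
    rw [Set.preimage_compl, hpre']
  · -- the local ring at the point
    have hP : ∀ n, Nonempty ((Scheme.Modules.pullback g).obj (CohB1.tensorPow M n) ≅
        CohB1.tensorMod (CohB1.tensorPow H (m * n)) (CohB1.tensorPow L (a * n))) := fun n => by
      obtain ⟨i1⟩ := H11Ample.exists_iso_pullback_tensorPow g hM.1 n
      obtain ⟨i2⟩ := H11Ample.exists_iso_tensorPow_tensor (hpow m) (H28Vert.isInvertible_tensorPow hLi a) n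
      obtain ⟨i3⟩ := H22Alg.NakaiGen.nonempty_tensorPow_mul H m n
      obtain ⟨i4⟩ := H22Alg.NakaiGen.nonempty_tensorPow_mul L a n
      exact ⟨i1 ≪≫ H10Coh.Tw.tensorPowIso ψ n ≪≫ i2.symm ≪≫ PicGrp.tensorModIso i3 i4⟩
    obtain ⟨ρ⟩ := id hL
    have hmn : ∀ {n : ℕ}, 0 < n → k₀ ≤ m * n := fun hn => hmk.trans (Nat.le_mul_of_pos_right m hn)
    have hsplit : ∀ {n : ℕ}, 0 < n → ∃ l, a * n = l + 2 := fun {n} hn =>
      ⟨a * n - 2, (Nat.sub_add_cancel (ha2.trans (Nat.le_mul_of_pos_right a hn))).symm⟩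
    have hintP : ∀ {n l i : ℕ}, a * n = l + i → ArSurf.inter R X
        (CohB1.tensorMod (CohB1.tensorPow H (m * n)) (CohB1.tensorPow L l)) E = (i : ℤ) * ((d : ℤ) * N) := by
      intro n l i hl
      rw [CastVan.inter_twist E (hpow _) hLi l, H28Vert.inter_tensorPow E hHi (m * n)]
      have hl' : (a : ℤ) * n = l + i := by exact_mod_cast hl
      have hs : ArSurf.inter R X L E = -((d : ℤ) * N) := hself
      push_cast
      linear_combination (n : ℤ) * hbal - (ArSurf.inter R X L E) * hl' - (i : ℤ) * hs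
    have hvan : ∀ {n l i : ℕ}, 0 < n → a * n = l + i → Subsingleton (Coh.HH X.left
        (CohB1.tensorMod (CohB1.tensorPow H (m * n)) (CohB1.tensorPow L l)) 1) := by
      intro n l i hn hl
      refine CastVan.subsingleton_H1 E e he (hker E) hL hneg (hpow _) (hvanH _ (hmn hn)) l ?_
      have h := hintP hl
      rw [CastVan.inter_twist E (hpow _) hLi l] at h
      rw [h]
      have h0 : (0 : ℤ) ≤ (i : ℤ) * ((d : ℤ) * N) :=
        mul_nonneg (Nat.cast_nonneg _) (mul_nonneg (Nat.cast_nonneg _) hN.le)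
      show -N ≤ _
      linarith
    refine CastStalk.finrank_cotangent g happ hM E.ι E.dim_eq.le e (hker E) hpre' d ?_ ?_ ?_ ?_
    · intro n hn
      obtain ⟨l, hl⟩ := hsplit hn
      obtain ⟨i⟩ := hP n
      exact H10Coh.subsingleton_HH_of_iso
        (PicGrp.tensorModIso (Iso.refl _) (i ≪≫ eqToIso (by rw [hl])) ≪≫ CastVan.stepIso E ρ (l + 1)).symm 1
        (hvan (i := 1) hn hl)
    · intro n hn
      obtain ⟨l, hl⟩ := hsplit hn
      obtain ⟨i⟩ := hP n
      exact H10Coh.subsingleton_HH_of_iso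
        (PicGrp.tensorModIso (Iso.refl _) (PicGrp.tensorModIso (Iso.refl _) (i ≪≫ eqToIso (by rw [hl])) ≪≫
          CastVan.stepIso E ρ (l + 1)) ≪≫ CastVan.stepIso E ρ l).symm 1 (hvan (i := 2) hn hl)
    · intro n t hn ht
      obtain ⟨i1⟩ := H11Ample.exists_iso_pullback_tensorPow g (H11Ample.isInvertible_tensorPow hM.1 n) t
      obtain ⟨i2⟩ := H22Alg.NakaiGen.nonempty_tensorPow_mul M n t
      obtain ⟨i3⟩ := hP (n * t)
      exact H10Coh.subsingleton_HH_of_iso (i1.symm ≪≫ (Scheme.Modules.pullback g).mapIso i2 ≪≫ i3).symm 1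
        (hvan (i := 0) (Nat.mul_pos hn ht) rfl)
    · intro n hn
      obtain ⟨l, hl⟩ := hsplit hn
      obtain ⟨i⟩ := hP n
      let F := CohB1.tensorMod (CohB1.tensorPow H (m * n)) (CohB1.tensorPow L (l + 1))
      have hF : PicF.IsInvertible F := H11Ample.isInvertible_tensor (hpow _) (H28Vert.isInvertible_tensorPow hLi _)
      obtain ⟨φ⟩ := CastLine.exists_twist_of_deg (IsLocalRing.ResidueField R) e E.dim_eq.le he
        (H11Ample.isInvertible_pullback E.ι hF) (j := (d : ℤ))
        ((hintP (i := 1) hl).trans (by simp only [N]; push_cast; ring))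
      exact ⟨(Scheme.Modules.pullback E.ι).mapIso
        (PicGrp.tensorModIso (Iso.refl _) (i ≪≫ eqToIso (by rw [hl])) ≪≫ CastVan.stepIso E ρ (l + 1)) ≪≫ φ⟩
  · intro q hq
    change q ≠ y at hq
    let x' := (inv (g ∣_ O)) ⟨q, hq⟩
    have hx : (g ∣_ O) x' = ⟨q, hq⟩ := by
      show (inv (g ∣_ O) ≫ (g ∣_ O)) ⟨q, hq⟩ = _
      rw [IsIso.inv_hom_id]
      rfl
    have hgx : g x'.1 = q := by
      have h := congrArg Subtype.val hx
      rwa [morphismRestrict_base] at h
    have harr : IsIso (g.stalkMap x'.1) := by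
      have h : IsIso ((g ∣_ O).stalkMap x') := inferInstance
      rw [← MorphismProperty.isomorphisms.iff] at h ⊢
      exact ((MorphismProperty.isomorphisms CommRingCat).arrow_mk_iso_iff (morphismRestrictStalkMap g O x')).1 h
    haveI := hreg x'.1
    exact hgx ▸ IsRegularLocalRing.of_ringEquiv (asIso (g.stalkMap x'.1)).commRingCatIsoToRingEquiv.symm

end Groth.Agent.H28RR.CastMain
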