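import Groth.Agent.H28RR.CastCocycle

/-! # The square of an invertible ideal generated by two sections -/

set_option autoImplicit false
set_option linter.style.haveILetI false
set_option linter.unusedSectionVars false
set_option backward.isDefEq.respectTransparency.types false

universe u

open CategoryTheory CategoryTheory.Limits AlgebraicGeometry Opposite TopologicalSpace

noncomputable section

namespace Groth.Agent.H28RR.CastSquare

open CastCocycle

variable {X : Scheme.{u}} (I : X.IdealSheafData)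

theorem map_germ_ideal {A D : X.Opens} (hA : IsAffineOpen A) (hD : IsAffineOpen D) {x : X} (hxA : x ∈ A) (hxD : x ∈ D) :
    (I.ideal ⟨A, hA⟩).map (X.presheaf.germ A x hxA).hom = (I.ideal ⟨D, hD⟩).map (X.presheaf.germ D x hxD).hom := by
  obtain ⟨D', hD', hxD', hle⟩ := exists_isAffineOpen_mem_and_subset (U := A ⊓ D) (x := x) ⟨hxA, hxD⟩
  have h1 : ∀ (B : X.Opens) (hB : IsAffineOpen B) (hxB : x ∈ B) (hle : D' ≤ B),
      (I.ideal ⟨B, hB⟩).map (X.presheaf.germ B x hxB).hom = (I.ideal ⟨D', hD'⟩).map (X.presheaf.germ D' x hxD').hom := by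
    intro B hB hxB hle
    rw [← I.map_ideal (U := ⟨D', hD'⟩) (V := ⟨B, hB⟩) hle, Ideal.map_map]
    congr 1
    exact RingHom.ext fun z => (TopCat.Presheaf.germ_res_apply X.presheaf (homOfLE hle) x hxD' z).symm
  rw [h1 A hA hxA (fun z hz => (hle hz).1), h1 D hD hxD (fun z hz => (hle hz).2)]

/-- Generators of an ideal sheaf are local. -/
theorem ideal_eq_span {A : X.Opens} (hA : IsAffineOpen A) (S : Set Γ(X, A))
    (h : ∀ x ∈ A, ∃ (D : X.Opens) (hD : IsAffineOpen D) (hle : D ≤ A), x ∈ D ∧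
      I.ideal ⟨D, hD⟩ = Ideal.span ((X.presheaf.map (homOfLE hle).op) '' S)) :
    I.ideal ⟨A, hA⟩ = Ideal.span S := by
  refine hA.ideal_ext_iff.2 fun x hx => ?_
  obtain ⟨D, hD, hle, hxD, hI⟩ := h x hx
  rw [map_germ_ideal I hA hD hx hxD, hI, ← Ideal.map_span, Ideal.map_map]
  congr 1
  exact RingHom.ext fun z => TopCat.Presheaf.germ_res_apply X.presheaf (homOfLE hle) x hxD z

/-- Membership in a power of an ideal sheaf is local. -/
theorem mem_pow_of_local {A : X.Opens} (hA : IsAffineOpen A) (n : ℕ) {s : Γ(X, A)}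
    (h : ∀ x ∈ A, ∃ (D : X.Opens) (hD : IsAffineOpen D) (hle : D ≤ A), x ∈ D ∧
      X.presheaf.map (homOfLE hle).op s ∈ I.ideal ⟨D, hD⟩ ^ n) :
    s ∈ I.ideal ⟨A, hA⟩ ^ n := by
  suffices h' : I.ideal ⟨A, hA⟩ ^ n ⊔ Ideal.span {s} = I.ideal ⟨A, hA⟩ ^ n by
    rw [← h']
    exact Ideal.mem_sup_right (Ideal.mem_span_singleton_self s)
  refine hA.ideal_ext_iff.2 fun x hx => ?_
  obtain ⟨D, hD, hle, hxD, hs⟩ := h x hx
  rw [Ideal.map_sup, sup_eq_left, Ideal.map_span, Set.image_singleton, Ideal.span_le, Set.singleton_subset_iff,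
    Ideal.map_pow, map_germ_ideal I hA hD hx hxD, ← Ideal.map_pow, SetLike.mem_coe,
    ← TopCat.Presheaf.germ_res_apply X.presheaf (homOfLE hle) x hxD s]
  exact Ideal.mem_map_of_mem _ hs

theorem exists_relation {C : Type*} [CommRing C] [IsDomain C] {a b e z₁ z₂ : C}
    (hab : Ideal.span ({a, b} : Set C) = Ideal.span {e}) (hne : a ≠ 0 ∨ b ≠ 0)
    (h₁ : z₁ ∈ Ideal.span ({e} : Set C)) (h₂ : z₂ ∈ Ideal.span ({e} : Set C)) (h : a * z₁ + b * z₂ = 0) :
    ∃ t, z₁ = b * t ∧ z₂ = -(a * t) := by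
  obtain ⟨α, hα⟩ := Ideal.mem_span_singleton'.1 (hab ▸ Ideal.subset_span (by simp) : a ∈ Ideal.span ({e} : Set C))
  obtain ⟨β, hβ⟩ := Ideal.mem_span_singleton'.1 (hab ▸ Ideal.subset_span (by simp) : b ∈ Ideal.span ({e} : Set C))
  obtain ⟨ξ, hξ⟩ := Ideal.mem_span_singleton'.1 h₁
  obtain ⟨η, hη⟩ := Ideal.mem_span_singleton'.1 h₂
  have he : e ≠ 0 := by
    rintro rfl
    rw [mul_zero] at hα hβ
    exact hne.elim (fun h => h hα.symm) fun h => h hβ.symm
  obtain ⟨u, v, huv⟩ := Ideal.mem_span_pair.1 (hab ▸ Ideal.mem_span_singleton_self e : e ∈ Ideal.span ({a, b} : Set C))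
  subst hα hβ hξ hη
  have h1 : u * α + v * β = 1 := mul_right_cancel₀ he (by linear_combination huv)
  have h2 : α * ξ + β * η = 0 := by
    refine (mul_eq_zero.1 (show (α * ξ + β * η) * (e * e) = 0 by linear_combination h)).resolve_right (mul_ne_zero he he)
  exact ⟨v * ξ - u * η, by linear_combination (-(ξ * e)) * h1 + u * e * h2,
    by linear_combination (-(η * e)) * h1 + v * e * h2⟩

theorem span_res {W D D' : X.Opens} {hD : IsAffineOpen D} (hD' : IsAffineOpen D') (hle : D ≤ W) (h : D' ≤ D)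
    {a b : Γ(X, W)}
    (hI : I.ideal ⟨D, hD⟩ = Ideal.span {X.presheaf.map (homOfLE hle).op a, X.presheaf.map (homOfLE hle).op b}) :
    I.ideal ⟨D', hD'⟩ =
      Ideal.span {X.presheaf.map (homOfLE (h.trans hle)).op a, X.presheaf.map (homOfLE (h.trans hle)).op b} := by
  rw [← H10Coh.rres_rres hle h a, ← H10Coh.rres_rres hle h b, ← I.map_ideal (U := ⟨D', hD'⟩) (V := ⟨D, hD⟩) h, hI,
    Ideal.map_span, Set.image_pair]
  rfl

variable [IsIntegral X]

/-- An element of the square of an invertible ideal generated by two sections is a combination of these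
with coefficients in the ideal, provided cocycles of functions are coboundaries. -/
theorem exists_combination {W : X.Opens} (hη : genericPoint X ∈ W) {ι : Type u} (A : ι → X.Opens)
    (hA : ∀ i, IsAffineOpen (A i)) (hAη : ∀ i, genericPoint X ∈ A i) (hAW : ∀ i, A i ≤ W)
    (hcov : ∀ x ∈ W, ∃ i, x ∈ A i)
    (hsplit : ∀ c : ι → ι → X.functionField, (∀ i j, Reg (A i ⊓ A j) (c i j)) → (∀ i j k, c i j + c j k = c i k) →
      ∃ h : ι → X.functionField, (∀ i, Reg (A i) (h i)) ∧ ∀ i j, h i - h j = c i j)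
    (a b : Γ(X, W)) (hne : a ≠ 0 ∨ b ≠ 0)
    (hab : ∀ x ∈ W, ∃ (D : X.Opens) (hD : IsAffineOpen D) (hle : D ≤ W), x ∈ D ∧
      (∃ e, I.ideal ⟨D, hD⟩ = Ideal.span {e}) ∧
      I.ideal ⟨D, hD⟩ = Ideal.span {X.presheaf.map (homOfLE hle).op a, X.presheaf.map (homOfLE hle).op b})
    (c : Γ(X, W))
    (hc : ∀ x ∈ W, ∃ (D : X.Opens) (hD : IsAffineOpen D) (hle : D ≤ W), x ∈ D ∧
      X.presheaf.map (homOfLE hle).op c ∈ I.ideal ⟨D, hD⟩ ^ 2) :
    ∃ x y : Γ(X, W),
      (∀ (D : X.Opens) (hD : IsAffineOpen D) (hle : D ≤ W),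
        X.presheaf.map (homOfLE hle).op x ∈ I.ideal ⟨D, hD⟩ ∧ X.presheaf.map (homOfLE hle).op y ∈ I.ideal ⟨D, hD⟩) ∧
      c = a * x + b * y := by
  classical
  let F := fK W hη
  -- small opens
  have hsmall : ∀ (O : X.Opens), O ≤ W → ∀ x ∈ O, ∃ (D : X.Opens) (hD : IsAffineOpen D) (hle : D ≤ W), D ≤ O ∧
      x ∈ D ∧ (∃ e, I.ideal ⟨D, hD⟩ = Ideal.span {e}) ∧
      I.ideal ⟨D, hD⟩ = Ideal.span {X.presheaf.map (homOfLE hle).op a, X.presheaf.map (homOfLE hle).op b} := by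
    intro O hO x hx
    obtain ⟨D, hD, hle, hxD, ⟨e, he⟩, hI⟩ := hab x (hO hx)
    obtain ⟨D', hD', hxD', hle'⟩ := exists_isAffineOpen_mem_and_subset (U := D ⊓ O) (x := x) ⟨hxD, hx⟩
    have h1 : D' ≤ D := fun z hz => (hle' hz).1
    refine ⟨D', hD', h1.trans hle, fun z hz => (hle' hz).2, hxD', ⟨X.presheaf.map (homOfLE h1).op e, ?_⟩, ?_⟩
    · rw [← I.map_ideal (U := ⟨D', hD'⟩) (V := ⟨D, hD⟩) h1, he, Ideal.map_span, Set.image_singleton]
      rfl
    · exact span_res I hD' hle h1 hI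
  -- decompositions
  have hdec : ∀ i, ∃ x y : Γ(X, A i), x ∈ I.ideal ⟨A i, hA i⟩ ∧ y ∈ I.ideal ⟨A i, hA i⟩ ∧
      X.presheaf.map (homOfLE (hAW i)).op c =
        X.presheaf.map (homOfLE (hAW i)).op a * x + X.presheaf.map (homOfLE (hAW i)).op b * y := by
    intro i
    have hI : I.ideal ⟨A i, hA i⟩ =
        Ideal.span {X.presheaf.map (homOfLE (hAW i)).op a, X.presheaf.map (homOfLE (hAW i)).op b} :=
      ideal_eq_span I (hA i) _ fun x hx => by
        obtain ⟨D, hD, hle, hDO, hxD, -, hI⟩ := hsmall (A i) (hAW i) x hx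
        exact ⟨D, hD, hDO, hxD, hI.trans (by rw [Set.image_pair, H10Coh.rres_rres, H10Coh.rres_rres])⟩
    have hc2 : X.presheaf.map (homOfLE (hAW i)).op c ∈ I.ideal ⟨A i, hA i⟩ ^ 2 :=
      mem_pow_of_local I (hA i) 2 fun x hx => by
        obtain ⟨D, hD, hle, hxD, hcD⟩ := hc x (hAW i hx)
        obtain ⟨D', hD', hxD', hle'⟩ := exists_isAffineOpen_mem_and_subset (U := D ⊓ A i) (x := x) ⟨hxD, hx⟩
        have h1 : D' ≤ D := fun z hz => (hle' hz).1
        refine ⟨D', hD', fun z hz => (hle' hz).2, hxD', ?_⟩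
        rw [H10Coh.rres_rres, ← H10Coh.rres_rres hle h1, ← I.map_ideal (U := ⟨D', hD'⟩) (V := ⟨D, hD⟩) h1,
          ← Ideal.map_pow]
        exact Ideal.mem_map_of_mem _ hcD
    rw [pow_two] at hc2
    nth_rewrite 1 [hI] at hc2
    rw [Ideal.span_insert, Ideal.sup_mul, Submodule.mem_sup] at hc2
    obtain ⟨u, hu, v, hv, huv⟩ := hc2
    obtain ⟨x, hx, rfl⟩ := Ideal.mem_span_singleton_mul.1 hu
    obtain ⟨y, hy, rfl⟩ := Ideal.mem_span_singleton_mul.1 hv
    exact ⟨x, y, hx, hy, huv.symm⟩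
  choose x y hx hy hxy using hdec
  let ξ : ι → X.functionField := fun i => fK (A i) (hAη i) (x i)
  let υ : ι → X.functionField := fun i => fK (A i) (hAη i) (y i)
  have hFne : F a ≠ 0 ∨ F b ≠ 0 :=
    hne.imp (fun h e => h (fK_injective hη (e.trans (map_zero _).symm)))
      (fun h e => h (fK_injective hη (e.trans (map_zero _).symm)))
  have heq : ∀ i, F c = F a * ξ i + F b * υ i := fun i => by
    have h1 := congrArg (fK (A i) (hAη i)) (hxy i)
    rw [map_add, map_mul, map_mul, fK_res, fK_res, fK_res] at h1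
    exact h1
  have hloc : ∀ i j, ∀ p ∈ A i ⊓ A j, ∃ (D : X.Opens), p ∈ D ∧ D ≤ A i ⊓ A j ∧
      ∃ h, Reg D h ∧ ξ i - ξ j = F b * h ∧ υ i - υ j = -(F a * h) := by
    intro i j p hp
    obtain ⟨D, hD, hle, hDO, hpD, ⟨e, he⟩, hI⟩ := hsmall (A i ⊓ A j) (inf_le_left.trans (hAW i)) p hp
    have hηD : genericPoint X ∈ D := ((genericPoint_spec X).specializes trivial).mem_open D.2 hpD
    haveI : Nonempty D := ⟨⟨p, hpD⟩⟩
    have hz : ∀ (z : ∀ i, Γ(X, A i)), (∀ i, z i ∈ I.ideal ⟨A i, hA i⟩) →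
        X.presheaf.map (homOfLE (hDO.trans inf_le_left)).op (z i) -
          X.presheaf.map (homOfLE (hDO.trans inf_le_right)).op (z j) ∈ Ideal.span ({e} : Set Γ(X, D)) := by
      intro z hz
      rw [← he]
      refine Ideal.sub_mem _ ?_ ?_
      · rw [← I.map_ideal (U := ⟨D, hD⟩) (V := ⟨A i, hA i⟩) (hDO.trans inf_le_left)]
        exact Ideal.mem_map_of_mem _ (hz i)
      · rw [← I.map_ideal (U := ⟨D, hD⟩) (V := ⟨A j, hA j⟩) (hDO.trans inf_le_right)]
        exact Ideal.mem_map_of_mem _ (hz j)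
    obtain ⟨t, ht₁, ht₂⟩ := exists_relation (hI.symm.trans he)
      (hne.imp (fun h e => h (fK_injective hη ((fK_res hle hηD a).symm.trans
          ((congrArg (fK D hηD) e).trans ((map_zero _).trans (map_zero _).symm)))))
        (fun h e => h (fK_injective hη ((fK_res hle hηD b).symm.trans
          ((congrArg (fK D hηD) e).trans ((map_zero _).trans (map_zero _).symm))))))
      (hz x hx) (hz y hy) (fK_injective hηD (by
        simp only [map_add, map_mul, map_sub, map_zero, fK_res]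
        show F a * (ξ i - ξ j) + F b * (υ i - υ j) = 0
        linear_combination (heq j) - (heq i)))
    refine ⟨D, hpD, hDO, fK D hηD t, ⟨hηD, t, rfl⟩, ?_, ?_⟩
    · have h1 := congrArg (fK D hηD) ht₁
      rw [map_sub, map_mul, fK_res, fK_res, fK_res] at h1
      exact h1
    · have h1 := congrArg (fK D hηD) ht₂
      rw [map_sub, map_neg, map_mul, fK_res, fK_res, fK_res] at h1
      exact h1
  have huniq : ∀ {h h' : X.functionField}, F b * h = F b * h' → F a * h = F a * h' → h = h' := fun h1 h2 =>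
    hFne.elim (fun ha => mul_left_cancel₀ ha h2) (fun hb => mul_left_cancel₀ hb h1)
  have hcoc : ∀ i j, ∃ h, Reg (A i ⊓ A j) h ∧ ξ i - ξ j = F b * h ∧ υ i - υ j = -(F a * h) := by
    intro i j
    obtain ⟨D₀, -, -, h₀, -, h₁, h₂⟩ := hloc i j (genericPoint X) ⟨hAη i, hAη j⟩
    refine ⟨h₀, reg_of_local (O := A i ⊓ A j) ⟨hAη i, hAη j⟩ fun p hp => ?_, h₁, h₂⟩
    obtain ⟨D, hpD, hDO, h, hreg, h₁', h₂'⟩ := hloc i j p hp
    exact ⟨D, hpD, hDO, huniq (h₁'.symm.trans h₁) (neg_injective (h₂'.symm.trans h₂)) ▸ hreg⟩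
  choose q hqr hq₁ hq₂ using hcoc
  obtain ⟨h, hhr, hh⟩ := hsplit q hqr fun i j k => huniq
    (by linear_combination (hq₁ i k) - (hq₁ i j) - (hq₁ j k))
    (by linear_combination (hq₂ i j) + (hq₂ j k) - (hq₂ i k))
  obtain ⟨i₀, -⟩ := hcov _ hη
  have hxeq : ∀ i, ξ i - F b * h i = ξ i₀ - F b * h i₀ := fun i => by
    linear_combination hq₁ i i₀ - F b * hh i i₀
  have hyeq : ∀ i, υ i + F a * h i = υ i₀ + F a * h i₀ := fun i => by
    linear_combination hq₂ i i₀ + F a * hh i i₀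
  -- the global coefficients
  have hglob : ∀ (z : ∀ i, Γ(X, A i)) (d : Γ(X, W)) (Z : X.functionField),
      (∀ i, z i ∈ I.ideal ⟨A i, hA i⟩) →
      (∀ i, X.presheaf.map (homOfLE (hAW i)).op d ∈ I.ideal ⟨A i, hA i⟩) →
      (∀ i, Z = fK (A i) (hAη i) (z i) + F d * h i) →
      ∃ w : Γ(X, W), F w = Z ∧ ∀ (D : X.Opens) (hD : IsAffineOpen D) (hle : D ≤ W),
        X.presheaf.map (homOfLE hle).op w ∈ I.ideal ⟨D, hD⟩ := by
    intro z d Z hzI hdI hZ
    choose _ s hs using hhr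
    obtain ⟨_, w, hw⟩ : Reg W Z := reg_of_local hη fun p hp => by
      obtain ⟨i, hi⟩ := hcov p hp
      refine ⟨A i, hi, hAW i, hAη i, z i + X.presheaf.map (homOfLE (hAW i)).op d * s i, ?_⟩
      rw [map_add, map_mul, fK_res, hs, hZ i]
    refine ⟨w, hw, fun D hD hle => (pow_one (I.ideal ⟨D, hD⟩)) ▸ mem_pow_of_local I hD 1 fun p hp => ?_⟩
    obtain ⟨i, hi⟩ := hcov p (hle hp)
    obtain ⟨D', hD', hpD', hle'⟩ := exists_isAffineOpen_mem_and_subset (U := D ⊓ A i) (x := p) ⟨hp, hi⟩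
    have h1 : D' ≤ A i := fun z hz => (hle' hz).2
    have hηD' : genericPoint X ∈ D' := ((genericPoint_spec X).specializes trivial).mem_open D'.2 hpD'
    refine ⟨D', hD', fun z hz => (hle' hz).1, hpD', ?_⟩
    rw [pow_one, H10Coh.rres_rres, show X.presheaf.map (homOfLE (h1.trans (hAW i))).op w =
      X.presheaf.map (homOfLE h1).op (z i + X.presheaf.map (homOfLE (hAW i)).op d * s i) from
        fK_injective hηD' (by
          rw [fK_res, fK_res, map_add, map_mul, fK_res]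
          exact hw.trans ((hZ i).trans (by rw [hs]))),
      ← I.map_ideal (U := ⟨D', hD'⟩) (V := ⟨A i, hA i⟩) h1]
    exact Ideal.mem_map_of_mem _ (Ideal.add_mem _ (hzI i) (Ideal.mul_mem_right _ _ (hdI i)))
  have habI : ∀ i, X.presheaf.map (homOfLE (hAW i)).op a ∈ I.ideal ⟨A i, hA i⟩ ∧
      X.presheaf.map (homOfLE (hAW i)).op b ∈ I.ideal ⟨A i, hA i⟩ := fun i => by
    rw [ideal_eq_span I (hA i) {X.presheaf.map (homOfLE (hAW i)).op a, X.presheaf.map (homOfLE (hAW i)).op b}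
      fun x hx => by
        obtain ⟨D, hD, hle, hDO, hxD, -, hI⟩ := hsmall (A i) (hAW i) x hx
        exact ⟨D, hD, hDO, hxD, hI.trans (by rw [Set.image_pair, H10Coh.rres_rres, H10Coh.rres_rres])⟩]
    exact ⟨Ideal.subset_span (by simp), Ideal.subset_span (by simp)⟩
  obtain ⟨X₁, hX₁, hX₁'⟩ := hglob x (-b) (ξ i₀ - F b * h i₀) hx
    (fun i => by rw [map_neg]; exact neg_mem (habI i).2)
    (fun i => by rw [map_neg]; linear_combination -(hxeq i))
  obtain ⟨Y₁, hY₁, hY₁'⟩ := hglob y a (υ i₀ + F a * h i₀) hy (fun i => (habI i).1)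
    (fun i => (hyeq i).symm)
  refine ⟨X₁, Y₁, fun D hD hle => ⟨hX₁' D hD hle, hY₁' D hD hle⟩, fK_injective hη ?_⟩
  show F c = F (a * X₁ + b * Y₁)
  rw [map_add, map_mul, map_mul, hX₁, hY₁, heq i₀]
  ring

end Groth.Agent.H28RR.CastSquare
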