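import Groth.Agent.H28RR.CastTop
import Groth.Agent.H28RR.CastAlg
import Groth.Agent.H28RR.CastLine2
import Groth.Agent.H11Ample.QuasiAffine

/-! # The local ring of a contracted projective line -/

set_option autoImplicit false
set_option linter.style.haveILetI false
set_option linter.unusedSectionVars false
set_option backward.isDefEq.respectTransparency.types false
set_option maxHeartbeats 4000000

universe u

open CategoryTheory CategoryTheory.Limits AlgebraicGeometry Opposite TopologicalSpace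
open Groth.Agent.H11Ample

noncomputable section

namespace Groth.Agent.H28RR.CastStalk

attribute [local instance 10000] H10Coh.hasSheafifyAb H10Coh.hasWeakSheafifyAb H10Coh.hasExtAb H10Coh.enoughInjAb

open CastTop

/-- Near the contracted curve the ideal is generated by two of the chosen sections. -/
theorem exists_good {X E : Scheme.{u}} (ι : E ⟶ X) [IsClosedImmersion ι] (hI : PicF.IsInvertible (ClSub.idealMod ι.ker))
    {G : X.Modules} (hG : PicF.IsInvertible G) (s₀ : Γ(G, ⊤)) (m : Fin 2 → Γ(ClSub.idealMod ι.ker, gen G s₀))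
    (S : Fin 2 → Γ(CohB1.tensorMod (ClSub.idealMod ι.ker) G, ⊤))
    (hm : ∀ i, tm (m i) (G.presheaf.map (homOfLE (le_top : gen G s₀ ≤ ⊤)).op s₀) =
      (CohB1.tensorMod (ClSub.idealMod ι.ker) G).presheaf.map (homOfLE (le_top : gen G s₀ ≤ ⊤)).op (S i))
    {x : X} (hx : x ∈ gen G s₀) (i : Fin 2) (hxi : x ∈ gen (CohB1.tensorMod (ClSub.idealMod ι.ker) G) (S i)) :
    ∃ (D : X.Opens) (hD : IsAffineOpen D) (hle : D ≤ gen G s₀), x ∈ D ∧ (∃ e, ι.ker.ideal ⟨D, hD⟩ = Ideal.span {e}) ∧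
      ι.ker.ideal ⟨D, hD⟩ = Ideal.span {X.presheaf.map (homOfLE hle).op (OmegaSh.idealSect ι.ker _ (m 0)),
        X.presheaf.map (homOfLE hle).op (OmegaSh.idealSect ι.ker _ (m 1))} := by
  obtain ⟨D, hD₀, e, hxD, hDa, he⟩ := H10Coh.CI.exists_affine_gen hI
    (W := gen G s₀ ⊓ gen (CohB1.tensorMod (ClSub.idealMod ι.ker) G) (S i)) (y := x) ⟨hx, hxi⟩
  have hle : D ≤ gen G s₀ := hD₀.trans inf_le_left
  have hF := isInvertible_tensor hI hG
  have hgS : H11Tilde.IsGen (CohB1.tensorMod (ClSub.idealMod ι.ker) G)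
      ((CohB1.tensorMod (ClSub.idealMod ι.ker) G).presheaf.map (homOfLE (le_top : D ≤ ⊤)).op (S i)) := by
    have h1 := (isGen_gen (L := CohB1.tensorMod (ClSub.idealMod ι.ker) G) (S i)).res (hD₀.trans inf_le_right)
    rwa [H10Coh.mres_mres] at h1
  have hg0 : H11Tilde.IsGen G (G.presheaf.map (homOfLE (le_top : D ≤ ⊤)).op s₀) := by
    have h1 := (isGen_gen (L := G) s₀).res hle
    rwa [H10Coh.mres_mres] at h1
  have hte := isGen_tm he hg0
  obtain ⟨c, hc⟩ := exists_coeff he ((ClSub.idealMod ι.ker).presheaf.map (homOfLE hle).op (m i))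
  have hmS : tm ((ClSub.idealMod ι.ker).presheaf.map (homOfLE hle).op (m i))
      (G.presheaf.map (homOfLE (le_top : D ≤ ⊤)).op s₀) =
      (CohB1.tensorMod (ClSub.idealMod ι.ker) G).presheaf.map (homOfLE (le_top : D ≤ ⊤)).op (S i) := by
    have h1 := congrArg ((CohB1.tensorMod (ClSub.idealMod ι.ker) G).presheaf.map (homOfLE hle).op) (hm i)
    rwa [tm_res, H10Coh.mres_mres, H10Coh.mres_mres] at h1
  rw [hc, tm_smul_left] at hmS
  obtain ⟨c', hc'⟩ := exists_coeff hgS (tm e (G.presheaf.map (homOfLE (le_top : D ≤ ⊤)).op s₀))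
  have hcc : c' * c = 1 := by
    refine (hte.bijective le_rfl).1 ?_
    beta_reduce
    rw [H10Coh.mres_self, one_smul, mul_smul, hmS]
    exact hc'.symm
  have hgen : ι.ker.ideal ⟨D, hDa⟩ = Ideal.span {OmegaSh.idealSect ι.ker D e} := by
    refine le_antisymm (fun a ha => ?_) ?_
    · obtain ⟨z, rfl⟩ := (H29Blow.mem_ideal_iff_exists_idealSect ι.ker hDa a).1 ha
      obtain ⟨r, rfl⟩ := exists_coeff he z
      rw [H29Blow.idealSect_smul]
      exact Ideal.mul_mem_left _ r (Ideal.mem_span_singleton_self _)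
    · rw [Ideal.span_le, Set.singleton_subset_iff]
      exact (H29Blow.mem_ideal_iff_exists_idealSect ι.ker hDa _).2 ⟨e, rfl⟩
  have hmem : ∀ j, X.presheaf.map (homOfLE hle).op (OmegaSh.idealSect ι.ker _ (m j)) ∈ ι.ker.ideal ⟨D, hDa⟩ := fun j =>
    (H29Blow.mem_ideal_iff_exists_idealSect ι.ker hDa _).2 ⟨_, H29Blow.idealSect_res ι.ker hle (m j)⟩
  refine ⟨D, hDa, hle, hxD, ⟨_, hgen⟩, le_antisymm ?_ (Ideal.span_le.2 ?_)⟩
  · rw [hgen, Ideal.span_le, Set.singleton_subset_iff]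
    have h1 : OmegaSh.idealSect ι.ker D e = c' * X.presheaf.map (homOfLE hle).op (OmegaSh.idealSect ι.ker _ (m i)) := by
      rw [← H29Blow.idealSect_res ι.ker hle (m i), hc, H29Blow.idealSect_smul, ← mul_assoc, hcc, one_mul]
    rw [h1]
    refine Ideal.mul_mem_left _ _ (Ideal.subset_span ?_)
    fin_cases i
    · exact Or.inl rfl
    · exact Or.inr rfl
  · rintro _ (rfl | rfl)
    · exact hmem 0
    · exact hmem 1

/-- The cotangent space of a normal contraction of a projective line. -/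
theorem finrank_cotangent {X Y E : Scheme.{u}} [IsIntegral X] [CompactSpace X] [X.IsSeparated] [IsIntegral E]
    (g : X ⟶ Y) [IsProper g] (happ : ∀ U : Y.Opens, IsIso (g.app U)) {M : Y.Modules} (hM : CohB1.IsAmple M)
    (ι : E ⟶ X) [IsClosedImmersion ι] (hdimE : topologicalKrullDim E ≤ 1) {k' : Type u} [Field k']
    (e : E ≅ CohB1.ProjSpace 1 k') (hE : BlowUp.IsEffCartierIdeal ι.ker) {y : Y}
    (hpre : g ⁻¹' {y} = Set.range ι) (d : ℕ)
    (h1 : ∀ n, 0 < n → Subsingleton (Coh.HH X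
      (CohB1.tensorMod (ClSub.idealMod ι.ker) ((Scheme.Modules.pullback g).obj (CohB1.tensorPow M n))) 1))
    (h2 : ∀ n, 0 < n → Subsingleton (Coh.HH X (CohB1.tensorMod (ClSub.idealMod ι.ker)
      (CohB1.tensorMod (ClSub.idealMod ι.ker) ((Scheme.Modules.pullback g).obj (CohB1.tensorPow M n)))) 1))
    (h0 : ∀ n t, 0 < n → 0 < t → Subsingleton (Coh.HH X
      (CohB1.tensorPow ((Scheme.Modules.pullback g).obj (CohB1.tensorPow M n)) t) 1))
    (hT : ∀ n, 0 < n → Nonempty ((Scheme.Modules.pullback ι).obj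
      (CohB1.tensorMod (ClSub.idealMod ι.ker) ((Scheme.Modules.pullback g).obj (CohB1.tensorPow M n))) ≅
        (Scheme.Modules.pullback e.hom).obj (Twist.twistProjSpace 1 k' (d : ℤ)))) :
    Module.finrank (IsLocalRing.ResidueField (Y.presheaf.stalk y))
      (IsLocalRing.CotangentSpace (Y.presheaf.stalk y)) = d + 1 := by
  classical
  haveI := quasiSeparatedSpace_of_isAmple hM
  haveI := compactSpace_of_isAmple hM
  have hMi := isInvertible_of_isAmple hM
  have hI := H29Blow.isInvertible_of_isEffCartierIdeal _ hE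
  have hιy : ∀ z, g (ι z) = y := fun z => hpre.ge ⟨z, rfl⟩
  -- a first neighbourhood
  obtain ⟨n₀, σ₀, hn₀, hy₀, -, -⟩ := exists_affine_gen_le hM (U := (⊤ : Y.Opens)) (x := y) trivial
  let G := (Scheme.Modules.pullback g).obj (CohB1.tensorPow M n₀)
  have hMn : ∀ n, PicF.IsInvertible (CohB1.tensorPow M n) := isInvertible_tensorPow hMi
  have hG : PicF.IsInvertible G := isInvertible_pullback g (hMn n₀)
  let s₀ : Γ(G, ⊤) := pullTop g σ₀
  have hW₀ : gen G s₀ = g ⁻¹ᵁ gen (CohB1.tensorPow M n₀) σ₀ := by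
    have h := gen_smul_pullSect g (hMn n₀) σ₀ (isUnit_one (M := Γ(X, ⊤)))
    rwa [one_smul] at h
  have hle₀ : (⊤ : E.Opens) ≤ ι ⁻¹ᵁ gen G s₀ := fun z _ => by
    show ι z ∈ gen G s₀
    rw [hW₀]
    show g (ι z) ∈ gen (CohB1.tensorPow M n₀) σ₀
    rw [hιy]
    exact hy₀
  let τ₀ := pullTop ι s₀
  have hτ₀ : H11Tilde.IsGen ((Scheme.Modules.pullback ι).obj G) τ₀ := fun z hz => by
    have h := gen_smul_pullSect ι hG s₀ (isUnit_one (M := Γ(E, ⊤)))
    rw [one_smul] at h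
    exact (mem_gen_iff (isInvertible_pullback ι hG) τ₀ z).1 (h.ge (hle₀ (Opens.mem_top z)))
  let F := CohB1.tensorMod (ClSub.idealMod ι.ker) G
  have hF : PicF.IsInvertible F := isInvertible_tensor hI hG
  obtain ⟨φT⟩ := hT n₀ hn₀
  let T := (Scheme.Modules.pullback ι).obj F
  obtain ⟨v, hv⟩ := CastLine.exists_two_sections e d φT
  have hlift : Function.Surjective (pullTop (L := F) ι) := H10Coh.CI.surjective_pullSect ι hF (h2 n₀ hn₀)
  choose S hS using fun i => hlift (v i)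
  have hsm : H11Tilde.IsGen G (G.presheaf.map (homOfLE (le_top : gen G s₀ ≤ ⊤)).op s₀) := isGen_gen s₀
  choose m hm using fun i => (bijective_tm (F := ClSub.idealMod ι.ker) hsm (le_refl (gen G s₀))).2
    (F.presheaf.map (homOfLE (le_top : gen G s₀ ≤ ⊤)).op (S i))
  beta_reduce at hm
  simp only [H10Coh.mres_self] at hm
  -- where the two sections generate
  let P : X → Prop := fun x => ∃ (D : X.Opens) (hD : IsAffineOpen D) (hle : D ≤ gen G s₀), x ∈ D ∧
      (∃ e, ι.ker.ideal ⟨D, hD⟩ = Ideal.span {e}) ∧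
      ι.ker.ideal ⟨D, hD⟩ = Ideal.span {X.presheaf.map (homOfLE hle).op (OmegaSh.idealSect ι.ker _ (m 0)),
        X.presheaf.map (homOfLE hle).op (OmegaSh.idealSect ι.ker _ (m 1))}
  have hgood : IsOpen {x | P x} := isOpen_iff_forall_mem_open.2 fun x ⟨D, hD, hle, hxD, h⟩ =>
    ⟨D, fun x' hx' => ⟨D, hD, hle, hx', h⟩, D.2, hxD⟩
  have hEgood : ∀ z, P (ι z) := fun z => by
    obtain ⟨i, hi⟩ := hv z
    refine exists_good ι hI hG s₀ m S hm (hle₀ (Opens.mem_top z)) i ?_
    have h := gen_smul_pullSect ι hF (S i) (isUnit_one (M := Γ(E, ⊤)))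
    rw [one_smul] at h
    exact h.le ((hS i).symm ▸ hi)
  -- the neighbourhood
  have hZ : IsClosed (g '' {x | P x}ᶜ) := g.isClosedMap _ hgood.isClosed_compl
  let U : Y.Opens := gen (CohB1.tensorPow M n₀) σ₀ ⊓ ⟨(g '' {x | P x}ᶜ)ᶜ, hZ.isOpen_compl⟩
  have hyU : y ∈ U := ⟨hy₀, fun ⟨x, hx, hxy⟩ => hx (by
    obtain ⟨z, rfl⟩ := hpre.le (hxy : g x = y)
    exact hEgood z)⟩
  obtain ⟨n, σ, hn, hyV, hVU, hVa⟩ := exists_affine_gen_le hM hyU
  let V := gen (CohB1.tensorPow M n) σ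
  let W := g ⁻¹ᵁ V
  have hWW₀ : W ≤ gen G s₀ := by
    rw [hW₀]
    exact g.preimage_mono (hVU.trans inf_le_left)
  have hWP : ∀ x ∈ W, P x := fun x hx => by
    by_contra h
    exact (hVU hx).2 ⟨x, h, rfl⟩
  have hle : (⊤ : E.Opens) ≤ ι ⁻¹ᵁ W := fun z _ => by
    show g (ι z) ∈ V
    rw [hιy]
    exact hyV
  obtain ⟨z₀⟩ : Nonempty E := inferInstance
  have hηW : genericPoint X ∈ W :=
    ((genericPoint_spec X).specializes trivial).mem_open W.2 (hle (Opens.mem_top z₀))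
  -- cocycles
  let N := (Scheme.Modules.pullback g).obj (CohB1.tensorPow M n)
  let s : Γ(N, ⊤) := pullTop g σ
  have hWs : gen N s = W := by
    have h := gen_smul_pullSect g (hMn n) σ (isUnit_one (M := Γ(X, ⊤)))
    rwa [one_smul] at h
  obtain ⟨J, A, hA, hAη, hAW, hAcov, hsplit⟩ := CastCocycle.exists_cover_split
    (isInvertible_pullback g (hMn n)) s (hWs.ge hηW) (n₀ := 1) (fun t ht => h0 n t hn ht)
  -- the maps to the curve
  letI := CastLine.overK e
  have hε := CastLine.bijective_toGlobal e hdimE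
  let ε := RingEquiv.ofBijective (Coh.toGlobal (E ↘ Spec (CommRingCat.of k'))) hε
  let φ : Γ(X, W) →+* k' := ε.symm.toRingHom.comp (fTop ι W hle)
  have hεφ : ∀ a, H10Coh.globA (A := k') (X := E) (φ a) = fTop ι W hle a := fun a => ε.apply_symm_apply _
  have hφ0 : ∀ a, φ a = 0 ↔ fTop ι W hle a = 0 := fun a => map_eq_zero_iff _ ε.symm.injective
  let sW : Γ(G, W) := G.presheaf.map (homOfLE (le_top : W ≤ ⊤)).op s₀
  have hsW : H11Tilde.IsGen G sW := by
    have h := hsm.res hWW₀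
    rwa [H10Coh.mres_mres] at h
  have hsWtop : pTop ι G W hle sW = τ₀ := pTop_top ι hle s₀
  have hφsurj : Function.Surjective φ := by
    intro r
    obtain ⟨S', hS'⟩ := H10Coh.CI.surjective_pullSect ι hG (h1 n₀ hn₀) (H10Coh.globA (A := k') (X := E) r • τ₀)
    obtain ⟨c, hc⟩ := exists_coeff hsW (G.presheaf.map (homOfLE (le_top : W ≤ ⊤)).op S')
    refine ⟨c, ε.symm_apply_eq.2 ((hτ₀.bijective le_rfl).1 ?_)⟩
    beta_reduce
    rw [H10Coh.mres_self, ← hsWtop]
    refine (pTop_smul ι hle c sW).symm.trans ?_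
    rw [← hc, pTop_top, hsWtop]
    exact hS'
  let mA := RingHom.ker φ
  haveI : mA.IsMaximal := RingHom.ker_isMaximal_of_surjective φ hφsurj
  have hmem : ∀ a, a ∈ mA ↔ fTop ι W hle a = 0 := fun a => (RingHom.mem_ker).trans (hφ0 a)
  have hex : ∀ a : mA, ∃ z, OmegaSh.idealSect ι.ker W z = a := fun a =>
    exists_idealSect ι hle a.1 ((hmem _).1 a.2)
  choose q hq using hex
  have hquniq : ∀ (a : mA) (z : Γ(ClSub.idealMod ι.ker, W)), OmegaSh.idealSect ι.ker W z = a → q a = z :=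
    fun a z hz => H29Blow.idealSect_injective ι.ker W ((hq a).trans hz.symm)
  let S₀ := H29RR.sec T
  let τ : mA →+ Coh.HH E T 0 :=
    ({ toFun := fun a => S₀.symm (pTop ι F W hle (tm (q a) sW))
       map_zero' := by
        have h : q 0 = 0 := hquniq 0 0 (map_zero _)
        rw [h, tm_zero_left]
        refine (congrArg S₀.symm ?_).trans (map_zero S₀.symm)
        have h2 := pTop_add ι hle (0 : Γ(F, W)) 0
        rw [add_zero] at h2
        exact left_eq_add.1 h2
       map_add' := fun a b => by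
        rw [← map_add S₀.symm, ← pTop_add, ← tm_add_left,
          hquniq (a + b) (q a + q b) (by rw [map_add, hq, hq]; rfl)] } : mA →+ Coh.HH E T 0)
  have hτS : ∀ a, S₀ (τ a) = pTop ι F W hle (tm (q a) sW) := fun a => S₀.apply_symm_apply _
  have hlin : ∀ (r : Γ(X, W)) (a : mA), τ (r • a) = φ r • τ a := fun r a => by
    refine S₀.injective ?_
    rw [hτS, H29RR.sec_smul, hτS, hεφ, ← pTop_smul, ← tm_smul_left,
      hquniq (r • a) (r • q a) (by rw [H29Blow.idealSect_smul, hq]; rfl)]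
  have hτsurj : Function.Surjective τ := by
    intro w
    obtain ⟨S', hS'⟩ := hlift (S₀ w)
    obtain ⟨z, hz⟩ := (bijective_tm (F := ClSub.idealMod ι.ker) hsW (le_refl W)).2
      (F.presheaf.map (homOfLE (le_top : W ≤ ⊤)).op S')
    beta_reduce at hz
    rw [H10Coh.mres_self] at hz
    refine ⟨⟨OmegaSh.idealSect ι.ker W z, (hmem _).2 (fTop_idealSect ι hle z)⟩, S₀.injective ?_⟩
    rw [hτS, hquniq _ z rfl, hz, pTop_top, hS']
  -- the kernel
  have hkill : ∀ (a : mA), τ a = 0 → ∀ x ∈ W, ∃ (D : X.Opens) (hD : IsAffineOpen D) (hl : D ≤ W), x ∈ D ∧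
      X.presheaf.map (homOfLE hl).op (a : Γ(X, W)) ∈ ι.ker.ideal ⟨D, hD⟩ ^ 2 := by
    intro a ha x hx
    obtain ⟨D, hD, e', hxD, hDa, he⟩ := H10Coh.CI.exists_affine_gen hI hx
    refine ⟨D, hDa, hD, hxD, ?_⟩
    obtain ⟨c, hc⟩ := exists_coeff he ((ClSub.idealMod ι.ker).presheaf.map (homOfLE hD).op (q a))
    have hT0 : pTop ι F W hle (tm (q a) sW) = 0 := by rw [← hτS, ha, map_zero]
    have hall : OmegaSh.pullSect ι F W (tm (q a) sW) = 0 := by
      have h := congrArg (T.presheaf.map (homOfLE (le_top : ι ⁻¹ᵁ W ≤ ⊤)).op) hT0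
      rw [pTop, H10Coh.mres_mres, map_zero] at h
      rw [← h]
      exact (H10Coh.mres_self _ _ _).symm
    have hgD : H11Tilde.IsGen G (G.presheaf.map (homOfLE hD).op sW) := hsW.res hD
    have hpg := H11Tilde.IsGen.pullSect ι (isGen_tm he hgD)
    have hzero : OmegaSh.pullSect ι F D (c • tm e' (G.presheaf.map (homOfLE hD).op sW)) = 0 := by
      rw [← tm_smul_left, ← hc, ← tm_res, OmegaSh.pullSect_map, hall, map_zero]
    rw [OmegaSh.pullSect_smul] at hzero
    have hc0 : ι.app D c = 0 := (hpg.bijective le_rfl).1 (by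
      beta_reduce
      rw [H10Coh.mres_self, hzero, zero_smul])
    have h1 := congrArg (OmegaSh.idealSect ι.ker D) hc
    rw [H29Blow.idealSect_res, hq, H29Blow.idealSect_smul] at h1
    rw [h1, pow_two]
    exact Ideal.mul_mem_mul (H10Coh.CI.mem_ideal_of_app_eq_zero ι hDa hc0)
      ((H29Blow.mem_ideal_iff_exists_idealSect ι.ker hDa _).2 ⟨e', rfl⟩)
  let a' : Fin 2 → Γ(X, W) := fun i => X.presheaf.map (homOfLE hWW₀).op (OmegaSh.idealSect ι.ker _ (m i))
  have ha' : ∀ i, a' i ∈ mA := fun i => (hmem _).2 ((fTop_res ι hle₀ hle hWW₀ _).trans (fTop_idealSect ι hle₀ (m i)))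
  have hab : ∀ x ∈ W, ∃ (D : X.Opens) (hD : IsAffineOpen D) (hl : D ≤ W), x ∈ D ∧
      (∃ e, ι.ker.ideal ⟨D, hD⟩ = Ideal.span {e}) ∧
      ι.ker.ideal ⟨D, hD⟩ = Ideal.span {X.presheaf.map (homOfLE hl).op (a' 0), X.presheaf.map (homOfLE hl).op (a' 1)} := by
    intro x hx
    obtain ⟨D, hD, hl, hxD, ⟨e', he'⟩, hspan⟩ := hWP x hx
    obtain ⟨D', hD', hxD', hle'⟩ := exists_isAffineOpen_mem_and_subset (U := D ⊓ W) (x := x) ⟨hxD, hx⟩
    have h1 : D' ≤ D := fun z hz => (hle' hz).1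
    refine ⟨D', hD', fun z hz => (hle' hz).2, hxD', ⟨X.presheaf.map (homOfLE h1).op e', ?_⟩, ?_⟩
    · rw [← ι.ker.map_ideal (U := ⟨D', hD'⟩) (V := ⟨D, hD⟩) h1, he', Ideal.map_span, Set.image_singleton]
      rfl
    · refine (CastSquare.span_res ι.ker hD' hl h1 hspan).trans ?_
      simp only [a', H10Coh.rres_rres]
  have hne : a' 0 ≠ 0 ∨ a' 1 ≠ 0 := by
    by_contra h
    push Not at h
    obtain ⟨⟨V', hV'⟩, hxV', f, hf, hfI⟩ := hE (ι z₀)
    obtain ⟨D, hD, hl, hzD, -, hspan⟩ := hab (ι z₀) (hle (Opens.mem_top z₀))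
    rw [h.1, h.2, map_zero, Set.pair_eq_singleton, Ideal.span_singleton_eq_bot.2 rfl] at hspan
    have h2 := CastSquare.map_germ_ideal ι.ker hV' hD hxV' hzD
    rw [hfI, hspan, Ideal.map_span, Set.image_singleton, Ideal.map_bot, Ideal.span_singleton_eq_bot] at h2
    have hη : genericPoint X ∈ V' := ((genericPoint_spec X).specializes trivial).mem_open V'.2 hxV'
    have hinj : Function.Injective (X.presheaf.germ V' (ι z₀) hxV') := germ_injective_of_isIntegral X _ hxV'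
    have h3 : f = 0 := hinj (h2.trans (map_zero (X.presheaf.germ V' (ι z₀) hxV').hom).symm)
    haveI : Nonempty V' := ⟨⟨_, hxV'⟩⟩
    exact one_ne_zero ((mul_eq_zero.1 (show (1 : Γ(X, V')) * f = 0 by rw [h3, mul_zero])).resolve_right
      (fun _ => nonZeroDivisors.ne_zero hf h3))
  have hτ0 : ∀ a : mA, τ a = 0 ↔ (a : Γ(X, W)) ∈ mA ^ 2 := by
    refine fun a => ⟨fun ha => ?_, fun ha => ?_⟩
    · obtain ⟨x, w, hxw, heq⟩ := CastSquare.exists_combination ι.ker hηW A hA hAη (fun j => (hAW j).trans hWs.le)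
        (fun p hp => hAcov p (hWs.ge hp)) hsplit (a' 0) (a' 1) hne hab a (hkill a ha)
      have hin : ∀ b : Γ(X, W), (∀ (D : X.Opens) (hD : IsAffineOpen D) (hl : D ≤ W),
          X.presheaf.map (homOfLE hl).op b ∈ ι.ker.ideal ⟨D, hD⟩) → b ∈ mA := fun b hb =>
        (hmem b).2 (fTop_eq_zero_of_local ι hle b fun z => by
          obtain ⟨D, hD, hzD, hl⟩ := exists_isAffineOpen_mem_and_subset (U := W) (x := ι z) (hle (Opens.mem_top z))
          exact ⟨D, hD, hl, hzD, hb D hD hl⟩)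
      rw [heq, pow_two]
      exact Ideal.add_mem _ (Ideal.mul_mem_mul (ha' 0) (hin x fun D hD hl => (hxw D hD hl).1))
        (Ideal.mul_mem_mul (ha' 1) (hin w fun D hD hl => (hxw D hD hl).2))
    · rw [pow_two] at ha
      suffices h : ∀ b ∈ mA * mA, ∃ hb : b ∈ mA, τ ⟨b, hb⟩ = 0 from (h a ha).2
      intro b hb
      refine Submodule.mul_induction_on hb (fun r hr w hw => ⟨Ideal.mul_mem_left _ r hw, ?_⟩) ?_
      · rw [show (⟨r * w, Ideal.mul_mem_left _ r hw⟩ : mA) = r • ⟨w, hw⟩ from rfl, hlin, RingHom.mem_ker.1 hr,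
          zero_smul]
      · rintro b b' ⟨hb₁, ih⟩ ⟨hb₂, ih'⟩
        refine ⟨add_mem hb₁ hb₂, ?_⟩
        rw [show (⟨b + b', add_mem hb₁ hb₂⟩ : mA) = ⟨b, hb₁⟩ + ⟨b', hb₂⟩ from rfl, map_add, ih, ih', add_zero]
  -- the local ring
  let θ : Γ(Y, V) ≃+* Γ(X, W) :=
    haveI := happ V
    (asIso (g.app V)).commRingCatIsoToRingEquiv
  let py := hVa.primeIdealOf ⟨y, hyV⟩
  letI := TopCat.Presheaf.algebra_section_stalk Y.presheaf ⟨y, hyV⟩
  haveI : IsLocalization.AtPrime (Y.presheaf.stalk y) py.asIdeal := hVa.isLocalization_stalk ⟨y, hyV⟩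
  have hiff : ∀ β : Γ(Y, V), β ∈ py.asIdeal ↔ θ β ∈ mA := by
    intro β
    rw [hmem, ← not_iff_not]
    have h1 : β ∉ py.asIdeal ↔ y ∈ Y.basicOpen β := by
      rw [Y.mem_basicOpen β y hyV]
      exact (IsLocalization.AtPrime.isUnit_to_map_iff (Y.presheaf.stalk y) py.asIdeal β).symm
    rw [h1]
    have h2 : g ⁻¹ᵁ Y.basicOpen β = X.basicOpen (θ β) := Scheme.preimage_basicOpen g β
    refine ⟨fun hy h0' => ?_, fun hne' => ?_⟩
    · have h3 : ι z₀ ∈ X.basicOpen (θ β) := by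
        rw [← h2]
        show g (ι z₀) ∈ Y.basicOpen β
        rwa [hιy]
      have h4 : z₀ ∈ E.basicOpen (fTop ι W hle (θ β)) := (preimage_basicOpen ι hle (θ β)).le h3
      rw [h0', Scheme.basicOpen_zero] at h4
      exact h4
    · have hu : IsUnit (fTop ι W hle (θ β)) := by
        rw [← hεφ]
        exact (IsUnit.mk0 _ (fun h => hne' ((hφ0 _).1 h))).map _
      have h3 : z₀ ∈ ι ⁻¹ᵁ X.basicOpen (θ β) := by
        rw [preimage_basicOpen ι hle, Scheme.basicOpen_of_isUnit _ hu]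
        trivial
      rw [← h2] at h3
      exact (hιy z₀) ▸ h3
  letI : Algebra Γ(X, W) (Y.presheaf.stalk y) :=
    ((algebraMap Γ(Y, V) (Y.presheaf.stalk y)).comp θ.symm.toRingHom).toAlgebra
  haveI : IsLocalization.AtPrime (Y.presheaf.stalk y) mA := by
    have h := IsLocalization.isLocalization_of_base_ringEquiv py.asIdeal.primeCompl (Y.presheaf.stalk y) θ
    have e1 : py.asIdeal.primeCompl.map θ = mA.primeCompl := by
      ext a
      refine ⟨?_, fun ha => ⟨θ.symm a, fun hb => ha (by have := (hiff _).1 hb; rwa [θ.apply_symm_apply] at this),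
        θ.apply_symm_apply a⟩⟩
      rintro ⟨b, hb, rfl⟩
      exact fun h' => hb ((hiff b).2 h')
    rw [e1] at h
    exact h
  rw [CastAlg.finrank_cotangent_eq mA φ hφsurj rfl τ hτsurj hlin hτ0]
  exact CastLine.finrank_H0 e (isInvertible_pullback ι hF) hdimE d φT

end Groth.Agent.H28RR.CastStalk
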