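import Groth.Agent.H28RR.CastSquare
import Groth.Agent.H10Coh.CI.ClosedSeq
import Groth.Agent.H11Ample.ToPn

/-! # Sections near a closed subscheme restricted to all of it -/

set_option autoImplicit false
set_option linter.style.haveILetI false
set_option linter.unusedSectionVars false
set_option backward.isDefEq.respectTransparency.types false

universe u

open CategoryTheory CategoryTheory.Limits AlgebraicGeometry Opposite TopologicalSpace

noncomputable section

namespace Groth.Agent.H28RR.CastTop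

variable {X E : Scheme.{u}} (ι : E ⟶ X)

/-- Sections over an open containing the image, as sections on all of the source. -/
def pTop (N : X.Modules) (W : X.Opens) (hW : (⊤ : E.Opens) ≤ ι ⁻¹ᵁ W) (m : Γ(N, W)) :
    Γ((Scheme.Modules.pullback ι).obj N, ⊤) :=
  ((Scheme.Modules.pullback ι).obj N).presheaf.map (homOfLE hW).op (OmegaSh.pullSect ι N W m)

/-- Functions over an open containing the image, as functions on all of the source. -/
def fTop (W : X.Opens) (hW : (⊤ : E.Opens) ≤ ι ⁻¹ᵁ W) : Γ(X, W) →+* Γ(E, ⊤) := (ι.appLE W ⊤ hW).hom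

theorem fTop_apply (W : X.Opens) (hW : (⊤ : E.Opens) ≤ ι ⁻¹ᵁ W) (a : Γ(X, W)) :
    fTop ι W hW a = E.presheaf.map (homOfLE hW).op (ι.app W a) := rfl

variable {N : X.Modules} {W : X.Opens} (hW : (⊤ : E.Opens) ≤ ι ⁻¹ᵁ W)

theorem pTop_smul (a : Γ(X, W)) (m : Γ(N, W)) : pTop ι N W hW (a • m) = fTop ι W hW a • pTop ι N W hW m := by
  rw [pTop, OmegaSh.pullSect_smul, Scheme.Modules.map_smul]
  rfl

theorem pTop_add (m m' : Γ(N, W)) : pTop ι N W hW (m + m') = pTop ι N W hW m + pTop ι N W hW m' := by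
  rw [pTop, pTop, pTop, ← map_add]
  exact congrArg _ (map_add (((Scheme.Modules.pullbackPushforwardAdjunction ι).unit.app N).app W).hom m m')

theorem pTop_top (S : Γ(N, ⊤)) :
    pTop ι N W hW (N.presheaf.map (homOfLE (le_top : W ≤ ⊤)).op S) = H11Ample.pullTop ι S := by
  rw [pTop, ← H11Ample.pullTop_res, H10Coh.mres_mres]
  exact H10Coh.mres_self _ _ _

theorem pTop_res {W' : X.Opens} (hW' : (⊤ : E.Opens) ≤ ι ⁻¹ᵁ W') (h : W' ≤ W) (m : Γ(N, W)) :
    pTop ι N W' hW' (N.presheaf.map (homOfLE h).op m) = pTop ι N W hW m := by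
  rw [pTop, pTop, OmegaSh.pullSect_map, H10Coh.mres_mres]

theorem fTop_res {W' : X.Opens} (hW' : (⊤ : E.Opens) ≤ ι ⁻¹ᵁ W') (h : W' ≤ W) (a : Γ(X, W)) :
    fTop ι W' hW' (X.presheaf.map (homOfLE h).op a) = fTop ι W hW a :=
  congrArg (fun φ : Γ(X, W) ⟶ Γ(E, ⊤) => φ a) (Scheme.Hom.map_appLE ι hW' (homOfLE h).op)

theorem preimage_basicOpen (a : Γ(X, W)) : ι ⁻¹ᵁ X.basicOpen a = E.basicOpen (fTop ι W hW a) := by
  rw [Scheme.preimage_basicOpen, fTop_apply, Scheme.basicOpen_res]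
  exact (inf_eq_right.2 le_top).symm

/-- A function killed on small opens is killed. -/
theorem fTop_eq_zero_of_local [IsClosedImmersion ι] (a : Γ(X, W))
    (h : ∀ z : E, ∃ (D : X.Opens) (hD : IsAffineOpen D) (hle : D ≤ W), ι z ∈ D ∧
      X.presheaf.map (homOfLE hle).op a ∈ ι.ker.ideal ⟨D, hD⟩) :
    fTop ι W hW a = 0 := by
  choose D hD hle hz ha using h
  refine TopCat.Sheaf.eq_of_locally_eq' (X := E.toTopCat) E.sheaf (fun z => ι ⁻¹ᵁ D z) ⊤ (fun z => homOfLE le_top)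
    (fun z _ => Opens.mem_iSup.2 ⟨z, hz z⟩) _ _ fun z => ?_
  have h0 : ι.app (D z) (X.presheaf.map (homOfLE (hle z)).op a) = 0 := by
    have := ha z
    rw [Scheme.Hom.ker_apply] at this
    exact this
  refine Eq.trans ?_ (map_zero (E.presheaf.map (homOfLE (le_top : ι ⁻¹ᵁ D z ≤ ⊤)).op).hom).symm
  rw [← h0]
  show E.presheaf.map (homOfLE (le_top : ι ⁻¹ᵁ D z ≤ ⊤)).op (E.presheaf.map (homOfLE hW).op (ι.app W a)) = _
  rw [H10Coh.rres_rres]
  exact (congrArg (fun φ : Γ(X, W) ⟶ Γ(E, ι ⁻¹ᵁ D z) => φ a) (ι.naturality (homOfLE (hle z)).op)).symm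

/-- A function killed on the closed subscheme is a section of the ideal. -/
theorem exists_idealSect [IsClosedImmersion ι] (a : Γ(X, W)) (ha : fTop ι W hW a = 0) :
    ∃ m, OmegaSh.idealSect ι.ker W m = a := by
  have h0 : ι.app W a = 0 := by
    have h1 : E.presheaf.map (homOfLE (le_top : ι ⁻¹ᵁ W ≤ ⊤)).op (fTop ι W hW a) = ι.app W a := by
      rw [fTop_apply, H10Coh.rres_rres]
      show E.presheaf.map (𝟙 (op (ι ⁻¹ᵁ W))) (ι.app W a) = _
      rw [E.presheaf.map_id]
      rfl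
    rw [← h1, ha, map_zero]
  refine H29Blow.exists_kernelι_app_eq (ClSub.toSubscheme ι.ker) W a ?_
  show ι.ker.subschemeι.app W a = 0
  have key : ∀ (f : E ⟶ X) (_ : f = ι.toImage ≫ ι.ker.subschemeι), f.app W a = 0 → ι.ker.subschemeι.app W a = 0 := by
    rintro f rfl hf
    rw [Scheme.Hom.comp_app] at hf
    exact (ConcreteCategory.bijective_of_isIso (ι.toImage.app (ι.ker.subschemeι ⁻¹ᵁ W))).1
      (hf.trans (map_zero (ι.toImage.app (ι.ker.subschemeι ⁻¹ᵁ W)).hom).symm)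
  exact key ι ι.toImage_imageι.symm h0

theorem fTop_idealSect [IsClosedImmersion ι] (m : Γ(ClSub.idealMod ι.ker, W)) :
    fTop ι W hW (OmegaSh.idealSect ι.ker W m) = 0 := by
  rw [fTop_apply, H10Coh.CI.app_idealSect, map_zero]

end Groth.Agent.H28RR.CastTop
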