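import Groth.Agent.H28RR.EtaleMin
import Groth.Agent.S13321
import Groth.Agent.H05EGA4.Regular
import Groth.Agent.H7CDiv.Stalks

/-!
# Relative minimality and unramified extensions of discrete valuation rings with the same residue field
-/

set_option autoImplicit false
set_option linter.style.haveILetI false
set_option linter.unusedSectionVars false
set_option backward.isDefEq.respectTransparency.types false
set_option maxHeartbeats 1600000

universe u

open CategoryTheory CategoryTheory.Limits AlgebraicGeometry TopologicalSpace
open Groth.Agent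

noncomputable section

namespace Groth.Agent.H28RR.CompletionMin

/-- Iterated base change of an isomorphism along the other side of a square. -/
theorem isIso_map_comp {A B B' C : Scheme.{u}} (v : A ⟶ B) (w : B ⟶ C) (v' : A ⟶ B') (w' : B' ⟶ C)
    (h : v ≫ w = v' ≫ w') {X Y : Over C} (g : X ⟶ Y) [IsIso ((Over.pullback w').map g)] :
    IsIso ((Over.pullback v).map ((Over.pullback w).map g)) := by
  have h1 : IsIso ((Over.pullback (v' ≫ w')).map g) :=
    (NatIso.isIso_map_iff (Over.pullbackComp v' w') g).2
      (inferInstanceAs (IsIso ((Over.pullback v').map ((Over.pullback w').map g))))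
  rw [← h] at h1
  exact (NatIso.isIso_map_iff (Over.pullbackComp v w) g).1 h1

variable {R R' : Type u} [CommRing R] [IsDomain R] [IsDiscreteValuationRing R]
  [CommRing R'] [IsDomain R'] [IsDiscreteValuationRing R'] [Algebra R R'] [IsLocalHom (algebraMap R R')]
  [Module.Flat R R']
  (hm : (IsLocalRing.maximalIdeal R).map (algebraMap R R') = IsLocalRing.maximalIdeal R')
  (hres : Function.Bijective (algebraMap (IsLocalRing.ResidueField R) (IsLocalRing.ResidueField R')))
  {X : Over (Spec (CommRingCat.of R))} {X' : Over (Spec (CommRingCat.of R'))} {q : X'.left ⟶ X.left}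
  (sq : IsPullback q X'.hom X.hom (Spec.map (CommRingCat.ofHom (algebraMap R R'))))

include sq in
theorem stalkHom_map (x' : X'.left) (r : R) :
    q.stalkMap x' (Models.stalkHom R X (q x') r) = Models.stalkHom R' X' x' (algebraMap R R' r) := by
  show q.stalkMap x' (X.left.presheaf.germ ⊤ (q x') trivial (X.hom.appTop ((Scheme.ΓSpecIso (CommRingCat.of R)).inv r))) =
    X'.left.presheaf.germ ⊤ x' trivial (X'.hom.appTop ((Scheme.ΓSpecIso (CommRingCat.of R')).inv (algebraMap R R' r)))
  rw [Scheme.Hom.germ_stalkMap_apply]
  refine congrArg (X'.left.presheaf.germ ⊤ x' trivial) ?_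
  show (X.hom.appTop ≫ q.appTop) ((Scheme.ΓSpecIso (CommRingCat.of R)).inv r) = _
  rw [← Scheme.Hom.comp_appTop, sq.w, Scheme.Hom.comp_appTop]
  refine congrArg X'.hom.appTop ?_
  exact (congrArg (fun φ => φ r) (Scheme.ΓSpecIso_inv_naturality (CommRingCat.ofHom (algebraMap R R')))).symm

include hm hres sq in
/-- Over the closed point the maximal ideals generate each other. -/
theorem map_maximalIdeal [IsProper X.hom] (x' : X'.left) (hx' : X'.hom x' = IsLocalRing.closedPoint R') :
    (IsLocalRing.maximalIdeal (X.left.presheaf.stalk (q x'))).map (q.stalkMap x').hom =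
      IsLocalRing.maximalIdeal (X'.left.presheaf.stalk x') := by
  haveI : IsProper X'.hom := MorphismProperty.of_isPullback (P := @IsProper) sq inferInstance
  let cp := Spec.map (CommRingCat.ofHom (IsLocalRing.residue R))
  let cp' := Spec.map (CommRingCat.ofHom (IsLocalRing.residue R'))
  let sk := Spec.map (CommRingCat.ofHom (algebraMap (IsLocalRing.ResidueField R) (IsLocalRing.ResidueField R')))
  haveI : IsClosedImmersion cp := IsClosedImmersion.spec_of_surjective _ IsLocalRing.residue_surjective
  haveI : IsIso sk := by
    haveI : IsIso (CommRingCat.ofHom (algebraMap (IsLocalRing.ResidueField R) (IsLocalRing.ResidueField R'))) :=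
      (ConcreteCategory.isIso_iff_bijective _).2 hres
    infer_instance
  have hcp : cp' ≫ Spec.map (CommRingCat.ofHom (algebraMap R R')) = sk ≫ cp := by
    rw [← Spec.map_comp, ← Spec.map_comp]
    rfl
  let b := pullback.fst X'.hom (H28Vert.closedPt R')
  let d := b ≫ q
  haveI hd : IsClosedImmersion d := by
    refine MorphismProperty.of_isPullback (P := @IsClosedImmersion)
      ((IsPullback.of_hasPullback X'.hom (H28Vert.closedPt R')).paste_horiz sq).flip ?_
    show IsClosedImmersion (cp' ≫ _)
    rw [hcp]
    infer_instance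
  obtain ⟨z, rfl⟩ : x' ∈ Set.range b := by
    rw [Scheme.Pullback.range_fst]
    exact ⟨IsLocalRing.closedPoint _, (IsLocalRing.PrimeSpectrum.comap_residue R' _).trans hx'.symm⟩
  haveI : IsClosedImmersion b := MorphismProperty.pullback_fst (P := @IsClosedImmersion) X'.hom (H28Vert.closedPt R')
    (IsClosedImmersion.spec_of_surjective _ IsLocalRing.residue_surjective)
  refine le_antisymm (Ideal.map_le_iff_le_comap.2 fun c hc => ?_) fun a ha => ?_
  · rw [Ideal.mem_comap, IsLocalRing.mem_maximalIdeal]
    exact fun h => hc (isUnit_of_map_unit (q.stalkMap (b z)).hom c h)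
  · have hker : RingHom.ker (b.stalkMap z).hom ≤
        (IsLocalRing.maximalIdeal (X.left.presheaf.stalk (q (b z)))).map (q.stalkMap (b z)).hom := by
      rw [H28Vert.ker_stalkMap_fst (X := X') z, ← hm, Ideal.map_map, Ideal.map_le_iff_le_comap]
      intro r hr
      rw [Ideal.mem_comap, RingHom.comp_apply]
      show Models.stalkHom R' X' (b z) (algebraMap R R' r) ∈ _
      rw [← stalkHom_map sq]
      refine Ideal.mem_map_of_mem _ ?_
      have hs : X.hom (q (b z)) = IsLocalRing.closedPoint R := by
        rw [← Scheme.Hom.comp_apply, sq.w, Scheme.Hom.comp_apply, hx']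
        exact PrimeSpectrum.ext (IsLocalRing.maximalIdeal_comap (algebraMap R R'))
      obtain ⟨ϖ, hϖ⟩ := IsDiscreteValuationRing.exists_irreducible R
      refine (IsLocalRing.mem_maximalIdeal _).2 fun hu => ?_
      obtain ⟨c, rfl⟩ := Ideal.mem_span_singleton'.1 (hϖ.maximalIdeal_eq ▸ hr)
      rw [map_mul] at hu
      exact (H28Vert.notMem_specialFibreSet_iff (R := R) (X := X) hϖ _).2 (isUnit_of_mul_isUnit_right hu) hs
    obtain ⟨c, hc⟩ := d.stalkMap_surjective z (b.stalkMap z a)
    have hdc : d.stalkMap z c = b.stalkMap z (q.stalkMap (b z) c) := by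
      rw [Scheme.Hom.stalkMap_comp]
      rfl
    rw [hdc] at hc
    have hcm : (c : X.left.presheaf.stalk (q (b z))) ∈ IsLocalRing.maximalIdeal (X.left.presheaf.stalk (q (b z))) := by
      refine (IsLocalRing.mem_maximalIdeal (R := X.left.presheaf.stalk (q (b z))) _).2 fun hu => ?_
      have h1 := (hu.map (q.stalkMap (b z)).hom).map (b.stalkMap z).hom
      erw [hc] at h1
      exact ha (isUnit_of_map_unit (b.stalkMap z).hom a h1)
    have h1 : a - q.stalkMap (b z) c ∈ RingHom.ker (b.stalkMap z).hom := by
      rw [RingHom.mem_ker, map_sub, hc, sub_self]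
    simpa using add_mem (hker h1) (Ideal.mem_map_of_mem (q.stalkMap (b z)).hom hcm)

include hm hres sq in
/-- The base change of a regular proper scheme is regular, and its local dimensions are bounded by those below. -/
theorem isRegular_and_dim [IsProper X.hom] (hreg : ∀ x : X.left, IsRegularLocalRing (X.left.presheaf.stalk x))
    {d : WithBot ℕ∞} (hd : topologicalKrullDim X.left ≤ d) (x : X'.left) :
    IsRegularLocalRing (X'.left.presheaf.stalk x) ∧ ringKrullDim (X'.left.presheaf.stalk x) ≤ d := by
  haveI : IsLocallyNoetherian X.left := LocallyOfFiniteType.isLocallyNoetherian X.hom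
  haveI : IsProper X'.hom := MorphismProperty.of_isPullback (P := @IsProper) sq inferInstance
  haveI : IsLocallyNoetherian X'.left := LocallyOfFiniteType.isLocallyNoetherian X'.hom
  haveI : CompactSpace X'.left := QuasiCompact.compactSpace_of_compactSpace X'.hom
  haveI : Flat (Spec.map (CommRingCat.ofHom (algebraMap R R'))) := by
    rw [HasRingHomProperty.Spec_iff (P := @Flat)]
    exact RingHom.flat_algebraMap_iff.2 ‹_›
  haveI : Flat q := MorphismProperty.of_isPullback (P := @Flat) sq.flip inferInstance
  obtain ⟨c, hxc, hc⟩ := (isClosed_closure (s := ({x} : Set X'.left))).exists_closed_singleton ⟨x, subset_closure rfl⟩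
  have hcs : X'.hom c = IsLocalRing.closedPoint R' := by
    have h1 := X'.hom.isClosedMap _ hc
    rw [Set.image_singleton] at h1
    exact ((IsLocalRing.specializes_closedPoint (X'.hom c)).mem_closed h1 rfl).symm
  let A := X.left.presheaf.stalk (q c)
  let B := X'.left.presheaf.stalk c
  letI : Algebra A B := (q.stalkMap c).hom.toAlgebra
  haveI : IsLocalHom (algebraMap A B) := inferInstanceAs (IsLocalHom (q.stalkMap c).hom)
  haveI : Module.Flat A B := Flat.stalkMap q c
  have hmap := map_maximalIdeal hm hres sq c hcs
  haveI : IsRegularLocalRing B := (H18Et.isRegularLocalRing_iff_of_map_maximalIdeal A B hmap).2 (hreg _)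
  have hdim : ringKrullDim B ≤ d :=
    (H18Et.ringKrullDim_eq_of_map_maximalIdeal A B hmap).trans_le ((H28Contr.ringKrullDim_stalk_le_top _).trans hd)
  have hsp : x ⤳ c := specializes_iff_mem_closure.2 hxc
  letI := (X'.left.presheaf.stalkSpecializes hsp).hom.toAlgebra
  let p := (H7CDiv.primeOf hsp).asIdeal
  haveI := H7CDiv.isLocalization_stalkSpecializes hsp
  let e : Localization.AtPrime p ≃ₐ[B] X'.left.presheaf.stalk x :=
    IsLocalization.algEquiv p.primeCompl _ _
  haveI := H05EGA4.isRegularLocalRing_localization B p
  refine ⟨IsRegularLocalRing.of_ringEquiv e.toRingEquiv, le_trans ?_ hdim⟩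
  rw [IsLocalization.AtPrime.ringKrullDim_eq_height p (X'.left.presheaf.stalk x)]
  exact Ideal.height_le_ringKrullDim_of_ne_top (Ideal.IsPrime.ne_top inferInstance)

include hm hres in
/-- Relative minimality is insensitive to the extension. -/
theorem isArith_and_isRelMinimal_iff (hinj : Function.Injective (algebraMap R R'))
    (X : Over (Spec (CommRingCat.of R))) (hX : ArSurf.IsArithSurface R X)
    (hg : FGA.eulerCharLE (FractionRing R) ((Neron.genericFibre R).obj X).left
      (Coh.structureModule ((Neron.genericFibre R).obj X).left) 1 ≤ 0)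
    [IsIntegral ((Over.pullback (Spec.map (CommRingCat.ofHom (algebraMap R R')))).obj X).left] :
    ArSurf.IsArithSurface R' ((Over.pullback (Spec.map (CommRingCat.ofHom (algebraMap R R')))).obj X) ∧
      (Neron.IsRelMinimalRegularModel R X ↔ Neron.IsRelMinimalRegularModel R'
        ((Over.pullback (Spec.map (CommRingCat.ofHom (algebraMap R R')))).obj X)) := by
  classical
  let u := Spec.map (CommRingCat.ofHom (algebraMap R R'))
  let X' := (Over.pullback u).obj X
  let q : X'.left ⟶ X.left := pullback.fst X.hom u
  have sq : IsPullback q X'.hom X.hom u := IsPullback.of_hasPullback _ _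
  obtain ⟨hreg, hint, hdim, hflat, hproj⟩ := id hX
  haveI := hint
  haveI := hflat
  haveI : IsProper X.hom := H28Vert.isProper_of_isArithSurface hX
  haveI : Flat u := by
    rw [HasRingHomProperty.Spec_iff (P := @Flat)]
    exact RingHom.flat_algebraMap_iff.2 ‹_›
  haveI : Module.FaithfullyFlat R R' := Module.FaithfullyFlat.of_flat_of_isLocalHom
  haveI : Surjective u := ⟨PrimeSpectrum.comap_surjective_of_faithfullyFlat⟩
  haveI : Surjective q := MorphismProperty.of_isPullback (P := @Surjective) sq.flip inferInstance
  haveI : Flat X'.hom := MorphismProperty.of_isPullback (P := @Flat) sq inferInstance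
  haveI : IsProper X'.hom := MorphismProperty.of_isPullback (P := @IsProper) sq inferInstance
  haveI : IsLocallyNoetherian X.left := LocallyOfFiniteType.isLocallyNoetherian X.hom
  haveI : IsLocallyNoetherian X'.left := LocallyOfFiniteType.isLocallyNoetherian X'.hom
  have hall := isRegular_and_dim hm hres sq hreg hdim.le
  have hle : topologicalKrullDim X'.left ≤ 2 := H28Vert.topologicalKrullDim_le_of_stalks _ fun x => (hall x).2
  have hdim' : topologicalKrullDim X'.left = 2 := by
    refine le_antisymm hle ?_
    obtain ⟨x, hx⟩ : ∃ x : X.left, ¬ ringKrullDim (X.left.presheaf.stalk x) ≤ 1 := by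
      by_contra h
      push Not at h
      have h2 := H28Vert.topologicalKrullDim_le_of_stalks (X := X.left) _ h
      rw [hdim] at h2
      exact absurd h2 (by decide)
    obtain ⟨x', rfl⟩ := q.surjective x
    have hxs : X'.hom x' = IsLocalRing.closedPoint R' := by
      have hc := X.hom.isClosedMap _ (H28Contr.isClosed_of_dim_two hdim.le hx)
      rw [Set.image_singleton] at hc
      have h1 : X.hom (q x') = IsLocalRing.closedPoint R :=
        ((IsLocalRing.specializes_closedPoint _).mem_closed hc rfl).symm
      rw [← Scheme.Hom.comp_apply, sq.w, Scheme.Hom.comp_apply] at h1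
      refine PrimeSpectrum.ext (le_antisymm (IsLocalRing.le_maximalIdeal
        (PrimeSpectrum.isPrime (R := R') (X'.hom x')).ne_top) ?_)
      show IsLocalRing.maximalIdeal R' ≤ _
      rw [← hm, Ideal.map_le_iff_le_comap]
      exact (congrArg (PrimeSpectrum.asIdeal (R := R)) h1).ge
    letI : Algebra (X.left.presheaf.stalk (q x')) (X'.left.presheaf.stalk x') := (q.stalkMap x').hom.toAlgebra
    haveI : IsLocalHom (algebraMap (X.left.presheaf.stalk (q x')) (X'.left.presheaf.stalk x')) :=
      inferInstanceAs (IsLocalHom (q.stalkMap x').hom)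
    haveI : Flat q := MorphismProperty.of_isPullback (P := @Flat) sq.flip inferInstance
    haveI : Module.Flat (X.left.presheaf.stalk (q x')) (X'.left.presheaf.stalk x') := Flat.stalkMap q x'
    rw [← H18Et.ringKrullDim_eq_of_map_maximalIdeal (X.left.presheaf.stalk (q x')) (X'.left.presheaf.stalk x')
      (map_maximalIdeal hm hres sq x' hxs)] at hx
    exact (H28Contr.eq_two_of_le ((hall x').2) hx).ge.trans (H28Contr.ringKrullDim_stalk_le_top x')
  have hX' : ArSurf.IsArithSurface R' X' :=
    ⟨fun x => (hall x).1, inferInstance, hdim', inferInstance, EtaleMin.isProjectiveOver_baseChange sq hproj⟩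
  refine ⟨hX', fun hmin => ?_, fun hmin' => ⟨hreg, hproj, hflat, fun Y hY hYp hYf g hgen => ?_⟩⟩
  · haveI : Module.Finite (IsLocalRing.ResidueField R) (IsLocalRing.ResidueField R') :=
      Module.Finite.of_surjective (Algebra.linearMap _ _) hres.2
    obtain ⟨ω, -, hω⟩ := ModelCanon.exists_canonical hX
    obtain ⟨ω', -, hω'⟩ := ModelCanon.exists_canonical hX'
    refine (S13321.result R' X' hX' ?_ ω' hω').2 fun Δ =>
      EtaleNef.nef_baseChange hX q sq hω ((S13321.result R X hX hg ω hω).1 hmin) hω' Δ
    have hd : topologicalKrullDim ((Neron.genericFibre R).obj X).left ≤ ((1 : ℕ) : WithBot ℕ∞) :=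
      (SoleComponent.dim_generic X hdim).le
    haveI : IsProper (((Neron.genericFibre R).obj X).left ↘ Spec (CommRingCat.of (FractionRing R))) :=
      MorphismProperty.pullback_snd (P := @IsProper) X.hom (Neron.genPt R) ‹_›
    haveI : IsProper (((Neron.genericFibre R').obj X').left ↘ Spec (CommRingCat.of (FractionRing R'))) :=
      MorphismProperty.pullback_snd (P := @IsProper) X'.hom (Neron.genPt R') ‹_›
    have h1 := NefGlue.euler_eq_at_bot X hd (pullback.fst X.hom (Neron.genPt R)) (Neron.genPt R)
      (IsPullback.of_hasPullback _ _) NefGlue.genPt_apply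
    have h2 := NefGlue.euler_eq_at_bot X (SoleComponent.dim_generic X' hdim').le
      (pullback.fst X'.hom (Neron.genPt R') ≫ q) (Neron.genPt R' ≫ u)
      ((IsPullback.of_hasPullback _ _).paste_horiz sq) (fun s => by
        rw [Scheme.Hom.comp_apply, NefGlue.genPt_apply]
        exact PrimeSpectrum.ext (Ideal.comap_bot_of_injective _ hinj))
    exact h2.le.trans (h1.ge.trans hg)
  · let Y' := (Over.pullback u).obj Y
    let g' := (Over.pullback u).map g
    haveI := hYf
    obtain ⟨nY, iY, hiY, hiYw⟩ := id hYp
    haveI := hiY
    haveI : IsProper Y.hom := by rw [← hiYw]; infer_instance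
    let qY : Y'.left ⟶ Y.left := pullback.fst Y.hom u
    have sqY : IsPullback qY Y'.hom Y.hom u := IsPullback.of_hasPullback _ _
    haveI : Flat Y'.hom := MorphismProperty.of_isPullback (P := @Flat) sqY inferInstance
    have hinjK : Function.Injective (algebraMap R (FractionRing R')) := by
      rw [IsScalarTower.algebraMap_eq R R' (FractionRing R')]
      exact (IsFractionRing.injective R' _).comp hinj
    let φK : FractionRing R →+* FractionRing R' := IsFractionRing.lift (A := R) (K := FractionRing R) hinjK
    have hφK : ∀ r : R, φK (algebraMap R (FractionRing R) r) = algebraMap R' (FractionRing R') (algebraMap R R' r) :=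
      fun r => (IsFractionRing.lift_algebraMap (A := R) (K := FractionRing R) hinjK r).trans
        (IsScalarTower.algebraMap_apply R R' (FractionRing R') r)
    let tK : Spec (CommRingCat.of (FractionRing R')) ⟶ Spec (CommRingCat.of (FractionRing R)) :=
      Spec.map (CommRingCat.ofHom φK)
    have htK : Neron.genPt R' ≫ u = tK ≫ Neron.genPt R := by
      show Spec.map _ ≫ Spec.map _ = Spec.map _ ≫ Spec.map _
      rw [← Spec.map_comp, ← Spec.map_comp]
      congr 1
      ext r
      exact (hφK r).symm
    have hgen' : IsIso ((Neron.genericFibre R').map g') :=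
      haveI := hgen
      isIso_map_comp (Neron.genPt R') u tK (Neron.genPt R) htK g
    haveI : IsIso g' := hmin'.2.2.2 Y'
      (fun y => (isRegular_and_dim hm hres sqY hY le_rfl y).1) (EtaleMin.isProjectiveOver_baseChange sqY hYp)
      inferInstance g' hgen'
    haveI : IsIso g'.left := inferInstanceAs (IsIso ((Over.forget _).map g'))
    have hsq : IsPullback g'.left q qY g.left := by
      have h1 : g'.left ≫ qY = q ≫ g.left := pullback.lift_fst _ _ _
      have h2 : g'.left ≫ Y'.hom = X'.hom := Over.w g'
      refine (IsPullback.of_bot (h₃₁ := u) (v₂₁ := Y'.hom) (v₂₂ := Y.hom) ?_ h1.symm sqY).flip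
      rw [h2, Over.w g]
      exact sq
    haveI : Surjective qY := MorphismProperty.of_isPullback (P := @Surjective) sqY.flip inferInstance
    haveI : Flat qY := MorphismProperty.of_isPullback (P := @Flat) sqY.flip inferInstance
    haveI : QuasiCompact qY := MorphismProperty.of_isPullback (P := @QuasiCompact) sqY.flip inferInstance
    haveI : IsIso g.left := MorphismProperty.of_isPullback_of_descendsAlong (P := MorphismProperty.isomorphisms _)
      (Q := @Surjective ⊓ @Flat ⊓ @QuasiCompact) hsq ⟨⟨‹_›, ‹_›⟩, ‹_›⟩ (inferInstanceAs (IsIso g'.left))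
    haveI : IsIso ((Over.forget _).map g) := ‹IsIso g.left›
    exact isIso_of_reflects_iso g (Over.forget _)

end Groth.Agent.H28RR.CompletionMin
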