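import Groth.Agent.H28RR.RR
import Groth.Agent.H28Reg.Ample
import Groth.Agent.H28Surf.Cycle
import Groth.Agent.H28Surf.CurveDecomp
import Groth.Agent.H17.InvertibleTensor
import Groth.Agent.H28Reg.Boundary
import Groth.Agent.H22Alg.NakaiPos

/-!
# Consequences of Riemann–Roch on a smooth proper surface
-/

set_option autoImplicit false
set_option linter.style.haveILetI false
set_option linter.unusedSectionVars false
set_option backward.isDefEq.respectTransparency.types false

universe u

open CategoryTheory CategoryTheory.Limits AlgebraicGeometry TopologicalSpace Opposite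
open Groth.Agent.H28Surf

namespace Groth.Agent.H28RR

variable {X : Scheme.{u}} (k : Type u) [Field k] [X.Over (Spec (CommRingCat.of k))]
  [IsProper (X ↘ Spec (CommRingCat.of k))] [Smooth (X ↘ Spec (CommRingCat.of k))] [IsIntegral X]

include k in
theorem exists_ample (hdim : topologicalKrullDim X = 2) : ∃ H : X.Modules, CohB1.IsAmple H :=
  H28Reg.exists_isAmple k
    (fun x => H19Grp.isRegularLocalRing_stalk_of_smooth (X ↘ Spec (CommRingCat.of k)) x) hdim

theorem exists_canonical (hdim : topologicalKrullDim X = 2) :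
    ∃ W : X.Modules, ExtPow.IsExtPow 2 (Omega.sheaf (X ↘ Spec (CommRingCat.of k))) W := by
  haveI := H28Int.isNoetherian k (X := X)
  haveI := H27CurveDiv.smoothOfRelativeDimension_of_dim (X ↘ Spec (CommRingCat.of k)) 2 hdim
  exact H22Alg.ExtPowSheaf.exists_isExtPow 2 (H29Omega.isQCoh_sheaf _)

variable [IsAlgClosed k]

theorem riemann_roch' (hdim : topologicalKrullDim X = 2) {W : X.Modules}
    (hW : ExtPow.IsExtPow 2 (Omega.sheaf (X ↘ Spec (CommRingCat.of k))) W)
    {L : X.Modules} (hL : PicF.IsInvertible L) :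
    2 * Curv2.euler k X L = pr k L L - pr k L W + 2 * Curv2.euler k X (Coh.structureModule X) := by
  obtain ⟨H, hH⟩ := exists_ample k hdim
  exact riemann_roch k hdim hH hW hL

/-- Adjunction for any effective divisor: twice the Euler characteristic of its structure sheaf. -/
theorem euler_quot (hdim : topologicalKrullDim X = 2) {W : X.Modules}
    (hW : ExtPow.IsExtPow 2 (Omega.sheaf (X ↘ Spec (CommRingCat.of k))) W)
    {Z : X.IdealSheafData} (hZ : FGA.IsEffCartier Z) :
    2 * Curv2.euler k X (ClSub.quotMod Z) =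
      pr k (ClSub.idealMod Z) W - pr k (ClSub.idealMod Z) (ClSub.idealMod Z) := by
  haveI := H28Int.isNoetherian k (X := X)
  have hI := isInvertible_ideal k hZ
  haveI := H10Coh.epi_toSubscheme Z
  have hadd := H25Euler.euler_add (k := k) (H10Coh.shortExact_kernel (ClSub.toSubscheme Z))
    (H11Ample.isCoh_of_isInvertible hI) (H10Coh.isCoh_structureModule' X) (isCoh_quot k Z)
  change Curv2.euler k X (Coh.structureModule X) =
    Curv2.euler k X (ClSub.idealMod Z) + Curv2.euler k X (ClSub.quotMod Z) at hadd
  have h := riemann_roch' k hdim hW hI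
  omega

/-- The degree of a module on a curve is minus its product with the ideal. -/
theorem degOn_eq_pr (hdim : topologicalKrullDim X = 2) {C : X.IdealSheafData} (hC : IsCurve C)
    {L : X.Modules} (hL : PicF.IsInvertible L) : degOn k C L = - pr k (ClSub.idealMod C) L := by
  have hI := isInvertible_ideal k (isEffCartier_curve k hdim hC)
  obtain ⟨H, hH, ⟨e₀⟩⟩ := H11Sym.exists_inverse hI
  have h := pr_eq_degOn k hdim hC hH hL (H10Coh.Tw.commIso (ClSub.idealMod C) H ≪≫ e₀)
  rw [← h, pr_symm k L, pr_inv_left k hdim hI hH hL (H10Coh.Tw.commIso (ClSub.idealMod C) H ≪≫ e₀)]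

theorem degOn_inverse (hdim : topologicalKrullDim X = 2) {C : X.IdealSheafData} (hC : IsCurve C)
    {N : X.Modules} (hN : ClSub.IsInverseOf N (ClSub.idealMod C)) :
    degOn k C N = pr k (ClSub.idealMod C) (ClSub.idealMod C) := by
  obtain ⟨e⟩ := hN
  have hI := isInvertible_ideal k (isEffCartier_curve k hdim hC)
  have hN' : PicF.IsInvertible N := H17.InvertibleTensor.isInvertible_of_tensor_iso N _ e
  rw [degOn_eq_pr k hdim hC hN', pr_symm k, pr_inv_left k hdim hI hN' hI (H10Coh.Tw.commIso _ N ≪≫ e)]
  ring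

theorem subsingleton_h1_iff (hdim : topologicalKrullDim X = 2) {C : X.IdealSheafData} (hC : IsCurve C) :
    Subsingleton (Coh.HH C.subscheme (Coh.structureModule C.subscheme) 1) ↔
      Curv2.euler k X (ClSub.quotMod C) = 1 := by
  letI : C.subscheme.Over (Spec (CommRingCat.of k)) := ⟨C.subschemeι ≫ (X ↘ Spec (CommRingCat.of k))⟩
  haveI : IsProper (C.subscheme ↘ Spec (CommRingCat.of k)) :=
    inferInstanceAs (IsProper (C.subschemeι ≫ (X ↘ Spec (CommRingCat.of k))))
  haveI := H28Int.isNoetherian k (X := X)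
  haveI := H28Int.isNoetherian k (X := C.subscheme)
  haveI : (Coh.structureModule C.subscheme).IsQuasicoherent := H10Coh.isQuasicoherent_unit
  haveI := H10Coh.finite_HH_proper k C.subscheme _ (H10Coh.isCoh_structureModule' C.subscheme) 1
  haveI := H10Coh.finite_HH_proper k X _ (isCoh_quot k C) 1
  rw [(euler_le_one k hdim hC).2, ← Module.finrank_zero_iff (R := k), ← Module.finrank_zero_iff (R := k),
    show ClSub.quotMod C = (Coh.push C.subschemeι).obj (Coh.structureModule C.subscheme) from rfl,
    H28Int.Push.finrank_HH_push k C.subschemeι rfl _ 1]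

theorem ample_deg_pos (hdim : topologicalKrullDim X = 2) {H : X.Modules} (hH : CohB1.IsAmple H)
    {C : X.IdealSheafData} (hC : IsCurve C) : 0 < degOn k C H := by
  have h := (H22Alg.NakaiPos.pos_iff k H).1 (H22Alg.Nakai.pos_of_isAmple k hH) C hC.int 1 one_pos
    (by exact_mod_cast hC.dim)
  rw [pow_one, neg_one_mul, List.replicate_one] at h
  rw [degOn_eq]
  exact_mod_cast h

omit [IsAlgClosed k] in
include k in
/-- A module with a section is the inverse of the ideal of an effective divisor. -/
theorem exists_divisor {M : X.Modules} (hM : PicF.IsInvertible M) (hsec : Nontrivial (Coh.HH X M 0)) :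
    ∃ Z : X.IdealSheafData, FGA.IsEffCartier Z ∧
      Nonempty (CohB1.tensorMod M (ClSub.idealMod Z) ≅ Coh.structureModule X) := by
  obtain ⟨g, hg⟩ := H28Int.Surface.exists_section hsec
  obtain ⟨Z, hZ, -, he⟩ := H28Reg.exists_divisor_of_gen hM g ⟨_, H28Int.Surface.generic_mem_gen hM hg⟩
  exact ⟨Z, hZ, he⟩

/-- A curve of negative degree on a module with sections has negative square. -/
theorem self_neg_of_section (hdim : topologicalKrullDim X = 2) {M : X.Modules} (hM : PicF.IsInvertible M)
    (hsec : Nontrivial (Coh.HH X M 0)) {C : X.IdealSheafData} (hC : IsCurve C) (hd : degOn k C M < 0) :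
    pr k (ClSub.idealMod C) (ClSub.idealMod C) < 0 := by
  have hreg : ∀ x : X, IsRegularLocalRing (X.presheaf.stalk x) :=
    fun x => H19Grp.isRegularLocalRing_stalk_of_smooth (X ↘ Spec (CommRingCat.of k)) x
  have hI := isInvertible_ideal k (isEffCartier_curve k hdim hC)
  obtain ⟨Z, hZ, ⟨e⟩⟩ := exists_divisor k hM hsec
  have hZi := isInvertible_ideal k hZ
  obtain ⟨S, hS, rfl⟩ := H28Reg.exists_multiset k hreg hdim Z hZ
  rw [degOn_eq_pr k hdim hC hM, pr_symm k,
    show pr k M (ClSub.idealMod C) = - pr k (ClSub.idealMod S.prod) (ClSub.idealMod C) from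
      pr_inv_left k hdim hZi hM hI (H10Coh.Tw.commIso _ M ≪≫ e),
    neg_neg, H28Reg.pr_prod_left k hreg hdim S hS hI] at hd
  by_contra h
  push Not at h
  refine absurd hd (not_lt.2 (Multiset.sum_nonneg fun z hz => ?_))
  obtain ⟨J, hJ, rfl⟩ := Multiset.mem_map.1 hz
  by_cases hJC : J = C
  · exact hJC ▸ h
  · exact (H28Reg.pr_curves_nonneg k hdim (hS J hJ) hC
      (isInvertible_ideal k (isEffCartier_curve k hdim (hS J hJ))) hI hJC).1

end Groth.Agent.H28RR
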