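import Groth.Agent.H28Surf.CurveDecomp
import Groth.Agent.H28Surf.Artin

/-!
# Multiplicities of the curves in a divisor
-/

set_option autoImplicit false
set_option linter.style.haveILetI false
set_option linter.unusedSectionVars false
set_option backward.isDefEq.respectTransparency.types false
universe u

open CategoryTheory CategoryTheory.Limits AlgebraicGeometry TopologicalSpace IsLocalRing
open Groth.Agent.H28Surf

namespace Groth.Agent.H28RR

variable {X : Scheme.{u}} (k : Type u) [Field k] [X.Over (Spec (CommRingCat.of k))]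
  [IsProper (X ↘ Spec (CommRingCat.of k))] [Smooth (X ↘ Spec (CommRingCat.of k))] [IsIntegral X]

include k

/-- The stalk of a sum of curves at the generic point of a curve. -/
theorem stalkId_prod_gen [DecidableEq X.IdealSheafData] {C : X.IdealSheafData} (hC : IsCurve C) (M : Multiset X.IdealSheafData)
    (hM : ∀ D ∈ M, IsCurve D) (V : X.affineOpens)
    (hV : (haveI := hC.int; C.subschemeι (genericPoint C.subscheme)) ∈ V.1) :
    H28Vert.stalkId M.prod V hV = maximalIdeal _ ^ M.count C := by
  haveI := hC.int
  haveI := H28Int.isNoetherian k (X := X)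
  induction M using Multiset.induction with
  | empty =>
    rw [Multiset.prod_zero, Multiset.count_zero, pow_zero, Ideal.one_eq_top]
    show Ideal.map _ ((⊤ : X.IdealSheafData).ideal V) = _
    rw [Scheme.IdealSheafData.ideal_top, Pi.top_apply, Ideal.map_top]
  | cons D M ih =>
    have hD := hM D (Multiset.mem_cons_self D M)
    have h1 : H28Vert.stalkId (D * M.prod) V hV = H28Vert.stalkId D V hV * H28Vert.stalkId M.prod V hV := by
      simp only [H28Vert.stalkId, Scheme.IdealSheafData.ideal_mul, Pi.mul_apply, Ideal.map_mul]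
    rw [Multiset.prod_cons, h1, ih fun E hE => hM E (Multiset.mem_cons_of_mem hE), Multiset.count_cons]
    by_cases hDC : C = D
    · subst hDC
      rw [if_pos rfl, stalkId_gen C V hV, pow_succ']
    · rw [if_neg hDC, add_zero, stalkId_top D V hV fun h => hDC ?_, ← Ideal.one_eq_top, one_mul]
      exact eq_of_support_subset k hC hD (hC.closure_gen ▸ closure_minimal (Set.singleton_subset_iff.2 h) D.support.2)

/-- The powers of the maximal ideal at the generic point of a curve are distinct. -/
theorem pow_injective_gen (hdim : topologicalKrullDim X = 2) {C : X.IdealSheafData} (hC : IsCurve C) {a b : ℕ}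
    (h : (maximalIdeal (X.presheaf.stalk (haveI := hC.int; C.subschemeι (genericPoint C.subscheme)))) ^ a =
      maximalIdeal _ ^ b) : a = b := by
  haveI := hC.int
  haveI := H28Int.isNoetherian k (X := X)
  haveI := H19Grp.isRegularLocalRing_stalk_of_smooth (X ↘ Spec (CommRingCat.of k))
    (C.subschemeι (genericPoint C.subscheme))
  have hne : maximalIdeal (X.presheaf.stalk (C.subschemeι (genericPoint C.subscheme))) ≠ ⊥ := fun h0 => by
    obtain ⟨V, hV, hxV, -⟩ := exists_isAffineOpen_mem_and_subset (X := X) (x := C.subschemeι (genericPoint C.subscheme))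
      (U := ⊤) trivial
    obtain ⟨g, hg0, hg⟩ := H28Vert.exists_gen_of_isEffCartierIdeal (isEffCartier_curve k hdim hC) _ ⟨V, hV⟩ hxV
    rw [stalkId_gen C ⟨V, hV⟩ hxV, h0] at hg
    exact hg0 (Ideal.span_singleton_eq_bot.1 hg.symm)
  haveI := H4Depth.isDomain_of_isRegularLocalRing (X.presheaf.stalk (C.subschemeι (genericPoint C.subscheme)))
  set m := maximalIdeal (X.presheaf.stalk (C.subschemeι (genericPoint C.subscheme)))
  have key : ∀ a b : ℕ, a < b → m ^ a ≠ m ^ b := fun a b hlt he => hne (pow_eq_zero_iff' (n := a + 1).mp (by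
    have h1 : m ^ a ≤ m • m ^ a := by
      rw [smul_eq_mul, ← pow_succ']
      exact he.le.trans (Ideal.pow_le_pow_right hlt)
    have h0 : m ^ a = ⊥ := Submodule.eq_bot_of_le_smul_of_le_jacobson_bot m _ (IsNoetherian.noetherian _) h1
      (maximalIdeal_le_jacobson _)
    rw [pow_succ, h0, Ideal.bot_mul]; rfl)).1
  by_contra hab
  rcases Nat.lt_or_gt_of_ne hab with hlt | hlt
  · exact key a b hlt h
  · exact key b a hlt h.symm

end Groth.Agent.H28RR
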