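import Groth.Agent.H28RR.RuledPush
import Groth.Agent.H28Curve.DegOneIso
import Groth.Agent.H22Alg.AcyclicPush
import Groth.Agent.H25Par.CurveLocFree
import Groth.Agent.H29RR.Twist
import Groth.Agent.H10Inj.GGOn

/-! # Finite maps of degree one onto a smooth curve, and generated invertible modules -/

set_option autoImplicit false
set_option linter.style.haveILetI false
set_option linter.unusedSectionVars false
set_option backward.isDefEq.respectTransparency.types false

universe u

open CategoryTheory CategoryTheory.Limits AlgebraicGeometry TopologicalSpace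

noncomputable section

namespace Groth.Agent.H28RR.Ruled

section gen

variable {X : Scheme.{u}}

/-- A module spanned at a point by global sections has a global section generating there. -/
theorem exists_gen_of_spansAt {L : X.Modules} (hL : PicF.IsInvertible L) {x : X} (h : H29RR.SpansAt L x) :
    ∃ g : Γ(L, ⊤), x ∈ H11Ample.gen L g := by
  obtain ⟨V, e, hxV, he⟩ := H11Ample.exists_gen hL x
  set v := L.presheaf.germ V x hxV e
  have hb := he x hxV
  by_contra hno
  push Not at hno
  have hsub : Submodule.span (X.presheaf.stalk x) (Set.range fun g : Γ(L, ⊤) => L.presheaf.germ ⊤ x trivial g) ≤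
      (IsLocalRing.maximalIdeal (X.presheaf.stalk x) • ⊤ : Submodule (X.presheaf.stalk x) (L.presheaf.stalk x)) := by
    rw [Submodule.span_le]
    rintro _ ⟨g, rfl⟩
    obtain ⟨c, hc⟩ := hb.2 (L.presheaf.germ ⊤ x trivial g)
    have hcm : c ∈ IsLocalRing.maximalIdeal (X.presheaf.stalk x) := fun hu => by
      obtain ⟨u, rfl⟩ := hu
      refine hno g ((H11Ample.mem_gen_iff hL g x).2 ?_)
      simp only [] at hc
      rw [← hc]
      have : (fun r : X.presheaf.stalk x => r • ((u : X.presheaf.stalk x) • v)) =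
          (fun r => r • v) ∘ fun r => r * (u : X.presheaf.stalk x) := funext fun r => (mul_smul r _ _).symm
      rw [this]
      exact hb.comp (Units.mulRight u).bijective
    simp only [] at hc
    show L.presheaf.germ ⊤ x trivial g ∈ _
    rw [← hc]
    exact Submodule.smul_mem_smul hcm Submodule.mem_top
  rw [show Submodule.span (X.presheaf.stalk x) _ = ⊤ from h] at hsub
  have hv : v ∈ (IsLocalRing.maximalIdeal (X.presheaf.stalk x) • ⊤ : Submodule (X.presheaf.stalk x) (L.presheaf.stalk x)) :=
    hsub Submodule.mem_top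
  have hall : ∀ w ∈ (IsLocalRing.maximalIdeal (X.presheaf.stalk x) • ⊤ : Submodule (X.presheaf.stalk x) (L.presheaf.stalk x)),
      ∃ c ∈ IsLocalRing.maximalIdeal (X.presheaf.stalk x), c • v = w := by
    intro w hw
    refine Submodule.smul_induction_on hw (fun r hr n _ => ?_) fun a b ha hb' => ?_
    · obtain ⟨d, hd⟩ := hb.2 n
      exact ⟨r * d, Ideal.mul_mem_right _ _ hr, by rw [mul_smul, ← hd]⟩
    · obtain ⟨ca, hca, rfl⟩ := ha
      obtain ⟨cb, hcb, rfl⟩ := hb'
      exact ⟨ca + cb, Ideal.add_mem _ hca hcb, add_smul _ _ _⟩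
  obtain ⟨c, hc, hcv⟩ := hall v hv
  have : c = 1 := hb.1 (hcv.trans (one_smul _ v).symm)
  exact (Ideal.ne_top_iff_one _).1 (IsLocalRing.maximalIdeal.isMaximal _).ne_top (this ▸ hc)

/-- A point where a section generates is spanned. -/
theorem spansAt_of_gen {L : X.Modules} (hL : PicF.IsInvertible L) {x : X} {g : Γ(L, ⊤)}
    (h : x ∈ H11Ample.gen L g) : H29RR.SpansAt L x := by
  rw [H29RR.SpansAt, eq_top_iff]
  rintro v -
  obtain ⟨r, rfl⟩ := ((H11Ample.mem_gen_iff hL g x).1 h).2 v
  exact Submodule.smul_mem _ _ (Submodule.subset_span ⟨g, rfl⟩)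

/-- Tensor products of generated invertible modules are generated. -/
theorem spansAt_tensor {L M : X.Modules} (hL : PicF.IsInvertible L) (hM : PicF.IsInvertible M) {x : X}
    (h₁ : H29RR.SpansAt L x) (h₂ : H29RR.SpansAt M x) : H29RR.SpansAt (CohB1.tensorMod L M) x := by
  obtain ⟨g₁, hg₁⟩ := exists_gen_of_spansAt hL h₁
  obtain ⟨g₂, hg₂⟩ := exists_gen_of_spansAt hM h₂
  refine spansAt_of_gen (H11Ample.isInvertible_tensor hL hM) (g := H11Ample.tm g₁ g₂) ?_
  refine H11Ample.mem_gen_of_isGen (W := H11Ample.gen L g₁ ⊓ H11Ample.gen M g₂) ?_ ⟨hg₁, hg₂⟩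
  rw [H11Ample.tm_res]
  have h1 := (H11Ample.isGen_gen g₁).res (inf_le_left : H11Ample.gen L g₁ ⊓ H11Ample.gen M g₂ ≤ _)
  have h2 := (H11Ample.isGen_gen g₂).res (inf_le_right : H11Ample.gen L g₁ ⊓ H11Ample.gen M g₂ ≤ _)
  rw [H10Coh.mres_mres] at h1 h2
  exact H11Ample.isGen_tm h1 h2

end gen

variable (k : Type u) [Field k]
variable {Z P : Scheme.{u}} [Z.Over (Spec (CommRingCat.of k))] [IsProper (Z ↘ Spec (CommRingCat.of k))] [IsIntegral Z]
  [P.Over (Spec (CommRingCat.of k))] [IsProper (P ↘ Spec (CommRingCat.of k))]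
  [Smooth (P ↘ Spec (CommRingCat.of k))] [IsIntegral P]

/-- A finite surjective map onto a smooth curve multiplying degrees by one is an isomorphism. -/
theorem isIso_of_deg_one (hP : topologicalKrullDim P = 1) (f : Z ⟶ P) [IsFinite f] [Surjective f]
    (hf : f ≫ (P ↘ Spec (CommRingCat.of k)) = Z ↘ Spec (CommRingCat.of k)) {L : P.Modules} (hL : PicF.IsInvertible L)
    (hdL : Curv2.deg k P L 1 = 1) (hd : Curv2.deg k Z ((Scheme.Modules.pullback f).obj L) 1 = 1) : IsIso f := by
  haveI := H28Int.isNoetherian k (X := P)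
  haveI := H28Int.isNoetherian k (X := Z)
  haveI := H10Coh.enoughInjMod Z
  haveI : Flat f := by
    refine H29Curve.flat_of_dominant_normal f ?_ (fun y => ?_) hP.le
    · obtain ⟨z, hz⟩ := f.surjective (genericPoint P)
      have h1 := (genericPoint_specializes z).map f.continuous
      rw [hz] at h1
      exact (h1.antisymm (genericPoint_specializes _)).eq
    · haveI := H19Grp.isRegularLocalRing_stalk_of_smooth (P ↘ Spec (CommRingCat.of k)) y
      haveI : IsDomain (P.presheaf.stalk y) := inferInstance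
      haveI := H28Alg.ufd_of_regular (P.presheaf.stalk y)
      exact inferInstance
  let O := Coh.structureModule Z
  have hO : PicF.IsInvertible O := H28Int.isInvertible_structureModule Z
  have hOc := H11Ample.isCoh_of_isInvertible hO
  haveI : O.IsQuasicoherent := hOc.1
  have hfl := H10Coh.SheafHom.isFlatOver_of_isFinLocFree f O (H23Para.isFinLocFree_of_isInvertible hO)
  have hlf : FlatMod.IsFinLocFree ((Coh.push f).obj O) := H22Alg.AcyclicPush.finLocFree_pushforward f hOc hfl
    fun i hi => by
      obtain ⟨m, rfl⟩ := Nat.exists_eq_succ_of_ne_zero (show i ≠ 0 by omega)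
      exact H10Coh.isZero_rpushAb_of_isAffineHom f O m
  obtain ⟨r, hr⟩ := H25Par.exists_rank k hP.le (H16Derived.KFlat.Stalk.isCoh_of_isFinLocFree hlf)
    (H25Par.isTorsionFree_of_locFree hlf)
  have hlin := H29RR.deg_tensor_bundle (k := k) hP.le hr hL
  obtain ⟨e⟩ := H10Coh.Tw.nonempty_push_tensor_iso f O hL
  haveI : (CohB1.tensorMod O ((Scheme.Modules.pullback f).obj L)).IsQuasicoherent :=
    (H11Ample.isCoh_tensor hOc (H11Ample.isInvertible_pullback f hL)).1
  have e1 : Curv2.euler k P (CohB1.tensorMod ((Coh.push f).obj O) L) =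
      Curv2.euler k Z ((Scheme.Modules.pullback f).obj L) := by
    rw [H25Euler.euler_congr e, H28Int.Push.euler_push k f hf _,
      H25Euler.euler_congr (H10Coh.Tw.leftUnitIso _)]
  have e2 : Curv2.euler k P ((Coh.push f).obj O) = Curv2.euler k Z O := H28Int.Push.euler_push k f hf O
  have hr1 : r = 1 := by
    simp only [Curv2.deg, Nat.cast_one, one_mul] at hd hdL
    rw [show Curv2.deg k P L 1 = 1 by simp only [Curv2.deg, Nat.cast_one, one_mul]; exact hdL] at hlin
    simp only [Curv2.deg] at hlin
    have : (r : ℤ) = 1 := by linarith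
    exact_mod_cast this
  subst hr1
  exact H28Curve.isIso_of_bijective_app f (app_bijective_of_invertible f (H22Alg.PB.isInvertible_of_rank_one hr))

end Groth.Agent.H28RR.Ruled
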