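import Groth.Agent.H28RR.Cor
import Groth.Agent.H28Surf.Hodge

/-!
# Nakai's criterion and curves orthogonal to a big nef class
-/

set_option autoImplicit false
set_option linter.style.haveILetI false
set_option linter.unusedSectionVars false
set_option backward.isDefEq.respectTransparency.types false

universe u

open CategoryTheory CategoryTheory.Limits AlgebraicGeometry TopologicalSpace Opposite
open Groth.Agent.H28Surf

namespace Groth.Agent.H28RR

variable {X : Scheme.{u}} (k : Type u) [Field k] [IsAlgClosed k] [X.Over (Spec (CommRingCat.of k))]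
  [IsProper (X ↘ Spec (CommRingCat.of k))] [Smooth (X ↘ Spec (CommRingCat.of k))] [IsIntegral X]

/-- A module which is nonnegative on curves is nonnegative on an ample module. -/
theorem pr_nonneg_of_nef (hdim : topologicalKrullDim X = 2) {H L : X.Modules} (hH : CohB1.IsAmple H)
    (hL : PicF.IsInvertible L) (hnef : ∀ C : X.IdealSheafData, IsCurve C → 0 ≤ degOn k C L) :
    0 ≤ pr k L H ∧ ((∀ C : X.IdealSheafData, IsCurve C → 0 < degOn k C L) → 0 < pr k L H) := by
  obtain ⟨m₀, hm₀⟩ := Embed.eventually_closedImmersion (X ↘ Spec (CommRingCat.of k)) hH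
  obtain ⟨n, r, hr, hrq, ⟨τ⟩⟩ := hm₀ (m₀ + 1) (Nat.le_succ _)
  haveI := hr
  obtain ⟨C, hC, -, ⟨e⟩⟩ := exists_hyperplane_curve k hdim r hrq
  have hHi := (H11Ample.isAmple_iff.1 hH).1
  have hP := H11Ample.isInvertible_tensorPow hHi (m₀ + 1)
  let e' : CohB1.tensorMod (ClSub.idealMod C) (CohB1.tensorPow H (m₀ + 1)) ≅ Coh.structureModule X :=
    PicGrp.tensorModIso (Iso.refl _) τ.symm ≪≫ e
  have h := pr_eq_degOn k hdim hC hP hL e'
  rw [pr_symm k L, pr_pow_left k hdim hHi hL, pr_symm k H L] at h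
  have h0 := hnef C hC
  rw [← h] at h0
  have hm : (0 : ℤ) < ((m₀ + 1 : ℕ) : ℤ) := by exact_mod_cast Nat.succ_pos _
  exact ⟨(mul_nonneg_iff_of_pos_left hm).1 h0,
    fun hp => (pos_iff_pos_of_mul_pos (h ▸ hp C hC)).1 hm⟩

/-- Nakai's criterion. -/
theorem isAmple_of_pos (hdim : topologicalKrullDim X = 2) {L : X.Modules} (hL : PicF.IsInvertible L)
    (hsq : 0 < pr k L L) (hpos : ∀ C : X.IdealSheafData, IsCurve C → 0 < degOn k C L) : CohB1.IsAmple L := by
  obtain ⟨H, hH⟩ := exists_ample k hdim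
  have hLH := (pr_nonneg_of_nef k hdim hH hL fun C hC => (hpos C hC).le).2 hpos
  obtain ⟨N, hN⟩ := eventually_sections k hdim hH hL hLH hsq
  have hMi := H11Ample.isInvertible_tensorPow hL (N + 1)
  obtain ⟨Z, hZ, ⟨e⟩⟩ := exists_divisor k hMi (hN (N + 1) (Nat.le_succ _))
  have hI := isInvertible_ideal k hZ
  have key : ∀ {B : X.Modules}, PicF.IsInvertible B →
      pr k (ClSub.idealMod Z) B = - (((N + 1 : ℕ) : ℤ) * pr k L B) := fun {B} hB => by
    rw [pr_inv_left k hdim hMi hI hB e, pr_pow_left k hdim hL hB]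
  have hn : (0 : ℤ) < ((N + 1 : ℕ) : ℤ) := by exact_mod_cast Nat.succ_pos _
  refine (H11Ample.isAmple_tensorPow_iff hL (N + 1) N.succ_pos).2
    (H28Reg.isAmple_of_criterion k
      (fun x => H19Grp.isRegularLocalRing_stalk_of_smooth (X ↘ Spec (CommRingCat.of k)) x) hdim hZ hMi e ?_
      fun J hJ => ?_)
  · rw [key hI, pr_symm k L, key hL]
    nlinarith [mul_pos (mul_pos hn hn) hsq]
  · have hJi := isInvertible_ideal k (isEffCartier_curve k hdim hJ)
    have h := hpos J hJ
    rw [degOn_eq_pr k hdim hJ hL, pr_symm k] at h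
    rw [key hJi]
    nlinarith [mul_pos hn h]

/-- A curve orthogonal to a class of positive square which is nef has negative square. -/
theorem self_neg_of_orth (hdim : topologicalKrullDim X = 2) {L : X.Modules} (hL : PicF.IsInvertible L)
    (hsq : 0 < pr k L L) {C : X.IdealSheafData} (hC : IsCurve C) (h0 : degOn k C L = 0) :
    pr k (ClSub.idealMod C) (ClSub.idealMod C) < 0 := by
  obtain ⟨H, hH⟩ := exists_ample k hdim
  have hHi := (H11Ample.isAmple_iff.1 hH).1
  have hI := isInvertible_ideal k (isEffCartier_curve k hdim hC)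
  rw [degOn_eq_pr k hdim hC hL, neg_eq_zero] at h0
  have hle := pr_self_nonpos_of_orth k hdim hH hL hI hsq (by rw [pr_symm k]; exact h0)
  refine lt_of_le_of_ne hle fun hII => ?_
  have hCH := ample_deg_pos k hdim hH hC
  rw [degOn_eq_pr k hdim hC hHi] at hCH
  obtain ⟨J, hJ, ⟨eJ⟩⟩ := H11Sym.exists_inverse hI
  obtain ⟨L', hL', ⟨eL⟩⟩ := H11Sym.exists_inverse hL
  have eJ' := H10Coh.Tw.commIso (ClSub.idealMod C) J ≪≫ eJ
  have eL' := H10Coh.Tw.commIso L L' ≪≫ eL
  -- `v` is orthogonal to `L`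
  obtain ⟨a, ha⟩ := Int.eq_ofNat_of_zero_le hsq.le
  obtain ⟨P, hP, hPv⟩ : ∃ P : X.Modules, PicF.IsInvertible P ∧
      ∀ B : X.Modules, PicF.IsInvertible B → pr k P B = pr k L L * pr k H B - pr k H L * pr k L B := by
    rcases le_total 0 (pr k H L) with hb | hb
    · obtain ⟨b, hb⟩ := Int.eq_ofNat_of_zero_le hb
      refine ⟨_, H11Ample.isInvertible_tensor (H11Ample.isInvertible_tensorPow hHi a)
        (H11Ample.isInvertible_tensorPow hL' b), fun B hB => ?_⟩
      rw [pr_tensor_left k hdim (H11Ample.isInvertible_tensorPow hHi a) (H11Ample.isInvertible_tensorPow hL' b) hB,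
        pr_pow_left k hdim hHi hB, pr_pow_left k hdim hL' hB, pr_inv_left k hdim hL hL' hB eL', hb, ha]
      ring
    · obtain ⟨b, hb⟩ := Int.eq_ofNat_of_zero_le (neg_nonneg.2 hb)
      refine ⟨_, H11Ample.isInvertible_tensor (H11Ample.isInvertible_tensorPow hHi a)
        (H11Ample.isInvertible_tensorPow hL b), fun B hB => ?_⟩
      rw [pr_tensor_left k hdim (H11Ample.isInvertible_tensorPow hHi a) (H11Ample.isInvertible_tensorPow hL b) hB,
        pr_pow_left k hdim hHi hB, pr_pow_left k hdim hL hB, ← hb, ha]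
      ring
  let t := (pr k P P).natAbs + 1
  have hT := H11Ample.isInvertible_tensorPow hJ t
  have hM := H11Ample.isInvertible_tensor hP hT
  have hJB : ∀ {B : X.Modules}, PicF.IsInvertible B →
      pr k (CohB1.tensorPow J t) B = - (t * pr k (ClSub.idealMod C) B) := fun {B} hB => by
    rw [pr_pow_left k hdim hJ hB, pr_inv_left k hdim hI hJ hB eJ']; ring
  have hMM := pr_self_nonpos_of_orth k hdim hH hL hM hsq (by
    rw [pr_symm k, pr_tensor_left k hdim hP hT hL, hPv L hL, hJB hL, h0]; ring)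
  rw [pr_tensor_left k hdim hP hT hM, pr_symm k P, pr_tensor_left k hdim hP hT hP,
    pr_symm k (CohB1.tensorPow J t) (CohB1.tensorMod P _), pr_tensor_left k hdim hP hT hT, pr_symm k P (CohB1.tensorPow J t),
    hJB hT, pr_symm k (ClSub.idealMod C) (CohB1.tensorPow J t), hJB hI, hII, hJB hP, pr_symm k (ClSub.idealMod C) P,
    hPv _ hI, pr_symm k L (ClSub.idealMod C), h0, pr_symm k H (ClSub.idealMod C)] at hMM
  have ht : (t : ℤ) = |pr k P P| + 1 := by simp [t]
  generalize pr k (ClSub.idealMod C) H = c at hCH hMM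
  generalize pr k P P = v at ht hMM
  generalize pr k L L = s at hsq hMM
  nlinarith [mul_pos hsq (neg_pos.2 (show c < 0 by omega)), le_abs_self v, neg_abs_le v]

end Groth.Agent.H28RR
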