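import Groth.Agent.H28RR.AmpleStep
import Groth.Agent.H28RR.Nakai

/-!
# Surfaces with ample anticanonical class
-/

set_option autoImplicit false
set_option linter.style.haveILetI false
set_option linter.unusedSectionVars false
set_option backward.isDefEq.respectTransparency.types false
universe u

open CategoryTheory CategoryTheory.Limits AlgebraicGeometry TopologicalSpace
open Groth.Agent.H28RR.PicNum Groth.Agent.H28RR.ZariskiVol Groth.Agent.H28RR.AmpleStep
open Groth.Agent.H28Surf hiding dot dot_mul_left dot_mul_right dot_pow_left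

noncomputable section

namespace Groth.Agent.H28RR.DelPezzo

attribute [local instance] H28Vert.picLaw

variable {X : Scheme.{u}} (k : Type u) [Field k] [IsAlgClosed k] [X.Over (Spec (CommRingCat.of k))]
  [IsProper (X ↘ Spec (CommRingCat.of k))] [Smooth (X ↘ Spec (CommRingCat.of k))] [IsIntegral X]
  (hdim : topologicalKrullDim X = 2)

include hdim

/-- A class of negative degree on an ample class has no sections. -/
theorem h0_eq_zero {A : PicLoc.PicSet X} (hA : CohB1.IsAmple (rep A)) {c : PicLoc.PicSet X}
    (h : dot k c A < 0) : hc k 0 c = 0 := by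
  by_contra h0
  obtain ⟨S, hS, rfl⟩ := exists_curves k hdim (Nat.pos_of_ne_zero h0)
  rcases eq_or_ne S 0 with rfl | hne
  · rw [Multiset.map_zero, Multiset.prod_zero, dot_one_left k hdim] at h
    omega
  · have := dot_ample_pos k hdim hA hS hne
    omega

/-- `H¹(mD) = 0` for an ample inverse `D` of the canonical module on a surface with `H¹(O) = 0`. -/
theorem h1_pow {W : X.Modules} (hW : ExtPow.IsExtPow 2 (Omega.sheaf (X ↘ Spec (CommRingCat.of k))) W)
    {D : PicLoc.PicSet X} (hD : D * PicGrp.cls W (isInvertible_canonical k hdim hW) = 1)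
    (hA : CohB1.IsAmple (rep D)) (hq : hc k 1 (1 : PicLoc.PicSet X) = 0) (m : ℕ) :
    hc k 1 (D ^ m) = 0 ∧ hc k 1 (PicGrp.cls W (isInvertible_canonical k hdim hW) ^ m) = 0 := by
  set w := PicGrp.cls W (isInvertible_canonical k hdim hW) with hw
  have hwD : w = D⁻¹ := (inv_eq_of_mul_eq_one_right (G := PicLoc.PicSet X) hD).symm
  have hpos : ∀ {C : X.IdealSheafData} (hC : IsCurve C), 0 < dot k D (curveCls k hdim hC) := fun {C} hC => by
    rw [← degOn_eq_dot k hdim hC]
    exact ample_deg_pos k hdim hA hC
  have hDD : 0 < dot k D D := by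
    exact (pr_nonneg_of_nef k hdim hA (rep_inv D) fun C hC => (ample_deg_pos k hdim hA hC).le).2 fun C hC =>
      ample_deg_pos k hdim hA hC
  have hsec : 0 < hc k 0 D := by
    have h1 := chi_rr k hdim hW D
    have h2 := chi_eq_three k hdim D
    have h3 := h2_eq k hdim hW D
    have h4 := chi_eq_three k hdim (1 : PicLoc.PicSet X)
    have h5 : hc k 0 (1 : PicLoc.PicSet X) = 1 := by
      rw [← PicGrp.cls_structureModule_eq_one, hc_cls]
      exact H29RR.finrank_h0_structure k X
    have h6 : hc k 0 (w * D⁻¹) = 0 := h0_eq_zero k hdim hA (by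
      rw [dot_mul_left k hdim, hwD, dot_inv_left k hdim]; omega)
    have h7 : hc k 2 (1 : PicLoc.PicSet X) = 0 := by
      rw [h2_eq k hdim hW, inv_one, mul_one]
      exact h0_eq_zero k hdim hA (by rw [← hw, hwD, dot_inv_left k hdim]; omega)
    rw [← hw] at h1 h3
    rw [hwD, dot_inv_right k hdim] at h1
    rw [hwD] at h3
    rw [hwD] at h6
    have h8 : Curv2.euler k X (Coh.structureModule X) = chi k (1 : PicLoc.PicSet X) :=
      H25Euler.euler_congr (nonempty_rep_one).some.symm
    omega
  have key : ∀ n : ℕ, hc k 1 (D ^ n) = 0 := by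
    intro n
    induction n with
    | zero => rwa [pow_zero]
    | succ n ih =>
      rw [pow_succ]
      refine Nat.le_zero.1 ((h1_mul_le k hdim hW hA hsec (D ^ n) fun C hC => ?_).trans_eq ih)
      rw [← hw, hwD, dot_inv_left k hdim, dot_pow_left k hdim]
      have := hpos hC
      nlinarith
  refine ⟨key m, ?_⟩
  cases m with
  | zero => rw [pow_zero]; exact hq
  | succ m =>
    rw [← NefBigVan.h1_dual k hdim hW, ← hw, hwD, inv_pow, inv_inv, pow_succ', ← mul_assoc, inv_mul_cancel, one_mul]
    exact key m

end Groth.Agent.H28RR.DelPezzo
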