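import Groth.Agent.H28RR.Stein
import Groth.Agent.H28Vert.Genus
import Groth.Agent.H28Vert.ExcConverse
import Groth.Agent.H28RR.MinDesing

/-!
# The Euler characteristic of a component forming a connected component of the closed fibre
-/

set_option autoImplicit false
set_option linter.style.haveILetI false
set_option linter.unusedSectionVars false
set_option backward.isDefEq.respectTransparency.types false
set_option maxHeartbeats 3200000
set_option synthInstance.maxHeartbeats 100000

universe u

open CategoryTheory CategoryTheory.Limits AlgebraicGeometry TopologicalSpace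
open Groth.Agent Groth.Agent.H28RR.LocalBase Groth.Agent.H28RR.LocalExc

noncomputable section

attribute [-instance] instAlgebraAtPrimeFractionRing

namespace Groth.Agent.H28RR.SoleComponent

theorem dim_generic {R : Type u} [CommRing R] [IsDomain R] [IsDiscreteValuationRing R]
    (X : Over (Spec (CommRingCat.of R))) [IsProper X.hom] [Flat X.hom] [IsIntegral X.left]
    (hdim : topologicalKrullDim X.left = 2) :
    topologicalKrullDim ((Neron.genericFibre R).obj X).left = 1 := by
  haveI : IsOpenImmersion (Neron.genPt R) := H28Vert.isOpenImmersion_generic (R := R)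
  let j : ((Neron.genericFibre R).obj X).left ⟶ X.left := pullback.fst X.hom (Neron.genPt R)
  haveI : IsOpenImmersion j := inferInstanceAs (IsOpenImmersion (pullback.fst X.hom (Neron.genPt R)))
  have hsq : IsPullback j (pullback.snd X.hom (Neron.genPt R)) X.hom (Neron.genPt R) := IsPullback.of_hasPullback _ _
  obtain ⟨e₀, -⟩ : genericPoint X.left ∈ j.opensRange := by
    refine H28Vert.mem_opensRange_of_isPullback hsq _ (⟨⊥, Ideal.isPrime_bot⟩ : PrimeSpectrum (FractionRing R)) ?_
    rw [H28Vert.hom_genericPoint_eq_bot]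
    exact PrimeSpectrum.ext (Ideal.comap_bot_of_injective _ (IsFractionRing.injective R (FractionRing R))).symm
  haveI : Nonempty ((Neron.genericFibre R).obj X).left := ⟨e₀⟩
  haveI : IsIntegral ((Neron.genericFibre R).obj X).left := isIntegral_of_isOpenImmersion j
  exact ContractArtin.dim_genericFibre_eq_one (X := X) hdim

/-- Euler characteristics over two fields of which one is finite over the other. -/
theorem eulerCharLE_tower (k K : Type u) [Field k] [Field K] [Algebra k K] {E : Scheme.{u}}
    [E.Over (Spec (CommRingCat.of k))] [E.Over (Spec (CommRingCat.of K))]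
    (h : (E ↘ Spec (CommRingCat.of K)) ≫ Spec.map (CommRingCat.ofHom (algebraMap k K)) =
      E ↘ Spec (CommRingCat.of k)) (M : E.Modules) (d : ℕ) :
    FGA.eulerCharLE k E M d = (Module.finrank k K : ℤ) * FGA.eulerCharLE K E M d := by
  simp only [FGA.eulerCharLE, Finset.mul_sum]
  refine Finset.sum_congr rfl fun i _ => ?_
  rw [H28Vert.finrank_HH_tower k K (fun a => by rw [← toGlobal_comp, h]) M i]
  push_cast
  ring

variable {R : Type u} [CommRing R] [IsDomain R] [IsDiscreteValuationRing R]

/-- The Euler characteristic of the generic fibre is a positive multiple of that of a component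
forming a connected component of the closed fibre. -/
theorem euler_generic_eq (X : Over (Spec (CommRingCat.of R))) [IsProper X.hom] [Flat X.hom] [IsIntegral X.left]
    (hreg : ∀ x : X.left, IsRegularLocalRing (X.left.presheaf.stalk x))
    (hdim : topologicalKrullDim X.left = 2) (E : ArSurf.VertComp R X) (U : X.left.Opens)
    (hU : (U : Set X.left) ∩ Models.specialFibreSet R X = Set.range E.ι.base) :
    ∃ a b : ℕ, 0 < a ∧ 0 < b ∧
      (a : ℤ) * FGA.eulerCharLE (FractionRing R) ((Neron.genericFibre R).obj X).left
        (Coh.structureModule ((Neron.genericFibre R).obj X).left) 1 =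
      (b : ℤ) * ((Models.wdeg R X E : ℤ) - (Models.h1 R X E : ℤ)) := by
  classical
  haveI : IsLocallyNoetherian X.left := LocallyOfFiniteType.isLocallyNoetherian X.hom
  haveI : Nonempty (⊤ : X.left.Opens) := ⟨⟨genericPoint X.left, trivial⟩⟩
  have hnor : ∀ x : X.left, IsIntegrallyClosed (X.left.presheaf.stalk x) := fun x =>
    (H29Ref.isNormalScheme_of_regular hreg x).2
  obtain ⟨hinj, hfin, hded, hfac⟩ := stein_base X hnor
  let A : Type u := Γ(X.left, ⊤)
  haveI : IsDedekindDomain A := hded
  letI algA : Algebra R A := (str X).toAlgebra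
  haveI : Module.Finite R A := hfin
  haveI : FaithfulSMul R A := (faithfulSMul_iff_algebraMap_injective R A).2 hinj
  haveI : Algebra.IsAlgebraic R A := Algebra.IsAlgebraic.of_finite R A
  let β : Spec (CommRingCat.of A) ⟶ Spec (CommRingCat.of R) := Spec.map (CommRingCat.ofHom (algebraMap R A))
  let f : X.left ⟶ Spec (CommRingCat.of A) := X.left.toSpecΓ
  have hfβ : f ≫ β = X.hom := hfac
  haveI : IsProper (f ≫ β) := by rw [hfβ]; infer_instance
  haveI : IsProper f := IsProper.of_comp f β
  haveI : IsProper X.left.toSpecΓ := ‹IsProper f›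
  haveI : IsLocallyNoetherian (Spec (CommRingCat.of A)) := inferInstance
  haveI : IsLocallyNoetherian (Spec Γ(X.left, ⊤)) := ‹IsLocallyNoetherian (Spec (CommRingCat.of A))›
  obtain ⟨ϖ, hϖ⟩ := IsDiscreteValuationRing.exists_irreducible R
  have hfgen : f (genericPoint X.left) = (⊥ : PrimeSpectrum A) := by
    have h1 : β (f (genericPoint X.left)) = (⊥ : PrimeSpectrum R) := by
      rw [← Scheme.Hom.comp_apply, hfβ, H28Vert.hom_genericPoint_eq_bot]
    refine PrimeSpectrum.ext ?_
    exact Ideal.eq_bot_of_comap_eq_bot (R := R) (congrArg PrimeSpectrum.asIdeal h1)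
  haveI : Flat f := flat_of_map_genericPoint f hfgen
  -- the point of the base under the component
  let e₀ := E.ι (genericPoint E.curve.left)
  let P : Ideal A := (f.base e₀ : PrimeSpectrum A).asIdeal
  haveI hPp : P.IsPrime := (f.base e₀ : PrimeSpectrum A).isPrime
  have he₀s : X.hom e₀ = IsLocalRing.closedPoint R := by
    rw [← Scheme.Hom.comp_apply, E.w, Scheme.Hom.comp_apply]
    exact IsLocalRing.PrimeSpectrum.comap_residue R _
  have hPR : P.comap (algebraMap R A) = IsLocalRing.maximalIdeal R := by
    have h1 : β (f e₀) = IsLocalRing.closedPoint R := by rw [← Scheme.Hom.comp_apply, hfβ, he₀s]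
    exact congrArg PrimeSpectrum.asIdeal h1
  have hP : P ≠ ⊥ := fun h0 => by
    rw [h0, Ideal.comap_bot_of_injective (algebraMap R A) (show Function.Injective (algebraMap R A) from hinj)] at hPR
    exact IsDiscreteValuationRing.not_a_field R hPR.symm
  haveI := isMaximal_of_ne_bot P hP
  let p₀ : Spec (CommRingCat.of A) := ⟨P, hPp⟩
  have hp₀ : IsClosed ({p₀} : Set (Spec (CommRingCat.of A))) := isClosed_point P hP
  have hEp : ∀ w, f (E.ι w) = p₀ := fun w => by
    have h1 : f e₀ ⤳ f (E.ι w) := ((genericPoint_specializes w).map E.ι.continuous).map f.continuous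
    exact h1.mem_closed hp₀ rfl
  -- the fibre over it is the component
  have hfib : f ⁻¹' {p₀} = Set.range E.ι.base := by
    refine Set.Subset.antisymm ?_ (by rintro _ ⟨w, rfl⟩; exact hEp w)
    have hs : f ⁻¹' {p₀} ⊆ Models.specialFibreSet R X := fun x hx => by
      show X.hom x = _
      rw [← hfβ, Scheme.Hom.comp_apply, show f x = f e₀ from hx, ← Scheme.Hom.comp_apply, hfβ]
      exact he₀s
    have hc := (isConnected_fibre_toSpecΓ X.left p₀).isPreconnected
    intro x hx
    by_contra hxE
    have hScl : IsClosed (Models.specialFibreSet R X) :=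
      (IsLocalRing.isClosed_singleton_closedPoint (R := R)).preimage X.hom.continuous
    obtain ⟨y, -, hy1, hy2⟩ := isPreconnected_closed_iff.1 hc _ (Models.specialFibreSet R X \ (U : Set X.left))
      E.ι.isClosedEmbedding.isClosed_range (hScl.sdiff U.2) (fun z hz => by
        by_cases hzU : z ∈ U
        · exact Or.inl (hU.le ⟨hzU, hs hz⟩)
        · exact Or.inr ⟨hs hz, hzU⟩)
      ⟨e₀, hEp _, ⟨_, rfl⟩⟩ ⟨x, hx, hs hx, fun hxU => hxE (hU.le ⟨hxU, hs hx⟩)⟩
    exact hy2.2 (hU.ge hy1).1
  let X' : Over (Spec (CommRingCat.of A)) := Over.mk f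
  haveI : IsProper X'.hom := ‹IsProper f›
  haveI : Flat X'.hom := ‹Flat f›
  haveI : IsIntegral X'.left := ‹IsIntegral X.left›
  let T := Localization.AtPrime P
  haveI : IsDiscreteValuationRing T := isDVR P hP
  let XT := locX P X'
  haveI : IsProper XT.hom := MorphismProperty.pullback_snd (P := @IsProper) X'.hom (locMap P) ‹_›
  haveI : Flat XT.hom := MorphismProperty.pullback_snd (P := @Flat) X'.hom (locMap P) ‹_›
  haveI : IsIntegral XT.left := isIntegral_locX P X'
  haveI : IsLocallyNoetherian XT.left := LocallyOfFiniteType.isLocallyNoetherian XT.hom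
  have hregT : Models.IsRegularScheme XT.left := isRegularLocalRing_stalk P X' hreg
  -- the component over the localised base
  let cp := Spec.map (CommRingCat.ofHom (IsLocalRing.residue T))
  haveI : IsClosedImmersion cp := IsClosedImmersion.spec_of_surjective _ IsLocalRing.residue_surjective
  haveI := isClosedImmersion_residue P hP
  obtain ⟨ψ, hψ⟩ := H17.exists_lift_of_range_subset (E.ι ≫ f) (cp ≫ locMap P) (by
    rintro _ ⟨w, rfl⟩
    refine ⟨IsLocalRing.closedPoint _, ?_⟩
    rw [Scheme.Hom.comp_apply, Scheme.Hom.comp_apply, hEp w]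
    exact (congrArg (locMap P) (IsLocalRing.PrimeSpectrum.comap_residue _ _)).trans (locMap_closedPoint P))
  let kE : E.curve.left ⟶ XT.left := pullback.lift E.ι (ψ ≫ cp) (by rw [Category.assoc, hψ]; rfl)
  have hk : kE ≫ jX P X' = E.ι := pullback.lift_fst _ _ _
  haveI : IsClosedImmersion (kE ≫ jX P X') := hk.symm ▸ E.isClosedImmersion
  haveI : IsClosedImmersion kE := IsClosedImmersion.of_comp kE (jX P X')
  let ET : ArSurf.VertComp T XT :=
    { curve := Over.mk ψ
      ι := kE
      isClosedImmersion := inferInstance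
      isIntegral := E.isIntegral
      dim_eq := E.dim_eq
      w := pullback.lift_snd _ _ _ }
  have hST : Models.specialFibreSet T XT = Set.range kE.base := by
    ext x'
    constructor
    · intro hx'
      have h1 : f (jX P X' x') = p₀ := by
        show (jX P X' ≫ X'.hom) x' = _
        rw [jX_w, Scheme.Hom.comp_apply, show XT.hom x' = IsLocalRing.closedPoint T from hx']
        exact locMap_closedPoint P
      obtain ⟨w, hw⟩ := hfib.le h1
      exact ⟨w, (jX P X').isEmbedding.injective (by
        show (kE ≫ jX P X') w = _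
        rw [hk]; exact hw)⟩
    · rintro ⟨w, rfl⟩
      show XT.hom (kE w) = _
      rw [← Scheme.Hom.comp_apply, ET.w, Scheme.Hom.comp_apply]
      exact IsLocalRing.PrimeSpectrum.comap_residue T _
  have hirr : IsIrreducible (Set.range kE.base) := by
    rw [← Set.image_univ]
    haveI := E.isIntegral
    exact (IrreducibleSpace.isIrreducible_univ _).image _ kE.continuous.continuousOn
  let Γs : Fin 1 → ArSurf.VertComp T XT := fun _ => ET
  have hΓs : Models.IsComponentList T XT Γs := by
    refine ⟨fun a b _ => Subsingleton.elim a b, Set.ext fun Z => ⟨?_, fun hZ => ⟨0, ?_⟩⟩⟩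
    · rintro ⟨i, rfl⟩
      exact ⟨⟨hirr, hST.ge⟩, fun Z hZ _ => hZ.2.trans hST.le⟩
    · exact Set.Subset.antisymm (hZ.2 ⟨hirr, hST.ge⟩ (hZ.1.2.trans hST.le)) (hZ.1.2.trans hST.le)
  choose L hLi hL using fun l => H11Sym.exists_inverse
    (H29Blow.isInvertible_of_isEffCartierIdeal _ (H28Vert.isEffCartierIdeal_ker hregT hΓs l))
  have hχ := H28Vert.euler_closedFibre hregT hΓs hL
  have hsum := H28Vert.sum_mult_inter Γs hΓs 0 (hL 0)
  rw [Fin.sum_univ_one] at hχ hsum
  have hm : 0 < Models.mult T XT (Γs 0) := H28Vert.mult_pos hΓs 0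
  have hsq0 : ArSurf.inter T XT (L 0) (Γs 0) = 0 :=
    (mul_eq_zero.1 hsum).resolve_left (by exact_mod_cast hm.ne')
  rw [hsq0, zero_add] at hχ
  -- constants
  let k := IsLocalRing.ResidueField R
  let κ := IsLocalRing.ResidueField T
  haveI : IsLocalHom (algebraMap R T) := by
    constructor
    intro r hr
    by_contra hrn
    have h1 : algebraMap R A r ∈ P := hPR.ge ((IsLocalRing.mem_maximalIdeal r).2 hrn)
    rw [IsScalarTower.algebraMap_apply R A T] at hr
    exact (IsLocalization.AtPrime.isUnit_to_map_iff T P _).1 hr h1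
  letI : ET.curve.left.Over (Spec (CommRingCat.of k)) := ⟨E.curve.hom⟩
  have hψk : ψ ≫ Spec.map (CommRingCat.ofHom (algebraMap k κ)) = E.curve.hom := by
    haveI : IsClosedImmersion (Spec.map (CommRingCat.ofHom (IsLocalRing.residue R))) :=
      IsClosedImmersion.spec_of_surjective _ IsLocalRing.residue_surjective
    rw [← cancel_mono (Spec.map (CommRingCat.ofHom (IsLocalRing.residue R))), ← E.w, Category.assoc,
      ← Spec.map_comp, ← hfβ, ← Category.assoc E.ι, ← hψ, Category.assoc, Category.assoc, ← Spec.map_comp,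
      ← Spec.map_comp]
    rfl
  have hw : (Models.wdeg R X E : ℤ) = (Module.finrank k κ : ℤ) * Models.wdeg T XT (Γs 0) ∧
      (Models.h1 R X E : ℤ) = (Module.finrank k κ : ℤ) * Models.h1 T XT (Γs 0) := by
    constructor <;> rw [← Nat.cast_mul, Nat.cast_inj] <;>
      exact H28Vert.finrank_HH_tower k κ (E := ET.curve.left) (fun a => by
        rw [← toGlobal_comp]
        exact congrArg (fun q => Coh.toGlobal q a) hψk) _ _
  have hdpos : 0 < Module.finrank k κ := by
    rcases Nat.eq_zero_or_pos (Module.finrank k κ) with h0 | h0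
    · have h1 := hw.1
      rw [h0, Nat.cast_zero, zero_mul] at h1
      exact absurd (H28Vert.wdeg_pos E) (by omega)
    · exact h0
  -- the generic fibre
  let K := FractionRing R
  let K' := FractionRing A
  haveI : IsScalarTower R A K' := inferInstance
  have hinjK : Function.Injective (algebraMap R K') := by
    rw [IsScalarTower.algebraMap_eq R A K']
    exact (IsFractionRing.injective A K').comp hinj
  letI algK : Algebra K K' := (IsFractionRing.lift (A := R) (K := K)
    hinjK).toAlgebra
  haveI : IsScalarTower R K K' := .of_algebraMap_eq fun r =>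
    (IsFractionRing.lift_algebraMap (A := R) (K := K)
      hinjK r).symm
  haveI : IsLocalization (Algebra.algebraMapSubmonoid A (nonZeroDivisors R)) K' := inferInstance
  haveI : Algebra.IsPushout R A K K' := Algebra.isPushout_of_isLocalization (nonZeroDivisors R) K A K'
  haveI : Module.Finite K K' := Module.Finite.of_isLocalization R A (nonZeroDivisors R)
  have hsqA : IsPullback (Spec.map (CommRingCat.ofHom (algebraMap A K')))
      (Spec.map (CommRingCat.ofHom (algebraMap K K'))) β (Neron.genPt R) :=
    isPullback_SpecMap_of_isPushout (CommRingCat.ofHom (algebraMap R A)) (CommRingCat.ofHom (algebraMap R K))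
      _ _ (CommRingCat.isPushout_of_isPushout R A K K')
  let Q := pullback f (Spec.map (CommRingCat.ofHom (algebraMap A K')))
  let g : Q ⟶ X.left := pullback.fst _ _
  let qK' : Q ⟶ Spec (CommRingCat.of K') := pullback.snd _ _
  let qK : Q ⟶ Spec (CommRingCat.of K) := qK' ≫ Spec.map (CommRingCat.ofHom (algebraMap K K'))
  have hQR : IsPullback g qK X.hom (Neron.genPt R) := by
    have h := (IsPullback.of_hasPullback f (Spec.map (CommRingCat.ofHom (algebraMap A K')))).paste_vert hsqA
    rwa [hfβ] at h
  letI : Q.Over (Spec (CommRingCat.of K)) := ⟨qK⟩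
  letI : Q.Over (Spec (CommRingCat.of K')) := ⟨qK'⟩
  let G := ((Neron.genericFibre R).obj X).left
  have hO : Coh.IsCoh (Coh.structureModule X.left) := H10Coh.isCoh_structureModule' X.left
  have hOfl : FlatMod.IsFlatOver X.hom (Coh.structureModule X.left) := fun x =>
    (H06EGA9.isFlatOverAt_structureModule_iff X.hom x).2 (Flat.stalkMap X.hom x)
  have hGQ : Curv2.euler K G (Coh.structureModule G) = Curv2.euler K Q (Coh.structureModule Q) := by
    have hc := H28Bc.euler_eq_euler X.hom (Coh.structureModule X.left) hO hOfl H06EGA9.isFP_structureModule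
      (X' := G) (pullback.fst X.hom (Neron.genPt R)) (Neron.genPt R) (IsPullback.of_hasPullback _ _)
      g (Neron.genPt R) hQR
    exact (H25Euler.euler_congr (H16Derived.KFlat.Stalk.structurePullbackIso _)).symm.trans
      (hc.trans (H25Euler.euler_congr (H16Derived.KFlat.Stalk.structurePullbackIso g)))
  letI : Algebra T K' := (IsLocalization.lift (M := P.primeCompl) (g := algebraMap A K') fun y =>
    isUnit_iff_ne_zero.2 ((map_ne_zero_iff _ (IsFractionRing.injective A K')).2 fun h0 =>
      y.2 (by rw [h0]; exact P.zero_mem))).toAlgebra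
  haveI : IsScalarTower A T K' := .of_algebraMap_eq fun a => (IsLocalization.lift_eq _ a).symm
  let t' : Spec (CommRingCat.of K') ⟶ Spec (CommRingCat.of T) := Spec.map (CommRingCat.ofHom (algebraMap T K'))
  have ht' : t' ≫ locMap P = Spec.map (CommRingCat.ofHom (algebraMap A K')) := by
    rw [← Spec.map_comp, ← CommRingCat.ofHom_comp, ← IsScalarTower.algebraMap_eq]
  let g' : Q ⟶ XT.left := pullback.lift g (qK' ≫ t') (by rw [Category.assoc, ht']; exact pullback.condition)
  have hQT : IsPullback g' qK' XT.hom t' := by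
    refine IsPullback.of_right (h₁₂ := jX P X') (v₁₃ := X'.hom) (h₂₂ := locMap P) ?_ (pullback.lift_snd _ _ _)
      (IsPullback.of_hasPullback _ _)
    rw [ht', pullback.lift_fst]
    exact IsPullback.of_hasPullback f (Spec.map (CommRingCat.ofHom (algebraMap A K')))
  let F := pullback XT.hom (H28Vert.closedPt T)
  haveI : IsProper (F ↘ Spec (CommRingCat.of κ)) := inferInstanceAs (IsProper (pullback.snd XT.hom (H28Vert.closedPt T)))
  have hOT : Coh.IsCoh (Coh.structureModule XT.left) := H10Coh.isCoh_structureModule' XT.left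
  have hOTfl : FlatMod.IsFlatOver XT.hom (Coh.structureModule XT.left) := fun x =>
    (H06EGA9.isFlatOverAt_structureModule_iff XT.hom x).2 (Flat.stalkMap XT.hom x)
  have hFQ : Curv2.euler κ F (Coh.structureModule F) = Curv2.euler K' Q (Coh.structureModule Q) := by
    have hc := H28Bc.euler_eq_euler XT.hom (Coh.structureModule XT.left) hOT hOTfl H06EGA9.isFP_structureModule
      (X' := F) (pullback.fst XT.hom (H28Vert.closedPt T)) (H28Vert.closedPt T) (IsPullback.of_hasPullback _ _)
      g' t' hQT
    exact (H25Euler.euler_congr (H16Derived.KFlat.Stalk.structurePullbackIso _)).symm.trans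
      (hc.trans (H25Euler.euler_congr (H16Derived.KFlat.Stalk.structurePullbackIso g')))
  haveI : IsProper (G ↘ Spec (CommRingCat.of K)) :=
    MorphismProperty.pullback_snd (P := @IsProper) X.hom (Neron.genPt R) ‹_›
  haveI : IsProper (Q ↘ Spec (CommRingCat.of K)) :=
    MorphismProperty.of_isPullback hQR (inferInstance : IsProper X.hom)
  haveI : IsProper (Q ↘ Spec (CommRingCat.of K')) :=
    MorphismProperty.pullback_snd (P := @IsProper) f _ ‹_›
  have hGd : topologicalKrullDim G = 1 := dim_generic X hdim
  have hQd : topologicalKrullDim Q ≤ ((1 : ℕ) : WithBot ℕ∞) := by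
    have e := hQR.isoPullback
    rw [e.hom.homeomorph.isHomeomorph.topologicalKrullDim_eq]
    exact_mod_cast hGd.le
  have hχK : FGA.eulerCharLE K G (Coh.structureModule G) 1 =
      (Module.finrank K K' : ℤ) * Curv2.euler K' Q (Coh.structureModule Q) := by
    rw [H28Int.eulerCharLE_eq K (d := 1) (by exact_mod_cast hGd.le) H10Coh.isQuasicoherent_unit, hGQ,
      ← H28Int.eulerCharLE_eq K (d := 1) hQd H10Coh.isQuasicoherent_unit,
      ← H28Int.eulerCharLE_eq K' (d := 1) hQd H10Coh.isQuasicoherent_unit]
    exact eulerCharLE_tower K K' (by rfl) _ 1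
  have hc : 0 < Module.finrank K K' := Module.finrank_pos
  refine ⟨Module.finrank k κ, Module.finrank K K' * Models.mult T XT (Γs 0), hdpos,
    Nat.mul_pos hc hm, ?_⟩
  rw [hχK, ← hFQ, hw.1, hw.2, Nat.cast_mul]
  have hχ' : Curv2.euler κ F (Coh.structureModule F) = (Models.mult T XT (Γs 0) : ℤ) *
      ((Models.wdeg T XT (Γs 0) : ℤ) - (Models.h1 T XT (Γs 0) : ℤ)) :=
    mul_left_cancel₀ (two_ne_zero (α := ℤ)) (hχ.trans (by ring))
  linear_combination (Module.finrank k κ : ℤ) * (Module.finrank K K' : ℤ) * hχ'

end Groth.Agent.H28RR.SoleComponent
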