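import Groth.Agent.H28RR.CanonBC
import Groth.Agent.H28RR.CanonModel
import Groth.Agent.H17.Canon.AmpleBound
import Groth.Agent.H29RR.MonoHom
import Groth.Agent.H28NT.ConnectedDVR
import Groth.Agent.H28Vert.Form
import Groth.Agent.H28Vert.RatPoint
import Groth.Agent.H28RR.SoleComponent
import Groth.Agent.S13316
import Groth.Agent.S13321

/-!
# The canonical sheaf of a minimal elliptic surface is trivial
-/

set_option autoImplicit false
set_option linter.style.haveILetI false
set_option linter.unusedSectionVars false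
set_option backward.isDefEq.respectTransparency false
set_option synthInstance.maxHeartbeats 400000
set_option maxHeartbeats 3200000

universe u

open CategoryTheory CategoryTheory.Limits AlgebraicGeometry Opposite TopologicalSpace
open Groth.Agent

namespace Groth.Agent.H28RR.Elliptic

attribute [local instance] H29CurveDual.homModule

variable {R : Type u} [CommRing R] [IsDomain R] [IsDiscreteValuationRing R]

/-- The canonical sheaf is trivial on the generic fibre when that has vanishing Euler characteristic. -/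
theorem nonempty_iso_generic (X : Over (Spec (CommRingCat.of R))) (hX : ArSurf.IsArithSurface R X)
    (hg : FGA.eulerCharLE (FractionRing R) ((Neron.genericFibre R).obj X).left
      (Coh.structureModule ((Neron.genericFibre R).obj X).left) 1 = 0)
    {ω : X.left.Modules} (hω : Canon.IsCanonical X.hom ω) :
    Nonempty ((Scheme.Modules.pullback (pullback.fst X.hom (Neron.genPt R))).obj ω ≅
      Coh.structureModule (pullback X.hom (Neron.genPt R))) := by
  haveI : IsProper X.hom := H28Vert.isProper_of_isArithSurface hX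
  haveI : IsIntegral X.left := hX.2.1
  haveI : Flat X.hom := hX.2.2.2.1
  let K := FractionRing R
  let C := pullback X.hom (Neron.genPt R)
  let g := pullback.fst X.hom (Neron.genPt R)
  letI : C.Over (Spec (CommRingCat.of K)) := ⟨pullback.snd X.hom (Neron.genPt R)⟩
  haveI : IsProper (C ↘ Spec (CommRingCat.of K)) :=
    inferInstanceAs (IsProper (pullback.snd X.hom (Neron.genPt R)))
  haveI : IsOpenImmersion (Neron.genPt R) := H28Vert.isOpenImmersion_generic (R := R)
  haveI : IsOpenImmersion g := inferInstanceAs (IsOpenImmersion (pullback.fst X.hom (Neron.genPt R)))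
  haveI : IsLocallyNoetherian X.left := LocallyOfFiniteType.isLocallyNoetherian X.hom
  haveI : IsLocallyNoetherian C := LocallyOfFiniteType.isLocallyNoetherian (C ↘ Spec (CommRingCat.of K))
  have hCd : topologicalKrullDim C = 1 := SoleComponent.dim_generic X hX.2.2.1
  haveI : Nonempty C := by
    by_contra h
    haveI : IsEmpty C := not_nonempty_iff.1 h
    have h2 : topologicalKrullDim C = ⊥ :=
      Order.krullDim_eq_bot_iff.2 ⟨fun Z => (isEmptyElim Z.isIrreducible.nonempty.choose : False)⟩
    rw [hCd] at h2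
    exact WithBot.coe_ne_bot h2
  haveI : IsIntegral C := isIntegral_of_isOpenImmersion g
  haveI : IsNoetherian C := H28Int.isNoetherian K (X := C)
  have hω' := hω
  obtain ⟨Z, i, q, c, m, hfac, hreg, hn, -, -, -⟩ := hω'
  haveI := hreg.1
  haveI : Smooth q := SmoothOfRelativeDimension.smooth m q
  have hkY : ∀ y, Synt.IsKoszulAt X.hom y := fun y => by
    rw [← hfac]
    exact H8Props.KoszImm.isKoszulAt_comp _ _ _
        (S9773.result i _ (Or.inl rfl) (H17.CanonSm.regImm_of_ofCodim hreg) _)
        (H8Props.AlgSpLci.isKoszulAt_of_smooth q _)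
  have hkC : ∀ x, Synt.IsKoszulAt (C ↘ Spec (CommRingCat.of K)) x := fun x =>
    H8Props.KoszImm.isKoszulAt_baseChange X.hom (Neron.genPt R) _ g (IsPullback.of_hasPullback _ _) x (hkY _)
  obtain ⟨ω₀, hω₀i, hω₀, t, ht⟩ := H17.CanonSm.exists_canonical_dual_curve (k := K) (X := C) hCd hkC
  let ωC := (Scheme.Modules.pullback g).obj ω
  have hωCi : PicF.IsInvertible ωC := H11Ample.isInvertible_pullback g (H17.CanonSm.isInvertible_of_isCanonical hω)
  have hωC : Canon.IsCanonical (C ↘ Spec (CommRingCat.of K)) ωC :=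
    CanonBC.isCanonical_baseChange (IsPullback.of_hasPullback X.hom (Neron.genPt R)) hω
  obtain ⟨w⟩ := H17.CanonSm.nonempty_pullback_iso_of_isCanonical (𝟙 C) (𝟙 C) rfl hωC hω₀
  let eω : ωC ≅ ω₀ := ((Scheme.Modules.pullbackId C).app ωC).symm ≪≫ w ≪≫ (Scheme.Modules.pullbackId C).app ω₀
  -- degree zero with a section
  have hχ := H17.CanonSm.euler_canonical_curve hω₀i ht
  have hO : FGA.eulerCharLE K C (Coh.structureModule C) 1 = 0 := hg
  have h1 : Module.finrank K (Coh.HH C (Coh.structureModule C) 1) =
      Module.finrank K (Coh.structureModule C ⟶ ω₀) := by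
    haveI := H10Coh.finite_HH_proper K C _ (H10Coh.isCoh_structureModule' C) 1
    rw [H29CurveDual.finrank_hom_dual t (ht _ (H10Coh.isCoh_structureModule' C)), Subspace.dual_finrank_eq]
  have h0 : 0 < Module.finrank K (Coh.HH C (Coh.structureModule C) 0) := by
    haveI : Nontrivial Γ(Coh.structureModule C, ⊤) := inferInstanceAs (Nontrivial Γ(C, ⊤))
    haveI : Nontrivial (Coh.HH C (Coh.structureModule C) 0) :=
      (H10Coh.HH0Equiv (Coh.structureModule C)).toEquiv.nontrivial
    haveI := H10Coh.finite_HH_proper K C _ (H10Coh.isCoh_structureModule' C) 0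
    exact Module.finrank_pos
  have hpos : 0 < Module.finrank K (Coh.structureModule C ⟶ ω₀) := by
    simp only [FGA.eulerCharLE, Finset.sum_range_succ, Finset.sum_range_zero, zero_add, pow_zero, pow_one,
      one_mul] at hO
    omega
  haveI := Module.nontrivial_of_finrank_pos hpos
  obtain ⟨s, hs⟩ := exists_ne (0 : Coh.structureModule C ⟶ ω₀)
  have hdeg : Curv2.deg K C ω₀ 1 ≤ 0 := by
    rw [H29RR.deg_def, ← H28Int.eulerCharLE_eq K hCd.le (H11Ample.isCoh_of_isInvertible hω₀i).1,
      ← H28Int.eulerCharLE_eq K hCd.le H10Coh.isQuasicoherent_unit, hχ, hO]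
    simp
  haveI := (H29RR.deg_nonneg_of_hom (k := K) hCd.le hω₀i hs).2 hdeg
  exact ⟨eω ≪≫ (asIso s).symm⟩

attribute [local instance] H28Vert.picLaw

/-- The canonical sheaf of a relatively minimal elliptic surface with a section is trivial. -/
theorem nonempty_iso (X : Over (Spec (CommRingCat.of R))) (hX : ArSurf.IsArithSurface R X)
    (hmin : Neron.IsRelMinimalRegularModel R X)
    (hg : FGA.eulerCharLE (FractionRing R) ((Neron.genericFibre R).obj X).left
      (Coh.structureModule ((Neron.genericFibre R).obj X).left) 1 = 0)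
    (hsurj : Function.Surjective (pullback.snd X.hom (Neron.genPt R)).appTop)
    (σ : Spec (CommRingCat.of R) ⟶ X.left) (hσ : σ ≫ X.hom = 𝟙 _)
    {ω : X.left.Modules} (hω : Canon.IsCanonical X.hom ω) : Nonempty (ω ≅ Coh.structureModule X.left) := by
  classical
  haveI : IsProper X.hom := H28Vert.isProper_of_isArithSurface hX
  haveI : IsIntegral X.left := hX.2.1
  haveI : Flat X.hom := hX.2.2.2.1
  haveI : IsLocallyNoetherian X.left := LocallyOfFiniteType.isLocallyNoetherian X.hom
  haveI : IsOpenImmersion (Neron.genPt R) := H28Vert.isOpenImmersion_generic (R := R)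
  have hωi := H17.CanonSm.isInvertible_of_isCanonical hω
  obtain ⟨n, Γ, hΓ⟩ := H28Vert.exists_isComponentList' (R := R) (X := X) hX.2.2.1
  choose L hL using fun i => H11Sym.exists_inverse
    (H29Blow.isInvertible_of_isEffCartierIdeal _ (H28Vert.isEffCartierIdeal_ker hX.1 hΓ i))
  -- degrees on the components
  have hdeg : ∀ i, ArSurf.inter R X ω (Γ i) = 0 := fun i => by
    have hsum := S13316.result R X hX Γ hΓ ω hω
    rw [hg, mul_zero] at hsum
    have hnef := fun C => (S13321.result R X hX hg.le ω hω).1 hmin C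
    have h := (Finset.sum_eq_zero_iff_of_nonneg fun j _ => mul_nonneg (Nat.cast_nonneg _) (hnef (Γ j))).1 hsum i
      (Finset.mem_univ i)
    rcases mul_eq_zero.1 h with h' | h'
    · exact absurd (Nat.cast_eq_zero.1 h') (H28Vert.mult_pos hΓ i).ne'
    · exact h'
  -- trivial off the closed fibre
  obtain ⟨e⟩ := nonempty_iso_generic X hX hg hω
  obtain ⟨g₀, hg₀⟩ := H28Vert.exists_gen_of_trivial_pullback (pullback.fst X.hom (Neron.genPt R)) ω ⟨e⟩
  obtain ⟨c, hc⟩ := PrincipalOffSet.cls_eq_prod_of_gen (X := X) hX.1 hΓ Finset.univ _ (fun z hz => by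
    have hns : z ∉ Models.specialFibreSet R X := fun hs => by
      obtain ⟨W, hW, hzW⟩ := H28Vert.exists_maximal_irreducible_subset (R := R) (X := X) (t := z) hs
      obtain ⟨j, hj⟩ := hΓ.2.ge hW
      exact hz j (Finset.mem_univ j) ((show Set.range (Γ j).ι.base = W from hj).ge hzW)
    refine (Scheme.Pullback.range_fst X.hom (Neron.genPt R)).ge ?_
    show X.hom z ∈ Set.range (Neron.genPt R)
    refine ⟨default, ?_⟩
    have hbot : (X.hom z).asIdeal = ⊥ := by
      by_contra hne
      exact hns (PrimeSpectrum.ext (IsLocalRing.eq_maximalIdeal ((X.hom z).isPrime.isMaximal hne)))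
    refine PrimeSpectrum.ext (Eq.trans ?_ hbot.symm)
    rw [show (default : Spec (CommRingCat.of (FractionRing R))) = (⊥ : PrimeSpectrum (FractionRing R)) from
      Subsingleton.elim (α := PrimeSpectrum (FractionRing R)) _ _]
    exact Ideal.comap_bot_of_injective _ (IsFractionRing.injective R (FractionRing R))) hωi hg₀
  have hLi : ∀ i, PicF.IsInvertible (L i) := fun i => (hL i).1
  have hQ : ∀ i, H28Vert.idealCls (H28Vert.isEffCartierIdeal_ker hX.1 hΓ i) = (PicGrp.cls (L i) (hLi i))⁻¹ :=
    fun i => (PicGrp.cls_inv_eq_cls (hLi i) _ (hL i).2).symm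
  have hker : ∀ k, ∑ i, c i * ArSurf.inter R X (L i) (Γ k) = 0 := fun k => by
    have h1 := congrArg (fun t => Multiplicative.toAdd (H28Vert.degHom (X := X) (Γ k) t)) hc
    simp only [map_prod, map_zpow, hQ, map_inv, H28Vert.degHom_cls, toAdd_prod, toAdd_zpow, toAdd_inv,
      toAdd_ofAdd, hdeg, smul_eq_mul, mul_neg, Finset.sum_neg_distrib] at h1
    linarith
  -- a component of multiplicity one
  letI : X.left.Over (Spec (CommRingCat.of R)) := ⟨X.hom⟩
  haveI : IsProper (X.left ↘ Spec (CommRingCat.of R)) := ‹IsProper X.hom›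
  have hpre : _root_.IsPreconnected (Models.specialFibreSet R X) :=
    H28NT.isPreconnected_closedFibre (X := X.left) (A := R) (H28NT.toGlobal_surjective_of_genericFibre R X.hom
      (pullback.snd X.hom (Neron.genPt R)) (pullback.fst X.hom (Neron.genPt R)) (IsPullback.of_hasPullback _ _) hsurj)
  obtain ⟨q, hq⟩ := (H28Vert.kernel_iff hΓ (fun j => (hL j).2) hpre c).1 hker
  obtain ⟨ϖ, hϖ⟩ := IsDiscreteValuationRing.exists_irreducible R
  have hx₀ := H28Vert.section_closedPoint (X := X) σ hσ hX.1 hϖ
  obtain ⟨W, hW, hxW⟩ := H28Vert.exists_maximal_irreducible_subset (R := R) (X := X)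
    (t := σ (IsLocalRing.closedPoint R)) (show X.hom (σ (IsLocalRing.closedPoint R)) = IsLocalRing.closedPoint R by
      rw [← Scheme.Hom.comp_apply, hσ]; rfl)
  obtain ⟨l, hlW⟩ := hΓ.2.ge hW
  have hl : Models.mult R X (Γ l) = 1 := H28Vert.mult_eq_one_of_mem hX.1 hΓ l (H28Vert.mult_pos hΓ l)
    ((show Set.range (Γ l).ι.base = W from hlW).ge hxW) hϖ hx₀.2.2.2.1
  have hint : ∀ i, c i = c l * (Models.mult R X (Γ i) : ℤ) := fun i => by
    have h := hq l
    rw [hl, Nat.cast_one, mul_one] at h
    have h' := hq i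
    rw [← h] at h'
    exact_mod_cast h'
  refine (PicGrp.cls_eq_one_iff hωi).1 (hc.trans ?_)
  have h1 := H28Vert.prod_idealCls_mult (R := R) (X := X) hX.1 hΓ
  calc ∏ i, H28Vert.idealCls (H28Vert.isEffCartierIdeal_ker hX.1 hΓ i) ^ c i
      = ∏ i, (H28Vert.idealCls (H28Vert.isEffCartierIdeal_ker hX.1 hΓ i) ^ Models.mult R X (Γ i)) ^ c l :=
        Finset.prod_congr rfl fun i _ => by rw [← zpow_natCast, ← zpow_mul, hint i, mul_comm]
    _ = 1 := by rw [Finset.prod_zpow, h1, one_zpow]

end Groth.Agent.H28RR.Elliptic
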