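import Groth.Agent.H28RR.ModelUniqueN
import Groth.Agent.H28RR.LocalExtend
import Groth.Agent.H28RR.SoleNef
import Groth.Agent.S13320

/-!
# Relatively minimal surfaces with `χ(O) ≤ 0` on the generic fibre receive morphisms of generic fibres

No hypothesis on the field of constants of the generic fibre is needed: the canonical sheaf of the
localisations is nef.
-/

set_option autoImplicit false
set_option linter.style.haveILetI false
set_option linter.unusedSectionVars false
set_option backward.isDefEq.respectTransparency.types false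
set_option maxHeartbeats 1600000

universe u

open CategoryTheory CategoryTheory.Limits AlgebraicGeometry TopologicalSpace
open Groth.Agent

noncomputable section

attribute [-instance] instAlgebraAtPrimeFractionRing

namespace Groth.Agent.H28RR.NefGlue

open LocalBase LocalGlue

variable {R : Type u} [CommRing R] [IsDedekindDomain R]

/-- The Euler characteristic of a field-valued fibre over the generic point, as that of the family. -/
theorem euler_eq_at_bot (Y : Over (Spec (CommRingCat.of R))) [IsProper Y.hom] [Flat Y.hom]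
    {K : Type u} [Field K] {C : Scheme.{u}} [C.Over (Spec (CommRingCat.of K))]
    [IsProper (C ↘ Spec (CommRingCat.of K))] (hd : topologicalKrullDim C ≤ ((1 : ℕ) : WithBot ℕ∞))
    (g : C ⟶ Y.left) (t : Spec (CommRingCat.of K) ⟶ Spec (CommRingCat.of R))
    (hsq : IsPullback g (C ↘ Spec (CommRingCat.of K)) Y.hom t) (ht : ∀ s, t.base s = (⊥ : PrimeSpectrum R)) :
    FGA.eulerCharLE K C (Coh.structureModule C) 1 =
      PerfAux.eulerChar Y.hom (Coh.structureModule Y.left) (⊥ : PrimeSpectrum R) := by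
  haveI : IsLocallyNoetherian Y.left := LocallyOfFiniteType.isLocallyNoetherian Y.hom
  have hO : Coh.IsCoh (Coh.structureModule Y.left) := H10Coh.isCoh_structureModule' Y.left
  have hOfl : FlatMod.IsFlatOver Y.hom (Coh.structureModule Y.left) := fun x =>
    (H06EGA9.isFlatOverAt_structureModule_iff Y.hom x).2 (Flat.stalkMap Y.hom x)
  rw [H28Int.eulerCharLE_eq K (d := 1) hd H10Coh.isQuasicoherent_unit,
    ← H28Bc.euler_eq_eulerChar Y.hom (Coh.structureModule Y.left) hO hOfl g t hsq ht]
  exact (H25Euler.euler_congr (H16Derived.KFlat.Stalk.structurePullbackIso g)).symm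

theorem genPt_apply {A : Type u} [CommRing A] [IsDomain A] (s) :
    (Neron.genPt A).base s = (⊥ : PrimeSpectrum A) := by
  have hs : PrimeSpectrum.asIdeal (R := FractionRing A) s = ⊥ :=
    (Ideal.eq_bot_or_top _).resolve_right (PrimeSpectrum.isPrime _).ne_top
  refine PrimeSpectrum.ext ?_
  show (PrimeSpectrum.asIdeal (R := FractionRing A) s).comap (algebraMap A (FractionRing A)) = ⊥
  rw [hs]
  exact Ideal.comap_bot_of_injective _ (IsFractionRing.injective A (FractionRing A))

theorem genPt_locMap_apply (P : Ideal R) [P.IsPrime] (s) :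
    (Neron.genPt (Localization.AtPrime P) ≫ locMap P).base s = (⊥ : PrimeSpectrum R) := by
  rw [Scheme.Hom.comp_apply, genPt_apply]
  refine PrimeSpectrum.ext ?_
  exact Ideal.comap_bot_of_injective _
    (IsLocalization.injective (Localization.AtPrime P) P.primeCompl_le_nonZeroDivisors)

variable {X : Over (Spec (CommRingCat.of R))} {C : Scheme.{u}} {f : C ⟶ Spec (CommRingCat.of (FractionRing R))}
  {g : C ⟶ X.left}

/-- `χ ≤ 0` on one generic fibre gives it on the generic fibres of the localisations. -/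
theorem euler_locX_nonpos (hR : ¬ IsField R) (hX : ArSurf.IsArithSurface R X)
    (hg : IsPullback g f X.hom (Neron.genPt R))
    (hχ : PerfAux.eulerChar X.hom (Coh.structureModule X.left) (⊥ : PrimeSpectrum R) ≤ 0)
    (P : Ideal R) [P.IsPrime] (hP : P ≠ ⊥) :
    FGA.eulerCharLE (FractionRing (Localization.AtPrime P))
      ((Neron.genericFibre (Localization.AtPrime P)).obj (locX P X)).left
      (Coh.structureModule ((Neron.genericFibre (Localization.AtPrime P)).obj (locX P X)).left) 1 ≤ 0 := by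
  haveI := isDVR P hP
  obtain ⟨hA, -⟩ := LocalGlue.isArithSurface_locX' hR hX hg P hP
  obtain ⟨n, i, hi, hiX⟩ := id hX.2.2.2.2
  haveI := hi
  haveI : IsProper X.hom := by rw [← hiX]; infer_instance
  haveI : Flat X.hom := hX.2.2.2.1
  haveI : IsProper (locX P X).hom := H28Vert.isProper_of_isArithSurface hA
  haveI : Flat (locX P X).hom := hA.2.2.2.1
  haveI : IsIntegral (locX P X).left := hA.2.1
  haveI : IsProper (((Neron.genericFibre (Localization.AtPrime P)).obj (locX P X)).left ↘
      Spec (CommRingCat.of (FractionRing (Localization.AtPrime P)))) :=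
    MorphismProperty.pullback_snd (P := @IsProper) (locX P X).hom (Neron.genPt (Localization.AtPrime P)) ‹_›
  refine le_of_eq_of_le (euler_eq_at_bot X (SoleComponent.dim_generic (locX P X) hA.2.2.1).le
    (pullback.fst (locX P X).hom (Neron.genPt (Localization.AtPrime P)) ≫ jX P X) _ ?_ (genPt_locMap_apply P)) hχ
  exact (IsPullback.of_hasPullback _ _).paste_horiz (IsPullback.of_hasPullback X.hom (locMap P))

/-- The canonical sheaf is nef on the localisations of a relatively minimal surface with `χ ≤ 0`. -/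
theorem nef_locX (hR : ¬ IsField R) (hX : ArSurf.IsArithSurface R X) (hm : Neron.IsRelMinimalRegularModel R X)
    (hg : IsPullback g f X.hom (Neron.genPt R))
    (hχ : PerfAux.eulerChar X.hom (Coh.structureModule X.left) (⊥ : PrimeSpectrum R) ≤ 0)
    (P : Ideal R) [P.IsPrime] (hP : P ≠ ⊥)
    (τ : Spec (CommRingCat.of (FractionRing (Localization.AtPrime P))) ⟶ Spec (CommRingCat.of (FractionRing R)))
    [IsIso τ] (hτ : τ ≫ Neron.genPt R = Neron.genPt (Localization.AtPrime P) ≫ locMap P) :
    haveI := isDVR P hP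
    ∀ (ω : (locX P X).left.Modules), Canon.IsCanonical (locX P X).hom ω →
      ∀ Δ : ArSurf.VertComp (Localization.AtPrime P) (locX P X),
        0 ≤ ArSurf.inter (Localization.AtPrime P) (locX P X) ω Δ := by
  haveI := isDVR P hP
  intro ω hω Δ
  obtain ⟨hA, -⟩ := LocalGlue.isArithSurface_locX' hR hX hg P hP
  haveI : IsProper (locX P X).hom := H28Vert.isProper_of_isArithSurface hA
  haveI : IsLocallyNoetherian (locX P X).left := LocallyOfFiniteType.isLocallyNoetherian (locX P X).hom
  haveI : IsIntegral (locX P X).left := hA.2.1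
  haveI : Flat (locX P X).hom := hA.2.2.2.1
  obtain ⟨m, Γs, hΓs⟩ := H28Vert.exists_isComponentList' (R := Localization.AtPrime P) (X := locX P X) hA.2.2.1
  obtain ⟨L, -, hL⟩ := H11Sym.exists_inverse (H29Blow.isInvertible_of_isEffCartierIdeal _
    (H28Vert.isEffCartierIdeal_ker_of_mem hA.1 Δ (H28Vert.mem_fibreComponents (H28Vert.dim_fibre_le_one hΓs) Δ)))
  by_contra hneg
  obtain ⟨k', hk', hak', hfin, e, he, hself⟩ := S13320.result (Localization.AtPrime P) (locX P X) hA
    (euler_locX_nonpos hR hX hg hχ P hP) Δ L hL ω hω (not_le.1 hneg)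
  haveI := hfin
  exact (LocalGlue.isMinimal_locX hR hX hm hg P hP τ hτ).2 Δ
    (SoleComponent.isExcCurve_of_line hA Δ k' e he L hL hself)

/-- A morphism of generic fibres extends to a relatively minimal surface with `χ ≤ 0`. -/
theorem exists_hom (hR : ¬ IsField R) {Y : Over (Spec (CommRingCat.of R))} (hX : ArSurf.IsArithSurface R X)
    (hY : ArSurf.IsArithSurface R Y) (hm : Neron.IsRelMinimalRegularModel R Y)
    (hg : IsPullback g f X.hom (Neron.genPt R)) {gY : C ⟶ Y.left} (hgY : IsPullback gY f Y.hom (Neron.genPt R))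
    (hχ : PerfAux.eulerChar Y.hom (Coh.structureModule Y.left) (⊥ : PrimeSpectrum R) ≤ 0) :
    ∃ b : X ⟶ Y, g ≫ b.left = gY := by
  classical
  obtain ⟨hCp, hCi, hCd⟩ := curve_facts hR hX hg
  haveI := hCp
  haveI := hCi
  haveI := hX.2.1
  haveI := hX.2.2.2.1
  obtain ⟨nY, iY, hiY, hiYw⟩ := hY.2.2.2.2
  haveI := hiY
  haveI : IsProper Y.hom := by rw [← hiYw]; infer_instance
  -- local morphisms
  have hloc : ∀ x : X.left, ∃ (U : X.left.Opens) (hxU : x ∈ U) (fx : (U : Scheme.{u}) ⟶ Y.left)
      (c : Spec (C.presheaf.stalk (genericPoint C)) ⟶ (U : Scheme.{u})),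
      fx ≫ Y.hom = U.ι ≫ X.hom ∧ c ≫ U.ι = C.fromSpecStalk (genericPoint C) ≫ g ∧
        c ≫ fx = C.fromSpecStalk (genericPoint C) ≫ gY := by
    intro x
    obtain ⟨P, hPp, hP, hxP⟩ : ∃ (P : Ideal R) (_ : P.IsPrime), P ≠ ⊥ ∧ x ∈ Set.range (jX P X) := by
      by_cases h : PrimeSpectrum.asIdeal (R := R) (X.hom x) = ⊥
      · obtain ⟨M, hM⟩ := Ideal.exists_maximal R
        haveI := hM.isPrime
        refine ⟨M, hM.isPrime, fun e => hR ?_, (mem_range_jX M X).2 ((mem_range_locMap M).2 (h.trans_le bot_le))⟩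
        subst e
        exact Ring.isField_iff_maximal_bot.2 hM
      · exact ⟨_, PrimeSpectrum.isPrime _, h, (mem_range_jX _ X).2 ((mem_range_locMap _).2 le_rfl)⟩
    haveI := hPp
    obtain ⟨x', rfl⟩ := hxP
    haveI := isDVR P hP
    obtain ⟨τ, hτi, hτ⟩ := exists_fraction_iso P
    haveI := hτi
    let dX := locData hg P τ hτ
    let dY := locData hgY P τ hτ
    obtain ⟨hAX, -⟩ := isArithSurface_locX' hR hX hg P hP
    haveI : IsProper (locX P X).hom := H28Vert.isProper_of_isArithSurface hAX
    haveI : Flat (locX P X).hom := hAX.2.2.2.1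
    haveI : IsProper (f ≫ inv τ) := inferInstance
    obtain ⟨bP, hbw, hbg⟩ := ModelUniqueN.exists_hom ⟨‹IsProper (f ≫ inv τ)›, hCi, hCd⟩
      (LocalGlue.isMinimal_locX hR hY hm hgY P hP τ hτ).1 (nef_locX hR hY hm hgY hχ P hP τ hτ) dY.isPullback
      (q := (locX P X).hom)
      ⟨⟨inferInstance, inferInstance, inferInstance, _, dX.isPullback⟩, inferInstance, hAX.1⟩ dX.isPullback
    haveI : IsIso (Spec.map ((jX P X).stalkMap x')) := by
      haveI : IsIso ((jX P X).stalkMap x') :=
        (ConcreteCategory.isIso_iff_bijective _).2 (bijective_stalkMap P X x')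
      infer_instance
    let ψ := inv (Spec.map ((jX P X).stalkMap x')) ≫ (locX P X).left.fromSpecStalk x' ≫ bP ≫ jX P Y
    have hψ : ψ ≫ Y.hom = X.left.fromSpecStalk (jX P X x') ≫ X.hom := by
      simp only [ψ, Category.assoc]
      rw [IsIso.inv_comp_eq, ← Category.assoc (Spec.map _), Scheme.SpecMap_stalkMap_fromSpecStalk, Category.assoc,
        jX_w, jX_w, ← Category.assoc bP, hbw]
    obtain ⟨U, hxU, fx, hfx, hfxw⟩ := spread_out_of_isGermInjective' X.hom Y.hom ψ hψ
    have hspec : g (genericPoint C) ⤳ jX P X x' := by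
      have h1 : g (genericPoint C) = genericPoint X.left := map_genericPoint hX hg
      rw [h1]
      exact genericPoint_specializes _
    let a := Spec.map (g.stalkMap (genericPoint C)) ≫ Spec.map (X.left.presheaf.stalkSpecializes hspec)
    have ha : a ≫ X.left.fromSpecStalk (jX P X x') = C.fromSpecStalk (genericPoint C) ≫ g := by
      simp only [a, Category.assoc, Scheme.SpecMap_stalkSpecializes_fromSpecStalk,
        Scheme.SpecMap_stalkMap_fromSpecStalk]
    have hlift : a ≫ inv (Spec.map ((jX P X).stalkMap x')) ≫ (locX P X).left.fromSpecStalk x' =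
        C.fromSpecStalk (genericPoint C) ≫ dX.gP := by
      rw [← cancel_mono (jX P X)]
      simp only [Category.assoc]
      rw [← Scheme.SpecMap_stalkMap_fromSpecStalk, IsIso.inv_hom_id_assoc, dX.fac, ha]
    refine ⟨U, hxU, fx, a ≫ U.fromSpecStalkOfMem _ hxU, hfxw, ?_, ?_⟩
    · rw [Category.assoc, Scheme.Opens.fromSpecStalkOfMem_ι, ha]
    · rw [Category.assoc, ← hfx]
      simp only [ψ]
      rw [reassoc_of% hlift, ← dY.fac, ← hbg]
      simp only [Category.assoc]
  choose U hxU fx c hfxw hc hcf using hloc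
  -- agreement
  have hagree : ∀ x y : X.left, pullback.fst (U x).ι (U y).ι ≫ fx x = pullback.snd (U x).ι (U y).ι ≫ fx y := by
    intro x y
    let d := pullback.lift (f := (U x).ι) (g := (U y).ι) (c x) (c y) (by rw [hc, hc])
    let p := pullback.fst (U x).ι (U y).ι ≫ (U x).ι
    obtain ⟨t⟩ : Nonempty ↥(Spec (C.presheaf.stalk (genericPoint C))) := inferInstance
    haveI : Nonempty ↥(pullback (U x).ι (U y).ι) := ⟨d t⟩
    haveI : IsIntegral (pullback (U x).ι (U y).ι) := isIntegral_of_isOpenImmersion p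
    haveI : IsDominant d := by
      refine isDominant_of_apply d (IsLocalRing.closedPoint _) ?_
      apply p.isOpenEmbedding.injective
      rw [genericPoint_eq_of_isOpenImmersion p, ← Scheme.Hom.comp_apply]
      simp only [d, p, pullback.lift_fst_assoc, hc, Scheme.Hom.comp_apply, Scheme.fromSpecStalk_closedPoint]
      exact map_genericPoint hX hg
    refine ext_of_isDominant_of_isSeparated Y.hom ?_ d ?_
    · rw [Category.assoc, Category.assoc, hfxw, hfxw, pullback.condition_assoc]
    · rw [pullback.lift_fst_assoc, pullback.lift_snd_assoc, hcf, hcf]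
  let 𝒰 := X.left.openCoverOfIsOpenCover U
    (eq_top_iff.2 fun x _ => Opens.mem_iSup.2 ⟨x, hxU x⟩)
  let b := 𝒰.glueMorphisms fx hagree
  have hb : ∀ x, (U x).ι ≫ b = fx x := fun x => Scheme.Cover.ι_glueMorphisms 𝒰 fx hagree x
  refine ⟨Over.homMk b (𝒰.hom_ext _ _ fun x => ?_), ?_⟩
  · rw [← Category.assoc]
    exact (congrArg (· ≫ Y.hom) (hb x)).trans (hfxw x)
  · show g ≫ b = gY
    let x₀ := g (genericPoint C)
    haveI : IsDominant (C.fromSpecStalk (genericPoint C)) :=
      isDominant_of_apply _ (IsLocalRing.closedPoint _) (Scheme.fromSpecStalk_closedPoint ..)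
    refine ext_of_isDominant_of_isSeparated Y.hom ?_ (C.fromSpecStalk (genericPoint C)) ?_
    · rw [Category.assoc, hgY.w, ← hg.w]
      refine congrArg (g ≫ ·) (𝒰.hom_ext _ _ fun x => ?_)
      rw [← Category.assoc]
      exact (congrArg (· ≫ Y.hom) (hb x)).trans (hfxw x)
    · rw [← Category.assoc, ← hc x₀, Category.assoc, hb, hcf]

/-- An isomorphism of generic fibres with `χ ≤ 0` extends uniquely to relatively minimal surfaces. -/
theorem existsUnique_iso (X₁ X₂ : Over (Spec (CommRingCat.of R)))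
    (h₁ : ArSurf.IsArithSurface R X₁) (h₂ : ArSurf.IsArithSurface R X₂)
    (m₁ : Neron.IsRelMinimalRegularModel R X₁) (m₂ : Neron.IsRelMinimalRegularModel R X₂)
    (hχ : FGA.eulerCharLE (FractionRing R) ((Neron.genericFibre R).obj X₁).left
      (Coh.structureModule ((Neron.genericFibre R).obj X₁).left) 1 ≤ 0)
    (φ : (Neron.genericFibre R).obj X₁ ≅ (Neron.genericFibre R).obj X₂) :
    ∃! f : X₁ ⟶ X₂, IsIso f ∧ (Neron.genericFibre R).map f = φ.hom := by
  classical
  obtain ⟨n₁, i₁, hi₁, hw₁⟩ := h₁.2.2.2.2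
  obtain ⟨n₂, i₂, hi₂, hw₂⟩ := h₂.2.2.2.2
  haveI := hi₁
  haveI := hi₂
  haveI : IsProper X₁.hom := by rw [← hw₁]; infer_instance
  haveI : IsProper X₂.hom := by rw [← hw₂]; infer_instance
  let C := ((Neron.genericFibre R).obj X₁).left
  let f₁ : C ⟶ Spec (CommRingCat.of (FractionRing R)) := ((Neron.genericFibre R).obj X₁).hom
  let g₁ : C ⟶ X₁.left := pullback.fst X₁.hom (Neron.genPt R)
  let g₂ : C ⟶ X₂.left := φ.hom.left ≫ pullback.fst X₂.hom (Neron.genPt R)
  have hg₁ : IsPullback g₁ f₁ X₁.hom (Neron.genPt R) := IsPullback.of_hasPullback _ _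
  haveI : IsIso φ.hom.left := inferInstanceAs (IsIso ((Over.forget _).map φ.hom))
  have hg₂ : IsPullback g₂ f₁ X₂.hom (Neron.genPt R) :=
    (IsPullback.of_hasPullback X₂.hom (Neron.genPt R)).of_iso (asIso φ.hom.left).symm (Iso.refl _) (Iso.refl _)
      (Iso.refl _) (by simp [g₂]) (by
        have h := Over.w φ.hom
        simp only [Iso.symm_hom, asIso_inv, Iso.refl_hom, Category.comp_id]
        rw [IsIso.eq_inv_comp]
        exact h) (by simp) (by simp)
  have hC : IrreducibleSpace C := by
    by_cases hR : IsField R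
    · haveI := LocalExtend.isIso_genPt hR
      haveI : IsIso g₁ := inferInstanceAs (IsIso (pullback.fst X₁.hom (Neron.genPt R)))
      haveI := h₁.2.1
      haveI : Nonempty C := ⟨inv g₁ (genericPoint X₁.left)⟩
      haveI : IsIntegral C := isIntegral_of_isOpenImmersion g₁
      infer_instance
    · haveI := (LocalGlue.curve_facts hR h₁ hg₁).2.1
      infer_instance
  obtain ⟨⟨b, hb⟩, b', hb'⟩ :
      (∃ b : X₁ ⟶ X₂, g₁ ≫ b.left = g₂) ∧ ∃ b : X₂ ⟶ X₁, g₂ ≫ b.left = g₁ := by
    by_cases hR : IsField R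
    · haveI := LocalExtend.isIso_genPt hR
      haveI : IsIso g₁ := inferInstanceAs (IsIso (pullback.fst X₁.hom (Neron.genPt R)))
      haveI : IsIso (pullback.fst X₂.hom (Neron.genPt R)) := inferInstance
      haveI : IsIso g₂ := inferInstanceAs (IsIso (φ.hom.left ≫ pullback.fst X₂.hom (Neron.genPt R)))
      exact ⟨⟨Over.homMk (inv g₁ ≫ g₂) (by rw [Category.assoc, hg₂.w, IsIso.inv_comp_eq, hg₁.w]),
        IsIso.hom_inv_id_assoc g₁ g₂⟩,
        ⟨Over.homMk (inv g₂ ≫ g₁) (by rw [Category.assoc, hg₁.w, IsIso.inv_comp_eq, hg₂.w]),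
        IsIso.hom_inv_id_assoc g₂ g₁⟩⟩
    · haveI := h₁.2.2.2.1
      haveI := h₂.2.2.2.1
      obtain ⟨hCp, -, hCd⟩ := LocalGlue.curve_facts hR h₁ hg₁
      haveI : IsProper (C ↘ Spec (CommRingCat.of (FractionRing R))) := hCp
      have hd : topologicalKrullDim C ≤ ((1 : ℕ) : WithBot ℕ∞) := hCd.le
      have e₁ := (euler_eq_at_bot X₁ hd g₁ (Neron.genPt R) hg₁ genPt_apply).ge.trans hχ
      have e₂ := (euler_eq_at_bot X₂ hd g₂ (Neron.genPt R) hg₂ genPt_apply).ge.trans hχ
      exact ⟨exists_hom hR h₁ h₂ m₂ hg₁ hg₂ e₂, exists_hom hR h₂ h₁ m₁ hg₂ hg₁ e₁⟩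
  have hbb : b ≫ b' = 𝟙 X₁ := LocalExtend.eq_of_generic h₁ hg₁ (by
    show g₁ ≫ b.left ≫ b'.left = _
    rw [← Category.assoc, hb, hb']
    exact (Category.comp_id _).symm)
  have hbb' : b' ≫ b = 𝟙 X₂ := LocalExtend.eq_of_generic h₂ hg₂ (by
    show g₂ ≫ b'.left ≫ b.left = _
    rw [← Category.assoc, hb', hb]
    exact (Category.comp_id _).symm)
  have hmap : (Neron.genericFibre R).map b = φ.hom := by
    refine Over.OverMorphism.ext (pullback.hom_ext ?_ ?_)
    · exact (pullback.lift_fst _ _ _).trans hb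
    · exact ((pullback.lift_snd _ _ _).trans (Category.comp_id _)).trans (Over.w φ.hom).symm
  refine ⟨b, ⟨⟨b', hbb, hbb'⟩, hmap⟩, fun c hc => LocalExtend.eq_of_generic h₁ hg₁ ?_⟩
  have h := congrArg (fun t => t.left ≫ pullback.fst X₂.hom (Neron.genPt R)) hc.2
  exact ((pullback.lift_fst _ _ _).symm.trans h).trans hb.symm

end Groth.Agent.H28RR.NefGlue
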