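import Groth.Agent.H28RR.EtaleNef
import Groth.Agent.H28RR.NefGlue
import Groth.Agent.H28RR.MinDesing
import Groth.Agent.H13AlgSp.EtaleLocally
import Groth.Agent.H18Et.EtaleStalk
import Groth.Agent.H7Lim.NormalPoint
import Groth.Agent.S7314

/-!
# Relatively minimal surfaces and étale extensions of the base
-/

set_option autoImplicit false
set_option linter.style.haveILetI false
set_option linter.unusedSectionVars false
set_option backward.isDefEq.respectTransparency.types false
set_option maxHeartbeats 1600000

universe u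

open CategoryTheory CategoryTheory.Limits AlgebraicGeometry TopologicalSpace
open Groth.Agent

noncomputable section

attribute [-instance] instAlgebraAtPrimeFractionRing

namespace Groth.Agent.H28RR.EtaleMin

open LocalBase

/-- Projectivity over the base is stable under base change. -/
theorem isProjectiveOver_baseChange {R R' : Type u} [CommRing R] [CommRing R'] {X : Over (Spec (CommRingCat.of R))}
    {X' : Over (Spec (CommRingCat.of R'))} {u : Spec (CommRingCat.of R') ⟶ Spec (CommRingCat.of R)}
    {q : X'.left ⟶ X.left} (sq : IsPullback q X'.hom X.hom u) (h : Neron.IsProjectiveOver R X) :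
    Neron.IsProjectiveOver R' X' := by
  obtain ⟨n, i, hi, hiX⟩ := h
  haveI := hi
  let g₀ := CohB1.ProjSpace.toSpec n (ULift.{u} ℤ)
  let tS := specULiftZIsTerminal.{u}.from (Spec (CommRingCat.of R))
  let tS' := specULiftZIsTerminal.{u}.from (Spec (CommRingCat.of R'))
  have htt : u ≫ tS = tS' := specULiftZIsTerminal.hom_ext _ _
  let pM : CohB1.ProjSpaceOver n (Spec (CommRingCat.of R')) ⟶ CohB1.ProjSpaceOver n (Spec (CommRingCat.of R)) :=
    pullback.lift (f := g₀) (g := tS) (pullback.fst g₀ tS') (pullback.snd g₀ tS' ≫ u)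
      (by rw [Category.assoc, htt]; exact pullback.condition)
  have hbot : IsPullback pM (CohB1.ProjSpaceOver.toBase n (Spec (CommRingCat.of R')))
      (CohB1.ProjSpaceOver.toBase n (Spec (CommRingCat.of R))) u := by
    refine IsPullback.of_right (h₁₂ := pullback.fst g₀ tS) (v₁₃ := g₀) (h₂₂ := tS) ?_ (pullback.lift_snd _ _ _)
      (IsPullback.of_hasPullback g₀ tS)
    rw [pullback.lift_fst, htt]
    exact IsPullback.of_hasPullback g₀ tS'
  have hw : (q ≫ i) ≫ CohB1.ProjSpaceOver.toBase n _ = X'.hom ≫ u := by rw [Category.assoc, hiX]; exact sq.w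
  let i' := hbot.lift (q ≫ i) X'.hom hw
  have H : IsPullback q i' i pM := by
    refine IsPullback.of_bot ?_ (hbot.lift_fst _ _ hw).symm hbot
    rw [hbot.lift_snd, hiX]
    exact sq
  exact ⟨n, i', MorphismProperty.of_isPullback (P := @IsClosedImmersion) H hi, hbot.lift_snd _ _ hw⟩

/-- A proper morphism with singleton generic fibre and the same function field is a composite of contractions. -/
theorem seq_of_birational {X Y : Scheme.{u}} [IsIntegral X] [IsNoetherian X] [IsIntegral Y] [IsNoetherian Y]
    (f : X ⟶ Y) [IsProper f] (hX : ∀ x : X, IsRegularLocalRing (X.presheaf.stalk x))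
    (hdX : topologicalKrullDim X = 2) (hY : ∀ y : Y, IsRegularLocalRing (Y.presheaf.stalk y))
    (hgen : f (genericPoint X) = genericPoint Y) (hbij : Function.Bijective (f.stalkMap (genericPoint X)))
    (hinj : ∀ x, f x = f (genericPoint X) → x = genericPoint X) : Models.IsContractionSeq f := by
  haveI : IsIso (f.stalkMap (genericPoint X)) := (ConcreteCategory.isIso_iff_bijective _).2 hbij
  have hq : f.QuasiFiniteAt (genericPoint X) := by
    rw [Scheme.Hom.quasiFiniteAt_iff_isOpen_singleton_asFiber]
    haveI : Subsingleton (f.fiber (f (genericPoint X))) := ⟨fun a b => by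
      apply (f.fiberι _).isEmbedding.injective
      have ha : f (f.fiberι _ a) = f (genericPoint X) := (Scheme.Hom.range_fiberι f _).le ⟨a, rfl⟩
      have hb : f (f.fiberι _ b) = f (genericPoint X) := (Scheme.Hom.range_fiberι f _).le ⟨b, rfl⟩
      exact (hinj _ ha).trans (hinj _ hb).symm⟩
    exact isOpen_discrete _
  obtain ⟨V, hV, hiso⟩ := H7Lim.exists_isIso_restrict f hgen (genericPoint X)
    (H29Ref.isNormalScheme_of_regular hY _).2 hq
  haveI : IsDominant f := H10ZMT.isDominant_of_apply_genericPoint f hgen
  have hs : Function.Surjective f := fun t => by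
    have h1 : Set.range f = Set.univ := by
      rw [← f.isClosedMap.isClosed_range.closure_eq]
      exact f.denseRange.closure_range
    exact h1.ge (Set.mem_univ t)
  refine S7314.result f ⟨V, ⟨_, hV⟩, hiso⟩ hX hdX hY (le_antisymm
    ((H17.topologicalKrullDim_le_of_specializingMap f f.isClosedMap.specializingMap hs).trans hdX.le) ?_)
  rw [← hdX]
  exact H28Vert.topologicalKrullDim_le_of_stalks _ fun x =>
    (H28Contr.stalk_dim_le_of_birational f (H28Contr.residueFieldMap_bijective f hbij) x).trans
      (H28Contr.ringKrullDim_stalk_le_top _)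

variable {R R' : Type u} [CommRing R] [IsDedekindDomain R] [CommRing R'] [IsDedekindDomain R']
  [Algebra R R'] [Algebra.Etale R R']

/-- The prime under a non-zero prime of an étale extension is non-zero. -/
theorem under_ne_bot (P' : Ideal R') [P'.IsPrime] (hP' : P' ≠ ⊥) : P'.under R ≠ ⊥ := by
  intro h
  haveI := isDVR P' hP'
  letI := Localization.AtPrime.algebraOfLiesOver (P'.under R) P'
  haveI : Algebra.IsUnramifiedAt R P' := inferInstance
  have h1 := ((Algebra.isUnramifiedAt_iff_map_eq R (P'.under R) P').1 ‹_›).2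
  rw [h, Ideal.map_bot] at h1
  exact IsDiscreteValuationRing.not_a_field (Localization.AtPrime P') h1.symm

/-- The exceptional curves of the base change would have negative canonical degree downstairs. -/
theorem not_isExcCurve (X : Over (Spec (CommRingCat.of R))) (hX : ArSurf.IsArithSurface R X)
    (hm : Neron.IsRelMinimalRegularModel R X)
    (hg : FGA.eulerCharLE (FractionRing R) ((Neron.genericFibre R).obj X).left
      (Coh.structureModule ((Neron.genericFibre R).obj X).left) 1 ≤ 0)
    (X' : Over (Spec (CommRingCat.of R'))) (hX' : ArSurf.IsArithSurface R' X') (q : X'.left ⟶ X.left)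
    (sq : IsPullback q X'.hom X.hom (Spec.map (CommRingCat.ofHom (algebraMap R R'))))
    (P' : Ideal R') [P'.IsPrime] (hP' : P' ≠ ⊥) (hR' : ¬ IsField R')
    {F : Scheme.{u}} (ι : F ⟶ X'.left) [IsClosedImmersion ι] (hF : Models.IsExcCurve ι)
    (hs : ∀ w, X'.hom (ι w) = (⟨P', ‹_›⟩ : PrimeSpectrum R')) : False := by
  classical
  let P := P'.under R
  have hP : P ≠ ⊥ := under_ne_bot P' hP'
  have hR : ¬ IsField R := fun h => hP ((Ideal.IsPrime.ne_top inferInstance : P ≠ ⊤) |> fun ht => by
    letI := h.toField
    exact (Ideal.eq_bot_or_top P).resolve_right ht)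
  haveI := isDVR P hP
  haveI := isDVR P' hP'
  letI := Localization.AtPrime.algebraOfLiesOver P P'
  haveI : Algebra.IsUnramifiedAt R P' := inferInstance
  obtain ⟨n, i, hi, hiX⟩ := id hX.2.2.2.2
  haveI := hi
  haveI : IsProper X.hom := by rw [← hiX]; infer_instance
  haveI : Flat X.hom := hX.2.2.2.1
  obtain ⟨n', i', hi', hiX'⟩ := id hX'.2.2.2.2
  haveI := hi'
  haveI : IsProper X'.hom := by rw [← hiX']; infer_instance
  haveI : Flat X'.hom := hX'.2.2.2.1
  haveI : IsLocallyNoetherian X'.left := LocallyOfFiniteType.isLocallyNoetherian X'.hom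
  have hgX : IsPullback (pullback.fst X.hom (Neron.genPt R)) ((Neron.genericFibre R).obj X).hom X.hom
    (Neron.genPt R) := IsPullback.of_hasPullback _ _
  obtain ⟨hA, -⟩ := LocalGlue.isArithSurface_locX' hR hX hgX P hP
  obtain ⟨hA', -⟩ := LocalGlue.isArithSurface_locX' hR' hX' (IsPullback.of_hasPullback X'.hom (Neron.genPt R')) P' hP'
  haveI : IsProper (locX P' X').hom := H28Vert.isProper_of_isArithSurface hA'
  haveI : IsIntegral (locX P' X').left := hA'.2.1
  obtain ⟨hCp, -, hCd⟩ := LocalGlue.curve_facts hR hX hgX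
  haveI : IsProper (((Neron.genericFibre R).obj X).left ↘ Spec (CommRingCat.of (FractionRing R))) := hCp
  have hd : topologicalKrullDim ((Neron.genericFibre R).obj X).left ≤ ((1 : ℕ) : WithBot ℕ∞) := hCd.le
  have hχ := (NefGlue.euler_eq_at_bot X hd _ (Neron.genPt R) hgX NefGlue.genPt_apply).ge.trans hg
  obtain ⟨τ, hτi, hτ⟩ := LocalGlue.exists_fraction_iso P
  haveI := hτi
  obtain ⟨ω, -, hω⟩ := ModelCanon.exists_canonical hA
  have hnef := NefGlue.nef_locX hR hX hm hgX hχ P hP τ hτ ω hω
  let t := Spec.map (CommRingCat.ofHom (algebraMap (Localization.AtPrime P) (Localization.AtPrime P')))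
  have ht : t ≫ locMap P = locMap P' ≫ Spec.map (CommRingCat.ofHom (algebraMap R R')) := by
    show Spec.map _ ≫ Spec.map _ = Spec.map _ ≫ Spec.map _
    rw [← Spec.map_comp, ← Spec.map_comp]
    congr 1
    ext r
    show algebraMap (Localization.AtPrime P) (Localization.AtPrime P') (algebraMap R _ r) =
      algebraMap R' _ (algebraMap R R' r)
    rw [← IsScalarTower.algebraMap_apply R (Localization.AtPrime P) (Localization.AtPrime P'),
      ← IsScalarTower.algebraMap_apply R R' (Localization.AtPrime P')]
  have hbig : IsPullback (jX P' X' ≫ q) (locX P' X').hom X.hom (t ≫ locMap P) :=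
    ht ▸ (IsPullback.of_hasPullback X'.hom (locMap P')).paste_horiz sq
  let π : (locX P' X').left ⟶ (locX P X).left := pullback.lift (jX P' X' ≫ q) ((locX P' X').hom ≫ t)
    (by rw [Category.assoc, Category.assoc]; exact (Category.assoc _ _ _).symm.trans hbig.w)
  have hπ : IsPullback π (locX P' X').hom (locX P X).hom t := by
    refine IsPullback.of_right ?_ (pullback.lift_snd _ _ _) (IsPullback.of_hasPullback X.hom (locMap P))
    rw [pullback.lift_fst]
    exact hbig
  obtain ⟨Γ, hΓ, -⟩ := LocalExc.exists_lift P' X' hP' ι hF hs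
  obtain ⟨ω', -, hω'⟩ := ModelCanon.exists_canonical hA'
  have h1 := EtaleNef.nef_baseChange hA π hπ hω hnef hω' Γ
  exact h1.not_gt (ModelUnique.inter_canonical_exc hA' Γ hΓ hω')

/-- Relative minimality goes up along étale surjective extensions of the base. -/
theorem isRelMinimal_baseChange (hsurj : Function.Surjective (PrimeSpectrum.comap (algebraMap R R')))
    (X : Over (Spec (CommRingCat.of R))) (hX : ArSurf.IsArithSurface R X)
    (hm : Neron.IsRelMinimalRegularModel R X)
    (hg : FGA.eulerCharLE (FractionRing R) ((Neron.genericFibre R).obj X).left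
      (Coh.structureModule ((Neron.genericFibre R).obj X).left) 1 ≤ 0)
    (X' : Over (Spec (CommRingCat.of R'))) (q : X'.left ⟶ X.left)
    (sq : IsPullback q X'.hom X.hom (Spec.map (CommRingCat.ofHom (algebraMap R R')))) [IsIntegral X'.left] :
    ArSurf.IsArithSurface R' X' ∧ Neron.IsRelMinimalRegularModel R' X' := by
  classical
  obtain ⟨hreg, hint, hdim, hflat, n, i, hi, hiX⟩ := id hX
  haveI := hint
  haveI := hflat
  haveI := hi
  haveI : IsProper X.hom := by rw [← hiX]; infer_instance
  haveI : IsLocallyNoetherian X.left := LocallyOfFiniteType.isLocallyNoetherian X.hom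
  let u := Spec.map (CommRingCat.ofHom (algebraMap R R'))
  haveI : Etale u := by
    rw [HasRingHomProperty.Spec_iff (P := @Etale)]
    exact RingHom.etale_algebraMap.2 ‹_›
  haveI : Surjective u := ⟨hsurj⟩
  haveI : Etale q := MorphismProperty.of_isPullback (P := @Etale) sq.flip inferInstance
  haveI : Surjective q := MorphismProperty.of_isPullback (P := @Surjective) sq.flip inferInstance
  haveI : Flat X'.hom := MorphismProperty.of_isPullback (P := @Flat) sq inferInstance
  haveI : IsProper X'.hom := MorphismProperty.of_isPullback (P := @IsProper) sq inferInstance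
  haveI : IsLocallyNoetherian X'.left := LocallyOfFiniteType.isLocallyNoetherian X'.hom
  haveI : CompactSpace X'.left := QuasiCompact.compactSpace_of_compactSpace X'.hom
  haveI : IsNoetherian X'.left := ⟨⟩
  have hreg' : ∀ x : X'.left, IsRegularLocalRing (X'.left.presheaf.stalk x) := fun x =>
    (H18Et.isRegularLocalRing_stalk_iff_of_etale q x).2 (hreg _)
  have hproj' := isProjectiveOver_baseChange sq hX.2.2.2.2
  have hdim' : topologicalKrullDim X'.left = 2 := by
    refine le_antisymm (H28Vert.topologicalKrullDim_le_of_stalks _ fun x => ?_) ?_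
    · rw [H18Et.ringKrullDim_stalk_eq_of_etale q x]
      exact (H28Contr.ringKrullDim_stalk_le_top _).trans hdim.le
    · obtain ⟨x, hx⟩ : ∃ x : X.left, ¬ ringKrullDim (X.left.presheaf.stalk x) ≤ 1 := by
        by_contra h
        push Not at h
        have h2 := H28Vert.topologicalKrullDim_le_of_stalks (X := X.left) _ h
        rw [hdim] at h2
        exact absurd h2 (by decide)
      obtain ⟨x', rfl⟩ := q.surjective x
      rw [← H18Et.ringKrullDim_stalk_eq_of_etale q x'] at hx
      exact (H28Contr.eq_two_of_le ((H28Contr.ringKrullDim_stalk_le_top x').trans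
        (H28Vert.topologicalKrullDim_le_of_stalks _ fun y => (H18Et.ringKrullDim_stalk_eq_of_etale q y).le.trans
          ((H28Contr.ringKrullDim_stalk_le_top _).trans hdim.le))) hx).ge.trans
        (H28Contr.ringKrullDim_stalk_le_top x')
  refine ⟨⟨hreg', inferInstance, hdim', inferInstance, hproj'⟩, hreg', hproj', inferInstance,
    fun Y hY hYp hYf g hgen => ?_⟩
  haveI := hgen
  haveI := hYf
  obtain ⟨nY, iY, hiY, hiYw⟩ := id hYp
  haveI := hiY
  haveI : IsProper Y.hom := by rw [← hiYw]; infer_instance
  by_cases hR' : IsField R'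
  · haveI := LocalExtend.isIso_genPt hR'
    let φ := ((Neron.genericFibre R').map g).left
    haveI : IsIso φ := inferInstanceAs (IsIso ((Over.forget _).map ((Neron.genericFibre R').map g)))
    have hφ : φ ≫ pullback.fst Y.hom (Neron.genPt R') = pullback.fst X'.hom (Neron.genPt R') ≫ g.left :=
      pullback.lift_fst _ _ _
    haveI : IsIso (pullback.fst X'.hom (Neron.genPt R') ≫ g.left) := hφ ▸ inferInstance
    haveI : IsIso g.left := IsIso.of_isIso_comp_left (pullback.fst X'.hom (Neron.genPt R')) g.left
    haveI : IsIso ((Over.forget _).map g) := ‹IsIso g.left›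
    exact isIso_of_reflects_iso g (Over.forget _)
  by_contra hng
  obtain ⟨hYi, hggen, hgbij, hginj⟩ := H28Vert.birational_of_genericFibre hY g hgen
  haveI := hYi
  haveI : IsProper (g.left ≫ Y.hom) := by rw [Over.w g]; infer_instance
  haveI : IsProper g.left := IsProper.of_comp g.left Y.hom
  haveI : IsLocallyNoetherian Y.left := LocallyOfFiniteType.isLocallyNoetherian Y.hom
  haveI : CompactSpace Y.left := QuasiCompact.compactSpace_of_compactSpace Y.hom
  haveI : IsNoetherian Y.left := ⟨⟩
  have hseq := seq_of_birational g.left hreg' hdim' hY hggen hgbij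
    (fun x hx => hginj _ x H28Vert.hom_genericPoint_eq_bot hx)
  suffices key : ∀ {W V : Scheme.{u}} {g' : W ⟶ V}, Models.IsContractionSeq g' →
      ∀ (qW : W ⟶ Spec (CommRingCat.of R')) (pV : V ⟶ Spec (CommRingCat.of R')), g' ≫ pV = qW → IsProper pV →
        ¬ IsIso g' → ∃ (F : Scheme.{u}) (ι : F ⟶ W) (_ : IsClosedImmersion ι) (s : Spec (CommRingCat.of R')),
          Models.IsExcCurve ι ∧ IsClosed ({s} : Set (Spec (CommRingCat.of R'))) ∧ ∀ w, qW (ι w) = s by
    obtain ⟨F, ι, hι, s, hF, hsc, hs⟩ := key hseq X'.hom Y.hom (Over.w g) inferInstance (fun h => hng (by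
      haveI : IsIso ((Over.forget _).map g) := h
      exact isIso_of_reflects_iso g (Over.forget _)))
    haveI := hι
    haveI : (PrimeSpectrum.asIdeal (R := R') s).IsPrime := PrimeSpectrum.isPrime s
    have hmax := (PrimeSpectrum.isClosed_singleton_iff_isMaximal _).1 hsc
    refine not_isExcCurve X hX hm hg X' ⟨hreg', inferInstance, hdim', inferInstance, hproj'⟩ q sq
      (PrimeSpectrum.asIdeal (R := R') s) (fun h => hR' ?_) hR' ι hF hs
    rw [h] at hmax
    exact Ring.isField_iff_maximal_bot.2 hmax
  intro W V g' hg'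
  induction hg' with
  | @iso W V e => exact fun _ _ _ _ h => absurd (inferInstance : IsIso e.hom) h
  | @step W Z V F ι b r hι hF hb hr ih =>
    intro qW pV hqp hp _
    haveI := hι
    haveI := hp
    haveI := ModelUnique.isProper_seq hr
    obtain ⟨-, -, z, hz, hrz, -, -, -⟩ := hb
    refine ⟨F, ι, hι, pV (r z), hF, ?_, fun w => ?_⟩
    · have h1 := (r ≫ pV).isClosedMap _ hz
      rwa [Set.image_singleton] at h1
    · rw [← hqp]
      show pV (r (b (ι w))) = _
      rw [show b (ι w) = z from hrz.le ⟨w, rfl⟩]

end Groth.Agent.H28RR.EtaleMin
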