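import Groth.Agent.H28RR.CanonBC
import Groth.Agent.H28RR.SoleComponent
import Groth.Agent.H28RR.ContractArtin
import Groth.Agent.H28RR.ArtinH1
import Groth.Agent.H27HW.Degree
import Groth.Agent.H17.Canon.BlowVert

/-!
# Nefness of the canonical sheaf under unramified extensions of discrete valuation rings
-/

set_option autoImplicit false
set_option linter.style.haveILetI false
set_option linter.unusedSectionVars false
set_option backward.isDefEq.respectTransparency.types false
set_option maxHeartbeats 1600000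

universe u

open CategoryTheory CategoryTheory.Limits AlgebraicGeometry TopologicalSpace
open Groth.Agent

noncomputable section

namespace Groth.Agent.H28RR.EtaleNef

variable {T T' : Type u} [CommRing T] [IsDomain T] [IsDiscreteValuationRing T]
  [CommRing T'] [IsDomain T'] [IsDiscreteValuationRing T'] [Algebra T T'] [IsLocalHom (algebraMap T T')]
  [Module.Flat T T'] [Module.Finite (IsLocalRing.ResidueField T) (IsLocalRing.ResidueField T')]

/-- If the canonical sheaf is nef then so is that of the base change. -/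
theorem nef_baseChange {X : Over (Spec (CommRingCat.of T))} (hX : ArSurf.IsArithSurface T X)
    {X' : Over (Spec (CommRingCat.of T'))} [IsProper X'.hom] [IsIntegral X'.left] (π : X'.left ⟶ X.left)
    (sq : IsPullback π X'.hom X.hom (Spec.map (CommRingCat.ofHom (algebraMap T T'))))
    {ω : X.left.Modules} (hω : Canon.IsCanonical X.hom ω)
    (hnef : ∀ C : ArSurf.VertComp T X, 0 ≤ ArSurf.inter T X ω C)
    {ω' : X'.left.Modules} (hω' : Canon.IsCanonical X'.hom ω') (Δ : ArSurf.VertComp T' X') :
    0 ≤ ArSurf.inter T' X' ω' Δ := by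
  classical
  obtain ⟨hreg, hint, hdim, hflat, n, ip, hip, hipX⟩ := id hX
  haveI := hint
  haveI := hflat
  haveI := hip
  haveI : IsProper X.hom := by rw [← hipX]; infer_instance
  haveI : IsLocallyNoetherian X.left := LocallyOfFiniteType.isLocallyNoetherian X.hom
  haveI : IsLocallyNoetherian X'.left := LocallyOfFiniteType.isLocallyNoetherian X'.hom
  let u := Spec.map (CommRingCat.ofHom (algebraMap T T'))
  haveI : Flat u := by
    rw [HasRingHomProperty.Spec_iff (P := @Flat)]
    exact RingHom.flat_algebraMap_iff.2 ‹_›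
  haveI : IsAffineHom π := MorphismProperty.of_isPullback (P := @IsAffineHom) sq.flip inferInstance
  obtain ⟨φ⟩ := H17.CanonSm.nonempty_pullback_iso_of_isCanonical (𝟙 X'.left) (𝟙 X'.left) rfl hω'
    (CanonBC.isCanonical_baseChange sq hω)
  haveI := Δ.isClosedImmersion
  haveI := Δ.isIntegral
  let e := Δ.ι (genericPoint Δ.curve.left)
  let k := IsLocalRing.ResidueField T
  let k' := IsLocalRing.ResidueField T'
  let cp := Spec.map (CommRingCat.ofHom (IsLocalRing.residue T))
  let sk := Spec.map (CommRingCat.ofHom (algebraMap k k'))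
  haveI : IsClosedImmersion cp := IsClosedImmersion.spec_of_surjective _ IsLocalRing.residue_surjective
  have hcp : Spec.map (CommRingCat.ofHom (IsLocalRing.residue T')) ≫ u = sk ≫ cp := by
    rw [← Spec.map_comp, ← Spec.map_comp]
    rfl
  have hw : (Δ.ι ≫ π) ≫ X.hom = (Δ.curve.hom ≫ sk) ≫ cp := by
    rw [Category.assoc, sq.w, ← Category.assoc, Δ.w, Category.assoc, hcp, Category.assoc]
  have hes : π e ∈ Models.specialFibreSet T X := by
    show X.hom (π e) = _
    rw [← Scheme.Hom.comp_apply, ← Scheme.Hom.comp_apply, ← Category.assoc, hw, Scheme.Hom.comp_apply]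
    exact IsLocalRing.PrimeSpectrum.comap_residue T _
  obtain ⟨m, Γs, hΓs⟩ := H28Vert.exists_isComponentList' (R := T) (X := X) hdim
  obtain ⟨W, hW, heW⟩ := H28Vert.exists_maximal_irreducible_subset (R := T) (X := X) hes
  obtain ⟨l, hl⟩ := hΓs.2.ge hW
  let C := Γs l
  haveI := C.isClosedImmersion
  haveI := C.isIntegral
  obtain ⟨h, hh⟩ := H17.exists_lift_of_range_subset (Δ.ι ≫ π) C.ι (by
    rintro _ ⟨w, rfl⟩
    have h1 := ((genericPoint_specializes w).map Δ.ι.continuous).map π.continuous
    exact h1.mem_closed C.ι.isClosedEmbedding.isClosed_range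
      ((show Set.range C.ι.base = W from hl).ge heW))
  have hk : h ≫ C.curve.hom = Δ.curve.hom ≫ sk := by
    rw [← cancel_mono cp, Category.assoc, ← C.w, ← Category.assoc, hh, hw]
  letI : C.curve.left.Over (Spec (CommRingCat.of k)) := ⟨C.curve.hom⟩
  letI iDk : Δ.curve.left.Over (Spec (CommRingCat.of k)) := ⟨Δ.curve.hom ≫ sk⟩
  haveI := H28Vert.isProper_curve C
  haveI := H28Vert.isProper_curve Δ
  haveI : IsFinite sk := by
    rw [IsFinite.SpecMap_iff]
    exact RingHom.finite_algebraMap.2 ‹_›
  haveI : IsProper (C.curve.left ↘ Spec (CommRingCat.of k)) := inferInstanceAs (IsProper C.curve.hom)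
  haveI : IsProper (Δ.curve.left ↘ Spec (CommRingCat.of k')) := inferInstanceAs (IsProper Δ.curve.hom)
  haveI : IsProper (Δ.curve.left ↘ Spec (CommRingCat.of k)) := inferInstanceAs (IsProper (Δ.curve.hom ≫ sk))
  haveI : IsAffineHom h := by
    haveI : IsAffineHom (h ≫ C.ι) := by rw [hh]; infer_instance
    exact IsAffineHom.of_comp h C.ι
  haveI : IsProper h := by
    haveI : IsProper (h ≫ C.curve.hom) := by rw [hk]; infer_instance
    exact IsProper.of_comp h C.curve.hom
  haveI : IsFinite h := IsFinite.iff_isProper_and_isAffineHom.2 ⟨‹_›, ‹_›⟩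
  let A := (Scheme.Modules.pullback C.ι).obj ω
  let H := (Scheme.Modules.pullback ip).obj
    (H8Props.Ample.exists_isAmple_projSpaceOver n (S := Spec (CommRingCat.of T))
      (H17.LocalProj.exists_isAmple_of_isAffine _)).choose
  have hH : CohB1.IsAmple H := H11Ample.isAmple_pullback_of_isAffineHom ip
    (H8Props.Ample.exists_isAmple_projSpaceOver n (S := Spec (CommRingCat.of T))
      (H17.LocalProj.exists_isAmple_of_isAffine _)).choose_spec
  let B := (Scheme.Modules.pullback C.ι).obj H
  have hB : CohB1.IsAmple B := H11Ample.isAmple_pullback_of_isAffineHom C.ι hH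
  have hA : PicF.IsInvertible A := H11Ample.isInvertible_pullback C.ι (H17.CanonSm.isInvertible_of_isCanonical hω)
  have hhB : CohB1.IsAmple ((Scheme.Modules.pullback h).obj B) := H11Ample.isAmple_pullback_of_isAffineHom h hB
  have hhA : PicF.IsInvertible ((Scheme.Modules.pullback h).obj A) := H11Ample.isInvertible_pullback h hA
  haveI := H28Int.isNoetherian k (X := Δ.curve.left)
  haveI := H28Int.isNoetherian k (X := C.curve.left)
  have hp := H27HW.deg_pullback_prop k C.dim_eq h hk
    (H10Coh.isCoh_push_of_isFinite h _ (H10Coh.isCoh_structureModule' _)) hA hB.1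
  rw [← ArtinH1.curveDeg_eq_deg C.dim_eq hA, ← ArtinH1.curveDeg_eq_deg C.dim_eq hB.1,
    ← ArtinH1.curveDeg_eq_deg Δ.dim_eq hhA, ← ArtinH1.curveDeg_eq_deg Δ.dim_eq hhB.1] at hp
  have hBpos := ContractArtin.curveDeg_pos_of_ample k C.curve.left C.dim_eq hB
  have hhBpos := ContractArtin.curveDeg_pos_of_ample k Δ.curve.left Δ.dim_eq hhB
  have hA0 : 0 ≤ ArSurf.curveDeg k C.curve.left A := hnef C
  have hnn : 0 ≤ ArSurf.curveDeg k Δ.curve.left ((Scheme.Modules.pullback h).obj A) := by
    by_contra hlt
    have h1 := mul_neg_of_neg_of_pos (not_le.1 hlt) hBpos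
    have h2 := mul_nonneg hhBpos.le hA0
    omega
  have htow : ∀ M : Δ.curve.left.Modules, FGA.eulerCharLE k Δ.curve.left M 1 =
      (Module.finrank k k' : ℤ) * FGA.eulerCharLE k' Δ.curve.left M 1 := fun M =>
    SoleComponent.eulerCharLE_tower k k' rfl M 1
  have hfin : (0 : ℤ) < Module.finrank k k' := by exact_mod_cast Module.finrank_pos
  have hd : ArSurf.curveDeg k Δ.curve.left ((Scheme.Modules.pullback h).obj A) =
      (Module.finrank k k' : ℤ) * ArSurf.curveDeg k' Δ.curve.left ((Scheme.Modules.pullback h).obj A) := by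
    rw [ArSurf.curveDeg, ArSurf.curveDeg, htow, htow]
    ring
  rw [hd] at hnn
  have hkey : ArSurf.inter T' X' ω' Δ = ArSurf.curveDeg k' Δ.curve.left ((Scheme.Modules.pullback h).obj A) :=
    ContractArtin.curveDeg_congr k' Δ.curve.left
      ((Scheme.Modules.pullback Δ.ι).mapIso (((Scheme.Modules.pullbackId X'.left).app ω').symm ≪≫ φ ≪≫
          (Scheme.Modules.pullbackId X'.left).app _) ≪≫
        (Scheme.Modules.pullbackComp Δ.ι π).app ω ≪≫
        eqToIso (by rw [hh]) ≪≫ ((Scheme.Modules.pullbackComp h C.ι).app ω).symm)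
  rw [hkey]
  exact nonneg_of_mul_nonneg_right hnn hfin

end Groth.Agent.H28RR.EtaleNef
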