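import Groth.Agent.H28RR.Fibre
import Groth.Agent.H28RR.BlowPic

/-!
# Fibres meet curves nonnegatively
-/

set_option autoImplicit false
set_option linter.style.haveILetI false
set_option linter.unusedSectionVars false
set_option backward.isDefEq.respectTransparency.types false
universe u

open CategoryTheory CategoryTheory.Limits AlgebraicGeometry TopologicalSpace
open Groth.Agent.H28Surf

namespace Groth.Agent.H28RR

variable {X : Scheme.{u}} (k : Type u) [Field k] [X.Over (Spec (CommRingCat.of k))]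
  [IsProper (X ↘ Spec (CommRingCat.of k))] [Smooth (X ↘ Spec (CommRingCat.of k))] [IsIntegral X]

include k

/-- A sum of curves meets a curve outside it nonnegatively. -/
theorem pr_prod_nonneg (hdim : topologicalKrullDim X = 2) {M : Multiset X.IdealSheafData}
    (hM : ∀ C ∈ M, IsCurve C) {D : X.IdealSheafData} (hD : IsCurve D) (hDM : D ∉ M) :
    0 ≤ pr k (ClSub.idealMod M.prod) (ClSub.idealMod D) := by
  have hDi := isInvertible_ideal k (isEffCartier_curve k hdim hD)
  rw [H28Reg.pr_prod_left k (fun x => H19Grp.isRegularLocalRing_stalk_of_smooth (X ↘ Spec (CommRingCat.of k)) x)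
    hdim M hM hDi]
  refine Multiset.sum_nonneg fun a ha => ?_
  obtain ⟨C, hC, rfl⟩ := Multiset.mem_map.1 ha
  exact (H28Reg.pr_curves_nonneg k hdim (hM C hC) hD (isInvertible_ideal k (isEffCartier_curve k hdim (hM C hC)))
    hDi fun h => hDM (h ▸ hC)).1

/-- A fibre meets every curve nonnegatively. -/
theorem pr_fibre_nonneg [IsAlgClosed k] (hdim : topologicalKrullDim X = 2) {C : Scheme.{u}}
    [C.Over (Spec (CommRingCat.of k))] [IsProper (C ↘ Spec (CommRingCat.of k))]
    [Smooth (C ↘ Spec (CommRingCat.of k))] [IsIntegral C] (hdimC : topologicalKrullDim C = 1)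
    (f : X ⟶ C) [Surjective f] {p : C} (hp : IsClosed ({p} : Set C))
    {Γ : X.IdealSheafData} (hΓ : IsCurve Γ) :
    0 ≤ pr k (ClSub.idealMod (f.fiberι p).ker) (ClSub.idealMod Γ) := by
  have hF := isEffCartier_fibre k hdimC f (hp := hp)
  obtain ⟨M, hM, hMp⟩ := H28Surf.exists_multiset k hdim _ hF
  by_cases hmem : Γ ∈ M
  swap
  · rw [← hMp]; exact pr_prod_nonneg k hdim hM hΓ hmem
  have hpt := isEffCartier_point k hdimC hp
  have hker := ker_fiberι f hp
  rw [hker] at hF ⊢
  have hconst : ∀ y, (Γ.subschemeι ≫ f) y = p := fun y => by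
    have h1 : Γ.subschemeι y ∈ (M.prod.support : Set X) :=
      (mem_support_prod k).2 ⟨Γ, hmem, by rw [← Scheme.IdealSheafData.range_subschemeι]; exact ⟨y, rfl⟩⟩
    rw [hMp, hker, Scheme.IdealSheafData.support_comap] at h1
    have h2 : f (Γ.subschemeι y) ∈ ((Scheme.IdealSheafData.vanishingIdeal ⟨{p}, hp⟩).support : Set C) := h1
    rw [Scheme.IdealSheafData.coe_support_vanishingIdeal] at h2
    exact h2
  haveI := hΓ.int
  have hpi := H29Blow.isInvertible_of_isEffCartierIdeal _ hpt
  have hP := H11Ample.isInvertible_pullback f hpi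
  have hΓi := isInvertible_ideal k (isEffCartier_curve k hdim hΓ)
  obtain ⟨ψ⟩ := H12Pic.CurveFam.nonempty_pullback_idealMod_comap f hpt hF
  rw [← pr_congr_left k hΓi ψ, pr_symm k]
  have hdeg := degOn_eq_pr k hdim hΓ hP
  rw [degOn_eq_deg k hΓ hP] at hdeg
  letI : Γ.subscheme.Over (Spec (CommRingCat.of k)) := ⟨Γ.subschemeι ≫ (X ↘ Spec (CommRingCat.of k))⟩
  haveI : IsProper (Γ.subscheme ↘ Spec (CommRingCat.of k)) :=
    inferInstanceAs (IsProper (Γ.subschemeι ≫ (X ↘ Spec (CommRingCat.of k))))
  have h0 : H28Int.D k [(Scheme.Modules.pullback (Γ.subschemeι ≫ f)).obj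
      (ClSub.idealMod (Scheme.IdealSheafData.vanishingIdeal ⟨{p}, hp⟩))] (Coh.structureModule Γ.subscheme) = 0 :=
    H28Int.Curves.D_pullback_const k (Γ.subschemeι ≫ f) (x := p) hconst hpi
  have h2 := H25Euler.euler_congr (k := k) ((Scheme.Modules.pullbackComp Γ.subschemeι f).app
    (ClSub.idealMod (Scheme.IdealSheafData.vanishingIdeal ⟨{p}, hp⟩)))
  have h3 : Curv2.euler k Γ.subscheme (Coh.structureModule Γ.subscheme) - Curv2.euler k Γ.subscheme
      (CohB1.tensorMod ((Scheme.Modules.pullback (Γ.subschemeι ≫ f)).obj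
        (ClSub.idealMod (Scheme.IdealSheafData.vanishingIdeal ⟨{p}, hp⟩))) (Coh.structureModule Γ.subscheme)) = 0 := h0
  rw [H25Euler.euler_congr (H10Coh.Tw.rightUnitIso _)] at h3
  rw [Curv2.deg, Nat.cast_one, one_mul] at hdeg
  simp only [Functor.comp_obj] at h2
  omega

/-- A finite closed subset of a proper scheme contains no curve. -/
theorem not_subset_of_finite {S : Set X} (hS : S.Finite) {Γ : X.IdealSheafData} (hΓ : IsCurve Γ) :
    ¬ (Γ.support : Set X) ⊆ S := by
  intro hsub
  haveI := hΓ.int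
  haveI : JacobsonSpace X := LocallyOfFiniteType.jacobsonSpace (X ↘ Spec (CommRingCat.of k))
  set η := Γ.subschemeι (genericPoint Γ.subscheme)
  have hfin := (hS.subset hsub).subset (Set.inter_subset_left (t := closedPoints X))
  have hcl : IsClosed ((Γ.support : Set X) ∩ closedPoints X) := by
    rw [← Set.biUnion_of_singleton ((Γ.support : Set X) ∩ closedPoints X)]
    exact hfin.isClosed_biUnion fun z hz => hz.2
  have heq : closure ((Γ.support : Set X) ∩ closedPoints X) = closure (Γ.support : Set X) :=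
    JacobsonSpace.closure_inter_closedPoints_eq_closure (Γ.support.2.isLocallyClosed)
  rw [hcl.closure_eq] at heq
  replace heq := heq.trans Γ.support.2.closure_eq
  have hη : IsClosed ({η} : Set X) := (heq.ge (IsCurve.gen_mem k hΓ)).2
  have h1 := H28Int.Curves.cdim_closed hη
  change topologicalKrullDim (closure ({η} : Set X)) = _ at h1
  rw [hΓ.closure_gen, hΓ.dim] at h1
  exact absurd h1 (by decide)

end Groth.Agent.H28RR
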