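import Groth.Agent.H28RR.NefBigVan
import Groth.Agent.H11Ample.Global
import Groth.Agent.H10Inj.GGOn
import Groth.Agent.H29RR.Sections
import Groth.Agent.H29RR.RiemannRoch
import Groth.Agent.H28Lift.ExtLine
import Groth.Agent.H28Surf.Artin

/-!
# Twisting an ample module by a curve of genus zero until it is trivial on the curve
-/

set_option autoImplicit false
set_option linter.style.haveILetI false
set_option linter.unusedSectionVars false
set_option backward.isDefEq.respectTransparency.types false
universe u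

open CategoryTheory CategoryTheory.Limits AlgebraicGeometry TopologicalSpace
open Groth.Agent.H28RR.PicNum Groth.Agent.H28RR.ZariskiVol Groth.Agent.H28RR.NefBigVan
open Groth.Agent.H28Surf hiding dot dot_mul_left dot_mul_right dot_pow_left

noncomputable section

namespace Groth.Agent.H28RR.GenAtCurve

attribute [local instance] H28Vert.picLaw
attribute [local instance 10000] H10Coh.hasSheafifyAb H10Coh.hasWeakSheafifyAb H10Coh.hasExtAb H10Coh.enoughInjAb

variable {X : Scheme.{u}}

/-- An invertible module is spanned at a point once it maps onto a spanned module which is nonzero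
there and all sections of which lift. -/
theorem spansAt_of_quotient {L Q : X.Modules} (hL : PicF.IsInvertible L) (φ : L ⟶ Q) {x : X}
    (hQ : H29RR.SpansAt Q x) (hφ : Function.Surjective (φ.app ⊤)) (hx : x ∈ CohB1.support Q) :
    H29RR.SpansAt L x := by
  obtain ⟨V, e, hxV, he⟩ := H11Ample.exists_gen hL x
  let O := X.presheaf.stalk x
  set eM := L.presheaf.germ V x hxV e with heM
  have hbij : Function.Bijective (fun r : O => r • eM) := he x hxV
  set f := H06Mod.stalkLin φ x
  set N := Submodule.span O (Set.range fun g : Γ(L, ⊤) => L.presheaf.germ ⊤ x trivial g)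
  have hN : N.map f = ⊤ := by
    rw [eq_top_iff, ← (show Submodule.span O (Set.range fun g : Γ(Q, ⊤) => Q.presheaf.germ ⊤ x trivial g) = ⊤ from hQ),
      Submodule.span_le]
    rintro _ ⟨g, rfl⟩
    obtain ⟨g', rfl⟩ := hφ g
    exact ⟨_, Submodule.subset_span ⟨g', rfl⟩, H29RR.germ_app φ x g'⟩
  show N = ⊤
  by_contra hne
  have hNm : ∀ v ∈ N, ∃ c ∈ IsLocalRing.maximalIdeal O, v = c • eM := fun v hv => by
    obtain ⟨c, hc⟩ := hbij.2 v
    refine ⟨c, ?_, hc.symm⟩
    rw [IsLocalRing.mem_maximalIdeal]
    intro hu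
    apply hne
    rw [eq_top_iff]
    rintro w -
    obtain ⟨d, rfl⟩ := hbij.2 w
    obtain ⟨u, rfl⟩ := hu
    have hmem := N.smul_mem (d * ((u⁻¹ : Oˣ) : O)) (hc ▸ hv)
    simp only [smul_smul, mul_assoc, Units.inv_mul, mul_one] at hmem
    exact hmem
  obtain ⟨v, hv, hfv⟩ : f eM ∈ N.map f := hN ▸ Submodule.mem_top
  obtain ⟨c, hc, rfl⟩ := hNm v hv
  have h0 : f eM = 0 := by
    have h1 : ((1 : O) - c) • f eM = 0 := by rw [sub_smul, one_smul, ← map_smul, hfv, sub_self]
    have hu : IsUnit ((1 : O) - c) := IsLocalRing.isUnit_one_sub_self_of_mem_nonunits c hc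
    exact hu.smul_eq_zero.1 h1
  refine hx ?_
  refine subsingleton_of_forall_eq (α := Q.presheaf.stalk x) 0 fun q => ?_
  obtain ⟨v, hv, rfl⟩ : q ∈ N.map f := hN ▸ Submodule.mem_top
  obtain ⟨d, -, rfl⟩ := hNm v hv
  rw [map_smul, h0, smul_zero]

theorem support_congr' {A B : X.Modules} (φ : A ≅ B) : CohB1.support A = CohB1.support B := by
  ext y
  let e := ((DerSch.stalkFunctor X y).mapIso φ).toLinearEquiv
  exact not_congr e.toEquiv.subsingleton_congr

/-- Spanning at a point passes along isomorphisms. -/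
theorem spansAt_of_iso {A B : X.Modules} (φ : A ≅ B) {x : X} (h : H29RR.SpansAt A x) : H29RR.SpansAt B x := by
  refine H29RR.spansAt_of_surjective φ.hom h fun v => ⟨H06Mod.stalkLin φ.inv x v, ?_⟩
  rw [← H29RR.stalkLin_comp, φ.inv_hom_id]
  obtain ⟨U, hxU, s, rfl⟩ := B.presheaf.exists_germ_eq v
  rw [H06Mod.stalkLin_germ]
  rfl

variable (k : Type u) [Field k] [IsAlgClosed k] [X.Over (Spec (CommRingCat.of k))]
  [IsProper (X ↘ Spec (CommRingCat.of k))] [Smooth (X ↘ Spec (CommRingCat.of k))] [IsIntegral X]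
  (hdim : topologicalKrullDim X = 2)

include hdim

/-- For a curve of genus zero with negative square some ample class plus a multiple of the curve is
globally generated and of degree zero exactly on the curve. -/
theorem exists_generated {C : X.IdealSheafData} (hC : IsCurve C)
    (h1C : Subsingleton (Coh.HH C.subscheme (Coh.structureModule C.subscheme) 1))
    (hneg : dot k (curveCls k hdim hC) (curveCls k hdim hC) < 0) :
    ∃ L : X.Modules, PicF.IsInvertible L ∧ Curv2.IsGloballyGenerated L ∧
      (∀ D : X.IdealSheafData, IsCurve D → (degOn k D L = 0 ↔ D = C)) ∧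
      (∀ D : X.IdealSheafData, IsCurve D → 0 ≤ degOn k D L) ∧
      Nonempty ((Scheme.Modules.pullback C.subschemeι).obj L ≅ Coh.structureModule C.subscheme) := by
  classical
  haveI := H28Int.isNoetherian k (X := X)
  set δ := curveCls k hdim hC with hδ
  obtain ⟨W, hW⟩ := exists_canonical k hdim
  set w := PicGrp.cls W (isInvertible_canonical k hdim hW)
  obtain ⟨C₀, hC₀, hH⟩ := exists_ample_curve (X := X) k hdim
  set H := curveCls k hdim hC₀
  have hHi : PicF.IsInvertible (rep H) := rep_inv H
  obtain ⟨N₁, hN₁⟩ := exists_hc_vanishing k hdim hH (1 : PicLoc.PicSet X)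
  obtain ⟨N₂, hN₂⟩ := H11Ample.eventually_globallyGenerated hH (H10Coh.isCoh_structureModule' X)
  obtain ⟨n, hn⟩ := Int.eq_ofNat_of_zero_le (neg_nonneg.2 hneg.le)
  have hn0 : 0 < n := by omega
  set d := dot k H δ with hd
  have hd0 : 0 < d := by rw [hd, ← degOn_eq_dot k hdim hC]; exact ample_deg_pos k hdim hH hC
  set m := n * (N₁ + N₂ + 1) with hm
  have hmN : N₁ ≤ m ∧ N₂ ≤ m := by
    have := Nat.le_mul_of_pos_left (N₁ + N₂ + 1) hn0
    omega
  obtain ⟨d', hd'⟩ := Int.eq_ofNat_of_zero_le hd0.le
  set a := (N₁ + N₂ + 1) * d' with ha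
  set c : ℕ → PicLoc.PicSet X := fun j => H ^ m * δ ^ j with hcdef
  have hcs : ∀ j, c (j + 1) = c j * δ := fun j => by rw [hcdef]; simp only [pow_succ, mul_assoc]
  have hdeg : ∀ j : ℕ, dot k (c j) δ = (n : ℤ) * ((a : ℤ) - j) := fun j => by
    rw [hcdef]
    simp only [dot_mul_left k hdim, dot_pow_left k hdim]
    rw [show dot k H δ = d' from hd', show dot k δ δ = -(n : ℤ) by omega, hm, ha]
    push_cast
    ring
  have hg : dot k δ δ + dot k w δ = -2 := by
    have hCe := isEffCartier_curve k hdim hC
    have hI := isInvertible_ideal k hCe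
    have hq := euler_quot k hdim hW hCe
    have he := (subsingleton_h1_iff k hdim hC).1 h1C
    rw [hδ, curveCls, dot_inv_left k hdim, dot_inv_right k hdim, dot_inv_right k hdim, neg_neg,
      dot_cls k hdim hI hI, dot_comm k (PicGrp.cls W _), dot_cls k hdim hI (isInvertible_canonical k hdim hW)]
    omega
  have hvan : ∀ j, j + 1 ≤ a → hc k 1 (c j) = 0 := by
    intro j
    induction j with
    | zero =>
      intro _
      have h := hN₁ m hmN.1 1 one_pos
      rw [one_mul] at h
      simpa [hcdef] using h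
    | succ j ih =>
      intro hj
      refine Nat.le_zero.1 ((h1_step k hdim hW hC (c (j + 1)) ?_).trans_eq ?_)
      · rw [hg, hdeg]
        have : (1 : ℤ) ≤ (a : ℤ) - (j + 1 : ℕ) := by omega
        have h1 : (1 : ℤ) ≤ n := by omega
        nlinarith
      · rw [hcs, mul_inv_cancel_right]
        exact ih (by omega)
  -- the trivial restriction
  set L := rep (c a) with hLdef
  have hL : PicF.IsInvertible L := rep_inv _
  haveI := hC.int
  letI : C.subscheme.Over (Spec (CommRingCat.of k)) := ⟨C.subschemeι ≫ (X ↘ Spec (CommRingCat.of k))⟩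
  haveI : IsProper (C.subscheme ↘ Spec (CommRingCat.of k)) :=
    inferInstanceAs (IsProper (C.subschemeι ≫ (X ↘ Spec (CommRingCat.of k))))
  have hd1 : topologicalKrullDim C.subscheme ≤ 1 := ((dim_subscheme C).trans hC.dim).le
  have hLC := H11Ample.isInvertible_pullback C.subschemeι hL
  obtain ⟨triv⟩ : Nonempty ((Scheme.Modules.pullback C.subschemeι).obj L ≅ Coh.structureModule C.subscheme) := by
    have h0 : Curv2.deg k C.subscheme ((Scheme.Modules.pullback C.subschemeι).obj L) 1 = 0 := by
      rw [← degOn_eq_deg k hC hL, hLdef, degOn_eq_dot k hdim hC, ← hδ, hdeg]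
      simp
    have hgen : Curv2.genus k C.subscheme = 0 := by rw [Curv2.genus]; exact Module.finrank_zero_of_subsingleton
    obtain ⟨hs, -, -⟩ := H29RR.genus_zero_h0 (k := k) hd1 (H29RR.finrank_h0_structure k C.subscheme) hgen hLC h0.ge
    exact (H29RR.bounds_of_section (k := k) hd1 hLC hs).2.2.2 h0
  have hspan : ∀ j, j ≤ a → ∀ x : X, x ∉ (C.support : Set X) → H29RR.SpansAt (rep (c j)) x := by
    intro j
    induction j with
    | zero =>
      intro _ x _
      obtain ⟨g₀⟩ : Nonempty (rep (c 0) ≅ CohB1.tensorMod (Coh.structureModule X) (CohB1.tensorPow (rep H) m)) := by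
        refine ⟨eqToIso (congrArg rep ?_) ≪≫ (nonempty_rep_iso (H28Vert.isInvertible_tensorPow hHi m)).some ≪≫
          (H10Coh.Tw.leftUnitIso _).symm⟩
        rw [hcdef, H28Vert.cls_tensorPow hHi, cls_rep]
        simp
      obtain ⟨ι, p, hp⟩ := H11Ample.isGloballyGenerated_of_iso g₀.symm (hN₂ m hmN.2)
      obtain ⟨g, hg'⟩ := H11Ample.exists_mem_gen_of_isGloballyGenerated (rep_inv (c 0)) ⟨ι, p, hp⟩ x
      rw [H29RR.SpansAt, eq_top_iff]
      rintro v -
      obtain ⟨r, hr⟩ := ((H11Ample.mem_gen_iff (rep_inv (c 0)) g x).1 hg').2 v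
      rw [← hr]
      exact Submodule.smul_mem _ _ (Submodule.subset_span ⟨g, rfl⟩)
    | succ j ih =>
      intro hj x hx
      obtain ⟨S, hS, e₁, e₂, e₃⟩ := exists_restrict_seq k C (rep_inv (c (j + 1)))
      have hI := isInvertible_ideal k (isEffCartier_curve k hdim hC)
      obtain ⟨g₁⟩ : Nonempty (rep (c j) ≅ S.X₁) := by
        rw [e₁]
        refine ⟨eqToIso (congrArg rep ?_) ≪≫ (nonempty_rep_iso (H11Ample.isInvertible_tensor hI (rep_inv _))).some⟩
        refine Eq.trans ?_ (Subtype.ext (PicGrp.cls_mul_cls_val hI (rep_inv (c (j + 1)))) :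
          PicGrp.cls _ hI * PicGrp.cls _ (rep_inv (c (j + 1))) = _)
        rw [cls_rep, hcs, hδ, curveCls, mul_comm (c j), mul_inv_cancel_left]
      refine spansAt_of_iso (eqToIso e₂ ≪≫ H10Coh.Tw.leftUnitIso _) ?_
      refine H29RR.spansAt_of_surjective S.f (spansAt_of_iso g₁ (ih (by omega) x hx))
        (H29RR.surjective_stalk_of_notMem_support S.f fun h => ?_)
      haveI := hS.epi_g
      have e : cokernel S.f ≅ S.X₃ := IsColimit.coconePointUniqueUpToIso (cokernelIsCokernel S.f) hS.gIsCokernel
      rw [H28RR.GenAtCurve.support_congr' (e ≪≫ eqToIso e₃), H25Euler.support_tensor_invertible (isCoh_quot k C) (rep_inv _),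
        support_quot k C] at h
      exact hx h
  have hgg : Curv2.IsGloballyGenerated L := by
    refine H10Inj.GGOn.isGloballyGenerated_of_spansAt L fun x => ?_
    by_cases hx : x ∈ (C.support : Set X)
    · obtain ⟨S, hS, e₁, e₂, e₃⟩ := exists_restrict_seq k C hL
      obtain ⟨e⟩ := H10Coh.Tw.nonempty_push_tensor_iso C.subschemeι (Coh.structureModule C.subscheme) hL
      have g₃ : ClSub.quotMod C ≅ S.X₃ := ((Coh.push C.subschemeι).mapIso
        (triv.symm ≪≫ (H10Coh.Tw.leftUnitIso _).symm)) ≪≫ e.symm ≪≫ eqToIso e₃.symm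
      refine spansAt_of_iso (eqToIso e₂ ≪≫ H10Coh.Tw.leftUnitIso _) ?_
      have hX₂ : PicF.IsInvertible S.X₂ := e₂ ▸ H11Ample.isInvertible_tensor (PicLoc.isInvertible_structureModule X) hL
      refine spansAt_of_quotient hX₂ S.g (spansAt_of_iso g₃ ?_) (H28Lift.surjective_app_top hS ?_) ?_
      · haveI := H10Coh.epi_toSubscheme C
        refine H29RR.spansAt_of_surjective (ClSub.toSubscheme C) (H29RR.spansAt_structureModule x)
          (H29RR.surjective_stalk_of_notMem_support _ fun h => h ?_)
        exact ModuleCat.subsingleton_of_isZero ((DerSch.stalkFunctor X x).map_isZero (isZero_cokernel_of_epi _))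
      · have hI := isInvertible_ideal k (isEffCartier_curve k hdim hC)
        haveI := H10Coh.finite_HH_proper k X _
          (H11Ample.isCoh_tensor (H11Ample.isCoh_of_isInvertible hI) hL) 1
        rw [e₁]
        refine (Module.finrank_zero_iff (R := k)).1 ?_
        have ha0 : 0 < a := Nat.mul_pos (Nat.succ_pos _) (by omega)
        obtain ⟨a', ha'⟩ : ∃ a', a = a' + 1 := ⟨a - 1, by omega⟩
        rw [← hc_cls k 1 (H11Ample.isInvertible_tensor hI hL)]
        refine Eq.trans (congrArg _ ?_) (hvan a' ha'.ge)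
        refine Eq.trans (Subtype.ext (PicGrp.cls_mul_cls_val hI hL) :
          PicGrp.cls _ hI * PicGrp.cls _ hL = _).symm ?_
        rw [show PicGrp.cls L hL = c (a' + 1) from (cls_rep _).trans (congrArg c ha'), hcs, hδ, curveCls, mul_comm (c a'), mul_inv_cancel_left]
      · rw [H28RR.GenAtCurve.support_congr' g₃.symm, support_quot k C]
        exact hx
    · exact hspan a le_rfl x hx
  refine ⟨L, hL, hgg, fun D hD => ⟨fun h => ?_, fun h => ?_⟩, fun D hD => ?_, ⟨triv⟩⟩
  · by_contra hne
    have h1 : 0 < dot k H (curveCls k hdim hD) := by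
      rw [← degOn_eq_dot k hdim hD]; exact ample_deg_pos k hdim hH hD
    have h2 : 0 ≤ dot k δ (curveCls k hdim hD) := by
      rw [hδ, curveCls, curveCls, dot_inv_left k hdim, dot_inv_right k hdim, neg_neg, dot_cls k hdim,
        ← intNum_eq_pr k hdim]
      · exact H28Surf.dot_nonneg k hdim hC hD (Ne.symm hne)
      all_goals exact isInvertible_ideal k (isEffCartier_curve k hdim (by assumption))
    rw [hLdef, degOn_eq_dot k hdim hD, hcdef] at h
    simp only [dot_mul_left k hdim, dot_pow_left k hdim] at h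
    have h3 : (1 : ℤ) ≤ m := by
      have : 1 ≤ m := Nat.mul_pos hn0 (Nat.succ_pos (N₁ + N₂))
      exact_mod_cast this
    nlinarith [mul_nonneg (Int.natCast_nonneg a) h2]
  · subst h
    rw [hLdef, degOn_eq_dot k hdim hD, show curveCls k hdim hD = δ from rfl, hdeg]
    simp
  · rcases eq_or_ne D C with rfl | hne
    · rw [hLdef, degOn_eq_dot k hdim hD, show curveCls k hdim hD = δ from rfl, hdeg]
      simp
    · have h1 : 0 < dot k H (curveCls k hdim hD) := by
        rw [← degOn_eq_dot k hdim hD]; exact ample_deg_pos k hdim hH hD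
      have h2 : 0 ≤ dot k δ (curveCls k hdim hD) := by
        rw [hδ, curveCls, curveCls, dot_inv_left k hdim, dot_inv_right k hdim, neg_neg, dot_cls k hdim,
          ← intNum_eq_pr k hdim]
        · exact H28Surf.dot_nonneg k hdim hC hD hne.symm
        all_goals exact isInvertible_ideal k (isEffCartier_curve k hdim (by assumption))
      rw [hLdef, degOn_eq_dot k hdim hD, hcdef]
      simp only [dot_mul_left k hdim, dot_pow_left k hdim]
      positivity

end Groth.Agent.H28RR.GenAtCurve
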