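import Groth.Agent.H28RR.CastMain
import Groth.Agent.H28RR.ModelProj
import Groth.Agent.H11Proj.PnGlobal

/-! # Contracting an exceptional curve of a projective normal scheme over a Noetherian ring -/

set_option autoImplicit false
set_option linter.style.haveILetI false
set_option linter.unusedSectionVars false
set_option backward.isDefEq.respectTransparency.types false
set_option maxHeartbeats 3200000

universe u

open CategoryTheory CategoryTheory.Limits AlgebraicGeometry TopologicalSpace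
open Groth.Agent

noncomputable section

namespace Groth.Agent.H28RR.GlobalContract

section Twists

variable {X : Scheme.{u}} {k : Type u} [Field k] (j : CohB1.ProjSpace 1 k ⟶ X) [IsClosedImmersion j]

/-- The inverse of the ideal restricts to the dual twist. -/
theorem exists_inverse_twist (hE : BlowUp.IsEffCartierIdeal j.ker)
    (η : (Scheme.Modules.pullback j).obj (ClSub.idealMod j.ker) ≅ Twist.twistProjSpace 1 k 1)
    {L : X.Modules} (hLi : PicF.IsInvertible L) (hL : ClSub.IsInverseOf L (ClSub.idealMod j.ker)) :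
    Nonempty ((Scheme.Modules.pullback j).obj L ≅ Twist.twistProjSpace 1 k (-1)) := by
  obtain ⟨ρ⟩ := hL
  let O : ℤ → (CohB1.ProjSpace 1 k).Modules := fun a => Twist.twistProjSpace 1 k a
  have hO := H10Coh.Stab.isTwistFamily_projSpace 1 k
  let N := (Scheme.Modules.pullback j).obj L
  obtain ⟨π⟩ := H11Ample.exists_iso_pullback_tensor j hLi (H29Blow.isInvertible_of_isEffCartierIdeal _ hE)
  obtain ⟨s⟩ := H11Ample.nonempty_pullback_structureModule_iso j
  obtain ⟨z⟩ := hO.zero
  obtain ⟨a⟩ := hO.add 1 (-1)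
  exact ⟨(H10Coh.Tw.rightUnitIso N).symm ≪≫
    PicGrp.tensorModIso (Iso.refl N) (z.symm ≪≫ eqToIso (congrArg O (by norm_num)) ≪≫ a.symm) ≪≫
    (H10Coh.Tw.assoc N (O 1) (O (-1))).symm ≪≫
    PicGrp.tensorModIso (PicGrp.tensorModIso (Iso.refl N) η.symm ≪≫ π.symm ≪≫
      (Scheme.Modules.pullback _).mapIso ρ ≪≫ s) (Iso.refl _) ≪≫
    H10Coh.Tw.leftUnitIso _⟩

/-- Twisting by the curve lowers the degree on it. -/
theorem exists_twist_pow {L M : X.Modules} (hLi : PicF.IsInvertible L) (hM : PicF.IsInvertible M)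
    (hL : (Scheme.Modules.pullback j).obj L ≅ Twist.twistProjSpace 1 k (-1)) {h : ℤ}
    (φ : (Scheme.Modules.pullback j).obj M ≅ Twist.twistProjSpace 1 k h) :
    ∀ i : ℕ, Nonempty ((Scheme.Modules.pullback j).obj (CohB1.tensorMod M (CohB1.tensorPow L i)) ≅
      Twist.twistProjSpace 1 k (h - i))
  | 0 => ⟨(Scheme.Modules.pullback j).mapIso (H10Coh.Tw.rightUnitIso M) ≪≫ φ ≪≫ eqToIso (by norm_num)⟩
  | i + 1 => by
    obtain ⟨ψ⟩ := exists_twist_pow hLi hM hL φ i
    obtain ⟨π⟩ := H11Ample.exists_iso_pullback_tensor j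
      (H11Ample.isInvertible_tensor hM (H28Vert.isInvertible_tensorPow hLi i)) hLi
    obtain ⟨a⟩ := (H10Coh.Stab.isTwistFamily_projSpace 1 k).add (h - i) (-1)
    exact ⟨(Scheme.Modules.pullback j).mapIso (H10Coh.Tw.assoc M (CohB1.tensorPow L i) L).symm ≪≫ π ≪≫
      PicGrp.tensorModIso ψ hL ≪≫ a ≪≫ eqToIso (by push_cast; ring_nf)⟩

/-- The twists of non-negative degree have no first cohomology. -/
theorem subsingleton_H1_twist {j' : ℤ} (hj : -1 ≤ j') {N : (CohB1.ProjSpace 1 k).Modules}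
    (φ : N ≅ Twist.twistProjSpace 1 k j') : Subsingleton (Coh.HH (CohB1.ProjSpace 1 k) N 1) :=
  H10Coh.subsingleton_HH_of_iso φ.symm 1
    (H10Coh.Pn.subsingleton_HH_Od (n := 1) (R := k) (d := j') 1 (by omega) (by omega))

/-- An ample module has positive degree on the line. -/
theorem pos_of_ample {N : (CohB1.ProjSpace 1 k).Modules} (hN : CohB1.IsAmple N) {h : ℤ}
    (φ : N ≅ Twist.twistProjSpace 1 k h) : 0 < h := by
  obtain ⟨hint, hpr, hd⟩ := H28Curve.projLine_facts k
  haveI := hint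
  letI : (CohB1.ProjSpace 1 k).Over (Spec (CommRingCat.of k)) := ⟨CohB1.ProjSpace.toSpec 1 k⟩
  haveI : IsProper (CohB1.ProjSpace 1 k ↘ Spec (CommRingCat.of k)) := H27Weil.isProper_toSpec 1 k
  have h1 := H22Alg.CurveAmple.deg_pos_of_ample (k := k) (X := CohB1.ProjSpace 1 k) (hd.trans Nat.cast_one) hN
  obtain ⟨z⟩ := (H10Coh.Stab.isTwistFamily_projSpace 1 k).zero
  have e : ∀ a, Curv2.euler k (CohB1.ProjSpace 1 k) (Twist.twistProjSpace 1 k a) = a + 1 := fun a =>
    (H25Euler.euler_congr (((Scheme.Modules.pullbackId _).app _).symm)).trans (CastLine.euler_twist (Iso.refl _) a)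
  rw [H29RR.deg_def, H25Euler.euler_congr φ, e, H25Euler.euler_congr z.symm, e] at h1
  omega

end Twists

/-- Peeling off one copy. -/
def stepIso {X : Scheme.{u}} {I M L : X.Modules} (ρ : CohB1.tensorMod L I ≅ Coh.structureModule X) (i : ℕ) :
    CohB1.tensorMod I (CohB1.tensorMod M (CohB1.tensorPow L (i + 1))) ≅
      CohB1.tensorMod M (CohB1.tensorPow L i) :=
  H10Coh.Tw.commIso _ _ ≪≫ H10Coh.Tw.assoc _ _ _ ≪≫
    PicGrp.tensorModIso (Iso.refl M) (H10Coh.Tw.assoc _ _ _ ≪≫
      PicGrp.tensorModIso (Iso.refl _) ρ ≪≫ H10Coh.Tw.rightUnitIso _)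

/-- The coefficient of a section after tensoring with a fixed section. -/
theorem coeff_tensor_eq {X : Scheme.{u}} {M N : X.Modules} (a b : Γ(M, ⊤)) (T : Γ(N, ⊤)) {A W : X.Opens}
    (hWA : W ≤ A) (hW : W ≤ H11Ample.gen (CohB1.tensorMod M N) (H11Ample.tm b T)) (c : Γ(X, A)) (d : Γ(X, W))
    (hc : M.presheaf.map (homOfLE (le_top : A ≤ ⊤)).op a = c • M.presheaf.map (homOfLE (le_top : A ≤ ⊤)).op b)
    (hd : (CohB1.tensorMod M N).presheaf.map (homOfLE (le_top : W ≤ ⊤)).op (H11Ample.tm a T) =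
      d • (CohB1.tensorMod M N).presheaf.map (homOfLE (le_top : W ≤ ⊤)).op (H11Ample.tm b T)) :
    d = X.presheaf.map (homOfLE hWA).op c := by
  refine ((H11Ample.isGen_gen (H11Ample.tm b T)).bijective hW).1 ?_
  beta_reduce
  rw [H10Coh.mres_mres, ← hd, H11Ample.tm_res, H11Ample.tm_res, ← H11Ample.tm_smul_left]
  congr 1
  have h := congrArg (M.presheaf.map (homOfLE hWA).op) hc
  erw [H10Coh.mres_mres, Scheme.Modules.map_smul, H10Coh.mres_mres] at h
  exact h

/-- An exceptional curve of an integral normal projective scheme over a Noetherian ring can be contracted to a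
point of a normal projective scheme. -/
theorem exists_contraction {R : Type u} [CommRing R] [IsNoetherianRing R] {X E : Scheme.{u}}
    (q : X ⟶ Spec (CommRingCat.of R)) [IsProper q] [IsIntegral X]
    (hnor : ∀ x : X, IsIntegrallyClosed (X.presheaf.stalk x)) {H : X.Modules} (hH : CohB1.IsAmple H)
    (ι : E ⟶ X) [IsClosedImmersion ι] (hexc : Models.IsExcCurve ι) :
    ∃ (Y : Scheme.{u}) (πY : Y ⟶ Spec (CommRingCat.of R)) (g : X ⟶ Y) (y : Y) (hy : IsClosed ({y} : Set Y)),
      ∃ (_ : IsIntegral Y), g ≫ πY = q ∧ (∀ z : Y, IsIntegrallyClosed (Y.presheaf.stalk z)) ∧ IsProper πY ∧ IsProper g ∧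
      Neron.IsProjectiveOver R (Over.mk πY) ∧ Function.Surjective g ∧
      g (genericPoint X) = genericPoint Y ∧ g.base ⁻¹' {y} = Set.range ι.base ∧
      IsIso (g ∣_ (⟨{y}ᶜ, hy.isOpen_compl⟩ : Y.Opens)) := by
  classical
  haveI : IsLocallyNoetherian X := LocallyOfFiniteType.isLocallyNoetherian q
  haveI : CompactSpace X := QuasiCompact.compactSpace_of_compactSpace q
  haveI : IsNoetherian X := ⟨⟩
  haveI : X.IsSeparated := ⟨by rw [← terminal.comp_from q]; infer_instance⟩
  obtain ⟨hEff, k, hk, e, ⟨η⟩⟩ := hexc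
  let j : CohB1.ProjSpace 1 k ⟶ X := e.hom ≫ ι
  haveI : IsClosedImmersion j := inferInstanceAs (IsClosedImmersion (e.hom ≫ ι))
  have hker : j.ker = ι.ker := Scheme.Hom.ker_comp_of_isIso e.hom ι
  have hrj : Set.range j.base = Set.range ι.base := by
    show Set.range ((e.hom ≫ ι).base) = _
    rw [Scheme.Hom.comp_base, TopCat.coe_comp, Set.range_comp,
      (show Function.Surjective e.hom from e.hom.homeomorph.surjective).range_eq, Set.image_univ]
  have hE : BlowUp.IsEffCartierIdeal j.ker := hker.symm ▸ hEff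
  have η' : (Scheme.Modules.pullback j).obj (ClSub.idealMod j.ker) ≅ Twist.twistProjSpace 1 k 1 :=
    eqToIso (by rw [hker]) ≪≫ η
  obtain ⟨L, hLi, hL⟩ := H11Sym.exists_inverse (H29Blow.isInvertible_of_isEffCartierIdeal _ hE)
  obtain ⟨lj⟩ := exists_inverse_twist j hE η' hLi hL
  -- the multiple of the ample module
  have hHi : PicF.IsInvertible H := hH.1
  obtain ⟨m₀, hva⟩ := H11Proj.eventually_globalVA q hH
  obtain ⟨k₀, hk₀⟩ := H10Coh.Tw.exists_vanishing_ample q hH (Coh.structureModule X)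
    (H10Coh.isCoh_structureModule' X)
  let m := m₀ + k₀ + 1
  let H' := CohB1.tensorPow H m
  have hH' : PicF.IsInvertible H' := H28Vert.isInvertible_tensorPow hHi m
  have hH'a : CohB1.IsAmple H' := (H11Ample.isAmple_tensorPow_iff hHi m (by omega)).1 hH
  have hvan : Subsingleton (Coh.HH X H' 1) := by
    haveI := hk₀ m (by omega) 1 Nat.one_pos
    exact H10Coh.subsingleton_HH_of_iso (H10Coh.Tw.leftUnitIso _) 1 (H10Coh.HHEquiv _ 1).toEquiv.subsingleton
  obtain ⟨n₁, v, hv⟩ := hva m (by omega)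
  obtain ⟨hz, ⟨φ₀⟩⟩ := S1697.result k 1 _ (H11Ample.isInvertible_pullback j hH')
  have hh : 0 < hz := pos_of_ample (H11Ample.isAmple_pullback_of_isAffineHom j hH'a) φ₀
  obtain ⟨a, rfl⟩ := Int.eq_ofNat_of_zero_le hh.le
  obtain ⟨a, rfl⟩ := Nat.exists_eq_succ_of_ne_zero (show a ≠ 0 by omega)
  obtain ⟨ρ⟩ := id hL
  have hLpow : ∀ i, PicF.IsInvertible (CohB1.tensorPow L i) := H28Vert.isInvertible_tensorPow hLi
  have hvanL : ∀ i : ℕ, i ≤ a → Subsingleton (Coh.HH X (CohB1.tensorMod H' (CohB1.tensorPow L i)) 1) := by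
    intro i
    induction i with
    | zero => intro _; exact H10Coh.subsingleton_HH_of_iso (H10Coh.Tw.rightUnitIso H').symm 1 hvan
    | succ i ih =>
      intro hi
      have hG := H11Ample.isInvertible_tensor hH' (hLpow (i + 1))
      haveI : ((Scheme.Modules.pullback j).obj (CohB1.tensorMod H' (CohB1.tensorPow L (i + 1)))).IsQuasicoherent :=
        H28Mero.isQCoh_of_isInvertible (H11Ample.isInvertible_pullback j hG)
      obtain ⟨ψ⟩ := exists_twist_pow j hLi hH' lj φ₀ (i + 1)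
      have h3 := subsingleton_H1_twist (by push_cast; omega) ψ
      exact H10Coh.HHSeq.subsingleton₂ (H10Coh.CI.closedSeq_shortExact j hG)
        (H10Coh.subsingleton_HH_of_iso (stepIso ρ i).symm 1 (ih (by omega)))
        ((H7Flat.CohDim.lerayHH j
          ((Scheme.Modules.pullback j).obj (CohB1.tensorMod H' (CohB1.tensorPow L (i + 1)))) 1).toEquiv.subsingleton)
  -- the module
  let G := CohB1.tensorMod H' (CohB1.tensorPow L (a + 1))
  have hG : PicF.IsInvertible G := H11Ample.isInvertible_tensor hH' (hLpow _)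
  obtain ⟨ψG⟩ := exists_twist_pow j hLi hH' lj φ₀ (a + 1)
  obtain ⟨z⟩ := (H10Coh.Stab.isTwistFamily_projSpace 1 k).zero
  have φ : (Scheme.Modules.pullback j).obj G ≅ Coh.structureModule (CohB1.ProjSpace 1 k) :=
    ψG ≪≫ eqToIso (by simp) ≪≫ z
  obtain ⟨t, ht⟩ : ∃ t : Γ(L, ⊤), H11Ample.gen L t = j.ker.support.compl := by
    obtain ⟨eN⟩ := H25AbCube.isInverseOf_dual (H29Blow.isInvertible_of_isEffCartierIdeal _ hE)
    let ψ : L ≅ RefHull.dual (ClSub.idealMod j.ker) :=
      (H10Coh.Tw.rightUnitIso L).symm ≪≫ PicGrp.tensorModIso (Iso.refl _) (eN.symm ≪≫ H10Coh.Tw.commIso _ _) ≪≫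
        (H10Coh.Tw.assoc _ _ _).symm ≪≫ PicGrp.tensorModIso ρ (Iso.refl _) ≪≫ H10Coh.Tw.leftUnitIso _
    exact ⟨ψ.inv.app ⊤ (RefHull.ofHom (ClSub.idealModι j.ker) ⊤),
      (H11Ample.gen_iso ψ.inv _).trans (H25AbCube.gen_ofHom hE)⟩
  have hsupp : ∀ x, x ∈ (j.ker.support : Set X) ↔ x ∈ Set.range ι.base := fun x => by
    rw [Scheme.Hom.support_ker, j.isClosedEmbedding.isClosed_range.closure_eq, hrj]
  let T := H11Ample.spow t (a + 1)
  have hT : ∀ x, x ∈ H11Ample.gen (CohB1.tensorPow L (a + 1)) T ↔ x ∉ Set.range ι.base := fun x => by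
    rw [H11Ample.gen_spow hLi t (a + 1) (by omega), ht]
    exact not_congr (hsupp x)
  -- sections
  obtain ⟨σ, hσ⟩ : ∃ σ : Γ(G, ⊤), ∀ x ∈ Set.range ι.base, x ∈ H11Ample.gen G σ := by
    let s₁ : Γ((Scheme.Modules.pullback j).obj G, ⊤) := φ.inv.app ⊤ (H11Ample.one (X := CohB1.ProjSpace 1 k) ⊤)
    have hs₁ : H11Tilde.IsGen ((Scheme.Modules.pullback j).obj G) s₁ :=
      H11Tilde.IsGen.map_iso φ.symm (H11Ample.isGen_one ⊤)
    obtain ⟨σ, hσ⟩ := H10Coh.CI.surjective_pullSect j hG
      (H10Coh.subsingleton_HH_of_iso (stepIso ρ a).symm 1 (hvanL a le_rfl)) s₁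
    refine ⟨σ, fun x hx => ?_⟩
    obtain ⟨w, rfl⟩ := hrj.ge hx
    have h2 := H11Ample.gen_smul_pullSect j hG σ (isUnit_one (M := Γ(CohB1.ProjSpace 1 k, ⊤)))
    rw [one_smul, show H11Ample.pullTop j σ = s₁ from hσ] at h2
    exact h2.le ((H11Ample.mem_gen_iff (H11Ample.isInvertible_pullback j hG) s₁ w).2 (hs₁ w trivial))
  let vv : Fin (n₁ + 1) → Γ(G, ⊤) := fun l => H11Ample.tm (v l) T
  have hvv : ∀ l x, x ∈ H11Ample.gen G (vv l) ↔ x ∈ H11Ample.gen H' (v l) ∧ x ∉ Set.range ι.base := fun l x => by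
    rw [H11Ample.gen_tm hH' (hLpow _), ← hT x]
    rfl
  let w : Fin (n₁ + 1 + 1) → Γ(G, ⊤) := Fin.snoc vv σ
  have hwcast : ∀ l : Fin (n₁ + 1), w l.castSucc = vv l := fun l => Fin.snoc_castSucc ..
  have hcov : ∀ x, ∃ l, x ∈ H11Ample.gen G (w l) := fun x => by
    by_cases hx : x ∈ Set.range ι.base
    · exact ⟨Fin.last _, by rw [show w (Fin.last _) = σ from Fin.snoc_last ..]; exact hσ x hx⟩
    · obtain ⟨l, hl⟩ := hv.cover x
      exact ⟨l.castSucc, by rw [hwcast]; exact (hvv l x).2 ⟨hl, hx⟩⟩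
  obtain ⟨r, hr, -, hgen, hrat⟩ := H11Ample.exists_toPn q hG w hcov
  -- the map separates the points off the curve
  have hsep : ∀ x x', x ∉ Set.range ι.base → r x' = r x → x' = x := by
    intro x x' hx hxx
    obtain ⟨l, hl⟩ := hv.cover x
    let B := Proj.basicOpen (CohB1.polyGrading (n₁ + 1) R)
      (MvPolynomial.X l.castSucc : MvPolynomial (Fin (n₁ + 1 + 1)) R)
    let W := r ⁻¹ᵁ B
    have hW : W = H11Ample.gen G (vv l) := (hgen l.castSucc).trans (congrArg _ (hwcast l))
    have hxW : x ∈ W := hW.ge ((hvv l x).2 ⟨hl, hx⟩)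
    have hx'W : x' ∈ W := show r x' ∈ B from hxx ▸ hxW
    let A := H11Ample.gen H' (v l) ⊓ q ⁻¹ᵁ ⊤
    have hA : IsAffineOpen A := hv.affine ⊤ (isAffineOpen_top _) l
    have hWA : W ≤ A := fun y hy => ⟨((hvv l y).1 (hW.le hy)).1, trivial⟩
    let P : Subring Γ(X, W) := (r.app B).hom.range
    let res : Γ(X, A) →+* Γ(X, W) := (X.presheaf.map (homOfLE hWA).op).hom
    have hP : ∀ c, res c ∈ P := by
      intro c
      have h : (⊤ : Subring Γ(X, A)) ≤ P.comap res := by
        rw [← hv.surj ⊤ (isAffineOpen_top _) l, Subring.closure_le]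
        rintro d (⟨r₀, rfl⟩ | ⟨i, hi⟩)
        · refine ⟨(CohB1.ProjSpace.toSpec (n₁ + 1) R).appLE ⊤ B le_top r₀, ?_⟩
          have e1 : (CohB1.ProjSpace.toSpec (n₁ + 1) R).appLE ⊤ B le_top ≫ r.app B =
              q.appLE ⊤ A inf_le_right ≫ X.presheaf.map (homOfLE hWA).op := by
            subst hr
            rw [Scheme.Hom.app_eq_appLE, Scheme.Hom.appLE_comp_appLE, Scheme.Hom.appLE_map]
          exact congrArg (fun φ => (CommRingCat.Hom.hom φ) r₀) e1
        · obtain ⟨ρ', hρ'⟩ := hrat l.castSucc i.castSucc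
          refine ⟨ρ', ?_⟩
          have h1 := hρ'
          rw [hwcast i, hwcast l] at h1
          exact coeff_tensor_eq (v i) (v l) T hWA hW.le d _ hi h1
      exact h (Subring.mem_top c)
    have hmem : ∀ (c : Γ(X, A)) (y y' : X), y ∈ W → y' ∈ W → r y' = r y → y ∈ X.basicOpen c → y' ∈ X.basicOpen c := by
      intro c y y' hy hy' hyy hc
      obtain ⟨b, hb⟩ := hP c
      have key : ∀ z ∈ W, (z ∈ X.basicOpen c ↔ r z ∈ (CohB1.ProjSpace (n₁ + 1) R).basicOpen b) := fun z hz => by
        have h1 : X.basicOpen (res c) = W ⊓ X.basicOpen c := Scheme.basicOpen_res ..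
        have h2 : r ⁻¹ᵁ (CohB1.ProjSpace (n₁ + 1) R).basicOpen b = W ⊓ X.basicOpen c := by
          rw [Scheme.preimage_basicOpen, ← h1]
          exact congrArg X.basicOpen hb
        exact ⟨fun h => h2.ge ⟨hz, h⟩, fun h => (h2.le h).2⟩
      have := (key y hy).1 hc
      rw [← hyy] at this
      exact (key y' hy').2 this
    have hins : Inseparable (⟨x', hWA hx'W⟩ : A) ⟨x, hWA hxW⟩ := by
      refine inseparable_iff_forall_isOpen.2 fun S hS => ?_
      obtain ⟨S', hS', rfl⟩ := isOpen_induced_iff.1 hS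
      constructor
      · intro hm
        obtain ⟨c, hc, hxc⟩ := hA.exists_basicOpen_le (V := ⟨S', hS'⟩) ⟨x', hm⟩ (hWA hx'W)
        exact hc (hmem c x' x hx'W hxW hxx.symm hxc)
      · intro hm
        obtain ⟨c, hc, hxc⟩ := hA.exists_basicOpen_le (V := ⟨S', hS'⟩) ⟨x, hm⟩ (hWA hxW)
        exact hc (hmem c x x' hxW hx'W hxx hxc)
    exact congrArg Subtype.val hins.eq
  -- the curve goes to one point
  obtain ⟨hintP, -, -⟩ := H28Curve.projLine_facts k
  haveI := hintP
  haveI : IsProper (CohB1.ProjSpace.toSpec 1 k) := H27Weil.isProper_toSpec 1 k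
  obtain ⟨z₀⟩ : Nonempty (CohB1.ProjSpace 1 k) := inferInstance
  have hconst : ∀ z, r (j z) = r (j z₀) := by
    obtain ⟨l, hl⟩ := hcov (j z₀)
    have hall : ∀ z, j z ∈ H11Ample.gen G (w l) := by
      have h1 := H11Ample.gen_smul_pullSect j hG (w l) (isUnit_one (M := Γ(CohB1.ProjSpace 1 k, ⊤)))
      rw [one_smul] at h1
      rcases ContractCurve.gen_eq_top_or_bot k (CohB1.ProjSpace.toSpec 1 k) φ
        (H11Ample.pullTop j (w l)) with h2 | h2
      · intro z
        exact (h1.symm.trans h2).ge (Opens.mem_top z)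
      · exact absurd ((h1.symm.trans h2).le (show z₀ ∈ j ⁻¹ᵁ H11Ample.gen G (w l) from hl)) (by simp)
    exact fun z => ContractCurve.subsingleton_range_of_affine k (CohB1.ProjSpace.toSpec 1 k)
      (j ≫ r) (H11Ample.isAffineOpen_gen_coord (n := n₁ + 1) (R := R) l) (fun w' => by
        rw [H11Ample.gen_coord]
        exact (hgen l).ge (hall w')) z z₀
  -- Stein factorisation
  haveI : IsProper (CohB1.ProjSpace.toSpec (n₁ + 1) R) := H27Weil.isProper_toSpec (n₁ + 1) R
  haveI : IsProper (r ≫ CohB1.ProjSpace.toSpec (n₁ + 1) R) := hr.symm ▸ inferInstance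
  haveI : IsProper r := IsProper.of_comp r (CohB1.ProjSpace.toSpec (n₁ + 1) R)
  haveI : IsLocallyNoetherian (CohB1.ProjSpace (n₁ + 1) R) :=
    LocallyOfFiniteType.isLocallyNoetherian (CohB1.ProjSpace.toSpec (n₁ + 1) R)
  haveI : IsFinite r.fromNormalization := Groth.Agent.S1297.result r
  let g : X ⟶ r.normalization := r.toNormalization
  let hN : r.normalization ⟶ CohB1.ProjSpace (n₁ + 1) R := r.fromNormalization
  have hgh : g ≫ hN = r := r.toNormalization_fromNormalization
  have hrg : ∀ x, hN (g x) = r x := fun x => by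
    rw [← Scheme.Hom.comp_apply]
    exact congrArg (fun φ : X ⟶ CohB1.ProjSpace (n₁ + 1) R => φ x) hgh
  let πY : r.normalization ⟶ Spec (CommRingCat.of R) := hN ≫ CohB1.ProjSpace.toSpec (n₁ + 1) R
  haveI : IsProper πY := MorphismProperty.comp_mem @IsProper _ _ (inferInstance : IsProper hN) ‹_›
  have hgπ : g ≫ πY = q := by
    show g ≫ hN ≫ _ = _
    rw [← Category.assoc, hgh, hr]
  haveI : IsProper (g ≫ hN) := hgh.symm ▸ inferInstance
  haveI : IsProper g := IsProper.of_comp g hN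
  haveI : IsLocallyNoetherian r.normalization := LocallyOfFiniteType.isLocallyNoetherian πY
  haveI : CompactSpace r.normalization := QuasiCompact.compactSpace_of_compactSpace πY
  have happ : ∀ U : r.normalization.Opens, IsIso (g.app U) := fun U => H10ZMT.isIso_app_toNormalization r U
  haveI : GeometricallyConnected g := H10ZMT.geometricallyConnected_toNormalization r
  have hsurj : Function.Surjective g := fun y => (g.isConnected_preimage_singleton y).nonempty
  have hgenY : g (genericPoint X) = genericPoint r.normalization := by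
    refine ((genericPoint_spec _).eq (show IsGenericPoint (g (genericPoint X)) Set.univ from ?_)).symm
    refine Set.eq_univ_of_forall fun y => ?_
    obtain ⟨x, rfl⟩ := hsurj y
    exact (((genericPoint_spec X).specializes trivial).map g.continuous).mem_closure
  let y := g (j z₀)
  have hgy : ∀ z, g (j z) = y := by
    have hfinite : (hN ⁻¹' {r (j z₀)}).Finite := hN.finite_preimage_singleton _
    haveI : DiscreteTopology (hN ⁻¹' {r (j z₀)}) := by
      haveI : Finite (hN.fiber (r (j z₀))) := (hN.fiberHomeo _).finite_iff.mpr hfinite.to_subtype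
      exact (hN.fiberHomeo _).discreteTopology
    exact fun z => congrArg Subtype.val ((isPreconnected_range
      (f := fun z => (⟨g (j z), (hrg (j z)).trans (hconst z)⟩ : hN ⁻¹' {r (j z₀)}))
      (by exact (j ≫ g).continuous.subtype_mk _)).subsingleton ⟨z, rfl⟩ ⟨z₀, rfl⟩)
  have hpre : g.base ⁻¹' {y} = Set.range ι.base := by
    ext x
    constructor
    · intro hx
      by_contra hxE
      refine hxE (hsep x (j z₀) hxE ?_ ▸ hrj.le ⟨z₀, rfl⟩)
      rw [← hrg, ← hrg, show g x = y from hx]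
    · intro hx
      obtain ⟨z, rfl⟩ := hrj.ge hx
      exact hgy z
  have hy : IsClosed ({y} : Set r.normalization) := by
    have h1 := g.isClosedMap _ j.isClosedEmbedding.isClosed_range
    rwa [show g.base '' Set.range j.base = {y} from Set.eq_singleton_iff_unique_mem.2
      ⟨⟨j z₀, ⟨z₀, rfl⟩, rfl⟩, by rintro _ ⟨_, ⟨z, rfl⟩, rfl⟩; exact hgy z⟩] at h1
  haveI : IsIso g.fromNormalization := H10ZMT.isIso_fromNormalization g fun V _ =>
    have hb := (ConcreteCategory.isIso_iff_bijective _).1 (happ V)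
    ⟨hb.1, fun b _ => hb.2 b⟩
  obtain ⟨V₀, hV₀, hVq⟩ := H10ZMT.exists_open_isIso_quasiFinite g
  haveI := hV₀
  have hle : (⟨{y}ᶜ, hy.isOpen_compl⟩ : r.normalization.Opens) ≤ V₀ := by
    intro y' hy'
    obtain ⟨x, rfl⟩ := hsurj y'
    refine (hVq x).2 ?_
    rw [Scheme.Hom.quasiFiniteAt_iff_isOpen_singleton_asFiber]
    have hxE : x ∉ Set.range ι.base := fun h => hy' (hpre.ge h)
    haveI : Subsingleton (g.fiber (g x)) := by
      refine ⟨fun b c => (g.fiberι _).isEmbedding.injective ?_⟩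
      have hmem : ∀ b, g.fiberι (g x) b = x := fun b => by
        refine hsep x _ hxE ?_
        rw [← hrg, ← hrg, show g (g.fiberι (g x) b) = g x from (g.range_fiberι _).subset ⟨b, rfl⟩]
      rw [hmem b, hmem c]
    exact isOpen_discrete _
  have hamp : CohB1.IsAmple ((Scheme.Modules.pullback hN).obj (Twist.twistProjSpace (n₁ + 1) R 1)) :=
    H11Ample.isAmple_pullback_of_isAffineHom hN (H11Ample.isAmple_twistProjSpace (n₁ + 1) R)
  haveI : QuasiSeparatedSpace r.normalization := H11Ample.quasiSeparatedSpace_of_isAmple hamp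
  refine ⟨r.normalization, πY, g, y, hy, inferInstance, hgπ,
    ContractVert.isIntegrallyClosed_stalk_of_app hnor g hgenY happ, inferInstance, inferInstance,
    H11Proj.isHProjective_of_isAmple πY hamp, hsurj, hgenY, hpre, ContractVert.isIso_restrict_of_le g hle⟩

end Groth.Agent.H28RR.GlobalContract
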