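import Groth.Agent.H28Vert.NoIsolated
import Groth.Agent.H28RR.ContractVert
import Groth.Agent.H29Blow.OfStalk
import Groth.Agent.H13CInt.Spread
import Groth.Agent.H13CInt.Comp
import Groth.Agent.H17.KerStalk
import Groth.Agent.H9Hens.FinitePartScheme
import Groth.Prelude.Def_BlowUp2

/-!
A horizontal effective Cartier divisor through a closed point of the closed fibre of a surface
over a henselian discrete valuation ring.
-/

set_option autoImplicit false
set_option linter.style.haveILetI false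
set_option backward.isDefEq.respectTransparency.types false
set_option maxHeartbeats 1600000
set_option synthInstance.maxHeartbeats 100000

universe u

open CategoryTheory CategoryTheory.Limits AlgebraicGeometry TopologicalSpace

namespace Groth.Agent.H28RR.HensDivisor

variable {R : Type u} [CommRing R] [IsDomain R] [IsDiscreteValuationRing R]

/-- The closed point is the complement of the basic open of a uniformiser. -/
theorem notMem_basicOpen_iff {ϖ : R} (hϖ : Irreducible ϖ) (p : PrimeSpectrum R) :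
    ϖ ∈ p.asIdeal ↔ p = IsLocalRing.closedPoint R := by
  refine ⟨fun h => PrimeSpectrum.ext ?_, fun h => ?_⟩
  · refine le_antisymm (IsLocalRing.le_maximalIdeal p.isPrime.ne_top) ?_
    show IsLocalRing.maximalIdeal R ≤ p.asIdeal
    rw [hϖ.maximalIdeal_eq, Ideal.span_singleton_le_iff_mem]
    exact h
  · subst h
    show ϖ ∈ IsLocalRing.maximalIdeal R
    rw [hϖ.maximalIdeal_eq]
    exact Ideal.mem_span_singleton_self ϖ

variable (X : Over (Spec (CommRingCat.of R))) [IsIntegral X.left] [LocallyOfFiniteType X.hom] [Flat X.hom]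

/-- A function vanishing at `x` whose zero locus meets the closed fibre only in `x`. -/
theorem exists_function [UniversallyClosed X.hom] (hdim : topologicalKrullDim X.left = 2) {x : X.left}
    (hx : IsClosed ({x} : Set X.left)) (hxs : x ∈ Models.specialFibreSet R X) :
    ∃ (V : X.left.Opens) (_ : IsAffineOpen V) (f : Γ(X.left, V)), x ∈ V ∧ x ∉ X.left.basicOpen f ∧ f ≠ 0 ∧
      (∀ z ∈ V, z ∉ X.left.basicOpen f → z ∈ Models.specialFibreSet R X → z = x) ∧
      {z | z ∈ V ∧ z ∉ X.left.basicOpen f}.Finite ∧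
      ∃ q, q ∈ V ∧ q ∉ X.left.basicOpen f ∧ q ⤳ x ∧ q ∉ Models.specialFibreSet R X := by
  classical
  haveI : IsLocallyNoetherian X.left := LocallyOfFiniteType.isLocallyNoetherian X.hom
  obtain ⟨ϖ, hϖ⟩ := IsDiscreteValuationRing.exists_irreducible R
  obtain ⟨V, hV, hxV, -⟩ := exists_isAffineOpen_mem_and_subset (Opens.mem_top x)
  haveI : Nonempty V := ⟨⟨x, hxV⟩⟩
  let A := Γ(X.left, V)
  haveI : IsNoetherianRing A := IsLocallyNoetherian.component_noetherian ⟨V, hV⟩
  let π : A := X.hom.appLE ⊤ V (by simp) ((Scheme.ΓSpecIso (CommRingCat.of R)).inv ϖ)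
  let e := hV.fromSpec
  have hinj : Function.Injective (e : Spec A → X.left) := e.isOpenEmbedding.injective
  have hsp : ∀ z ∈ V, z ∉ X.left.basicOpen π ↔ z ∈ Models.specialFibreSet R X := by
    intro z hz
    rw [Scheme.basicOpen_appLE, basicOpen_eq_of_affine]
    have h1 := notMem_basicOpen_iff hϖ (X.hom.base z)
    show ¬ (z ∈ V ∧ ϖ ∉ (X.hom.base z).asIdeal) ↔ X.hom.base z = IsLocalRing.closedPoint R
    exact ⟨fun h => h1.1 (not_not.1 fun h' => h ⟨hz, h'⟩), fun h h' => h'.2 (h1.2 h)⟩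
  have hmem : ∀ (s : A) (Q : PrimeSpectrum A), e Q ∈ X.left.basicOpen s ↔ s ∉ Q.asIdeal := by
    intro s Q
    rw [← PrimeSpectrum.mem_basicOpen, ← hV.fromSpec_preimage_basicOpen]
    rfl
  have heV : ∀ Q : PrimeSpectrum A, e Q ∈ V := fun Q => hV.range_fromSpec.le ⟨Q, rfl⟩
  have hsurj : ∀ z ∈ V, ∃ Q : PrimeSpectrum A, e Q = z := fun z hz => hV.range_fromSpec.ge hz
  have hspe : ∀ Q : PrimeSpectrum A, π ∈ Q.asIdeal ↔ e Q ∈ Models.specialFibreSet R X := fun Q => by
    rw [← hsp _ (heV Q), hmem, not_not]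
  have hspec : ∀ P Q : PrimeSpectrum A, P.asIdeal ≤ Q.asIdeal → e P ⤳ e Q := fun P Q h =>
    ((PrimeSpectrum.le_iff_specializes P Q).1 h).map e.continuous
  obtain ⟨P, hP⟩ := hsurj x hxV
  have hπP : π ∈ P.asIdeal := (hspe P).2 (hP ▸ hxs)
  haveI hPmax : P.asIdeal.IsMaximal := by
    rw [← PrimeSpectrum.isClosed_singleton_iff_isMaximal]
    have h1 : ({P} : Set (PrimeSpectrum A)) = e ⁻¹' {x} := by
      ext Q; exact ⟨fun h => by rw [h]; exact hP, fun h => hinj (h.trans hP.symm)⟩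
    rw [h1]; exact hx.preimage e.continuous
  have hπ0 : π ≠ 0 := by
    intro h0
    have hgV : genericPoint X.left ∈ V := (genericPoint_specializes x).mem_open V.2 hxV
    have hg : genericPoint X.left ∈ Models.specialFibreSet R X := (hsp _ hgV).1 (by rw [h0]; simp)
    refine (H28Vert.notMem_specialFibreSet_iff hϖ _).2 ?_ hg
    exact (Ne.isUnit (G₀ := X.left.functionField) (H28Vert.stalkHom_ne_zero hϖ.ne_zero (genericPoint X.left)))
  obtain ⟨mins, hmins⟩ : ∃ s : Finset (Ideal A), ∀ M, M ∈ s ↔ M ∈ (Ideal.span {π}).minimalPrimes :=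
    ⟨(Ideal.finite_minimalPrimes_of_isNoetherianRing A (Ideal.span {π})).toFinset, fun M => Set.Finite.mem_toFinset _⟩
  have hminsπ : ∀ M ∈ mins, π ∈ M := fun M hM =>
    ((hmins M).1 hM).1.2 (Ideal.mem_span_singleton_self π)
  have hminsp : ∀ M ∈ mins, M.IsPrime := fun M hM => ((hmins M).1 hM).1.1
  have hex : ∀ Q : PrimeSpectrum A, π ∈ Q.asIdeal → ∃ M ∈ mins, M ≤ Q.asIdeal := fun Q hQ => by
    obtain ⟨M, hM, hle⟩ := Ideal.exists_minimalPrimes_le ((Ideal.span_singleton_le_iff_mem _).2 hQ)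
    exact ⟨M, (hmins M).2 hM, hle⟩
  have hPmin : P.asIdeal ∉ mins := by
    intro hPm
    let C : Set (PrimeSpectrum A) := ⋃ M ∈ mins.erase P.asIdeal, PrimeSpectrum.zeroLocus (M : Set A)
    have hC : IsClosed C := isClosed_biUnion_finset fun M _ => PrimeSpectrum.isClosed_zeroLocus _
    refine H28Vert.not_isolated hdim hxs ⟨_, e.isOpenEmbedding.isOpenMap _ hC.isOpen_compl⟩
      ⟨P, fun hPC => ?_, hP⟩ ?_
    · simp only [C, Set.mem_iUnion, PrimeSpectrum.mem_zeroLocus, SetLike.coe_subset_coe] at hPC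
      obtain ⟨M, hM, hle⟩ := hPC
      obtain ⟨hne, hM⟩ := Finset.mem_erase.1 hM
      exact hne (le_antisymm hle (((hmins _).1 hPm).2 ((hmins M).1 hM).1 hle))
    · rintro _ ⟨⟨Q, hQC, rfl⟩, hQs⟩
      obtain ⟨M, hM, hle⟩ := hex Q ((hspe Q).2 hQs)
      by_cases hMP : M = P.asIdeal
      · exact (congrArg e (PrimeSpectrum.ext (hPmax.eq_of_le Q.isPrime.ne_top (hMP ▸ hle)).symm)).trans hP
      · exact absurd (Set.mem_biUnion (Finset.mem_erase.2 ⟨hMP, hM⟩) hle) hQC
  obtain ⟨f, hfP, hf⟩ : ∃ f ∈ P.asIdeal, ∀ M ∈ mins, f ∉ M := by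
    by_contra h
    push Not at h
    have h1 : (P.asIdeal : Set A) ⊆ ⋃ M ∈ (↑mins : Set (Ideal A)), (id M : Ideal A) := fun a ha => by
      obtain ⟨M, hM, haM⟩ := h a ha
      exact Set.mem_biUnion hM haM
    obtain ⟨M, hM, hle⟩ := (Ideal.subset_union_prime P.asIdeal P.asIdeal fun M hM _ _ => hminsp M hM).1 h1
    exact hPmin (by rwa [hPmax.eq_of_le (hminsp M hM).ne_top hle])
  have hf0 : f ≠ 0 := fun h0 => by
    obtain ⟨M, hM, -⟩ := hex P hπP
    exact hf M hM (h0 ▸ M.zero_mem)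
  have hd : topologicalKrullDim X.left ≤ 2 := hdim.le
  -- the generic point
  let η : PrimeSpectrum A := ⟨⊥, Ideal.isPrime_bot⟩
  have hchain : ∀ (Q' Q : PrimeSpectrum A) (s : X.left), Q'.asIdeal ≠ ⊥ → Q'.asIdeal < Q.asIdeal →
      e Q ⤳ s → e Q ≠ s → False := by
    intro Q' Q s h0 h1 h2 h3
    refine ContractVert.not_chain_three hd (hspec η Q' bot_le) (fun h => h0 ?_) (hspec Q' Q h1.le)
      (fun h => h1.ne (congrArg PrimeSpectrum.asIdeal (hinj h))) h2 h3
    exact (congrArg PrimeSpectrum.asIdeal (hinj h)).symm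
  -- primes containing `f` and `π` are minimal among such
  have hT : ∀ Q Q' : PrimeSpectrum A, f ∈ Q'.asIdeal → π ∈ Q'.asIdeal → Q'.asIdeal ≤ Q.asIdeal →
      Q' = Q := by
    intro Q Q' hf' hπ' hle
    by_contra hne
    obtain ⟨M, hM, hMle⟩ := hex Q' hπ'
    have hlt : M < Q'.asIdeal := lt_of_le_of_ne hMle fun h => hf M hM (h ▸ hf')
    refine hchain ⟨M, hminsp M hM⟩ Q' (e Q) (fun h => hπ0 ?_) hlt (hspec Q' Q hle) (fun h => hne (hinj h))
    have := hminsπ M hM
    rw [show M = ⊥ from h] at this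
    exact this
  have hfinT : {Q : PrimeSpectrum A | f ∈ Q.asIdeal ∧ π ∈ Q.asIdeal}.Finite := by
    refine Set.Finite.of_finite_image ((Ideal.finite_minimalPrimes_of_isNoetherianRing A
      (Ideal.span {f, π})).subset ?_) (fun a _ b _ h => PrimeSpectrum.ext h)
    rintro _ ⟨Q, ⟨hQf, hQπ⟩, rfl⟩
    refine ⟨⟨Q.isPrime, Ideal.span_le.2 (Set.insert_subset_iff.2 ⟨hQf, Set.singleton_subset_iff.2 hQπ⟩)⟩,
      fun J hJ hJQ => ?_⟩
    have h1 := hT Q ⟨J, hJ.1⟩ (hJ.2 (Ideal.subset_span (by simp))) (hJ.2 (Ideal.subset_span (by simp))) hJQ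
    exact (congrArg PrimeSpectrum.asIdeal h1).ge
  -- shrink
  obtain ⟨g, hgP, hg⟩ : ∃ g ∉ P.asIdeal, ∀ Q : PrimeSpectrum A, f ∈ Q.asIdeal → π ∈ Q.asIdeal → Q ≠ P →
      g ∈ Q.asIdeal := by
    let s := hfinT.toFinset.erase P
    have h1 : ¬ (∏ Q ∈ s, Q.asIdeal) ≤ P.asIdeal := by
      rw [Ideal.IsPrime.prod_le P.isPrime]
      rintro ⟨Q, hQ, hle⟩
      obtain ⟨hne, hQ⟩ := Finset.mem_erase.1 hQ
      rw [Set.Finite.mem_toFinset] at hQ
      exact hne (hT P Q hQ.1 hQ.2 hle)
    obtain ⟨g, hg, hgP⟩ := SetLike.not_le_iff_exists.1 h1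
    refine ⟨g, hgP, fun Q h2 h3 hne => ?_⟩
    exact (Ideal.prod_le_inf.trans (Finset.inf_le (Finset.mem_erase.2
      ⟨hne, (Set.Finite.mem_toFinset hfinT).2 ⟨h2, h3⟩⟩))) hg
  let V' := X.left.basicOpen g
  have hxV' : x ∈ V' := hP ▸ (hmem g P).2 hgP
  let ρ := X.left.presheaf.map (homOfLE (X.left.basicOpen_le g)).op
  have hzero : ∀ z ∈ V', z ∉ X.left.basicOpen (ρ f) → ∃ Q : PrimeSpectrum A, e Q = z ∧ f ∈ Q.asIdeal ∧
      g ∉ Q.asIdeal := by
    intro z hz hzf
    obtain ⟨Q, rfl⟩ := hsurj z (X.left.basicOpen_le g hz)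
    refine ⟨Q, rfl, ?_, (hmem g Q).1 hz⟩
    by_contra h
    exact hzf (by rw [Scheme.basicOpen_res]; exact ⟨hz, (hmem f Q).2 h⟩)
  refine ⟨V', hV.basicOpen g, ρ f, hxV', ?_, ?_, ?_, ?_, ?_⟩
  · rw [Scheme.basicOpen_res]
    exact fun h => (hmem f P).1 (hP.symm ▸ h.2) hfP
  · intro h0
    haveI : Nonempty V' := ⟨⟨x, hxV'⟩⟩
    exact hf0 (map_injective_of_isIntegral X.left (homOfLE (X.left.basicOpen_le g))
      (h0.trans (map_zero ρ.hom).symm))
  · intro z hz hzf hzs
    obtain ⟨Q, rfl, hQf, hQg⟩ := hzero z hz hzf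
    by_contra hne
    exact hQg (hg Q hQf ((hspe Q).2 hzs) fun h => hne (h ▸ hP))
  · refine (((Ideal.finite_minimalPrimes_of_isNoetherianRing A (Ideal.span {f})).preimage
      (f := fun Q : PrimeSpectrum A => Q.asIdeal) (fun a _ b _ h => PrimeSpectrum.ext h)).union
      (Set.finite_singleton P) |>.image e).subset ?_
    rintro z ⟨hz, hzf⟩
    obtain ⟨Q, rfl, hQf, hQg⟩ := hzero z hz hzf
    refine ⟨Q, ?_, rfl⟩
    by_cases hQπ : π ∈ Q.asIdeal
    · refine Or.inr ?_
      by_contra hne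
      exact hQg (hg Q hQf hQπ hne)
    refine Or.inl ⟨⟨Q.isPrime, (Ideal.span_singleton_le_iff_mem _).2 hQf⟩, fun J hJ hJQ => ?_⟩
    by_contra hne
    obtain ⟨s, hs, hs'⟩ := H9Hens.exists_specializes_closedPoint X.hom (e Q)
    refine hchain ⟨J, hJ.1⟩ Q s (fun h => hf0 ?_) (lt_of_le_not_ge hJQ hne) hs
      (fun h => hQπ ((hspe Q).2 (by rw [h]; exact hs')))
    have := hJ.2 (Ideal.mem_span_singleton_self f)
    rw [show J = ⊥ from h] at this
    exact this
  · obtain ⟨J, hJ, hJP⟩ := Ideal.exists_minimalPrimes_le ((Ideal.span_singleton_le_iff_mem _).2 hfP)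
    let Q : PrimeSpectrum A := ⟨J, hJ.1.1⟩
    have hfJ : f ∈ Q.asIdeal := hJ.1.2 (Ideal.mem_span_singleton_self f)
    have hgJ : g ∉ Q.asIdeal := fun h => hgP (hJP h)
    have hπJ : π ∉ Q.asIdeal := by
      intro hπJ
      have hQP := hT P Q hfJ hπJ hJP
      have h1 : P.asIdeal ∈ (Ideal.span {f}).minimalPrimes := by
        have : J = P.asIdeal := congrArg PrimeSpectrum.asIdeal hQP
        exact this ▸ hJ
      have h2 : P.asIdeal.height ≤ 1 := Ideal.height_le_one_of_isPrincipal_of_mem_minimalPrimes _ _ h1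
      obtain ⟨M, hM, hMP⟩ := hex P hπP
      haveI := hminsp M hM
      have hMlt : M < P.asIdeal := lt_of_le_of_ne hMP fun h => hPmin (h ▸ hM)
      have hMpos : (⊥ : Ideal A) < M := bot_lt_iff_ne_bot.2 fun h => hπ0 (by
        have := hminsπ M hM
        rw [h] at this
        exact this)
      have h3 := Ideal.height_strict_mono_of_isPrime (I := M) hMlt
      have h4 := Ideal.height_strict_mono_of_isPrime (I := (⊥ : Ideal A)) hMpos
      have h5 : (1 : ℕ∞) ≤ M.height := Order.one_le_iff_pos.2 (pos_of_gt h4)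
      exact absurd (h3.trans_le h2) (not_lt.2 h5)
    refine ⟨e Q, (hmem g Q).2 hgJ, ?_, hP ▸ hspec Q P hJP, fun h => hπJ ((hspe Q).2 h)⟩
    rw [Scheme.basicOpen_res]
    exact fun h => (hmem f Q).1 h.2 hfJ

/-- Through every closed point of the closed fibre there is a horizontal effective Cartier divisor
meeting the closed fibre in this point only. -/
theorem exists_divisor [HenselianLocalRing R] [IsProper X.hom] (hdim : topologicalKrullDim X.left = 2)
    {x : X.left} (hx : IsClosed ({x} : Set X.left)) (hxs : x ∈ Models.specialFibreSet R X) :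
    ∃ (D : Scheme.{u}) (d : D ⟶ X.left), IsClosedImmersion d ∧ BlowUp.IsEffCartierIdeal d.ker ∧
      (∀ p : D, ∃ q : D, q ⤳ p ∧ ((d ≫ X.hom).base q).asIdeal = ⊥) ∧
      Set.range d.base ∩ Models.specialFibreSet R X = {x} := by
  haveI : IsLocallyNoetherian X.left := LocallyOfFiniteType.isLocallyNoetherian X.hom
  obtain ⟨V, hV, f, hxV, hxf, hf0, hspf, hfinV, q₀, hq₀V, hq₀f, hq₀x, hq₀s⟩ := exists_function X hdim hx hxs
  let A := Γ(X.left, V)
  haveI : Nonempty V := ⟨⟨x, hxV⟩⟩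
  let qmap : A →+* A ⧸ Ideal.span {f} := Ideal.Quotient.mk _
  let s : Spec (CommRingCat.of (A ⧸ Ideal.span {f})) ⟶ Spec A := Spec.map (CommRingCat.ofHom qmap)
  haveI : IsClosedImmersion s := IsClosedImmersion.spec_of_surjective _ Ideal.Quotient.mk_surjective
  let z : Spec (CommRingCat.of (A ⧸ Ideal.span {f})) ⟶ X.left := s ≫ hV.fromSpec
  have hzr : ∀ y : X.left, y ∈ Set.range z ↔ y ∈ V ∧ y ∉ X.left.basicOpen f := by
    intro y
    have hmem : ∀ Q : PrimeSpectrum A, hV.fromSpec Q ∈ X.left.basicOpen f ↔ f ∉ Q.asIdeal := fun Q => by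
      rw [← PrimeSpectrum.mem_basicOpen, ← hV.fromSpec_preimage_basicOpen]
      rfl
    constructor
    · rintro ⟨p, rfl⟩
      refine ⟨hV.range_fromSpec.le ⟨s p, rfl⟩, fun h => (hmem (s p)).1 h ?_⟩
      show qmap f ∈ p.asIdeal
      rw [show qmap f = 0 from Ideal.Quotient.eq_zero_iff_mem.2 (Ideal.mem_span_singleton_self f)]
      exact zero_mem _
    · rintro ⟨hy, hyf⟩
      obtain ⟨Q, rfl⟩ := hV.range_fromSpec.ge hy
      have hQ : f ∈ Q.asIdeal := not_not.1 fun h => hyf ((hmem Q).2 h)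
      have : Q ∈ Set.range (PrimeSpectrum.comap qmap) := by
        rw [_root_.range_comap_of_surjective _ _ Ideal.Quotient.mk_surjective, Ideal.mk_ker,
          PrimeSpectrum.zeroLocus_span]
        exact (PrimeSpectrum.mem_zeroLocus Q {f}).2 (Set.singleton_subset_iff.2 hQ)
      obtain ⟨p, hp⟩ := this
      exact ⟨p, congrArg hV.fromSpec hp⟩
  let φ := z ≫ X.hom
  haveI : LocallyQuasiFinite φ := by
    refine LocallyQuasiFinite.of_finite_preimage_singleton φ fun a => ?_
    exact (hfinV.preimage (f := fun p => z p) z.isEmbedding.injective.injOn).subset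
      fun p _ => (hzr _).1 ⟨p, rfl⟩
  obtain ⟨W, hWcl, hWfin, hWfib⟩ := H9Hens.exists_finitePart_scheme φ
  let d : W.toScheme ⟶ X.left := W.ι ≫ z
  have hdφ : d ≫ X.hom = W.ι ≫ φ := Category.assoc _ _ _
  haveI : IsFinite (W.ι ≫ φ) := hWfin
  haveI hφp : IsProper (W.ι ≫ φ) := inferInstance
  haveI : IsProper (d ≫ X.hom) := by rw [hdφ]; exact hφp
  haveI : IsProper d := IsProper.of_comp d X.hom
  haveI : IsClosedImmersion d := IsClosedImmersion.of_isPreimmersion d d.isClosedMap.isClosed_range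
  have hxW : ∃ w : W.toScheme, d w = x := by
    obtain ⟨p, hp⟩ := (hzr x).2 ⟨hxV, hxf⟩
    exact ⟨⟨p, hWfib p (by show X.hom.base (z p) = _; rw [hp]; exact hxs)⟩, hp⟩
  have honly : ∀ w : W.toScheme, d w ∈ Models.specialFibreSet R X → d w = x := fun w hw =>
    hspf _ ((hzr _).1 ⟨w.1, rfl⟩).1 ((hzr _).1 ⟨w.1, rfl⟩).2 hw
  refine ⟨W.toScheme, d, inferInstance, ?_, ?_, ?_⟩
  · refine H29Blow.isEffCartierIdeal_of_stalk d.ker fun y U hyU => ?_
    by_cases hy : y ∈ Set.range d
    · obtain ⟨w, rfl⟩ := hy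
      rw [← H13CInt.ker_stalkMap d w U hyU]
      -- the kernel of the stalk map is generated by the image of `f`
      let p := W.ι w
      let Q := s p
      have hker : RingHom.ker (s.stalkMap p).hom =
          Ideal.span {(Spec A).presheaf.germ ⊤ Q trivial ((Scheme.ΓSpecIso A).inv f)} := by
        rw [H17.ker_stalkMap_eq_map s (isAffineOpen_top (Spec A)) p trivial]
        have h1 : RingHom.ker (s.app ⊤).hom = Ideal.span {(Scheme.ΓSpecIso A).inv f} := by
          ext a
          obtain ⟨b, rfl⟩ := (ConcreteCategory.bijective_of_isIso (Scheme.ΓSpecIso A).inv).2 a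
          have h2 : s.app ⊤ ((Scheme.ΓSpecIso A).inv b) = (Scheme.ΓSpecIso _).inv (qmap b) :=
            (ConcreteCategory.congr_hom (Scheme.ΓSpecIso_inv_naturality (CommRingCat.ofHom qmap)) b).symm
          rw [RingHom.mem_ker]
          show s.app ⊤ _ = 0 ↔ _
          erw [h2, map_eq_zero_iff _ (ConcreteCategory.bijective_of_isIso (Scheme.ΓSpecIso _).inv).1]
          rw [Ideal.Quotient.eq_zero_iff_mem, Ideal.mem_span_singleton, Ideal.mem_span_singleton]
          exact ⟨fun h => map_dvd _ h, fun h => by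
            have h3 := map_dvd (Scheme.ΓSpecIso A).hom.hom h
            simpa using h3⟩
        rw [h1, Ideal.map_span, Set.image_singleton]
      haveI : IsDomain A := inferInstance
      have hne : (Spec A).presheaf.germ ⊤ Q trivial ((Scheme.ΓSpecIso A).inv f) ≠ 0 := fun h0 => by
        have h1 := germ_injective_of_isIntegral (Spec A) Q (U := ⊤) trivial
          (h0.trans (map_zero ((Spec A).presheaf.germ ⊤ Q trivial).hom).symm)
        exact hf0 ((ConcreteCategory.bijective_of_isIso (Scheme.ΓSpecIso A).inv).1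
          (h1.trans (map_zero _).symm))
      have hb := ConcreteCategory.bijective_of_isIso (hV.fromSpec.stalkMap Q)
      let E := RingEquiv.ofBijective (hV.fromSpec.stalkMap Q).hom hb
      refine ⟨E.symm ((Spec A).presheaf.germ ⊤ Q trivial ((Scheme.ΓSpecIso A).inv f)),
        mem_nonZeroDivisors_of_ne_zero fun h0 => hne ?_, ?_⟩
      · exact E.symm.injective (h0.trans (map_zero E.symm).symm)
      · have h1 : RingHom.ker (W.ι.stalkMap w).hom = ⊥ :=
          (RingHom.injective_iff_ker_eq_bot _).1 (ConcreteCategory.bijective_of_isIso (W.ι.stalkMap w)).1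
        refine (H13CInt.ker_stalkMap_comp z W.ι w).trans ?_
        rw [h1, ← RingHom.ker_eq_comap_bot]
        refine (H13CInt.ker_stalkMap_comp hV.fromSpec s p).trans ?_
        rw [hker]
        refine (Ideal.map_symm E).symm.trans ?_
        rw [Ideal.map_span, Set.image_singleton]
        rfl
    · refine ⟨1, one_mem _, ?_⟩
      rw [Ideal.span_singleton_one]
      refine H29Blow.map_germ_eq_top_of_notMem_support _ y U hyU fun h => hy ?_
      have h' : y ∈ closure (Set.range d) := (Scheme.Hom.support_ker d).le h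
      rwa [d.isClosedMap.isClosed_range.closure_eq] at h'
  · intro p
    have hgen : ∀ q : W.toScheme, d q ∉ Models.specialFibreSet R X → ((d ≫ X.hom).base q).asIdeal = ⊥ := by
      intro q hq
      by_contra h0
      have h1 := IsLocalRing.eq_maximalIdeal
        ((((d ≫ X.hom).base q : PrimeSpectrum R)).isPrime.isMaximal h0)
      exact hq (PrimeSpectrum.ext h1)
    by_cases hp : d p ∈ Models.specialFibreSet R X
    · obtain ⟨q, hq⟩ := (hzr q₀).2 ⟨hq₀V, hq₀f⟩
      have hqp : q ⤳ W.ι p := by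
        rw [← z.isEmbedding.isInducing.specializes_iff, hq]
        exact (honly p hp).symm ▸ hq₀x
      refine ⟨⟨q, hqp.mem_open W.2 p.2⟩, ?_, hgen _ (by show z q ∉ _; rw [hq]; exact hq₀s)⟩
      rw [← W.ι.isOpenEmbedding.isInducing.specializes_iff]
      exact hqp
    · exact ⟨p, specializes_rfl, hgen p hp⟩
  · refine Set.Subset.antisymm ?_ ?_
    · rintro _ ⟨⟨w, rfl⟩, hw⟩
      exact honly w hw
    · rintro _ rfl
      exact ⟨hxW, hxs⟩

end Groth.Agent.H28RR.HensDivisor
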