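import Groth.Agent.H28RR.CMSurf
import Groth.Agent.H28Surf.Pair
import Groth.Agent.H4TopDual.Basic
import Groth.Agent.H29RR.MonoHom

/-!
# The Hodge index theorem on an integral projective surface over any field

Only the representability of the top cohomology is used: no smoothness, no closedness of the field.
-/

set_option autoImplicit false
set_option linter.style.haveILetI false
set_option linter.unusedSectionVars false
set_option backward.isDefEq.respectTransparency.types false

universe u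

open CategoryTheory CategoryTheory.Limits AlgebraicGeometry TopologicalSpace Opposite
open Groth.Agent.H28Surf

namespace Groth.Agent.H28RR.HodgeIndex

/-- The growth of the Euler characteristic. -/
theorem pos_of_growth (a b c Q P R : ℤ) (hQ : 1 ≤ Q) (hP : 0 ≤ P) (hR : 1 ≤ R) (B : ℤ) :
    ∃ N : ℤ, ∀ n i : ℤ, N ≤ n → 0 ≤ i →
      B < 2 * c + 2 * n * a + n * (n - 1) * Q + 2 * i * b + i * (i - 1) * R + 2 * n * i * P := by
  refine ⟨|B - 2 * c| + (|2 * b - R| + 1) * (|2 * b - R| + 1) + |2 * a - Q| + 2, fun n i hn hi => ?_⟩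
  set s := |2 * b - R| + 1
  have hs : 1 ≤ s := le_add_of_nonneg_left (abs_nonneg _)
  have hn0 : 0 ≤ n := by nlinarith [abs_nonneg (B - 2 * c), abs_nonneg (2 * a - Q)]
  have h3 : 0 ≤ n * i * P := mul_nonneg (mul_nonneg hn0 hi) hP
  have h4 : -(s * s) ≤ i * i * R + i * (2 * b - R) := by
    have hb := neg_abs_le (2 * b - R)
    have h4a : i * i ≤ i * i * R := le_mul_of_one_le_right (mul_nonneg hi hi) hR
    have h4b : -(i * (s - 1)) ≤ i * (2 * b - R) := by
      have := mul_le_mul_of_nonneg_left hb hi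
      simp only [s]
      linarith
    nlinarith [sq_nonneg (i - s), mul_nonneg hi (zero_le_one.trans hs)]
  have h5 : n * (n * Q + (2 * a - Q)) ≥ n * 1 + (|B - 2 * c| + s * s) := by
    have hna : n ≤ n * Q := le_mul_of_one_le_right hn0 hQ
    have h6 : |B - 2 * c| + s * s + 2 ≤ n * Q + (2 * a - Q) := by linarith [neg_abs_le (2 * a - Q)]
    have h7 := mul_le_mul_of_nonneg_left h6 hn0
    have h8 : |B - 2 * c| + s * s ≤ n * (|B - 2 * c| + s * s) := by
      refine le_mul_of_one_le_left (add_nonneg (abs_nonneg _) (mul_self_nonneg s)) ?_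
      nlinarith [abs_nonneg (B - 2 * c), abs_nonneg (2 * a - Q)]
    nlinarith
  have hn1 : 1 ≤ n := by nlinarith [abs_nonneg (B - 2 * c), abs_nonneg (2 * a - Q)]
  nlinarith [le_abs_self (B - 2 * c)]

variable {X : Scheme.{u}} (k : Type u) [Field k] [X.Over (Spec (CommRingCat.of k))]
  [IsProper (X ↘ Spec (CommRingCat.of k))] [IsIntegral X]

include k

/-- The dual of the top cohomology is represented. -/
theorem exists_dual (hdim : topologicalKrullDim X = 2) :
    ∃ (ω : X.Modules) (t : Coh.HH X ω 2 →ₗ[k] k), ∀ F : X.Modules, Coh.IsQCoh F →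
      Function.Bijective fun φ : F ⟶ ω => t ∘ₗ Canon.HHlin k φ 2 := by
  haveI := H28Int.isNoetherian k (X := X)
  haveI : X.IsSeparated := ⟨by
    rw [show terminal.from X = (X ↘ Spec (CommRingCat.of k)) ≫ terminal.from _ from terminal.hom_ext _ _]
    infer_instance⟩
  obtain ⟨ω, -, t, ht⟩ := H4TopDual.exists_dual k X 2 fun F hF => by
    haveI := H28Int.subsingleton_HnM_of_support (⊤ : Closeds X) 2
      (Topology.IsInducing.subtypeVal.topologicalKrullDim_le.trans hdim.le) F hF (fun _ _ => trivial) 3 (by omega)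
    exact (H10Coh.HHEquiv F 3).toEquiv.subsingleton
  exact ⟨ω, t, ht⟩

/-- A form on `H²` which kills a nonzero map into `M` kills everything. -/
theorem dual_comp_ne_zero (hdim : topologicalKrullDim X = 2) {ω : X.Modules} {t : Coh.HH X ω 2 →ₗ[k] k}
    (ht : ∀ F : X.Modules, Coh.IsQCoh F → Function.Bijective fun φ : F ⟶ ω => t ∘ₗ Canon.HHlin k φ 2)
    {F M : X.Modules} (hF : PicF.IsInvertible F) (hM : PicF.IsInvertible M)
    {φ : M ⟶ ω} (hφ : φ ≠ 0) {ψ : F ⟶ M} (hψ : ψ ≠ 0) : ψ ≫ φ ≠ 0 := by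
  intro h0
  haveI := H28Int.isNoetherian k (X := X)
  haveI : X.IsSeparated := ⟨by
    rw [show terminal.from X = (X ↘ Spec (CommRingCat.of k)) ≫ terminal.from _ from terminal.hom_ext _ _]
    infer_instance⟩
  obtain ⟨hmono, hgen⟩ := H29RR.mono_of_ne_zero hF hM hψ
  let C := cokernel ψ
  have hC : Coh.IsCoh C :=
    H10Coh.isCoh_cokernel ψ (H11Ample.isCoh_of_isInvertible hF).1 (H11Ample.isCoh_of_isInvertible hM)
  have hlt : topologicalKrullDim (CohB1.support C) < ((2 : ℕ) : WithBot ℕ∞) :=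
    H28Int.dim_lt_of_notMem (C := Set.univ) (genericPoint_spec X)
      ((Topology.IsInducing.subtypeVal.topologicalKrullDim_le).trans hdim.le)
      (H10Coh.isClosed_support _ hC.2) (fun _ _ => trivial) hgen
  have hle : topologicalKrullDim (CohB1.support C) ≤ ((1 : ℕ) : WithBot ℕ∞) := by
    rcases hd : topologicalKrullDim (CohB1.support C) with _ | m
    · exact bot_le
    · exact WithBot.coe_le_coe.2
        ((ENat.lt_natCast_add_one_iff (n := 1)).1 (WithBot.coe_lt_coe.1 (lt_of_eq_of_lt hd.symm hlt)))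
  haveI hv : Subsingleton (Coh.HH X C 2) := by
    haveI := H28Int.subsingleton_HnM_of_support ⟨CohB1.support C, H10Coh.isClosed_support _ hC.2⟩ 1 hle C hC.1
      subset_rfl 2 (by omega)
    exact (H10Coh.HHEquiv C 2).toEquiv.subsingleton
  apply hφ
  have hd : cokernel.desc ψ φ h0 = 0 := (ht C hC.1).injective (LinearMap.ext fun x => by
    rw [Subsingleton.elim x 0, map_zero, map_zero])
  rw [← cokernel.π_desc ψ φ h0, hd, comp_zero]

/-- If `H²(M) ≠ 0` the sections of `M ⊗ F⁻¹` are bounded by `h²(F)`. -/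
theorem finrank_sections_le (hdim : topologicalKrullDim X = 2) {F F' M : X.Modules}
    (hF : PicF.IsInvertible F) (hF' : PicF.IsInvertible F') (eF : CohB1.tensorMod F F' ≅ Coh.structureModule X)
    (hM : PicF.IsInvertible M) (hnv : Nontrivial (Coh.HH X M 2)) :
    Module.finrank k (Coh.HH X (CohB1.tensorMod M F') 0) ≤ Module.finrank k (Coh.HH X F 2) := by
  haveI := H28Int.isNoetherian k (X := X)
  obtain ⟨ω, t, ht⟩ := exists_dual k hdim
  obtain ⟨x, hx⟩ := exists_ne (0 : Coh.HH X M 2)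
  obtain ⟨χ, hχ⟩ : ∃ χ : Coh.HH X M 2 →ₗ[k] k, χ x ≠ 0 := by
    obtain ⟨χ, hχ⟩ := LinearMap.exists_extend_of_notMem (K := k) (p := (⊥ : Submodule k (Coh.HH X M 2)))
      (0 : (⊥ : Submodule k (Coh.HH X M 2)) →ₗ[k] k) (v := x) (by simpa using hx) 1
    exact ⟨χ, by rw [hχ.2]; exact one_ne_zero⟩
  obtain ⟨φ, hφ⟩ := (ht M (H11Ample.isCoh_of_isInvertible hM).1).surjective χ
  have hφ0 : φ ≠ 0 := by
    rintro rfl
    apply hχ
    rw [← hφ]
    show t (Canon.HHlin k (0 : M ⟶ ω) 2 x) = 0
    rw [H29RR.hhlin_zero, map_zero]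
  letI := fun A B : X.Modules => H29CurveDual.homModule (k := k) (F := A) (G := B)
  haveI := H10Coh.finite_HH_proper k X F (H11Ample.isCoh_of_isInvertible hF) 2
  rw [← H29CurveDual.finrank_hom_invertible (k := k) hF' eF M,
    ← Subspace.dual_finrank_eq (K := k) (V := Coh.HH X F 2)]
  let Ψ : (F ⟶ M) →ₗ[k] Module.Dual k (Coh.HH X F 2) :=
    { toFun := fun ψ => (t ∘ₗ Canon.HHlin k φ 2) ∘ₗ Canon.HHlin k ψ 2
      map_add' := fun ψ ψ' => by rw [H29Serre.lin_add, LinearMap.comp_add]
      map_smul' := fun a ψ => LinearMap.ext fun y => by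
        show (t ∘ₗ Canon.HHlin k φ 2) (Canon.HHlin k (a • ψ) 2 y) =
          a • (t ∘ₗ Canon.HHlin k φ 2) (Canon.HHlin k ψ 2 y)
        rw [H29CurveDual.hhlin_smul, map_smul] }
  refine LinearMap.finrank_le_finrank_of_injective (f := Ψ) ((injective_iff_map_eq_zero Ψ).2 fun ψ hψ => ?_)
  by_contra hne
  refine dual_comp_ne_zero k hdim ht hF hM hφ0 hne
    ((ht F (H11Ample.isCoh_of_isInvertible hF).1).injective (LinearMap.ext fun y => ?_))
  show t (Canon.HHlin k (ψ ≫ φ) 2 y) = t (Canon.HHlin k (0 : F ⟶ ω) 2 y)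
  rw [H29RR.hhlin_zero, map_zero, H29RR.hhlin_comp]
  exact LinearMap.congr_fun hψ y

/-- A class of positive square which is not negative on an ample one has effective multiples. -/
theorem eventually_sections (hdim : topologicalKrullDim X = 2) {H L : X.Modules}
    (hH : CohB1.IsAmple H) (hL : PicF.IsInvertible L) (hLH : 0 ≤ pr k L H) (hLL : 0 < pr k L L)
    (hHH : 0 < pr k H H) :
    ∃ N : ℕ, ∀ n : ℕ, N ≤ n → Nontrivial (Coh.HH X (CohB1.tensorPow L n) 0) := by
  classical
  haveI := H28Int.isNoetherian k (X := X)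
  let f := X ↘ Spec (CommRingCat.of k)
  have hHi := (H11Ample.isAmple_iff.1 hH).1
  obtain ⟨H', hH', ⟨e₀⟩⟩ := H11Sym.exists_inverse hHi
  have eH : CohB1.tensorMod H' H ≅ Coh.structureModule X := e₀
  set a := Curv2.euler k X L - Curv2.euler k X (Coh.structureModule X)
  set b := Curv2.euler k X H - Curv2.euler k X (Coh.structureModule X)
  set c := Curv2.euler k X (Coh.structureModule X)
  obtain ⟨N₀, hN₀⟩ := pos_of_growth a b c (pr k L L) (pr k L H) (pr k H H) (by omega) hLH (by omega)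
    (2 * (Module.finrank k (Coh.HH X H' 2) : ℤ))
  refine ⟨N₀.toNat, fun n hn => ?_⟩
  have hn' : N₀ ≤ (n : ℤ) := Int.toNat_le.mp hn
  have hLn := H11Ample.isInvertible_tensorPow hL n
  let Mi : ℕ → X.Modules := fun i => CohB1.tensorMod (CohB1.tensorPow L n) (CohB1.tensorPow H i)
  have hMi : ∀ i, PicF.IsInvertible (Mi i) := fun i =>
    H11Ample.isInvertible_tensor hLn (H11Ample.isInvertible_tensorPow hHi i)
  have hchi : ∀ i : ℕ, 2 * Curv2.euler k X (Mi i) =
      2 * c + 2 * n * a + n * (n - 1 : ℤ) * pr k L L + 2 * i * b + i * (i - 1 : ℤ) * pr k H H +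
        2 * n * i * pr k L H := by
    intro i
    have h1 := euler_pow k hdim hL n
    have h2 := euler_pow k hdim hHi i
    have h3 := H28RR.euler_tensor k (CohB1.tensorPow L n) (CohB1.tensorPow H i)
    rw [pr_pow_left k hdim hL (H11Ample.isInvertible_tensorPow hHi i), pr_symm k L (CohB1.tensorPow H i),
      pr_pow_left k hdim hHi hL, pr_symm k H L] at h3
    show 2 * Curv2.euler k X (CohB1.tensorMod _ _) = _
    rw [h3]
    simp only [a, b, c]
    linarith
  have h0of : ∀ i : ℕ, Subsingleton (Coh.HH X (Mi i) 2) →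
      Module.finrank k (Coh.HH X H' 2) < Module.finrank k (Coh.HH X (Mi i) 0) := by
    intro i h2
    haveI := h2
    have hc := H11Ample.isCoh_of_isInvertible (hMi i)
    have heq := H25Euler.euler_eq_sum (k := k) (Mi i) 3 fun p hp => CMSurf.subsingleton_top k hdim hc p hp
    simp only [Finset.sum_range_succ, Finset.sum_range_zero,
      Module.finrank_zero_of_subsingleton (R := k) (M := Coh.HH X (Mi i) 2)] at heq
    have hg := hN₀ n i hn' (Int.natCast_nonneg i)
    rw [← hchi i, heq] at hg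
    simp at hg
    omega
  by_cases h2 : Subsingleton (Coh.HH X (Mi 0) 2)
  · have h := h0of 0 h2
    change _ < Module.finrank k (Coh.HH X (CohB1.tensorMod (CohB1.tensorPow L n) (Coh.structureModule X)) 0) at h
    rw [H22Alg.CurveAmple.finrank_HH_congr (k := k) (H10Coh.Tw.rightUnitIso (CohB1.tensorPow L n)) 0] at h
    exact Module.nontrivial_of_finrank_pos (R := k) (lt_of_le_of_lt (Nat.zero_le _) h)
  exfalso
  obtain ⟨b₀, hb₀⟩ := H10Coh.Tw.exists_vanishing_ample f hH (CohB1.tensorPow L n) (H11Ample.isCoh_of_isInvertible hLn)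
  have hb : ∀ i, b₀ ≤ i → Subsingleton (Coh.HH X (Mi i) 2) := fun i hi =>
    (H10Coh.HHEquiv _ 2).toEquiv.subsingleton_congr.2 (hb₀ i hi 2 two_pos)
  obtain ⟨i, hi, hi1⟩ : ∃ i, ¬ Subsingleton (Coh.HH X (Mi i) 2) ∧ Subsingleton (Coh.HH X (Mi (i + 1)) 2) := by
    by_contra hno
    replace hno : ∀ i, ¬ Subsingleton (Coh.HH X (Mi i) 2) → ¬ Subsingleton (Coh.HH X (Mi (i + 1)) 2) :=
      fun i h h' => hno ⟨i, h, h'⟩
    have hall : ∀ i, ¬ Subsingleton (Coh.HH X (Mi i) 2) := fun i => by
      induction i with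
      | zero => exact h2
      | succ i ih => exact hno i ih
    exact hall b₀ (hb b₀ le_rfl)
  have hle := finrank_sections_le k hdim hH' hHi eH (hMi i) (not_subsingleton_iff_nontrivial.1 hi)
  have hlt := h0of (i + 1) hi1
  rw [H22Alg.CurveAmple.finrank_HH_congr (k := k) (H10Coh.Tw.assoc (CohB1.tensorPow L n) (CohB1.tensorPow H i) H) 0]
    at hle
  exact absurd (hlt.trans_le hle) (lt_irrefl _)

/-- An ample module has positive square. -/
theorem pr_ample_self_pos (hdim : topologicalKrullDim X = 2) {A : X.Modules} (hA : CohB1.IsAmple A) :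
    0 < pr k A A := by
  haveI := H28Int.isNoetherian k (X := X)
  have hAi := (H11Ample.isAmple_iff.1 hA).1
  obtain ⟨A', hA', ⟨e₀⟩⟩ := H11Sym.exists_inverse hAi
  let e := H10Coh.Tw.commIso A A' ≪≫ e₀
  have hflip : pr k A' A' = pr k A A := by
    rw [pr_inv_left k hdim hAi hA' hA' e, pr_symm k A A', pr_inv_left k hdim hAi hA' hAi e, neg_neg]
  rw [← hflip]
  refine (H28Int.pos_of_ample k [A', A'] (fun M hM => ?_) _ (H10Coh.isCoh_structureModule' X)
    (dim_support_structure_le k hdim)).2 ⟨genericPoint X, ?_, ?_⟩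
  · simp only [List.mem_cons, List.not_mem_nil, or_false, or_self] at hM
    subst hM
    exact ⟨A, hA, ⟨e⟩⟩
  · rw [H28Int.Surface.support_structure k]; trivial
  · rw [H28Int.Surface.cdim_genericPoint, hdim]; rfl

/-- A class orthogonal to an ample class has nonpositive square. -/
theorem pr_self_nonpos (hdim : topologicalKrullDim X = 2) {H L : X.Modules}
    (hH : CohB1.IsAmple H) (hL : PicF.IsInvertible L) (horth : pr k L H = 0) : pr k L L ≤ 0 := by
  by_contra hpos
  push Not at hpos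
  haveI := H28Int.isNoetherian k (X := X)
  have hHi := (H11Ample.isAmple_iff.1 hH).1
  haveI : X.IsSeparated := ⟨by
    rw [show terminal.from X = (X ↘ Spec (CommRingCat.of k)) ≫ terminal.from _ from terminal.hom_ext _ _]
    infer_instance⟩
  obtain ⟨n₀, -, hn₀⟩ := S2329.result X H L hH hL
  let A := CohB1.tensorMod (CohB1.tensorPow H n₀) L
  have hA : CohB1.IsAmple A := (hn₀ n₀ le_rfl).1
  have hAi := (H11Ample.isAmple_iff.1 hA).1
  have hLA : 0 < pr k L A := by
    rw [pr_symm k L A, pr_tensor_left k hdim (H11Ample.isInvertible_tensorPow hHi n₀) hL hL,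
      pr_pow_left k hdim hHi hL, pr_symm k H L, horth]
    simpa using hpos
  obtain ⟨N, hN⟩ := eventually_sections k hdim hA hL hLA.le hpos (pr_ample_self_pos k hdim hA)
  have hMA : 0 < pr k (CohB1.tensorPow L (N + 1)) A := by
    rw [pr_pow_left k hdim hL hAi]
    exact mul_pos (by exact_mod_cast Nat.succ_pos N) hLA
  have h := pr_pos_of_sections k hdim hA hH (H11Ample.isInvertible_tensorPow hL (N + 1)) (hN _ (Nat.le_succ N)) hMA
  rw [pr_pow_left k hdim hL hHi, horth] at h
  simp at h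

/-- The Hodge inequality with respect to an ample class. -/
theorem mul_le_sq (hdim : topologicalKrullDim X = 2) {H L : X.Modules}
    (hH : CohB1.IsAmple H) (hL : PicF.IsInvertible L) : pr k H H * pr k L L ≤ pr k L H ^ 2 := by
  haveI := H28Int.isNoetherian k (X := X)
  have hHi := (H11Ample.isAmple_iff.1 hH).1
  obtain ⟨H', hH', ⟨e₀⟩⟩ := H11Sym.exists_inverse hHi
  let e := H10Coh.Tw.commIso H H' ≪≫ e₀
  have hh := pr_ample_self_pos k hdim hH
  obtain ⟨a, ha⟩ := Int.eq_ofNat_of_zero_le hh.le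
  have hneg : ∀ B, PicF.IsInvertible B → pr k H' B = - pr k H B := fun B hB => pr_inv_left k hdim hHi hH' hB e
  obtain ⟨G, hG, m, hGm⟩ : ∃ G, PicF.IsInvertible G ∧ ∃ m : ℕ, ∀ B, PicF.IsInvertible B →
      (m : ℤ) * pr k G B = - pr k L H * pr k H B := by
    rcases Int.eq_nat_or_neg (pr k L H) with ⟨m, hm | hm⟩
    · exact ⟨H', hH', m, fun B hB => by rw [hneg B hB, hm]; ring⟩
    · exact ⟨H, hHi, m, fun B hB => by rw [hm]; ring⟩
  let P := CohB1.tensorPow L a
  let Q := CohB1.tensorPow G m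
  have hP := H11Ample.isInvertible_tensorPow hL a
  have hQ := H11Ample.isInvertible_tensorPow hG m
  have hN : PicF.IsInvertible (CohB1.tensorMod P Q) := H11Ample.isInvertible_tensor hP hQ
  have hpr : ∀ B, PicF.IsInvertible B → pr k (CohB1.tensorMod P Q) B =
      pr k H H * pr k L B - pr k L H * pr k H B := fun B hB => by
    rw [pr_tensor_left k hdim hP hQ hB, pr_pow_left k hdim hL hB, pr_pow_left k hdim hG hB, hGm B hB, ha]
    ring
  have hNH : pr k (CohB1.tensorMod P Q) H = 0 := by rw [hpr H hHi]; ring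
  have h := pr_self_nonpos k hdim hH hN hNH
  rw [hpr _ hN, pr_symm k L (CohB1.tensorMod P Q), pr_symm k H (CohB1.tensorMod P Q), hpr L hL, hpr H hHi,
    pr_symm k H L] at h
  by_contra hc
  push Not at hc
  nlinarith [mul_pos hh (sub_pos.2 hc)]


/-- An integral combination of two classes. -/
theorem exists_comb (hdim : topologicalKrullDim X = 2) (a b : ℤ) {A B : X.Modules} (hA : PicF.IsInvertible A)
    (hB : PicF.IsInvertible B) :
    ∃ N : X.Modules, PicF.IsInvertible N ∧ ∀ C, PicF.IsInvertible C → pr k N C = a * pr k A C + b * pr k B C := by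
  have one : ∀ (m : ℤ) (M : X.Modules), PicF.IsInvertible M →
      ∃ P : X.Modules, PicF.IsInvertible P ∧ ∀ C, PicF.IsInvertible C → pr k P C = m * pr k M C := by
    intro m M hM
    obtain ⟨M', hM', ⟨e₀⟩⟩ := H11Sym.exists_inverse hM
    obtain ⟨n, hm | hm⟩ := Int.eq_nat_or_neg m
    · exact ⟨CohB1.tensorPow M n, H11Ample.isInvertible_tensorPow hM n,
        fun C hC => by rw [pr_pow_left k hdim hM hC, hm]⟩
    · exact ⟨CohB1.tensorPow M' n, H11Ample.isInvertible_tensorPow hM' n, fun C hC => by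
        rw [pr_pow_left k hdim hM' hC, pr_inv_left k hdim hM hM' hC (H10Coh.Tw.commIso M M' ≪≫ e₀), hm]
        ring⟩
  obtain ⟨P, hP, hPc⟩ := one a A hA
  obtain ⟨Q, hQ, hQc⟩ := one b B hB
  exact ⟨CohB1.tensorMod P Q, H11Ample.isInvertible_tensor hP hQ,
    fun C hC => by rw [pr_tensor_left k hdim hP hQ hC, hPc C hC, hQc C hC]⟩

/-- A class orthogonal to a class of positive square has nonpositive square. -/
theorem pr_self_nonpos_of_orth (hdim : topologicalKrullDim X = 2) {H G L : X.Modules}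
    (hH : CohB1.IsAmple H) (hG : PicF.IsInvertible G) (hL : PicF.IsInvertible L) (hpos : 0 < pr k G G)
    (horth : pr k G L = 0) : pr k L L ≤ 0 := by
  have hHi := (H11Ample.isAmple_iff.1 hH).1
  obtain ⟨N, hN, hNc⟩ := exists_comb k hdim (pr k L H) (- pr k G H) hG hL
  have hNH : pr k N H = 0 := by rw [hNc H hHi]; ring
  have h := pr_self_nonpos k hdim hH hN hNH
  rw [hNc N hN, pr_symm k G N, pr_symm k L N, hNc G hG, hNc L hL, pr_symm k L G, horth] at h
  have hGH : pr k G H ≠ 0 := fun h0 => absurd (pr_self_nonpos k hdim hH hG h0) (not_le.2 hpos)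
  by_contra hc
  push Not at hc
  nlinarith [mul_pos (mul_self_pos.2 hGH) hc, mul_nonneg (mul_self_nonneg (pr k L H)) hpos.le]

/-- An isotropic class orthogonal to a class of positive square is numerically trivial. -/
theorem pr_eq_zero_of_orth (hdim : topologicalKrullDim X = 2) {H G L : X.Modules}
    (hH : CohB1.IsAmple H) (hG : PicF.IsInvertible G) (hL : PicF.IsInvertible L) (hpos : 0 < pr k G G)
    (horth : pr k G L = 0) (h0 : pr k L L = 0) {B : X.Modules} (hB : PicF.IsInvertible B) : pr k L B = 0 := by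
  obtain ⟨B₁, hB₁, hB₁c⟩ := exists_comb k hdim (pr k G G) (- pr k G B) hB hG
  have hGB : pr k G B₁ = 0 := by rw [pr_symm k, hB₁c G hG, pr_symm k B G]; ring
  set q := pr k B₁ B₁
  obtain ⟨N, hN, hNc⟩ := exists_comb k hdim (pr k L B₁ * (|q| + 1)) 1 hL hB₁
  have hGN : pr k G N = 0 := by
    rw [pr_symm k, hNc G hG, pr_symm k L G, horth, pr_symm k B₁ G, hGB]; ring
  have h := pr_self_nonpos_of_orth k hdim hH hG hN hpos hGN
  rw [hNc N hN, pr_symm k L N, pr_symm k B₁ N, hNc L hL, hNc B₁ hB₁, h0, pr_symm k B₁ L] at h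
  change pr k L B₁ * (|q| + 1) * _ + 1 * (_ + 1 * q) ≤ 0 at h
  have hz : pr k L B₁ = 0 := by
    by_contra hne
    nlinarith [mul_le_mul_of_nonneg_right (show (1 : ℤ) ≤ pr k L B₁ * pr k L B₁ from
      mul_self_pos.2 hne) (show (0 : ℤ) ≤ |q| + 1 from add_nonneg (abs_nonneg q) zero_le_one), neg_abs_le q, abs_nonneg q]
  rw [pr_symm k, hB₁c L hL, horth, mul_zero, add_zero, pr_symm k B L] at hz
  exact (mul_eq_zero.1 hz).resolve_left hpos.ne'

end Groth.Agent.H28RR.HodgeIndex
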