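import Groth.Agent.H28RR.PicNum
import Groth.Agent.H22Alg.KPushCl
import Groth.Agent.H29Ref.Free

/-! # Kernels of surjections from bundles onto bundles on a curve in a surface -/

set_option autoImplicit false
set_option backward.isDefEq.respectTransparency.types false
set_option linter.style.haveILetI false

universe u

open CategoryTheory CategoryTheory.Limits AlgebraicGeometry TopologicalSpace
open Groth.Agent

noncomputable section

namespace Groth.Agent.H28RR.LazMuk

variable {X Z : Scheme.{u}}

/-- The direct image of a bundle along an effective Cartier closed immersion has projective dimension at most one. -/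
theorem pd_push_le_one [IsLocallyNoetherian X] [IsIntegral X] (i : Z ⟶ X) [IsClosedImmersion i]
    (hI : PicF.IsInvertible (ClSub.idealMod i.ker)) {A : Z.Modules} (hA : FlatMod.IsFinLocFree A) (y : X) :
    HasProjectiveDimensionLE (ModuleCat.of (X.presheaf.stalk y)
      (((Scheme.Modules.pushforward i).obj A).presheaf.stalk y)) 1 := by
  by_cases hy : y ∈ Set.range i.base
  · obtain ⟨z, rfl⟩ := hy
    obtain ⟨V, hzV, f, hf, hspan⟩ := H29Blow.exists_gen_of_invertible i.ker hI (i.base z)
    have hker := H13CInt.ker_stalkMap i z V hzV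
    rw [hspan, Ideal.map_span, Set.image_singleton] at hker
    haveI : Nonempty (V.1 : X.Opens) := ⟨⟨_, hzV⟩⟩
    let g := (X.presheaf.germ V.1 (i.base z) hzV).hom f
    have hg0 : g ≠ 0 := fun h => nonZeroDivisors.ne_zero hf
      (germ_injective_of_isIntegral (X := X) (i.base z) hzV
        (h.trans ((X.presheaf.germ V.1 (i.base z) hzV).hom.map_zero).symm))
    have hgm : g ∈ RingHom.ker (i.stalkMap z).hom := by
      rw [hker]; exact Ideal.subset_span rfl
    have hreg : RingTheory.Sequence.IsRegular (X.presheaf.stalk (i.base z)) [g] := by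
      refine ⟨(RingTheory.Sequence.isWeaklyRegular_singleton_iff _ _).2 ?_, ?_⟩
      · intro a b hab
        exact mul_left_cancel₀ hg0 hab
      · intro h
        rw [Ideal.ofList_singleton, smul_eq_mul, Ideal.mul_top] at h
        refine RingHom.ker_ne_top (i.stalkMap z).hom ?_
        rw [hker]; exact h.symm
    haveI := H8Props.FinLocFree.free_stalk A hA z
    haveI := H06Mod.finite_stalk A (H29Fitt.isFT_of_isFP _ (H8Props.FinLocFree.isFP_of_isFinLocFree _ hA)) z
    exact H22Alg.KPushCl.pd_of_free (i.stalkMap z).hom (i.stalkMap_surjective z) [g] hreg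
      (hker.trans (Ideal.ofList_singleton g).symm)
      (H16Derived.ProjFormula.pushStalk i A z) (H16Derived.ProjFormula.pushStalk_bijective i A z)
      (H16Derived.ProjFormula.pushStalk_smul i A z)
  · haveI : Subsingleton (ModuleCat.of (X.presheaf.stalk y)
        (((Scheme.Modules.pushforward i).obj A).presheaf.stalk y)) :=
      H16Derived.ProjFormula.subsingleton_stalk_push i A y hy
    haveI := (ModuleCat.isZero_of_subsingleton (ModuleCat.of (X.presheaf.stalk y)
        (((Scheme.Modules.pushforward i).obj A).presheaf.stalk y))).hasProjectiveDimensionLT_zero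
    exact hasProjectiveDimensionLT_of_ge _ 0 2 (Nat.zero_le _)

/-- The kernel of a surjection from a bundle onto such a direct image is a bundle. -/
theorem finLocFree_kernel_push [IsLocallyNoetherian X] [IsIntegral X] (i : Z ⟶ X) [IsClosedImmersion i]
    (hI : PicF.IsInvertible (ClSub.idealMod i.ker)) {A : Z.Modules} (hA : FlatMod.IsFinLocFree A)
    {E : X.Modules} (hE : FlatMod.IsFinLocFree E) (lam : E ⟶ (Scheme.Modules.pushforward i).obj A) [Epi lam] :
    FlatMod.IsFinLocFree (kernel lam) := by
  haveI : IsLocallyNoetherian Z := LocallyOfFiniteType.isLocallyNoetherian i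
  have hS : (ShortComplex.mk (kernel.ι lam) lam (kernel.condition lam)).ShortExact :=
    { exact := ShortComplex.exact_of_f_is_kernel _ (kernelIsKernel lam) }
  have hK : Coh.IsCoh (kernel lam) := H22Alg.KLFRes.isCoh_left hS
    (H16Derived.KFlat.Stalk.isCoh_of_isFinLocFree hE) (H22Alg.KPushCl.isCoh_push i hA)
  refine H29Ref.isFinLocFree_of_free_stalk _ hK fun y => ?_
  obtain ⟨T, hT, h₁, h₂, h₃⟩ := H22Alg.KClOps.shortExact_stalk hS y
  have e2 : HasProjectiveDimensionLT T.X₂ 1 := h₂ ▸ H22Alg.KClOps.pd_vb hE y
  have e3 : HasProjectiveDimensionLT T.X₃ 2 := h₃ ▸ pd_push_le_one i hI hA y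
  have e1 : HasProjectiveDimensionLT T.X₁ 1 := hT.hasProjectiveDimensionLT_X₁ 1 e2 e3
  have e0 : HasProjectiveDimensionLE (ModuleCat.of (X.presheaf.stalk y) ((kernel lam).presheaf.stalk y)) 0 := h₁ ▸ e1
  haveI : Module.Projective (X.presheaf.stalk y) ((kernel lam).presheaf.stalk y) :=
    (IsProjective.iff_projective _).2 ((projective_iff_hasProjectiveDimensionLE_zero _).2 e0)
  haveI := H29Ref.finite_stalk _ hK.2 y
  exact Module.free_of_flat_of_isLocalRing

end Groth.Agent.H28RR.LazMuk
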