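import Groth.Agent.H28RR.LazMukPic
import Groth.Agent.H10Coh.SheafHom.Pullback
import Groth.Agent.H11Tilde.TwistPow
import Groth.Agent.H25Par.CurveLocFree
import Groth.Agent.H29Curve.Topology

/-! # Evaluation of global sections -/

set_option autoImplicit false
set_option backward.isDefEq.respectTransparency.types false
set_option linter.style.haveILetI false
set_option linter.unusedSectionVars false

universe u

open CategoryTheory CategoryTheory.Limits AlgebraicGeometry TopologicalSpace Opposite
open Groth.Agent Groth.Agent.H28RR.PicNum Groth.Agent.H28RR.ZariskiVol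
open Groth.Agent.H28Surf hiding dot dot_mul_left dot_mul_right dot_pow_left

noncomputable section

namespace Groth.Agent.H28RR.LazMuk

attribute [local instance] H28Vert.picLaw

section eval

variable {X : Scheme.{u}}

/-- Naturality of the identification with sections. -/
theorem HH0Equiv_map {F G : X.Modules} (φ : F ⟶ G) (x : Coh.HH X F 0) :
    H10Coh.HH0Equiv G (Sheaf.H.map ((SheafOfModules.toSheaf _).map φ) 0 x) = φ.app ⊤ (H10Coh.HH0Equiv F x) := by
  change H10Coh.H0Equiv (H10Coh.sh G) ⊤ (H10Coh.topEquiv (H10Coh.sh G) 0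
    (Sheaf.H.map ((SheafOfModules.toSheaf _).map φ) 0 x)) = _
  rw [H10Coh.topEquiv_map]
  exact H10Coh.H0Equiv_map (F := H10Coh.sh F) (G := H10Coh.sh G) ((SheafOfModules.toSheaf _).map φ) _

variable (k : Type u) [Field k] [X.Over (Spec (CommRingCat.of k))]

/-- Evaluation of a basis of global sections. -/
def evMap (M : X.Modules) [Module.Finite k (Coh.HH X M 0)] :
    FlatMod.freeMod X (Module.finrank k (Coh.HH X M 0)) ⟶ M :=
  Sigma.desc fun i => H11Tilde.homOfGlobal M (H10Coh.HH0Equiv M (Module.finBasis k (Coh.HH X M 0) i))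

theorem evMap_surjective (M : X.Modules) [Module.Finite k (Coh.HH X M 0)] :
    Function.Surjective (Canon.HHlin k (evMap k M) 0) := by
  rw [← LinearMap.range_eq_top, eq_top_iff, ← (Module.finBasis k (Coh.HH X M 0)).span_eq, Submodule.span_le]
  rintro _ ⟨i, rfl⟩
  let ιi : Coh.structureModule X ⟶ FlatMod.freeMod X (Module.finrank k (Coh.HH X M 0)) :=
    Sigma.ι (fun _ : Fin (Module.finrank k (Coh.HH X M 0)) => Coh.structureModule X) i
  refine ⟨Canon.HHlin k ιi 0 ((H10Coh.HH0Equiv (Coh.structureModule X)).symm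
    (show Γ(Coh.structureModule X, ⊤) from (1 : Γ(X, ⊤)))), ?_⟩
  rw [← H29RR.hhlin_comp]
  have h : ιi ≫ evMap k M = H11Tilde.homOfGlobal M (H10Coh.HH0Equiv M (Module.finBasis k (Coh.HH X M 0) i)) :=
    Sigma.ι_desc _ _
  rw [h]
  refine (H10Coh.HH0Equiv M).injective ?_
  refine (HH0Equiv_map _ _).trans ?_
  rw [AddEquiv.apply_symm_apply, H11Tilde.homOfGlobal_app]
  erw [H10Coh.mres_self, one_smul]

omit k [Field k] [X.Over (Spec (CommRingCat.of k))] in
theorem app_surjective {F G : X.Modules} (φ : F ⟶ G)
    (h : Function.Surjective (Sheaf.H.map ((SheafOfModules.toSheaf _).map φ) 0)) : Function.Surjective (φ.app ⊤) := by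
  intro g
  obtain ⟨x, hx⟩ := h ((H10Coh.HH0Equiv G).symm g)
  exact ⟨H10Coh.HH0Equiv F x, (HH0Equiv_map φ x).symm.trans (by rw [hx, AddEquiv.apply_symm_apply])⟩

omit k [Field k] [X.Over (Spec (CommRingCat.of k))] in
theorem spansAt_free (n : ℕ) (x : X) : H29RR.SpansAt (FlatMod.freeMod X n) x := by
  rw [H29RR.SpansAt, eq_top_iff]
  rintro v -
  let p : Fin n → (FlatMod.freeMod X n ⟶ Coh.structureModule X) := fun i =>
    Sigma.desc fun j => if j = i then 𝟙 _ else 0
  let ι : Fin n → (Coh.structureModule X ⟶ FlatMod.freeMod X n) := fun i =>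
    Sigma.ι (fun _ : Fin n => Coh.structureModule X) i
  have htot : ∑ i, p i ≫ ι i = 𝟙 (FlatMod.freeMod X n) := by
    refine Sigma.hom_ext _ _ fun j => ?_
    rw [Preadditive.comp_sum, Finset.sum_eq_single j]
    · simp [p, ι]
    · intro i _ hij
      simp [p, ι, Ne.symm hij]
    · intro h; exact absurd (Finset.mem_univ j) h
  let W := Submodule.span (X.presheaf.stalk x)
    (Set.range fun g : Γ(FlatMod.freeMod X n, ⊤) => (FlatMod.freeMod X n).presheaf.germ ⊤ x trivial g)
  have hW : ∀ (i : Fin n) (r : (Coh.structureModule X).presheaf.stalk x), H06Mod.stalkLin (ι i) x r ∈ W := by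
    intro i r
    have hr : r ∈ Submodule.span (X.presheaf.stalk x)
        (Set.range fun g : Γ(Coh.structureModule X, ⊤) => (Coh.structureModule X).presheaf.germ ⊤ x trivial g) :=
      H29RR.spansAt_structureModule (X := X) x ▸ Submodule.mem_top
    induction hr using Submodule.span_induction with
    | mem y hy => obtain ⟨g, rfl⟩ := hy; exact Submodule.subset_span ⟨_, (H29RR.germ_app _ x g).symm⟩
    | zero => rw [map_zero]; exact zero_mem _
    | add y z _ _ hy hz => rw [map_add]; exact add_mem hy hz
    | smul r y _ hy => rw [map_smul]; exact Submodule.smul_mem _ r hy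
  have hs : ∀ s : Finset (Fin n), H06Mod.stalkLin (∑ i ∈ s, p i ≫ ι i) x v ∈ W := by
    intro s
    induction s using Finset.induction_on with
    | empty => rw [Finset.sum_empty, stalkLinZero]; exact zero_mem _
    | insert a s ha ih =>
      rw [Finset.sum_insert ha, H29RR.stalkLin_add, H29RR.stalkLin_comp]
      exact add_mem (hW a _) ih
  have := hs Finset.univ
  rw [htot, stalkLinId] at this
  exact this

end eval

section push

variable {X C : Scheme.{u}} (i : C ⟶ X) [IsClosedImmersion i]

/-- Direct images of modules generated by sections are generated by sections. -/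
theorem spansAt_push {M : C.Modules} (h : ∀ c, H29RR.SpansAt M c) (x : X) :
    H29RR.SpansAt ((Scheme.Modules.pushforward i).obj M) x := by
  rw [H29RR.SpansAt, eq_top_iff]
  rintro v -
  by_cases hx : x ∈ Set.range i.base
  · obtain ⟨c, rfl⟩ := hx
    let P := (Scheme.Modules.pushforward i).obj M
    let W := Submodule.span (X.presheaf.stalk (i.base c))
      (Set.range fun g : Γ(P, ⊤) => P.presheaf.germ ⊤ (i.base c) trivial g)
    let Φ := H16Derived.ProjFormula.pushStalk i M c
    have key : ∀ a : M.presheaf.stalk c, ∀ w, Φ w = a → w ∈ W := by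
      intro a
      have ha : a ∈ Submodule.span (C.presheaf.stalk c)
          (Set.range fun g : Γ(M, ⊤) => M.presheaf.germ ⊤ c trivial g) := h c ▸ Submodule.mem_top
      induction ha using Submodule.span_induction with
      | mem y hy =>
        obtain ⟨g, rfl⟩ := hy
        intro w hw
        have hg : Φ (P.presheaf.germ ⊤ (i.base c) trivial g) = M.presheaf.germ ⊤ c trivial g :=
          H16Derived.ProjFormula.pushStalk_germ i M c ⊤ trivial g
        rw [(H16Derived.ProjFormula.pushStalk_bijective i M c).1 (hw.trans hg.symm)]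
        exact Submodule.subset_span ⟨g, rfl⟩
      | zero =>
        intro w hw
        rw [(H16Derived.ProjFormula.pushStalk_bijective i M c).1 (hw.trans (map_zero Φ).symm)]
        exact zero_mem _
      | add y z _ _ hy hz =>
        intro w hw
        obtain ⟨wy, hwy⟩ := (H16Derived.ProjFormula.pushStalk_bijective i M c).2 y
        obtain ⟨wz, hwz⟩ := (H16Derived.ProjFormula.pushStalk_bijective i M c).2 z
        rw [(H16Derived.ProjFormula.pushStalk_bijective i M c).1 (hw.trans (show y + z = Φ (wy + wz) by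
          rw [map_add]; exact congrArg₂ (· + ·) hwy.symm hwz.symm))]
        exact add_mem (hy wy hwy) (hz wz hwz)
      | smul r y _ hy =>
        intro w hw
        obtain ⟨r', rfl⟩ := i.stalkMap_surjective c r
        obtain ⟨wy, hwy⟩ := (H16Derived.ProjFormula.pushStalk_bijective i M c).2 y
        rw [(H16Derived.ProjFormula.pushStalk_bijective i M c).1
          (hw.trans ((H16Derived.ProjFormula.pushStalk_smul i M c r' wy).trans (by rw [hwy])).symm)]
        exact Submodule.smul_mem _ r' (hy wy hwy)
    exact key _ v rfl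
  · haveI := H16Derived.ProjFormula.subsingleton_stalk_push i M x hx
    rw [Subsingleton.elim v 0]
    exact zero_mem _

theorem epi_of_surjective_stalk {F G : X.Modules} (φ : F ⟶ G)
    (h : ∀ x, Function.Surjective (H06Mod.stalkLin φ x)) : Epi φ :=
  (H8Props.FunDescent.epi_iff _).2 h

end push

section endo

variable (k : Type u) [Field k] {X : Scheme.{u}} [X.Over (Spec (CommRingCat.of k))]

/-- If all endomorphisms are scalars the sheaf of endomorphisms has at most one section up to scalars. -/
theorem h0_end_le_one {F : X.Modules} (h : ∀ φ : F ⟶ F, ∃ c : k, φ = Formal.smulMod k F c) :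
    Module.finrank k (Coh.HH X (RefHull.homSh F F) 0) ≤ 1 := by
  let v := (H10Coh.HH0Equiv (RefHull.homSh F F)).symm (RefHull.ofHom (𝟙 F) ⊤)
  refine finrank_le_one v fun x => ?_
  obtain ⟨φ, hφ⟩ := H10Coh.SheafHom.ofHom_surjective (H10Coh.HH0Equiv (RefHull.homSh F F) x)
  obtain ⟨c, rfl⟩ := h φ
  refine ⟨c, (H10Coh.HH0Equiv (RefHull.homSh F F)).injective ?_⟩
  let r : Γ(X, ⊤) := Coh.toGlobal (X ↘ Spec (CommRingCat.of k)) c
  have hr : H10Coh.HH0Equiv (RefHull.homSh F F) (c • v) = r • RefHull.ofHom (𝟙 F) ⊤ := by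
    refine Eq.trans (H10Coh.HH0Equiv_smul (RefHull.homSh F F) r v) ?_
    rw [AddEquiv.apply_symm_apply]
  refine hr.trans (Eq.trans ?_ hφ)
  refine Subtype.ext (funext fun y => LinearMap.ext fun w => ?_)
  obtain ⟨U, hy, m, rfl⟩ := TopCat.Presheaf.exists_germ_eq F.presheaf w
  show X.presheaf.germ ⊤ y.1 trivial r • RefHull.stalkMapₗ (𝟙 F) y.1 _ = RefHull.stalkMapₗ (Formal.smulMod k F c) y.1 _
  rw [RefHull.stalkMapₗ_germ, RefHull.stalkMapₗ_germ,
    ← TopCat.Presheaf.germ_res_apply X.presheaf (homOfLE (le_top : U ≤ ⊤)) y.1 hy, ← Mero.germ_smul]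
  rfl

end endo

end Groth.Agent.H28RR.LazMuk
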