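import Groth.Agent.H28RR.LazMukPic
import Groth.Agent.H28RR.LazMukEval
import Groth.Agent.H10Coh.SheafHom.Pullback
import Groth.Agent.H11Tilde.TwistPow
import Groth.Agent.H25Par.CurveLocFree
import Groth.Agent.H29Curve.Topology

/-! # Non-negativity of Brill-Noether numbers on a curve generating the Picard group -/

set_option autoImplicit false
set_option backward.isDefEq.respectTransparency.types false
set_option linter.style.haveILetI false
set_option linter.unusedSectionVars false

universe u

open CategoryTheory CategoryTheory.Limits AlgebraicGeometry TopologicalSpace Opposite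
open Groth.Agent Groth.Agent.H28RR.PicNum Groth.Agent.H28RR.ZariskiVol
open Groth.Agent.H28Surf hiding dot dot_mul_left dot_mul_right dot_pow_left

noncomputable section

namespace Groth.Agent.H28RR.LazMuk

attribute [local instance] H28Vert.picLaw

section generated

variable (k : Type u) [Field k] [IsAlgClosed k] {C : Scheme.{u}} [C.Over (Spec (CommRingCat.of k))] [IsIntegral C]
  [Smooth (C ↘ Spec (CommRingCat.of k))] [IsProper (C ↘ Spec (CommRingCat.of k))]

/-- An epi-mono factorisation with coherent middle term. -/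
theorem exists_factorisation {F A : C.Modules} [IsLocallyNoetherian C] (v : F ⟶ A) (hF : Coh.IsCoh F)
    (hA : Coh.IsCoh A) :
    ∃ (B : C.Modules) (π : F ⟶ B) (j : B ⟶ A), Coh.IsCoh B ∧ Epi π ∧ Mono j ∧ π ≫ j = v :=
  ⟨Abelian.image v, Abelian.factorThruImage v, Abelian.image.ι v,
    H10Coh.isCoh_kernel _ hA (H10Coh.isCoh_cokernel v hF.1 hA).1, inferInstance, inferInstance, Abelian.image.fac v⟩

/-- The generic rank of a nonzero submodule of an invertible module on an integral scheme is one. -/
theorem grk_sub [IsLocallyNoetherian C] {A B : C.Modules} (hA : PicF.IsInvertible A) (hBc : Coh.IsCoh B)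
    (j : B ⟶ A) [Mono j] (hne : j ≠ 0) : grk B = 1 := by
  letI : Field (C.presheaf.stalk (genericPoint C)) := inferInstanceAs (Field C.functionField)
  have hAc := H11Ample.isCoh_of_isInvertible hA
  haveI := H29Ref.finite_stalk A hAc.2 (genericPoint C)
  haveI := H29Ref.finite_stalk B hBc.2 (genericPoint C)
  have hgA : grk A = 1 := finrank_generic_of_rank (H29RR.rank_one_of_isInvertible hA)
  have hle : grk B ≤ grk A :=
    LinearMap.finrank_le_finrank_of_injective (f := H06Mod.stalkLin j (genericPoint C))
      (LeadDev.stalk_injective_of_mono j (genericPoint C))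
  have hpos : grk B ≠ 0 := fun h => hne <| by
    haveI : Subsingleton (B.presheaf.stalk (genericPoint C)) := Module.finrank_zero_iff.1 h
    refine eq_zero_of_generic hAc (torsionFree_of_finLocFree (H28Pinch.isFinLocFree_of_isInvertible hA)) j fun w => ?_
    rw [Subsingleton.elim (α := B.presheaf.stalk (genericPoint C)) w 0, map_zero]
  omega

/-- Surjectivity on sections passes to the last map of a factorisation. -/
theorem hhlin_surjective_of_comp {F B A : C.Modules} (π : F ⟶ B) (j : B ⟶ A) (v : F ⟶ A) (hfac : π ≫ j = v)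
    (q : ℕ) (h : Function.Surjective (Canon.HHlin k v q)) : Function.Surjective (Canon.HHlin k j q) := by
  intro a
  obtain ⟨a', rfl⟩ := h a
  subst hfac
  exact ⟨Canon.HHlin k π q a', (H29RR.hhlin_comp π j q a').symm⟩

/-- Bijectivity on sections of the first map of a short exact sequence. -/
theorem hhlin_bijective_of_factor {S : ShortComplex C.Modules} (hS : S.ShortExact) {F : C.Modules}
    (π : F ⟶ S.X₁) (v : F ⟶ S.X₂) (hfac : π ≫ S.f = v) (h : Function.Surjective (Canon.HHlin k v 0)) :
    Function.Bijective (Canon.HHlin k S.f 0) :=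
  ⟨H28Surf.hhlin_injective k hS, hhlin_surjective_of_comp k π S.f v hfac 0 h⟩

set_option maxHeartbeats 400000 in
/-- The submodule generated by the global sections. -/
theorem exists_generated_sub (hC : topologicalKrullDim C = 1) (A : C.Modules) (hA : PicF.IsInvertible A)
    (h0 : 0 < Module.finrank k (Coh.HH C A 0)) :
    ∃ B : C.Modules, PicF.IsInvertible B ∧ (∀ c, H29RR.SpansAt B c) ∧
      Module.finrank k (Coh.HH C B 0) = Module.finrank k (Coh.HH C A 0) ∧
      Module.finrank k (Coh.HH C A 1) ≤ Module.finrank k (Coh.HH C B 1) := by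
  haveI := H28Int.isNoetherian k (X := C)
  have hAc := H11Ample.isCoh_of_isInvertible hA
  haveI := H10Coh.finite_HH_proper k C _ hAc 0
  obtain ⟨B, π, j, hBc, hπ, hj, hfac⟩ := exists_factorisation (evMap k A)
    (H16Derived.KFlat.Stalk.isCoh_of_isFinLocFree (H22Alg.KModel.finLocFree_free _)) hAc
  have hne : j ≠ 0 := fun hz => by
    rw [hz, comp_zero] at hfac
    haveI : Subsingleton (Coh.HH C A 0) := ⟨fun a b => by
      obtain ⟨a', rfl⟩ := evMap_surjective k A a
      obtain ⟨b', rfl⟩ := evMap_surjective k A b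
      rw [← hfac, H29RR.hhlin_zero, H29RR.hhlin_zero]⟩
    rw [Module.finrank_zero_of_subsingleton] at h0
    exact lt_irrefl _ h0
  have hgB : grk B = 1 := grk_sub hA hBc j hne
  have hAt : TorSh.IsTorsionFree A := torsionFree_of_finLocFree (H28Pinch.isFinLocFree_of_isInvertible hA)
  obtain ⟨r, hr⟩ := H25Par.exists_rank k hC.le hBc (torsionFree_of_mono j hAt)
  have hr1 : r = 1 := by rw [← finrank_generic_of_rank hr]; exact hgB
  subst hr1
  let S := ShortComplex.mk j (cokernel.π j) (cokernel.condition j)
  have hS : S.ShortExact := { exact := ShortComplex.exact_cokernel _ }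
  have hQc : Coh.IsCoh S.X₃ := H10Coh.isCoh_cokernel _ hBc.1 hAc
  have hQη : genericPoint C ∉ CohB1.support S.X₃ := fun h => h <| by
    letI : Field (C.presheaf.stalk (genericPoint C)) := inferInstanceAs (Field C.functionField)
    haveI := H29Ref.finite_stalk S.X₃ hQc.2 (genericPoint C)
    have h2 := grk_add hS hAc
    have hgA : grk A = 1 := finrank_generic_of_rank (H29RR.rank_one_of_isInvertible hA)
    change grk A = grk B + grk S.X₃ at h2
    exact Module.finrank_zero_iff.1 (show grk S.X₃ = 0 by omega)
  have hcl : ∀ z ∈ CohB1.support S.X₃, IsClosed ({z} : Set C) := fun z hz =>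
    (H29Curve.isClosed_singleton_or_eq_genericPoint hC.le z).resolve_right fun e => hQη (e ▸ hz)
  have hQ1 : Subsingleton (Coh.HH C S.X₃ 1) := H25Par.subsingleton_HH_of_finite_support _
    (finite_of_forall_isClosed (H10Coh.isClosed_support _ hQc.2) hcl) hcl (fun y hy => not_not.1 hy) one_pos
  have hj0 : Function.Bijective (Canon.HHlin k j 0) :=
    hhlin_bijective_of_factor k (S := S) hS π (evMap k A) hfac (evMap_surjective k A)
  haveI := H10Coh.finite_HH_proper k C _ hBc 1
  exact ⟨B, H22Alg.KExists.isInvertible_of_rank_one hr,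
    fun c => H29RR.spansAt_of_surjective π (spansAt_free _ c) (H06Mod.surjective_stalk_of_epi π c),
    (LinearEquiv.ofBijective _ hj0).finrank_eq,
    LinearMap.finrank_le_finrank_of_surjective (f := Canon.HHlin k S.f 1)
      (H22Alg.NakaiGen.hhlin_f_surjective k hS 1 hQ1)⟩

end generated

section main

variable (k : Type u) [Field k] [IsAlgClosed k]
variable {X : Scheme.{u}} [X.Over (Spec (CommRingCat.of k))] [IsIntegral X]
  [Smooth (X ↘ Spec (CommRingCat.of k))] [IsProper (X ↘ Spec (CommRingCat.of k))]
  (hdim : topologicalKrullDim X = 2)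
  {H : X.Modules} (hH : CohB1.IsAmple H)
  (hK : ExtPow.IsExtPow 2 (Omega.sheaf (X ↘ Spec (CommRingCat.of k))) (Coh.structureModule X))
  (hq : Module.finrank k (Coh.HH X (Coh.structureModule X) 1) = 0)
  {C : Scheme.{u}} [C.Over (Spec (CommRingCat.of k))] [IsIntegral C] [Smooth (C ↘ Spec (CommRingCat.of k))]
  (hC : topologicalKrullDim C = 1) (i : C ⟶ X) [IsClosedImmersion i]
  (hi : i ≫ (X ↘ Spec (CommRingCat.of k)) = C ↘ Spec (CommRingCat.of k))
  (hI : PicF.IsInvertible (ClSub.idealMod i.ker))
  (hgen : ∀ c : PicLoc.PicSet X, ∃ n : ℤ, c = PicGrp.cls (ClSub.idealMod i.ker) hI ^ n)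

include hdim hH hK hq hC hi hgen

set_option maxHeartbeats 1200000 in
theorem bn_generated {A : C.Modules} (hA : PicF.IsInvertible A) (hgg : ∀ c, H29RR.SpansAt A c) :
    Module.finrank k (Coh.HH C A 0) * Module.finrank k (Coh.HH C A 1) ≤ Curv2.genus k C := by
  haveI := H28Int.isNoetherian k (X := X)
  haveI : IsProper (C ↘ Spec (CommRingCat.of k)) := by rw [← hi]; infer_instance
  haveI := H28Int.isNoetherian k (X := C)
  have hAf := H28Pinch.isFinLocFree_of_isInvertible hA
  haveI : A.IsQuasicoherent := H8Props.FinLocFree.isQCoh_of_isFinLocFree A hAf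
  let P := (Coh.push i).obj A
  haveI : Module.Finite k (Coh.HH X P 0) := H10Coh.finite_HH_proper k X _ (H22Alg.KPushCl.isCoh_push i hAf) 0
  let e := Module.finrank k (Coh.HH X P 0)
  let lam := evMap k P
  haveI : Epi lam := epi_of_surjective_stalk lam fun x =>
    H29RR.surjective_of_spansAt lam (spansAt_push i hgg x) (app_surjective lam (evMap_surjective k P))
  have hlam : Function.Bijective (Canon.HHlin k lam 0) := by
    haveI := H10Coh.finite_HH_proper k X _
      (H16Derived.KFlat.Stalk.isCoh_of_isFinLocFree (H22Alg.KModel.finLocFree_free (X := X) e)) 0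
    refine ⟨(LinearMap.injective_iff_surjective_of_finrank_eq_finrank ?_).2 (evMap_surjective k P),
      evMap_surjective k P⟩
    rw [h0_free, H29RR.finrank_h0_structure k X, mul_one]
  let F := kernel lam
  have hF : FlatMod.IsFinLocFree F := finLocFree_kernel_push i hI hAf (H22Alg.KModel.finLocFree_free e) lam
  let G := RefHull.dual F
  have hG : FlatMod.IsFinLocFree G := isFinLocFree_dual hF
  let E := RefHull.homSh F F
  have hE : FlatMod.IsFinLocFree E := H10Coh.SheafHom.isFinLocFree_homSh hF hF
  have h0 : Module.finrank k (Coh.HH X E 0) ≤ 1 :=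
    h0_end_le_one k (simple_of_pic k hdim hH hK hC i hi hI hgen hA lam hlam)
  -- self-duality
  have hself : RefHull.dual (CohB1.tensorMod F G) ≅ E := by
    haveI := isIso_bidualMap hF
    exact (H10Inj.SheafExt.homTensorIso G F).app (Coh.structureModule X) ≪≫
      ((H10Inj.SheafExt.dualHomIso G hG).app G).symm ≪≫
      PicGrp.tensorModIso (asIso (RefHull.bidualMap F)).symm (Iso.refl G) ≪≫
      H10Coh.Tw.commIso _ _ ≪≫ (H10Inj.SheafExt.dualHomIso F hF).app F
  have h2 : Module.finrank k (Coh.HH X E 2) = Module.finrank k (Coh.HH X E 0) := by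
    have hFG := H10Coh.Tw.isFinLocFree_tensorMod hF hG
    let eE : CohB1.tensorMod F G ≅ E :=
      H10Coh.Tw.commIso _ _ ≪≫ (H10Inj.SheafExt.dualHomIso F hF).app F
    rw [← (H29RR.hhIso (k := k) eE 2).finrank_eq, ← finrank_dual k hdim hH hK hFG (p := 2) le_rfl]
    exact (H29RR.hhIso (k := k) hself 0).finrank_eq
  have hχ := euler_end k hdim hH hK hq hC i hi A hA e lam hlam
  rw [euler_eq_three k hdim (H16Derived.KFlat.Stalk.isCoh_of_isFinLocFree hE)] at hχ
  change (Module.finrank k (Coh.HH X E 0) : ℤ) - Module.finrank k (Coh.HH X E 1) +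
    Module.finrank k (Coh.HH X E 2) = _ at hχ
  rw [h2] at hχ
  have : (Module.finrank k (Coh.HH C A 0) : ℤ) * Module.finrank k (Coh.HH C A 1) ≤ Curv2.genus k C := by
    have h0' : (Module.finrank k (Coh.HH X E 0) : ℤ) ≤ 1 := by exact_mod_cast h0
    omega
  exact_mod_cast this

/-- Brill-Noether numbers are non-negative. -/
theorem bn_nonneg (A : C.Modules) (hA : PicF.IsInvertible A) :
    Module.finrank k (Coh.HH C A 0) * Module.finrank k (Coh.HH C A 1) ≤ Curv2.genus k C := by
  haveI : IsProper (C ↘ Spec (CommRingCat.of k)) := by rw [← hi]; infer_instance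
  rcases Nat.eq_zero_or_pos (Module.finrank k (Coh.HH C A 0)) with h0 | h0
  · rw [h0, zero_mul]; exact Nat.zero_le _
  obtain ⟨B, hB, hgg, e0, e1⟩ := exists_generated_sub k hC A hA h0
  refine le_trans ?_ (bn_generated k hdim hH hK hq hC i hi hI hgen hB hgg)
  rw [e0]
  exact Nat.mul_le_mul_left _ e1

end main

end Groth.Agent.H28RR.LazMuk
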