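import Groth.Agent.H28RR.LazMukH1
import Groth.Agent.H28RR.AmpleStep
import Groth.Agent.H25Tors.Generic
import Groth.Agent.LeadProper.Supp
import Groth.Agent.H22Alg.RedIntegral
import Groth.Agent.H17.ConsModModels
import Groth.Agent.H8Props.FunDescent.Stalk
import Groth.Agent.H25Par.FiniteSupport
import Groth.Agent.H10Coh.Pn.Results
import Groth.Agent.H25Par.FiniteSupport

/-! # Degrees against the generator of a Picard group of rank one -/

set_option autoImplicit false
set_option backward.isDefEq.respectTransparency.types false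
set_option linter.style.haveILetI false
set_option linter.unusedSectionVars false

universe u

open CategoryTheory CategoryTheory.Limits AlgebraicGeometry TopologicalSpace
open Groth.Agent Groth.Agent.H28RR.PicNum Groth.Agent.H28RR.ZariskiVol
open Groth.Agent.H28Surf hiding dot dot_mul_left dot_mul_right dot_pow_left

noncomputable section

namespace Groth.Agent.H28RR.LazMuk

attribute [local instance] H28Vert.picLaw

section Unit

attribute [local instance] Groth.Agent.H06Mod.stalkAlgebra

open H16Derived.ProjFormula in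
/-- The unit of a closed immersion is an epimorphism. -/
theorem epi_unit {X Y : Scheme.{u}} (f : X ⟶ Y) [IsClosedImmersion f] (F : Y.Modules) :
    Epi ((Scheme.Modules.pullbackPushforwardAdjunction f).unit.app F) := by
  refine (H8Props.FunDescent.epi_iff _).2 fun y => ?_
  show Function.Surjective ((TopCat.Presheaf.stalkFunctor Ab.{u} y).map
    ((Scheme.Modules.pullbackPushforwardAdjunction f).unit.app F).mapPresheaf)
  by_cases hy : y ∈ Set.range f.base
  · obtain ⟨x, rfl⟩ := hy
    have hps : Function.Surjective (H06Mod.pullStalk f F x) := by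
      intro z
      obtain ⟨t, rfl⟩ := (H06Mod.pullStalkEquiv f F x).surjective z
      induction t using TensorProduct.induction_on with
      | zero => exact ⟨0, (map_zero _).trans (map_zero _).symm⟩
      | add a b ha hb =>
        obtain ⟨m, hm⟩ := ha
        obtain ⟨m', hm'⟩ := hb
        exact ⟨m + m', by rw [map_add, hm, hm', map_add]⟩
      | tmul r m =>
        obtain ⟨s, rfl⟩ := f.stalkMap_surjective x r
        refine ⟨s • m, ?_⟩
        refine ((H06Mod.pullStalkLin_tmul f F x 1 (s • m)).trans (one_smul _ _)).symm.trans ?_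
        show H06Mod.pullStalkEquiv f F x ((1 : X.presheaf.stalk x) ⊗ₜ[Y.presheaf.stalk (f.base x)] (s • m)) = _
        congr 1
        rw [TensorProduct.tmul_smul, TensorProduct.smul_tmul', Algebra.smul_def, mul_one]
        rfl
    intro b
    obtain ⟨a, ha⟩ := hps (pushStalk f _ x b)
    exact ⟨a, (pushStalk_bijective f _ x).1 ((pushStalk_unit f F x a).trans ha)⟩
  · exact fun b => ⟨(0 : F.presheaf.stalk y), @Subsingleton.elim _
      (subsingleton_stalk_push f ((Scheme.Modules.pullback f).obj F) y hy) _ b⟩

end Unit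

section helpers

variable {X : Scheme.{u}}

/-- A morphism to a torsion-free coherent module on an integral scheme vanishes if it vanishes generically. -/
theorem eq_zero_of_generic [IsIntegral X] [IsLocallyNoetherian X] {F G : X.Modules} (hG : Coh.IsCoh G)
    (htG : TorSh.IsTorsionFree G) (φ : F ⟶ G) (h : ∀ a, H06Mod.stalkLin φ (genericPoint X) a = 0) : φ = 0 := by
  refine Scheme.Modules.hom_ext _ _ fun U => ?_
  ext s
  refine H25Tors.eq_zero_of_forall_generic G hG.1 htG U _ fun η hη hηU => ?_
  rw [genericPoints_eq_singleton, Set.mem_singleton_iff] at hη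
  subst hη
  exact (H06Mod.stalkLin_germ φ _ U hηU s).symm.trans (h _)

/-- A closed set of closed points in a noetherian sober space is finite. -/
theorem finite_of_forall_isClosed [NoetherianSpace X] {N : Set X} (hN : IsClosed N)
    (h : ∀ x ∈ N, IsClosed ({x} : Set X)) : N.Finite := by
  obtain ⟨T, hTf, hTcl, hTirr, hT⟩ := NoetherianSpace.exists_finite_set_isClosed_irreducible hN
  rw [hT]
  refine hTf.sUnion fun W hW => ?_
  have hgen := (hTirr W hW).isGenericPoint_genericPoint (hTcl W hW)
  have hmem : (hTirr W hW).genericPoint ∈ N := hT ▸ Set.subset_sUnion_of_mem hW hgen.mem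
  rw [← hgen.def, (h _ hmem).closure_eq]
  exact Set.finite_singleton _

/-- A module with finite support and no sections has no stalks. -/
theorem subsingleton_stalk_of_h0 (M : X.Modules) {S : Set X} (hS : S.Finite) (hcl : ∀ z ∈ S, IsClosed ({z} : Set X))
    (h : ∀ y, y ∉ S → Subsingleton (M.presheaf.stalk y)) (h0 : Subsingleton (Coh.HH X M 0)) (x : X) :
    Subsingleton (M.presheaf.stalk x) := by
  haveI := h0
  haveI : Subsingleton Γ(M, ⊤) := (H10Coh.HH0Equiv M).symm.toEquiv.subsingleton
  refine subsingleton_of_forall_eq 0 fun a => ?_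
  obtain ⟨W, hxW, t, rfl⟩ := TopCat.Presheaf.exists_germ_eq M.presheaf a
  obtain ⟨g, hg⟩ := H25Par.flasque_of_finite_support (H10Coh.sh M) hS hcl h (le_top : W ≤ ⊤) t
  have hg' : M.presheaf.map (homOfLE (le_top : W ≤ ⊤)).op g = t := hg
  rw [← hg', Subsingleton.elim (α := Γ(M, ⊤)) g 0, map_zero, map_zero]

end helpers

section generic

variable {X : Scheme.{u}} [IsIntegral X] [IsLocallyNoetherian X]

/-- The generic rank. -/
def grk (M : X.Modules) : ℕ :=
  Module.finrank (X.presheaf.stalk (genericPoint X)) (M.presheaf.stalk (genericPoint X))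

/-- The generic rank is additive. -/
theorem grk_add {S : ShortComplex X.Modules} (hS : S.ShortExact) (h₂ : Coh.IsCoh S.X₂) :
    grk S.X₂ = grk S.X₁ + grk S.X₃ := by
  haveI : IsDomain (X.presheaf.stalk (genericPoint X)) := inferInstance
  haveI := H29Ref.finite_stalk S.X₂ h₂.2 (genericPoint X)
  have h := Submodule.finrank_quotient_add_finrank
    (LinearMap.ker (H06Mod.stalkLin S.g (genericPoint X)))
  have e₁ := (LinearMap.quotKerEquivOfSurjective (H06Mod.stalkLin S.g (genericPoint X))
    (H06Mod.stalk_surjective S hS _)).finrank_eq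
  have hr : LinearMap.ker (H06Mod.stalkLin S.g (genericPoint X)) =
      LinearMap.range (H06Mod.stalkLin S.f (genericPoint X)) :=
    LinearMap.exact_iff.1 (H06Mod.stalk_exact S hS _)
  rw [e₁, hr, LinearMap.finrank_range_of_inj (H06Mod.stalk_injective S hS _)] at h
  unfold grk
  omega

theorem torsionFree_of_finLocFree {M : X.Modules} (hM : FlatMod.IsFinLocFree M) : TorSh.IsTorsionFree M := fun x => by
  haveI := H8Props.FinLocFree.free_stalk M hM x
  infer_instance

/-- A support inside a proper closed subset has dimension at most one on a surface. -/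
theorem dim_support_le_of_generic [NoetherianSpace X] (hdim : topologicalKrullDim X = 2) {T : X.Modules}
    (hT : Coh.IsCoh T) (hη : genericPoint X ∉ CohB1.support T) :
    topologicalKrullDim (CohB1.support T) ≤ ((1 : ℕ) : WithBot ℕ∞) := by
  have h := H28Int.dim_lt_of_notMem (X := X) (ξ := genericPoint X) (C := Set.univ)
    (genericPoint_spec X) (n := 2) (by
      rw [(Homeomorph.Set.univ X).isHomeomorph.topologicalKrullDim_eq, hdim]; rfl)
    (H10Coh.isClosed_support T hT.2) (fun x _ => trivial) hη
  revert h
  induction topologicalKrullDim (CohB1.support T) using WithBot.recBotCoe with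
  | bot => exact fun _ => bot_le
  | coe a =>
    intro h
    rw [show ((2 : ℕ) : WithBot ℕ∞) = ((2 : ℕ∞) : WithBot ℕ∞) from rfl, WithBot.coe_lt_coe] at h
    rw [show ((1 : ℕ) : WithBot ℕ∞) = ((1 : ℕ∞) : WithBot ℕ∞) from rfl, WithBot.coe_le_coe]
    exact Order.le_of_lt_add_one (h.trans_eq (by norm_num))

theorem one_le_cdim {x : X} (hx : ¬ IsClosed ({x} : Set X)) : ((1 : ℕ) : WithBot ℕ∞) ≤ H8Props.FieldDim.cdim x := by
  have hne : closure ({x} : Set X) ≠ {x} := fun h => hx (h ▸ isClosed_closure)
  obtain ⟨y, hy, hyx⟩ : ∃ y ∈ closure ({x} : Set X), y ≠ x := by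
    by_contra h
    push Not at h
    exact hne (Set.Subset.antisymm h subset_closure)
  haveI : PreirreducibleSpace (closure ({x} : Set X)) :=
    Subtype.preirreducibleSpace (isIrreducible_singleton.closure).isPreirreducible
  let a : TopologicalSpace.IrreducibleCloseds (closure ({x} : Set X)) :=
    ⟨closure {(⟨y, hy⟩ : closure ({x} : Set X))}, isIrreducible_singleton.closure, isClosed_closure⟩
  let b : TopologicalSpace.IrreducibleCloseds (closure ({x} : Set X)) :=
    ⟨Set.univ, ⟨⟨⟨x, subset_closure rfl⟩, trivial⟩, PreirreducibleSpace.isPreirreducible_univ⟩, isClosed_univ⟩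
  have hab : a < b := by
    refine lt_of_le_of_ne (fun z _ => trivial) fun h => hyx ?_
    have hm : (⟨x, subset_closure rfl⟩ : closure ({x} : Set X)) ∈ (a : Set (closure ({x} : Set X))) :=
      h ▸ (Set.mem_univ _ : _ ∈ (b : Set (closure ({x} : Set X))))
    have hs : (⟨y, hy⟩ : closure ({x} : Set X)) ⤳ ⟨x, subset_closure rfl⟩ := specializes_iff_mem_closure.2 hm
    exact ((Topology.IsInducing.subtypeVal.specializes_iff.2 hs).antisymm (specializes_iff_mem_closure.2 hy)).eq
  exact Order.le_krullDim_iff.2 ⟨RelSeries.fromListIsChain [a, b] (by simp) (List.isChain_pair.2 hab), rfl⟩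

end generic

section zero

variable {X : Scheme.{u}}

/-- A module with finite support has no morphisms to a bundle on an integral curve inside. -/
theorem eq_zero_of_finite_to_push {C : Scheme.{u}} [IsIntegral C] [IsLocallyNoetherian C] (i : C ⟶ X)
    [IsClosedImmersion i] {A : C.Modules} (hA : FlatMod.IsFinLocFree A) {T : X.Modules}
    (hT : i (genericPoint C) ∉ CohB1.support T) (f : T ⟶ (Coh.push i).obj A) : f = 0 := by
  let adj := Scheme.Modules.pullbackPushforwardAdjunction i
  refine (adj.homEquiv T A).symm.injective ?_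
  refine (eq_zero_of_generic (H16Derived.KFlat.Stalk.isCoh_of_isFinLocFree hA)
    (torsionFree_of_finLocFree hA) _ fun a => ?_).trans ?_
  · haveI : Subsingleton (((Scheme.Modules.pullback i).obj T).presheaf.stalk (genericPoint C)) := by
      letI := H06Mod.stalkAlgebra i (genericPoint C)
      haveI : Subsingleton (T.presheaf.stalk (i.base (genericPoint C))) := not_not.1 hT
      exact (H06Mod.pullStalkEquiv i T (genericPoint C)).symm.toEquiv.subsingleton
    rw [Subsingleton.elim a 0, map_zero]
  · rw [Adjunction.homEquiv_counit, Functor.map_zero, zero_comp]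


end zero

section deg

variable (k : Type u) [Field k] [IsAlgClosed k]
variable {X : Scheme.{u}} [X.Over (Spec (CommRingCat.of k))] [IsIntegral X]
  [Smooth (X ↘ Spec (CommRingCat.of k))] [IsProper (X ↘ Spec (CommRingCat.of k))]
  (hdim : topologicalKrullDim X = 2) {I : X.Modules} (hI : PicF.IsInvertible I)
  (hgen : ∀ c : PicLoc.PicSet X, ∃ n : ℤ, c = PicGrp.cls I hI ^ n)

include hI in
theorem isAddFn_deg : H28Int.IsAddFn (H28Int.D k [I] (X := X)) :=
  H28Int.isAddFn_D k [I] (by simpa using hI)

theorem nonempty_rep_pow (c : PicLoc.PicSet X) : ∀ n : ℕ, Nonempty (rep (c ^ n) ≅ CohB1.tensorPow (rep c) n)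
  | 0 => by rw [pow_zero]; exact nonempty_rep_one
  | n + 1 => by
    obtain ⟨e⟩ := nonempty_rep_pow c n
    obtain ⟨e'⟩ := nonempty_rep_mul (c ^ n) c
    rw [pow_succ]
    exact ⟨e' ≪≫ PicGrp.tensorModIso e (Iso.refl _)⟩

include hdim in
theorem dot_zpow (a c : PicLoc.PicSet X) (n : ℤ) : dot k (a ^ n) c = n * dot k a c := by
  induction n using Int.induction_on with
  | zero => rw [zpow_zero, dot_one_left k hdim, zero_mul]
  | succ n ih => rw [zpow_add_one, dot_mul_left k hdim, ih]; ring
  | pred n ih => rw [zpow_sub_one, dot_mul_left k hdim, dot_inv_left k hdim, ih]; ring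

include hdim hgen

/-- For a curve class `I⁻¹` generating the Picard group: it is ample, of positive square. -/
theorem ample_generator {C : X.IdealSheafData} (hC : IsCurve C) (hCI : curveCls k hdim hC = (PicGrp.cls I hI)⁻¹) :
    0 < dot k (PicGrp.cls I hI) (PicGrp.cls I hI) ∧ CohB1.IsAmple (rep (PicGrp.cls I hI)⁻¹) := by
  have hlin := fun (c : PicLoc.PicSet X) (n : ℤ) => dot_zpow k hdim (PicGrp.cls I hI) c n
  obtain ⟨D, hD, hamp⟩ := exists_ample_curve k hdim (X := X)
  obtain ⟨n, hn⟩ := hgen (curveCls k hdim hD)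
  have hDD := ample_deg_pos k hdim hamp hD
  rw [degOn_eq_dot k hdim hD, hn, hlin, dot_comm, hlin] at hDD
  have hDC := ample_deg_pos k hdim hamp hC
  rw [degOn_eq_dot k hdim hC, hCI, hn, hlin, dot_inv_right k hdim] at hDC
  have hq : 0 < dot k (PicGrp.cls I hI) (PicGrp.cls I hI) := by
    by_contra h
    push Not at h
    nlinarith [mul_self_nonneg n, mul_le_mul_of_nonneg_left h (mul_self_nonneg n)]
  have hn0 : n < 0 := by
    by_contra h
    push Not at h
    nlinarith
  refine ⟨hq, ?_⟩
  obtain ⟨m, rfl⟩ : ∃ m : ℕ, n = -(m : ℤ) := ⟨(-n).toNat, by omega⟩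
  rw [hn, zpow_neg, zpow_natCast, ← inv_pow] at hamp
  obtain ⟨e⟩ := nonempty_rep_pow ((PicGrp.cls I hI)⁻¹) m
  exact (H11Ample.isAmple_tensorPow_iff (rep_inv _) m (by omega)).2 (H11Ample.isAmple_of_iso e hamp)

theorem deg_quot {J : X.IdealSheafData} (hJ : IsCurve J) :
    ∃ m : ℤ, H28Int.D k [I] (ClSub.quotMod J) = m * dot k (PicGrp.cls I hI) (PicGrp.cls I hI) := by
  have hJi := isInvertible_ideal k (isEffCartier_curve k hdim hJ)
  obtain ⟨m, hm⟩ := hgen (PicGrp.cls (ClSub.idealMod J) hJi)
  refine ⟨m, ?_⟩
  have h1 := H28Surf.intNum_idealMod k hdim.le J hJi hI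
  rw [intNum_eq_pr k hdim hJi hI, ← dot_cls k hdim hJi hI, hm] at h1
  rw [← h1]
  exact dot_zpow k hdim _ _ m

omit hgen in
include hI in
theorem deg_free (r : ℕ) :
    H28Int.D k [I] (FlatMod.freeMod X r) = r * H28Int.D k [I] (Coh.structureModule X) := by
  show Curv2.euler k X _ - Curv2.euler k X _ = (r : ℤ) * (Curv2.euler k X _ - Curv2.euler k X _)
  rw [H25Euler.euler_congr (H10Coh.Tw.commIso I (FlatMod.freeMod X r)), euler_tensor_free,
    H22Alg.DetDeg.euler_freeMod, H25Euler.euler_congr (H10Coh.Tw.rightUnitIso I)]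
  ring

omit hgen in
include hI in
/-- The degree of a module on an integral curve. -/
theorem deg_push {Z : Scheme.{u}} [Z.Over (Spec (CommRingCat.of k))] [IsIntegral Z]
    [IsProper (Z ↘ Spec (CommRingCat.of k))] (hZ : topologicalKrullDim Z ≤ 1) (j : Z ⟶ X) [IsClosedImmersion j]
    (hj : j ≫ (X ↘ Spec (CommRingCat.of k)) = Z ↘ Spec (CommRingCat.of k)) {M : Z.Modules} (hM : Coh.IsCoh M) :
    H28Int.D k [I] ((Coh.push j).obj M) =
      grk M * H28Int.D k [I] ((Coh.push j).obj (Coh.structureModule Z)) := by
  let P := (Scheme.Modules.pullback j).obj I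
  have hP : PicF.IsInvertible P := H11Ample.isInvertible_pullback j hI
  have key : ∀ {N : Z.Modules}, Coh.IsCoh N →
      H28Int.D k [I] ((Coh.push j).obj N) = -(grk N : ℤ) * Curv2.deg k Z P 1 := fun {N} hN => by
    obtain ⟨eT⟩ := H10Coh.Tw.nonempty_push_tensor_iso j N hI
    haveI : N.IsQuasicoherent := hN.1
    haveI : (CohB1.tensorMod P N).IsQuasicoherent :=
      (H10Coh.isCoh_of_iso (H10Coh.Tw.commIso N P) (H11Ample.isCoh_tensor hN hP)).1
    show Curv2.euler k X _ - Curv2.euler k X _ = _
    rw [H25Euler.euler_congr (H10Coh.Tw.commIso I ((Coh.push j).obj N) ≪≫ eT ≪≫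
        (Coh.push j).mapIso (H10Coh.Tw.commIso N P)), H28Int.Push.euler_push k j hj N,
      H28Int.Push.euler_push k j hj (CohB1.tensorMod P N),
      H29RR.euler_tensor_eq (k := k) (H29RR.rank_one_of_isInvertible hP) hZ hN]
    unfold grk
    push_cast
    ring
  rw [key hM, key (H11Ample.isCoh_of_isInvertible (H28Int.isInvertible_structureModule Z))]
  have h1 : grk (Coh.structureModule Z) = 1 :=
    finrank_generic_of_rank (H29RR.rank_one_of_isInvertible (H28Int.isInvertible_structureModule Z))
  rw [h1]
  push_cast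
  ring

/-- The lower bound for the degree of a one-dimensional module. -/
theorem deg_torsion_ge (hN : CohB1.IsAmple (rep (PicGrp.cls I hI)⁻¹))
    (hq : 0 < dot k (PicGrp.cls I hI) (PicGrp.cls I hI)) {T : X.Modules} (hT : Coh.IsCoh T)
    (hη : genericPoint X ∉ CohB1.support T) {ζ : X} (hζ : ζ ∈ CohB1.support T)
    (hζc : ¬ IsClosed ({ζ} : Set X)) :
    dot k (PicGrp.cls I hI) (PicGrp.cls I hI) ≤ H28Int.D k [I] T := by
  haveI := H28Int.isNoetherian k (X := X)
  have hd := dim_support_le_of_generic hdim hT hη
  have hA := isAddFn_deg k hI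
  let eNI : CohB1.tensorMod (rep (PicGrp.cls I hI)⁻¹) I ≅ Coh.structureModule X :=
    PicGrp.tensorModIso (Iso.refl _) (nonempty_rep_iso hI).some.symm ≪≫
      (nonempty_rep_mul (PicGrp.cls I hI)⁻¹ (PicGrp.cls I hI)).some.symm ≪≫
      eqToIso (by rw [inv_mul_cancel]) ≪≫ nonempty_rep_one.some
  have hpos := fun (F : X.Modules) (hF : Coh.IsCoh F)
      (h : topologicalKrullDim (CohB1.support F) ≤ ((1 : ℕ) : WithBot ℕ∞)) => D_ample_pos k hN eNI F hF h
  -- the curve
  let J := Scheme.IdealSheafData.vanishingIdeal ⟨closure {ζ}, isClosed_closure⟩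
  have hsupp : (J.support : Set X) = closure {ζ} := by simp [J]
  have hJd : topologicalKrullDim (J.support : Set X) = 1 := by
    refine le_antisymm ?_ ?_
    · rw [hsupp]
      exact (H28Int.dim_le_of_subset ((H10Coh.isClosed_support T hT.2).closure_subset_iff.2
        (Set.singleton_subset_iff.2 hζ))).trans hd
    · rw [hsupp]; exact one_le_cdim hζc
  have hJ : IsCurve J := ⟨H22Alg.isIntegral_vanishingIdeal_closure ζ, hJd⟩
  haveI := hJ.int
  let j := J.subschemeι
  letI : J.subscheme.Over (Spec (CommRingCat.of k)) := ⟨j ≫ (X ↘ Spec (CommRingCat.of k))⟩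
  haveI : IsProper (J.subscheme ↘ Spec (CommRingCat.of k)) :=
    inferInstanceAs (IsProper (j ≫ (X ↘ Spec (CommRingCat.of k))))
  haveI := H28Int.isNoetherian k (X := J.subscheme)
  -- the restriction
  let M := (Scheme.Modules.pullback j).obj T
  have hM : Coh.IsCoh M := H17.ConsProp.isCoh_pullback j hT
  let u := (Scheme.Modules.pullbackPushforwardAdjunction j).unit.app T
  haveI : Epi u := epi_unit j T
  have hMp : Coh.IsCoh ((Coh.push j).obj M) := H24FSch.isCoh_pushforward_of_isClosedImmersion j hM
  have hS := H10Coh.shortExact_kernel u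
  have hK : Coh.IsCoh (kernel u) := H22Alg.KLFRes.isCoh_left hS hT hMp
  have hKd : topologicalKrullDim (CohB1.support (kernel u)) ≤ ((1 : ℕ) : WithBot ℕ∞) := by
    refine le_trans (H28Int.dim_le_of_subset fun x hx => ?_) hd
    intro hsub
    haveI : Subsingleton (T.presheaf.stalk x) := hsub
    exact hx (Function.Injective.subsingleton (β := T.presheaf.stalk x) (H06Mod.stalk_injective _ hS x))
  have hadd := hA.add _ hS hK hT hMp
  -- the generic rank of the restriction
  have hgp : j (genericPoint J.subscheme) = ζ := by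
    have h1 : closure {j (genericPoint J.subscheme)} = closure ({ζ} : Set X) := by
      rw [← hsupp, ← J.range_subschemeι, ← Set.image_singleton, j.isClosedEmbedding.closure_image_eq,
        genericPoint_spec J.subscheme, Set.image_univ]
    exact (inseparable_iff_closure_eq.2 h1).eq
  have hr : 1 ≤ grk M := by
    haveI := H29Ref.finite_stalk M hM.2 (genericPoint J.subscheme)
    by_contra h
    have h0 : grk M = 0 := by omega
    have hMs : Subsingleton (M.presheaf.stalk (genericPoint J.subscheme)) := by
      letI : Field (J.subscheme.presheaf.stalk (genericPoint J.subscheme)) :=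
        inferInstanceAs (Field J.subscheme.functionField)
      exact Module.finrank_zero_iff.1 h0
    have hmem : genericPoint J.subscheme ∈ CohB1.support M := by
      rw [LeadProper.support_pullback T hT.1 hT.2 j]
      show j (genericPoint J.subscheme) ∈ CohB1.support T
      rw [hgp]; exact hζ
    exact hmem hMs
  obtain ⟨m, hm⟩ := deg_quot k hdim hI hgen hJ
  have hQ : H28Int.D k [I] ((Coh.push j).obj (Coh.structureModule J.subscheme)) =
      m * dot k (PicGrp.cls I hI) (PicGrp.cls I hI) := hm
  have hm0 : 0 < m * dot k (PicGrp.cls I hI) (PicGrp.cls I hI) := by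
    rw [← hQ]
    have hsub : CohB1.support ((Coh.push j).obj (Coh.structureModule J.subscheme)) ⊆ Set.range j.base :=
      fun x hx => by_contra fun h => hx (H16Derived.ProjFormula.subsingleton_stalk_push j _ x h)
    refine (hpos _ (H24FSch.isCoh_pushforward_of_isClosedImmersion j (H10Coh.isCoh_structureModule' _)) ?_).2
      ⟨ζ, ?_, one_le_cdim hζc⟩
    · refine (H28Int.dim_le_of_subset hsub).trans ?_
      rw [show Set.range j.base = (J.support : Set X) from J.range_subschemeι]
      exact hJd.le
    · rw [← hgp]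
      intro hs
      haveI := hs
      haveI : Subsingleton ((Coh.structureModule J.subscheme).presheaf.stalk (genericPoint J.subscheme)) :=
        (Equiv.ofBijective _ (H16Derived.ProjFormula.pushStalk_bijective j (Coh.structureModule J.subscheme)
          (genericPoint J.subscheme))).symm.subsingleton
      have h1 := finrank_generic_of_rank (H29RR.rank_one_of_isInvertible
        (H28Int.isInvertible_structureModule J.subscheme))
      rw [Module.finrank_zero_of_subsingleton] at h1
      exact zero_ne_one h1
  have hm1 : 1 ≤ m := by nlinarith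
  have hKn := (hpos (kernel u) hK hKd).1
  change H28Int.D k [I] T = H28Int.D k [I] (kernel u) + H28Int.D k [I] ((Coh.push j).obj M) at hadd
  rw [deg_push k hdim hI ((dim_subscheme J).trans hJd).le j rfl hM, hQ] at hadd
  have : (1 : ℤ) ≤ grk M := by exact_mod_cast hr
  nlinarith [mul_le_mul_of_nonneg_right this hm0.le]

end deg

end Groth.Agent.H28RR.LazMuk
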