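import Groth.Agent.H28RR.LazMukSimple

/-! # Simplicity for a curve generating the Picard group -/

set_option autoImplicit false
set_option backward.isDefEq.respectTransparency.types false
set_option linter.style.haveILetI false
set_option linter.unusedSectionVars false

universe u

open CategoryTheory CategoryTheory.Limits AlgebraicGeometry TopologicalSpace
open Groth.Agent Groth.Agent.H28RR.PicNum Groth.Agent.H28RR.ZariskiVol
open Groth.Agent.H28Surf hiding dot dot_mul_left dot_mul_right dot_pow_left

noncomputable section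

namespace Groth.Agent.H28RR.LazMuk

attribute [local instance] H28Vert.picLaw

variable (k : Type u) [Field k] [IsAlgClosed k]
variable {X : Scheme.{u}} [X.Over (Spec (CommRingCat.of k))] [IsIntegral X]
  [Smooth (X ↘ Spec (CommRingCat.of k))] [IsProper (X ↘ Spec (CommRingCat.of k))]
  (hdim : topologicalKrullDim X = 2)
  {H : X.Modules} (hH : CohB1.IsAmple H)
  (hK : ExtPow.IsExtPow 2 (Omega.sheaf (X ↘ Spec (CommRingCat.of k))) (Coh.structureModule X))
  {C : Scheme.{u}} [C.Over (Spec (CommRingCat.of k))] [IsIntegral C]
  (hC : topologicalKrullDim C = 1) (i : C ⟶ X) [IsClosedImmersion i]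
  (hi : i ≫ (X ↘ Spec (CommRingCat.of k)) = C ↘ Spec (CommRingCat.of k))
  (hI : PicF.IsInvertible (ClSub.idealMod i.ker))
  (hgen : ∀ c : PicLoc.PicSet X, ∃ n : ℤ, c = PicGrp.cls (ClSub.idealMod i.ker) hI ^ n)
  {A : C.Modules} (hA : PicF.IsInvertible A) {e : ℕ}
  (lam : FlatMod.freeMod X e ⟶ (Coh.push i).obj A) [Epi lam]
  (hlam : Function.Bijective (Sheaf.H.map ((SheafOfModules.toSheaf _).map lam) 0))

include hdim hH hK hC hi hgen hA hlam

/-- The kernel is simple. -/
theorem simple_of_pic (φ : kernel lam ⟶ kernel lam) : ∃ c : k, φ = Formal.smulMod k (kernel lam) c := by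
  haveI := H28Int.isNoetherian k (X := X)
  haveI : IsProper (C ↘ Spec (CommRingCat.of k)) := by rw [← hi]; infer_instance
  haveI := H28Int.isNoetherian k (X := C)
  have hdr : topologicalKrullDim (Set.range i.base) = 1 := by
    rw [← IsHomeomorph.topologicalKrullDim_eq _ i.isClosedEmbedding.isEmbedding.toHomeomorph.isHomeomorph, hC]
  have hCcurve : IsCurve i.ker := by
    refine ⟨?_, ?_⟩
    · haveI : IsIso i.toImage := inferInstance
      haveI : Nonempty i.image := ⟨i.toImage (genericPoint C)⟩
      haveI : IsIntegral i.image := IsIntegral.of_isIso i.toImage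
      exact ‹IsIntegral i.image›
    · rw [i.support_ker, i.isClosedEmbedding.isClosed_range.closure_eq]
      exact hdr
  have hCI : curveCls k hdim hCcurve = (PicGrp.cls (ClSub.idealMod i.ker) hI)⁻¹ := rfl
  obtain ⟨hq, hN⟩ := ample_generator k hdim hI hgen hCcurve hCI
  have hηC : ¬ IsClosed ({i (genericPoint C)} : Set X) := fun h => by
    have hsub : Set.range i.base ⊆ {i (genericPoint C)} := by
      rw [← Set.image_univ, ← genericPoint_spec C, ← i.isClosedEmbedding.closure_image_eq, Set.image_singleton,
        h.closure_eq]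
    have hle := H28Int.dim_le_of_subset hsub
    rw [hdr] at hle
    exact absurd (hle.trans (topologicalKrullDim_zero_of_discreteTopology ({i (genericPoint C)} : Set X))) (by norm_num)
  have hη : genericPoint X ∉ Set.range i.base := fun hmem => by
    have hu : Set.range i.base = Set.univ := Set.eq_univ_of_univ_subset
      ((genericPoint_spec X).symm.le.trans
        (closure_minimal (Set.singleton_subset_iff.2 hmem) i.isClosedEmbedding.isClosed_range))
    rw [hu, (Homeomorph.Set.univ X).isHomeomorph.topologicalKrullDim_eq, hdim] at hdr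
    exact absurd hdr (by norm_num)
  have hAf := H28Pinch.isFinLocFree_of_isInvertible hA
  have hEf := H22Alg.KModel.finLocFree_free (X := X) e
  have hF : FlatMod.IsFinLocFree (kernel lam) := finLocFree_kernel_push i hI hAf hEf lam
  have hS : (ShortComplex.mk (kernel.ι lam) lam (kernel.condition lam)).ShortExact :=
    { exact := ShortComplex.exact_of_f_is_kernel _ (kernelIsKernel lam) }
  have hF0 : Subsingleton (Coh.HH X (kernel lam) 0) := ⟨fun x y => H28Surf.hhlin_injective k hS (hlam.1 (by
      refine Eq.trans (H29RR.hhlin_comp (k := k) (kernel.ι lam) lam 0 x).symm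
        (Eq.trans ?_ (H29RR.hhlin_comp (k := k) (kernel.ι lam) lam 0 y))
      rw [kernel.condition, H29RR.hhlin_zero, H29RR.hhlin_zero]))⟩
  have hEc := H16Derived.KFlat.Stalk.isCoh_of_isFinLocFree hEf
  have hFc := H16Derived.KFlat.Stalk.isCoh_of_isFinLocFree hF
  have hPc : Coh.IsCoh ((Coh.push i).obj A) := H22Alg.KPushCl.isCoh_push i hAf
  have he : grk (kernel lam) = e := by
    have h := grk_add hS hEc
    haveI := H16Derived.ProjFormula.subsingleton_stalk_push i A _ hη
    change grk (FlatMod.freeMod X e) = grk (kernel lam) + grk ((Coh.push i).obj A) at h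
    have h3 : grk ((Coh.push i).obj A) = 0 := Module.finrank_zero_of_subsingleton
    have h2 : grk (FlatMod.freeMod X e) = e := finrank_generic_of_rank (rank_freeMod e)
    omega
  have hdeg : H28Int.D k [ClSub.idealMod i.ker] (kernel lam) =
      e * H28Int.D k [ClSub.idealMod i.ker] (Coh.structureModule X) -
        dot k (PicGrp.cls (ClSub.idealMod i.ker) hI) (PicGrp.cls (ClSub.idealMod i.ker) hI) := by
    have hadd := (isAddFn_deg k hI).add _ hS hFc hEc hPc
    change H28Int.D k [ClSub.idealMod i.ker] (FlatMod.freeMod X e) =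
      H28Int.D k [ClSub.idealMod i.ker] (kernel lam) + H28Int.D k [ClSub.idealMod i.ker] ((Coh.push i).obj A) at hadd
    rw [deg_free k hdim hI, deg_push k hdim hI hC.le i hi (H11Ample.isCoh_of_isInvertible hA),
      show grk A = 1 from finrank_generic_of_rank (H29RR.rank_one_of_isInvertible hA)] at hadd
    have h1 : H28Int.D k [ClSub.idealMod i.ker] ((Coh.push i).obj (Coh.structureModule C)) =
        dot k (PicGrp.cls (ClSub.idealMod i.ker) hI) (PicGrp.cls (ClSub.idealMod i.ker) hI) := by
      rw [(isAddFn_deg k hI).congr (H28Vert.quotModKerIso i).symm,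
        ← H28Surf.intNum_idealMod k hdim.le i.ker hI hI, intNum_eq_pr k hdim hI hI, ← dot_cls k hdim hI hI]
    rw [h1] at hadd
    push_cast at hadd
    linarith
  exact simple_kernel k hdim hH hK hI hgen hN hq i hηC hAf lam hF hF0 he hdeg φ

end Groth.Agent.H28RR.LazMuk
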