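import Groth.Agent.H28RR.LazMukDeg
import Groth.Agent.H10Coh.Stab.Simple
import Groth.Agent.H29RR.EvalPoint
import Groth.Agent.LeadDev.Basic
import Groth.Agent.H22Alg.ExtPowSES

/-! # Simplicity of Lazarsfeld-Mukai bundles on a K3 surface of Picard rank one -/

set_option autoImplicit false
set_option backward.isDefEq.respectTransparency.types false
set_option linter.style.haveILetI false
set_option linter.unusedSectionVars false

universe u

open CategoryTheory CategoryTheory.Limits AlgebraicGeometry TopologicalSpace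
open Groth.Agent Groth.Agent.H28RR.PicNum Groth.Agent.H28RR.ZariskiVol
open Groth.Agent.H28Surf hiding dot dot_mul_left dot_mul_right dot_pow_left

noncomputable section

namespace Groth.Agent.H28RR.LazMuk

attribute [local instance] H28Vert.picLaw

section misc

variable {X : Scheme.{u}}

theorem stalkLinZero {A B : X.Modules} (x : X) (v : A.presheaf.stalk x) :
    H06Mod.stalkLin (0 : A ⟶ B) x v = 0 := by
  obtain ⟨V, hV, s, rfl⟩ := TopCat.Presheaf.exists_germ_eq _ v
  rw [H06Mod.stalkLin_germ]
  exact map_zero _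

theorem stalkLinId {A : X.Modules} (x : X) (v : A.presheaf.stalk x) : H06Mod.stalkLin (𝟙 A) x v = v := by
  obtain ⟨V, hV, s, rfl⟩ := TopCat.Presheaf.exists_germ_eq _ v
  rw [H06Mod.stalkLin_germ]
  rfl

/-- A morphism out of a coherent torsion-free module injective at the generic point is a monomorphism. -/
theorem mono_of_injective [IsIntegral X] [IsLocallyNoetherian X] {A B : X.Modules} (hA : Coh.IsCoh A)
    (htA : TorSh.IsTorsionFree A) (φ : A ⟶ B) (h : Function.Injective (H06Mod.stalkLin φ (genericPoint X))) :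
    Mono φ :=
  Preadditive.mono_of_kernel_zero (eq_zero_of_generic hA htA _ fun a => h (by
    rw [map_zero, ← H29RR.stalkLin_comp, kernel.condition]
    exact stalkLinZero _ _))

theorem torsionFree_of_mono {A B : X.Modules} (m : A ⟶ B) [Mono m] (h : TorSh.IsTorsionFree B) :
    TorSh.IsTorsionFree A := fun x =>
  haveI := h x
  Function.Injective.moduleIsTorsionFree (H06Mod.stalkLin m x) (LeadDev.stalk_injective_of_mono m x) fun r v =>
    map_smul _ r v

/-- Without sections there are no morphisms from the structure sheaf. -/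
theorem hom_structure_eq_zero {F : X.Modules} (h : Subsingleton (Coh.HH X F 0)) (f : Coh.structureModule X ⟶ F) :
    f = 0 := by
  haveI := h
  haveI : Subsingleton Γ(F, ⊤) := (H10Coh.HH0Equiv F).symm.toEquiv.subsingleton
  exact H22Alg.ExtPowSES.eq_zero_of_app_one f (Subsingleton.elim (α := Γ(F, ⊤)) _ _)

theorem hom_free_eq_zero {F : X.Modules} (h : Subsingleton (Coh.HH X F 0)) {r : ℕ} (f : FlatMod.freeMod X r ⟶ F) :
    f = 0 :=
  Sigma.hom_ext _ _ fun j => (hom_structure_eq_zero h _).trans comp_zero.symm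

end misc

section extension

variable (k : Type u) [Field k] [IsAlgClosed k]
variable {X : Scheme.{u}} [X.Over (Spec (CommRingCat.of k))] [IsIntegral X]
  [Smooth (X ↘ Spec (CommRingCat.of k))] [IsProper (X ↘ Spec (CommRingCat.of k))]
  (hdim : topologicalKrullDim X = 2)
  {H : X.Modules} (hH : CohB1.IsAmple H)
  (hK : ExtPow.IsExtPow 2 (Omega.sheaf (X ↘ Spec (CommRingCat.of k))) (Coh.structureModule X))

include hdim hH hK

/-- Morphisms into free modules extend across finitely many closed points. -/
theorem exists_extension {S : ShortComplex X.Modules} (hS : S.ShortExact) (h₃ : Coh.IsCoh S.X₃) {U : Set X}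
    (hfin : U.Finite) (hcl : ∀ z ∈ U, IsClosed ({z} : Set X)) (hsupp : CohB1.support S.X₃ ⊆ U) {e : ℕ}
    (b : S.X₁ ⟶ FlatMod.freeMod X e) : ∃ φ : S.X₂ ⟶ FlatMod.freeMod X e, S.f ≫ φ = b := by
  haveI := H28Int.isNoetherian k (X := X)
  haveI := H27CurveDiv.smoothOfRelativeDimension_of_dim (X ↘ Spec (CommRingCat.of k)) 2 hdim
  haveI : IsGrothendieckAbelian.{u} X.Modules := H10Coh.isGrothendieckAbelian_sheafOfModules _
  haveI : EnoughInjectives X.Modules := inferInstance
  haveI : HasExt.{u} X.Modules := inferInstance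
  obtain ⟨N, ι, hι, hιk⟩ := H22Alg.CurveProj.exists_closedImmersion k X hH
  obtain ⟨E⟩ := H17.FLI.nonempty_ext_linearEquiv_dual ι hιk hK h₃ (i := 1) (by norm_num)
  have h1 : Subsingleton (Coh.HH X S.X₃ 1) := H25Par.subsingleton_HH_of_finite_support _ hfin hcl
    (fun y hy => not_not.1 fun h => hy (hsupp h)) one_pos
  haveI : Subsingleton (Module.Dual k (Coh.HH X S.X₃ (2 - 1))) :=
    ⟨fun a b => LinearMap.ext fun x => by
      rw [show x = 0 from h1.elim _ _, map_zero, map_zero]⟩
  haveI hext : Subsingleton (Abelian.Ext.{u} S.X₃ (Coh.structureModule X) 1) := E.toEquiv.subsingleton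
  let p : Fin e → (FlatMod.freeMod X e ⟶ Coh.structureModule X) := fun i =>
    Sigma.desc fun j => if j = i then 𝟙 _ else 0
  have h : ∀ i, ∃ g : S.X₂ ⟶ Coh.structureModule X, S.f ≫ g = b ≫ p i := fun i => by
    obtain ⟨x₂, hx⟩ := Abelian.Ext.contravariant_sequence_exact₁ hS (Coh.structureModule X)
      (Abelian.Ext.mk₀ (b ≫ p i)) (add_zero 1) (hext.elim _ _)
    obtain ⟨g, rfl⟩ := (Abelian.Ext.mk₀_bijective _ _).2 x₂
    refine ⟨g, (Abelian.Ext.mk₀_bijective _ _).1 ?_⟩
    rw [← Abelian.Ext.mk₀_comp_mk₀]
    exact hx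
  choose g hg using h
  refine ⟨∑ i, g i ≫ Sigma.ι (fun _ : Fin e => Coh.structureModule X) i, ?_⟩
  rw [Preadditive.comp_sum]
  simp only [← Category.assoc, hg]
  simp only [Category.assoc]
  rw [← Preadditive.comp_sum]
  refine (congrArg (b ≫ ·) ?_).trans (Category.comp_id b)
  refine Sigma.hom_ext _ _ fun j => ?_
  rw [Preadditive.comp_sum, Finset.sum_eq_single j]
  · simp [p]
  · intro i _ hij
    simp [p, Ne.symm hij]
  · intro h; exact absurd (Finset.mem_univ j) h

end extension

section coordinates

variable {X : Scheme.{u}} [IsIntegral X] [IsLocallyNoetherian X]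

/-- A submodule of a free module projects isomorphically at the generic point onto a smaller free module. -/
theorem exists_projection {K : X.Modules} (hK : Coh.IsCoh K) {e : ℕ} (b : K ⟶ FlatMod.freeMod X e) [Mono b] :
    ∃ q : FlatMod.freeMod X e ⟶ FlatMod.freeMod X (grk K),
      Function.Bijective (H06Mod.stalkLin (b ≫ q) (genericPoint X)) := by
  let η := genericPoint X
  letI : Field (X.presheaf.stalk η) := inferInstanceAs (Field X.functionField)
  haveI := H29Ref.finite_stalk K hK.2 η
  let p : ∀ {n : ℕ}, Fin n → (FlatMod.freeMod X n ⟶ Coh.structureModule X) := fun i =>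
    Sigma.desc fun j => if j = i then 𝟙 _ else 0
  have htot : ∀ n : ℕ, ∑ i, p i ≫ Sigma.ι (fun _ : Fin n => Coh.structureModule X) i = 𝟙 (FlatMod.freeMod X n) := by
    intro n
    refine Sigma.hom_ext _ _ fun j => ?_
    rw [Preadditive.comp_sum, Finset.sum_eq_single j]
    · simp [p]
    · intro i _ hij
      simp [p, Ne.symm hij]
    · intro h; exact absurd (Finset.mem_univ j) h
  have hjoint : ∀ {n : ℕ} (v : (FlatMod.freeMod X n).presheaf.stalk η),
      (∀ i, H06Mod.stalkLin (p i) η v = 0) → v = 0 := by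
    intro n v hv
    have hsum : ∀ (s : Finset (Fin n)),
        H06Mod.stalkLin (∑ i ∈ s, p i ≫ Sigma.ι (fun _ : Fin n => Coh.structureModule X) i) η v = 0 := by
      intro s
      induction s using Finset.induction_on with
      | empty => rw [Finset.sum_empty]; exact stalkLinZero _ _
      | insert a s ha ih =>
        rw [Finset.sum_insert ha, H29RR.stalkLin_add, ih, add_zero]
        exact (H29RR.stalkLin_comp _ _ _ v).trans (by rw [hv a]; exact map_zero _)
    have h2 := hsum Finset.univ
    rw [htot] at h2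
    exact (stalkLinId η v).symm.trans h2
  let u := (H29Ref.unitEquiv (X := X) η).symm
  let l : Fin e → Module.Dual (X.presheaf.stalk η) (K.presheaf.stalk η) := fun a =>
    u.toLinearMap.comp (H06Mod.stalkLin (b ≫ p a) η)
  have hspan : Submodule.span (X.presheaf.stalk η) (Set.range l) = ⊤ := by
    rw [← Subspace.dualCoannihilator_dualAnnihilator_eq (W := Submodule.span (X.presheaf.stalk η) (Set.range l))]
    have hbot : (Submodule.span (X.presheaf.stalk η) (Set.range l)).dualCoannihilator = ⊥ := by
      refine (Submodule.eq_bot_iff _).2 fun v hv => LeadDev.stalk_injective_of_mono b η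
        (Eq.trans (b := 0) ?_ (map_zero _).symm)
      refine hjoint _ fun i => ?_
      have h3 : l i v = 0 := (Submodule.mem_dualCoannihilator _ ).1 hv _ (Submodule.subset_span ⟨i, rfl⟩)
      exact (H29RR.stalkLin_comp _ _ _ v).symm.trans (u.map_eq_zero_iff.1 h3)
    rw [hbot, Submodule.dualAnnihilator_bot]
  obtain ⟨B, hBsub, hBspan, hBli⟩ := exists_linearIndependent (X.presheaf.stalk η) (Set.range l)
  haveI : Fintype B := (Set.finite_range l).subset hBsub |>.fintype
  have hcard : Fintype.card B = grk K := by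
    let bb : Module.Basis B (X.presheaf.stalk η) (Module.Dual (X.presheaf.stalk η) (K.presheaf.stalk η)) :=
      Module.Basis.mk hBli (by rw [Subtype.range_coe, hBspan, hspan])
    rw [← Module.finrank_eq_card_basis bb, Subspace.dual_finrank_eq]
    rfl
  let σ : Fin (grk K) ≃ B := (Fintype.equivFinOfCardEq hcard).symm
  choose a ha using fun t : B => hBsub t.2
  let q : FlatMod.freeMod X e ⟶ FlatMod.freeMod X (grk K) :=
    ∑ t, p (a (σ t)) ≫ Sigma.ι (fun _ : Fin (grk K) => Coh.structureModule X) t
  have hq : ∀ t, q ≫ p t = p (a (σ t)) := fun t => by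
    rw [Preadditive.sum_comp, Finset.sum_eq_single t]
    · simp [p]
    · intro i _ hit
      simp [p, hit]
    · intro h; exact absurd (Finset.mem_univ t) h
  refine ⟨q, ?_⟩
  have hinj : Function.Injective (H06Mod.stalkLin (b ≫ q) η) := by
    rw [injective_iff_map_eq_zero]
    intro v hv
    refine (Module.forall_dual_apply_eq_zero_iff (X.presheaf.stalk η) v).1 fun φ => ?_
    have hφ : φ ∈ Submodule.span (X.presheaf.stalk η) B := by rw [hBspan, hspan]; trivial
    induction hφ using Submodule.span_induction with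
    | mem φ hφ =>
      obtain ⟨t, ht⟩ := σ.surjective ⟨φ, hφ⟩
      have hl : l (a (σ t)) = φ := by rw [ha (σ t), ht]
      rw [← hl]
      show u (H06Mod.stalkLin (b ≫ p (a (σ t))) η v) = 0
      rw [← hq t, ← Category.assoc]
      rw [H29RR.stalkLin_comp, hv, map_zero, map_zero]
    | zero => rfl
    | add x y _ _ hx hy => rw [LinearMap.add_apply, hx, hy, add_zero]
    | smul r x _ hx => rw [LinearMap.smul_apply, hx, smul_zero]
  haveI := H29Ref.finite_stalk _ (H16Derived.KFlat.Stalk.isCoh_of_isFinLocFree
    (H22Alg.KModel.finLocFree_free (X := X) (grk K))).2 η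
  refine ⟨hinj, (LinearMap.injective_iff_surjective_of_finrank_eq_finrank ?_).1 hinj⟩
  exact (finrank_generic_of_rank (rank_freeMod (grk K))).symm

end coordinates

section main

variable (k : Type u) [Field k] [IsAlgClosed k]
variable {X : Scheme.{u}} [X.Over (Spec (CommRingCat.of k))] [IsIntegral X]
  [Smooth (X ↘ Spec (CommRingCat.of k))] [IsProper (X ↘ Spec (CommRingCat.of k))]
  (hdim : topologicalKrullDim X = 2)
  {H : X.Modules} (hH : CohB1.IsAmple H)
  (hK : ExtPow.IsExtPow 2 (Omega.sheaf (X ↘ Spec (CommRingCat.of k))) (Coh.structureModule X))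
  {I : X.Modules} (hI : PicF.IsInvertible I)
  (hgen : ∀ c : PicLoc.PicSet X, ∃ n : ℤ, c = PicGrp.cls I hI ^ n)
  (hN : CohB1.IsAmple (rep (PicGrp.cls I hI)⁻¹))
  (hq : 0 < dot k (PicGrp.cls I hI) (PicGrp.cls I hI))

include hdim hH hK hgen hN hq

/-- A nonzero submodule of the kernel has degree at most `s·δ(O) - I²`. -/
theorem deg_sub_le {C : Scheme.{u}} [IsIntegral C] [IsLocallyNoetherian C] (i : C ⟶ X) [IsClosedImmersion i]
    (hiC : ¬ IsClosed ({i (genericPoint C)} : Set X)) {A : C.Modules} (hA : FlatMod.IsFinLocFree A) {e : ℕ}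
    (lam : FlatMod.freeMod X e ⟶ (Coh.push i).obj A) (hF0 : Subsingleton (Coh.HH X (kernel lam) 0))
    {K : X.Modules} (hKc : Coh.IsCoh K) (a : K ⟶ kernel lam) [Mono a] (hs : 1 ≤ grk K) :
    H28Int.D k [I] K ≤ grk K * H28Int.D k [I] (Coh.structureModule X) -
      dot k (PicGrp.cls I hI) (PicGrp.cls I hI) := by
  haveI := H28Int.isNoetherian k (X := X)
  have hfree := fun n => H22Alg.KModel.finLocFree_free (X := X) n
  have hfc := fun n => H16Derived.KFlat.Stalk.isCoh_of_isFinLocFree (hfree n)
  let b := a ≫ kernel.ι lam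
  haveI : Mono b := mono_comp _ _
  obtain ⟨q, hbij⟩ := exists_projection hKc b
  have hKt : TorSh.IsTorsionFree K := torsionFree_of_mono b (torsionFree_of_finLocFree (hfree e))
  haveI : Mono (b ≫ q) := mono_of_injective hKc hKt _ hbij.1
  let S := ShortComplex.mk (b ≫ q) (cokernel.π (b ≫ q)) (cokernel.condition _)
  have hS : S.ShortExact := { exact := ShortComplex.exact_cokernel _ }
  have hT : Coh.IsCoh S.X₃ := H10Coh.isCoh_cokernel _ hKc.1 (hfc _)
  have hη : genericPoint X ∉ CohB1.support S.X₃ := fun h => h <| by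
    refine subsingleton_of_forall_eq 0 fun t => ?_
    obtain ⟨v, rfl⟩ := H06Mod.stalk_surjective S hS _ t
    obtain ⟨w, rfl⟩ := hbij.2 v
    refine (H29RR.stalkLin_comp (b ≫ q) (cokernel.π (b ≫ q)) _ w).symm.trans ?_
    rw [cokernel.condition]
    exact stalkLinZero _ _
  have hadd := (isAddFn_deg k hI).add S hS hKc (hfc _) hT
  change H28Int.D k [I] (FlatMod.freeMod X (grk K)) = H28Int.D k [I] K + H28Int.D k [I] S.X₃ at hadd
  rw [deg_free k hdim hI] at hadd
  by_cases hcl : ∀ ζ ∈ CohB1.support S.X₃, IsClosed ({ζ} : Set X)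
  · exfalso
    have hfin := finite_of_forall_isClosed (H10Coh.isClosed_support _ hT.2) hcl
    obtain ⟨φ, hφ⟩ := exists_extension k hdim hH hK hS hT hfin hcl le_rfl b
    have hz : S.f ≫ φ ≫ lam = 0 := by rw [← Category.assoc, hφ, Category.assoc, kernel.condition, comp_zero]
    have hd : φ ≫ lam = 0 := by
      let f : S.X₃ ⟶ (Coh.push i).obj A := cokernel.desc (b ≫ q) (φ ≫ lam) hz
      have hf : f = 0 := eq_zero_of_finite_to_push i hA (fun h => hiC (hcl _ h)) f
      have : cokernel.π (b ≫ q) ≫ f = φ ≫ lam := cokernel.π_desc _ _ _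
      rw [hf, comp_zero] at this
      exact this.symm
    have hψ := hom_free_eq_zero hF0 (kernel.lift lam φ hd)
    have hφ0 : φ = 0 := by rw [← kernel.lift_ι lam φ hd, hψ, zero_comp]
    have hb0 : b = 0 := by rw [← hφ, hφ0, comp_zero]
    have hz0 : IsZero K := (IsZero.iff_id_eq_zero _).2 ((cancel_mono b).1 (by rw [hb0, comp_zero, comp_zero]))
    have hsub : Subsingleton (K.presheaf.stalk (genericPoint X)) := subsingleton_of_forall_eq 0 fun v => by
      rw [← stalkLinId _ v, hz0.eq_of_src (𝟙 K) 0]
      exact stalkLinZero _ _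
    have : grk K = 0 := Module.finrank_zero_of_subsingleton
    omega
  · push Not at hcl
    obtain ⟨ζ, hζ, hζc⟩ := hcl
    have h := deg_torsion_ge k hdim hI hgen hN hq hT hη hζ hζc
    linarith

/-- Every endomorphism of the kernel is a scalar. -/
theorem simple_kernel {C : Scheme.{u}} [IsIntegral C] [IsLocallyNoetherian C] (i : C ⟶ X) [IsClosedImmersion i]
    (hiC : ¬ IsClosed ({i (genericPoint C)} : Set X)) {A : C.Modules} (hA : FlatMod.IsFinLocFree A) {e : ℕ}
    (lam : FlatMod.freeMod X e ⟶ (Coh.push i).obj A) [Epi lam] (hF : FlatMod.IsFinLocFree (kernel lam))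
    (hF0 : Subsingleton (Coh.HH X (kernel lam) 0)) (he : grk (kernel lam) = e)
    (hdeg : H28Int.D k [I] (kernel lam) = e * H28Int.D k [I] (Coh.structureModule X) -
      dot k (PicGrp.cls I hI) (PicGrp.cls I hI)) (φ : kernel lam ⟶ kernel lam) :
    ∃ c : k, φ = Formal.smulMod k (kernel lam) c := by
  haveI := H28Int.isNoetherian k (X := X)
  have hFc := H16Derived.KFlat.Stalk.isCoh_of_isFinLocFree hF
  have hFt : TorSh.IsTorsionFree (kernel lam) := torsionFree_of_finLocFree hF
  by_cases h0 : IsZero (kernel lam)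
  · exact ⟨0, h0.eq_of_src _ _⟩
  obtain ⟨c, hc⟩ := H10Coh.Stab.exists_scalar_not_isIso k hFc h0 φ
  refine ⟨c, sub_eq_zero.1 (by_contra fun hψ => hc ?_)⟩
  clear hc
  generalize φ - Formal.smulMod k (kernel lam) c = ψ at hψ ⊢
  by_cases hinj : Function.Injective (H06Mod.stalkLin ψ (genericPoint X))
  · -- generically injective: an isomorphism
    haveI : Mono ψ := mono_of_injective hFc hFt ψ hinj
    let S := ShortComplex.mk ψ (cokernel.π ψ) (cokernel.condition _)
    have hS : S.ShortExact := { exact := ShortComplex.exact_cokernel _ }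
    have hT : Coh.IsCoh S.X₃ := H10Coh.isCoh_cokernel _ hFc.1 hFc
    have hg := grk_add hS hFc
    change grk (kernel lam) = grk (kernel lam) + grk S.X₃ at hg
    have hη : genericPoint X ∉ CohB1.support S.X₃ := fun h => h <| by
      letI : Field (X.presheaf.stalk (genericPoint X)) := inferInstanceAs (Field X.functionField)
      haveI := H29Ref.finite_stalk S.X₃ hT.2 (genericPoint X)
      exact Module.finrank_zero_iff.1 (show grk S.X₃ = 0 by omega)
    have hadd := (isAddFn_deg k hI).add S hS hFc hFc hT
    change H28Int.D k [I] (kernel lam) = H28Int.D k [I] (kernel lam) + H28Int.D k [I] S.X₃ at hadd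
    have hcl : ∀ ζ ∈ CohB1.support S.X₃, IsClosed ({ζ} : Set X) := fun ζ hζ => by_contra fun hζc => by
      have := deg_torsion_ge k hdim hI hgen hN hq hT hη hζ hζc
      omega
    have hfin := finite_of_forall_isClosed (H10Coh.isClosed_support _ hT.2) hcl
    have hoff : ∀ y, y ∉ CohB1.support S.X₃ → Subsingleton (S.X₃.presheaf.stalk y) := fun y hy => not_not.1 hy
    have hχ := H25Euler.euler_add (k := k) hS hFc hFc hT
    change Curv2.euler k X (kernel lam) = Curv2.euler k X (kernel lam) + Curv2.euler k X S.X₃ at hχ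
    rw [H25Euler.euler_eq_sum S.X₃ 1 fun p hp =>
      H25Par.subsingleton_HH_of_finite_support _ hfin hcl hoff hp, Finset.sum_range_one, pow_zero, one_mul] at hχ
    haveI := H10Coh.finite_HH_proper k X _ hT 0
    have hT0 : Subsingleton (Coh.HH X S.X₃ 0) := (Module.finrank_zero_iff (R := k)).1 (by omega)
    haveI : Epi ψ := Preadditive.epi_of_cokernel_zero (Scheme.Modules.hom_ext _ _ fun U => by
      ext s
      refine TopCat.Presheaf.section_ext (⟨S.X₃.presheaf, S.X₃.isSheaf⟩ : TopCat.Sheaf Ab.{u} X) U _ _ fun y hy => ?_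
      exact (subsingleton_stalk_of_h0 _ hfin hcl hoff hT0 y).elim _ _)
    exact isIso_of_mono_of_epi ψ
  · -- otherwise both the kernel and the image have small degree
    exfalso
    let π := Abelian.factorThruImage ψ
    let ι' := Abelian.image.ι ψ
    let S := ShortComplex.mk (kernel.ι π) π (kernel.condition _)
    have hS : S.ShortExact := { exact := ShortComplex.exact_of_f_is_kernel _ (kernelIsKernel π) }
    have hIm : Coh.IsCoh (Abelian.image ψ) := H10Coh.isCoh_kernel _ hFc (H10Coh.isCoh_cokernel ψ hFc.1 hFc).1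
    have hKc : Coh.IsCoh (kernel π) := H22Alg.KLFRes.isCoh_left hS hFc hIm
    have hg := grk_add hS hFc
    change grk (kernel lam) = grk (kernel π) + grk (Abelian.image ψ) at hg
    have hI1 : 1 ≤ grk (Abelian.image ψ) := by
      by_contra h
      letI : Field (X.presheaf.stalk (genericPoint X)) := inferInstanceAs (Field X.functionField)
      haveI := H29Ref.finite_stalk _ hIm.2 (genericPoint X)
      haveI : Subsingleton ((Abelian.image ψ).presheaf.stalk (genericPoint X)) :=
        Module.finrank_zero_iff.1 (show grk (Abelian.image ψ) = 0 by omega)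
      refine hψ (eq_zero_of_generic hFc hFt ψ fun v => ?_)
      rw [← Abelian.image.fac ψ, H29RR.stalkLin_comp,
        Subsingleton.elim (H06Mod.stalkLin (Abelian.factorThruImage ψ) (genericPoint X) v) 0, map_zero]
    have hK1 : 1 ≤ grk (kernel π) := by
      by_contra h
      letI : Field (X.presheaf.stalk (genericPoint X)) := inferInstanceAs (Field X.functionField)
      haveI := H29Ref.finite_stalk _ hKc.2 (genericPoint X)
      haveI : Subsingleton ((kernel π).presheaf.stalk (genericPoint X)) :=
        Module.finrank_zero_iff.1 (show grk (kernel π) = 0 by omega)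
      refine hinj ((injective_iff_map_eq_zero _).2 fun v hv => ?_)
      have hv' : H06Mod.stalkLin π (genericPoint X) v = 0 := LeadDev.stalk_injective_of_mono ι' _
        (Eq.trans (b := 0) ((H29RR.stalkLin_comp π ι' _ v).symm.trans (by rw [Abelian.image.fac]; exact hv))
          (map_zero _).symm)
      obtain ⟨w, rfl⟩ := (H06Mod.stalk_exact S hS _ v).1 hv'
      rw [Subsingleton.elim (α := (kernel π).presheaf.stalk (genericPoint X)) w 0, map_zero]
    have hadd := (isAddFn_deg k hI).add S hS hKc hFc hIm
    change H28Int.D k [I] (kernel lam) = H28Int.D k [I] (kernel π) + H28Int.D k [I] (Abelian.image ψ) at hadd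
    have h1 := deg_sub_le k hdim hH hK hI hgen hN hq i hiC hA lam hF0 hKc (kernel.ι π) hK1
    have h2 := deg_sub_le k hdim hH hK hI hgen hN hq i hiC hA lam hF0 hIm ι' hI1
    have hee : (e : ℤ) = grk (kernel π) + grk (Abelian.image ψ) := by exact_mod_cast he.symm.trans hg
    rw [hdeg, hee] at hadd
    nlinarith

end main

end Groth.Agent.H28RR.LazMuk
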