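import Groth.Agent.H22Alg.IntPush
import Groth.Agent.H11Div.AmpleDiff
import Groth.Agent.H28Surf.Cycle
import Groth.Agent.H10Coh.QCohOps

/-!
# Euler characteristics and modifications of surfaces

For a proper morphism `h` of a projective surface which is an isomorphism off finitely many points an
effective ample divisor containing no contracted curve is finite over the target, so twisting by it
compares `χ` upstairs with `χ` of the direct image up to a cokernel supported at finitely many points.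
-/

set_option autoImplicit false
set_option linter.style.haveILetI false
set_option linter.unusedSectionVars false
set_option backward.isDefEq.respectTransparency.types false
universe u

open CategoryTheory CategoryTheory.Limits AlgebraicGeometry Opposite TopologicalSpace

noncomputable section

namespace Groth.Agent.H28RR.LeraySurf

open Groth.Agent.H28Int

variable {W X : Scheme.{u}}

/-- A finite set of points avoiding which makes closed subsets of a small closed set finite. -/
theorem finite_of_avoid [NoetherianSpace W] {F : Set W} (hF : IsClosed F)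
    (hd : topologicalKrullDim F ≤ ((1 : ℕ) : WithBot ℕ∞)) :
    ∃ T : Set W, T.Finite ∧ ∀ S : Set W, IsClosed S → S ⊆ F → Disjoint S T → S.Finite := by
  haveI : QuasiSober F := hF.isClosedEmbedding_subtypeVal.quasiSober
  haveI : NoetherianSpace F := NoetherianSpace.set F
  refine ⟨Subtype.val '' {x : F | closure {x} ∈ irreducibleComponents F}, ?_, fun S hS hSF hdis => ?_⟩
  · refine Set.Finite.image _ ?_
    refine Set.Finite.of_finite_image (f := fun x : F => closure ({x} : Set F)) ?_ ?_
    · exact NoetherianSpace.finite_irreducibleComponents.subset (by rintro _ ⟨x, hx, rfl⟩; exact hx)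
    · intro a _ b _ hab
      exact (isGenericPoint_def.2 hab).eq (isGenericPoint_def.2 rfl)
  have hclosed : ∀ x ∈ S, IsClosed ({x} : Set W) := by
    intro x hx
    by_contra hnc
    obtain ⟨y, hy, hyx⟩ : ∃ y ∈ closure ({x} : Set W), y ≠ x := by
      by_contra hno
      push Not at hno
      refine hnc ?_
      rw [show ({x} : Set W) = closure {x} from subset_closure.antisymm hno]
      exact isClosed_closure
    let x' : F := ⟨x, hSF hx⟩
    let Y : Set F := irreducibleComponent x'
    have hY : Y ∈ irreducibleComponents F := irreducibleComponent_mem_irreducibleComponents x'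
    have hxY : x' ∈ Y := mem_irreducibleComponent
    have hYc : IsClosed Y := isClosed_of_mem_irreducibleComponents Y hY
    obtain ⟨η, hη⟩ := QuasiSober.sober hY.1 hYc
    have hηne : η.1 ≠ x := fun h => Set.disjoint_left.1 hdis hx ⟨η, by
      show closure ({η} : Set F) ∈ irreducibleComponents F
      rw [hη.def]; exact hY, h⟩
    have hspec : η.1 ⤳ x := ((hη.specializes hxY).map continuous_subtype_val)
    have hcy : topologicalKrullDim (closure ({x} : Set W)) < ((1 : ℕ) : WithBot ℕ∞) :=
      H22Alg.DevLength.dim_closure_lt hspec (Ne.symm hηne)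
        ((H28Int.dim_le_of_subset (closure_minimal (Set.singleton_subset_iff.2 η.2) hF)).trans hd)
    have h0 : topologicalKrullDim (closure ({y} : Set W)) < ((0 : ℕ) : WithBot ℕ∞) := by
      refine H22Alg.DevLength.dim_closure_lt (specializes_iff_mem_closure.2 hy) hyx ?_
      rcases hdim : topologicalKrullDim (closure ({x} : Set W)) with _ | n
      · exact bot_le
      · rw [hdim] at hcy
        have : n < ((0 + 1 : ℕ) : ℕ∞) := WithBot.coe_lt_coe.1 hcy
        exact WithBot.coe_le_coe.2 (ENat.lt_natCast_add_one_iff.1 (by exact_mod_cast this))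
    haveI : Nonempty (IrreducibleCloseds (closure ({y} : Set W))) :=
      ⟨⟨closure {(⟨y, subset_closure rfl⟩ : closure ({y} : Set W))}, isIrreducible_singleton.closure, isClosed_closure⟩⟩
    exact absurd h0 (not_lt.2 (by exact_mod_cast Order.krullDim_nonneg))
  haveI : NoetherianSpace S := NoetherianSpace.set S
  haveI : QuasiSober S := hS.isClosedEmbedding_subtypeVal.quasiSober
  have hfin : (Set.univ : Set S).Finite := by
    refine Set.Finite.of_finite_image (f := fun x : S => closure ({x} : Set S)) ?_ ?_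
    · refine NoetherianSpace.finite_irreducibleComponents.subset ?_
      rintro _ ⟨x, -, rfl⟩
      refine ⟨isIrreducible_singleton.closure, fun Z hZ hle z hz => ?_⟩
      obtain ⟨η, hη⟩ := QuasiSober.sober hZ.closure isClosed_closure
      have hxz : x = η := by
        have h1 : η ⤳ x := hη.specializes (subset_closure (hle (subset_closure rfl)))
        have h2 : (x : W) ∈ closure ({(η : W)} : Set W) := specializes_iff_mem_closure.1 (h1.map continuous_subtype_val)
        rw [(hclosed η η.2).closure_eq] at h2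
        exact Subtype.ext h2
      show z ∈ closure ({x} : Set S)
      rw [hxz, hη.def]
      exact subset_closure hz
    · intro a _ b _ hab
      exact (isGenericPoint_def.2 hab).eq (isGenericPoint_def.2 rfl)
  exact Set.finite_coe_iff.1 (Set.finite_univ_iff.1 hfin)

/-- Finite sets of closed points have dimension at most zero. -/
theorem dim_le_zero [JacobsonSpace X] {S : Set X} (hS : S.Finite) (hc : IsClosed S) :
    topologicalKrullDim S ≤ ((0 : ℕ) : WithBot ℕ∞) := by
  have hcl : IsClosed (S ∩ closedPoints X) := by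
    rw [← Set.biUnion_of_singleton (S ∩ closedPoints X)]
    exact (hS.subset Set.inter_subset_left).isClosed_biUnion fun z hz => hz.2
  have heq : closure (S ∩ closedPoints X) = closure S :=
    JacobsonSpace.closure_inter_closedPoints_eq_closure hc.isLocallyClosed
  rw [hcl.closure_eq, hc.closure_eq] at heq
  haveI : Finite S := hS.to_subtype
  haveI : T1Space S := ⟨fun x => by
    have hx : IsClosed ({x.1} : Set X) := (heq.ge x.2).2
    have h := hx.preimage continuous_subtype_val (f := ((↑) : S → X))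
    convert h
    ext y
    simp [Subtype.ext_iff]⟩
  refine Order.krullDim_nonpos_iff_forall_isMax.2 fun Z Z' hle => ?_
  have hdisc : DiscreteTopology S := inferInstance
  have hsub : ∀ Y : IrreducibleCloseds S, (Y : Set S).Subsingleton := fun Y a ha b hb => by
    by_contra hne
    obtain ⟨z, -, hz1, hz2⟩ := Y.isIrreducible.2 {a} {b} (isOpen_discrete _) (isOpen_discrete _)
      ⟨a, ha, rfl⟩ ⟨b, hb, rfl⟩
    exact hne ((Set.mem_singleton_iff.1 hz1).symm.trans (Set.mem_singleton_iff.1 hz2))
  intro a ha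
  obtain ⟨b, hb⟩ := Z.isIrreducible.nonempty
  exact (hsub Z' (hle hb) ha) ▸ hb

attribute [local instance 10000] H10Coh.hasSheafifyAb H10Coh.hasWeakSheafifyAb H10Coh.hasExtAb H10Coh.enoughInjAb

/-- A surjection on sections kills the first cohomology of the kernel, if that of the middle vanishes. -/
theorem subsingleton_H1_of_surjective {S : ShortComplex W.Modules} (hS : S.ShortExact) (V : W.Opens)
    (h₂ : Subsingleton (H10Coh.HnM S.X₂ 1 V)) (hs : Function.Surjective (S.g.app V)) :
    Subsingleton (H10Coh.HnM S.X₁ 1 V) := by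
  let S' := S.map (H10Coh.shF W)
  have hS' : S'.ShortExact := H10Coh.shortExact_sh hS
  haveI : Subsingleton (Abelian.Ext (H10Coh.Zsh V) S'.X₂ 1) := h₂
  refine H10Coh.subsingleton_ext_one (A := H10Coh.Zsh V) (S := S') hS' fun ψ => ?_
  obtain ⟨s, hs'⟩ := hs (H10Coh.sect V S'.X₃ ψ)
  refine ⟨(H10Coh.sect V S'.X₂).symm s, (H10Coh.sect V S'.X₃).injective ?_⟩
  show H10Coh.sect V S'.X₃ ((H10Coh.sect V S'.X₂).symm s ≫ S'.g) = _
  rw [H10Coh.sect_comp, AddEquiv.apply_symm_apply]
  exact hs'

variable (k : Type u) [Field k] [W.Over (Spec (CommRingCat.of k))] [X.Over (Spec (CommRingCat.of k))]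
  [IsProper (W ↘ Spec (CommRingCat.of k))] [IsProper (X ↘ Spec (CommRingCat.of k))]

include k in
/-- An effective ample divisor avoiding finitely many points. -/
theorem exists_divisor [IsIntegral W] {A : W.Modules} (hA : CohB1.IsAmple A) {T : Set W} (hT : T.Finite) :
    ∃ (B : W.Modules) (J : W.IdealSheafData), CohB1.IsAmple B ∧ BlowUp.IsEffCartierIdeal J ∧
      Disjoint T (J.support : Set W) ∧
      Nonempty (CohB1.tensorMod (ClSub.idealMod J) B ≅ Coh.structureModule W) := by
  haveI := H28Int.isNoetherian k (X := W)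
  haveI : QuasiSeparatedSpace W := quasiSeparatedSpace_of_quasiSeparated (W ↘ Spec (CommRingCat.of k))
  have hwfin : {y : W | Curv2.IsWeakAssPoint (Coh.structureModule W) y}.Finite :=
    H11Div.finite_weakAssPoints
  obtain ⟨a, g, ha, hg, -, -⟩ := H11Ample.exists_affine_gen_nhd_finite hA (hT.union hwfin) (U := ⊤)
    (fun _ _ => trivial)
  have hAi := (H11Ample.isAmple_iff.1 hA).1
  let B := CohB1.tensorPow A a
  have hB : CohB1.IsAmple B := (H11Ample.isAmple_tensorPow_iff hAi a ha).1 hA
  have hBi := H11Ample.isInvertible_tensorPow hAi a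
  obtain ⟨B', hB', ⟨e₀⟩⟩ := H11Sym.exists_inverse hBi
  let e : CohB1.tensorMod B B' ≅ Coh.structureModule W := H10Coh.Tw.commIso B B' ≪≫ e₀
  obtain ⟨J, hJ, ⟨eJ⟩, hd⟩ := H11Div.exists_effCartier_of_section hB' e g
    (fun y hy => hg (Or.inr hy))
  exact ⟨B, J, hB, hJ, (hd.mono_left fun y hy => hg (Or.inl hy)),
    ⟨PicGrp.tensorModIso eJ.symm (Iso.refl B) ≪≫ H10Coh.Tw.commIso B' B ≪≫ e⟩⟩

omit k [Field k] [W.Over (Spec (CommRingCat.of k))] [X.Over (Spec (CommRingCat.of k))] in
/-- Powers of an effective divisor. -/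
theorem divisor_pow {B : W.Modules} {J : W.IdealSheafData} (hJ : BlowUp.IsEffCartierIdeal J)
    (e : CohB1.tensorMod (ClSub.idealMod J) B ≅ Coh.structureModule W) (hB : PicF.IsInvertible B) :
    ∀ m : ℕ, BlowUp.IsEffCartierIdeal (J ^ (m + 1)) ∧
      ((J ^ (m + 1)).support : Set W) ⊆ J.support ∧
      Nonempty (CohB1.tensorMod (ClSub.idealMod (J ^ (m + 1))) (CohB1.tensorPow B (m + 1)) ≅ Coh.structureModule W) := by
  intro m
  induction m with
  | zero =>
    rw [pow_one]
    exact ⟨hJ, subset_rfl, ⟨PicGrp.tensorModIso (Iso.refl _) (H10Coh.Tw.leftUnitIso B) ≪≫ e⟩⟩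
  | succ m ih =>
    obtain ⟨h1, h2, ⟨e1⟩⟩ := ih
    rw [pow_succ]
    refine ⟨H28Vert.isEffCartierIdeal_mul h1 hJ, ?_, ?_⟩
    · rw [Scheme.IdealSheafData.support_mul]
      exact Set.union_subset h2 subset_rfl
    · obtain ⟨em⟩ := H28Vert.nonempty_idealMod_mul h1 hJ
      let P := CohB1.tensorPow B (m + 1)
      let I := ClSub.idealMod (J ^ (m + 1))
      let K := ClSub.idealMod J
      refine ⟨PicGrp.tensorModIso em.symm (Iso.refl (CohB1.tensorMod P B)) ≪≫ H10Coh.Tw.assoc I K _ ≪≫
        PicGrp.tensorModIso (Iso.refl I) ((H10Coh.Tw.assoc K P B).symm ≪≫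
          PicGrp.tensorModIso (H10Coh.Tw.commIso K P) (Iso.refl B) ≪≫ H10Coh.Tw.assoc P K B ≪≫
          PicGrp.tensorModIso (Iso.refl P) e ≪≫ H10Coh.Tw.rightUnitIso P) ≪≫ e1⟩

variable (h : W ⟶ X) (hh : h ≫ (X ↘ Spec (CommRingCat.of k)) = W ↘ Spec (CommRingCat.of k))

include hh in
/-- A push-forward from a divisor finite over the target keeps the Euler characteristic. -/
theorem euler_push_finite {J : W.IdealSheafData} [IsFinite (J.subschemeι ≫ h)] {M : W.Modules}
    (hM : PicF.IsInvertible M) :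
    Curv2.euler k X ((Coh.push h).obj (CohB1.tensorMod (ClSub.quotMod J) M)) =
      Curv2.euler k W (CohB1.tensorMod (ClSub.quotMod J) M) := by
  let i := J.subschemeι
  letI : J.subscheme.Over (Spec (CommRingCat.of k)) := ⟨i ≫ (W ↘ Spec (CommRingCat.of k))⟩
  haveI : ((Scheme.Modules.pullback i).obj M).IsQuasicoherent :=
    (H11Ample.isCoh_of_isInvertible (H11Ample.isInvertible_pullback i hM)).1
  haveI : (Coh.structureModule J.subscheme).IsQuasicoherent := H10Coh.isQuasicoherent_unit
  obtain ⟨e₀⟩ := H10Coh.Tw.nonempty_push_tensor_iso i (Coh.structureModule J.subscheme) hM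
  let e : CohB1.tensorMod (ClSub.quotMod J) M ≅ (Coh.push i).obj ((Scheme.Modules.pullback i).obj M) :=
    e₀ ≪≫ (Coh.push i).mapIso (H10Coh.Tw.leftUnitIso _)
  rw [H25Euler.euler_congr e, H25Euler.euler_congr ((Coh.push h).mapIso e ≪≫
      (Scheme.Modules.pushforwardComp i h).app _),
    H28Int.Push.euler_push k i rfl _]
  refine H28Int.Push.euler_push k (i ≫ h) ?_ _
  show (i ≫ h) ≫ _ = i ≫ _
  rw [Category.assoc, hh]

include hh in
/-- The twisting sequence: its direct image is exact up to a module supported off `U`. -/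
theorem exists_seq [IsIntegral W] {A : W.Modules} (hA : CohB1.IsAmple A)
    (hdW : topologicalKrullDim W ≤ ((2 : ℕ) : WithBot ℕ∞)) (U : X.Opens) (hU : ((U : Set X)ᶜ).Finite)
    [IsIso (h ∣_ U)] (hne : (h ⁻¹ᵁ U : Set W).Nonempty) (L : X.Modules) (hL : PicF.IsInvertible L) :
    ∃ S : ShortComplex W.Modules, S.ShortExact ∧ Nonempty (S.X₁ ≅ Coh.structureModule W) ∧
      Coh.IsCoh S.X₂ ∧ Coh.IsCoh S.X₃ ∧ Coh.IsCoh ((Coh.push h).obj S.X₂) ∧ Coh.IsCoh ((Coh.push h).obj S.X₃) ∧
      CohB1.support (cokernel ((Coh.push h).map S.g)) ⊆ (U : Set X)ᶜ ∧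
      (∀ V : X.Opens, IsAffineOpen V → Subsingleton (H10Coh.HnM S.X₂ 1 (h ⁻¹ᵁ V))) ∧
      (∀ Y : W.Modules, (Y = S.X₂ ∨ Y = S.X₃) → Curv2.euler k X ((Coh.push h).obj Y) = Curv2.euler k W Y ∧
        H28Int.D k [(Scheme.Modules.pullback h).obj L] Y = H28Int.D k [L] ((Coh.push h).obj Y)) := by
  classical
  haveI := H28Int.isNoetherian k (X := W)
  haveI := H28Int.isNoetherian k (X := X)
  haveI : IsProper h := by
    haveI : IsProper (h ≫ (X ↘ Spec (CommRingCat.of k))) := hh ▸ inferInstance
    exact IsProper.of_comp h (X ↘ Spec (CommRingCat.of k))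
  have hU' : IsIso (h ∣_ U) := inferInstance
  let F : Set W := h ⁻¹' (U : Set X)ᶜ
  have hFc : IsClosed F := U.2.isClosed_compl.preimage h.continuous
  have hgen : genericPoint W ∈ h ⁻¹ᵁ U :=
    let ⟨z, hz⟩ := hne; (genericPoint_specializes z).mem_open (h ⁻¹ᵁ U).2 hz
  have hFd : topologicalKrullDim F ≤ ((1 : ℕ) : WithBot ℕ∞) := by
    have hlt : topologicalKrullDim F < ((2 : ℕ) : WithBot ℕ∞) :=
      H28Int.dim_lt_of_notMem (C := Set.univ) (genericPoint_spec W)
        (Topology.IsInducing.subtypeVal.topologicalKrullDim_le.trans hdW) hFc (fun _ _ => trivial) (fun hg => hg hgen)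
    rcases hdim : topologicalKrullDim F with _ | n
    · exact bot_le
    · rw [hdim] at hlt
      have : n < ((1 + 1 : ℕ) : ℕ∞) := WithBot.coe_lt_coe.1 hlt
      exact WithBot.coe_le_coe.2 (ENat.lt_natCast_add_one_iff.1 (by exact_mod_cast this))
  obtain ⟨T, hT, hTF⟩ := finite_of_avoid hFc hFd
  obtain ⟨B, J, hB, hJ, hdis, ⟨eJ⟩⟩ := exists_divisor k hA hT
  have hBi := (H11Ample.isAmple_iff.1 hB).1
  have hO : Coh.IsCoh (Coh.structureModule W) := H10Coh.isCoh_structureModule' W
  have hpL : PicF.IsInvertible ((Scheme.Modules.pullback h).obj L) := H11Ample.isInvertible_pullback h hL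
  obtain ⟨m₁, hm₁⟩ := H22Alg.IntPush.exists_D_push k h hh hB [L] (by simpa using hL) (Coh.structureModule W) hO
  obtain ⟨m₂, hm₂⟩ := H22Alg.IntPush.exists_acyclic h hB (Coh.structureModule W) hO
  obtain ⟨m₃, hm₃⟩ := H22Alg.IntPush.exists_acyclic h hB ((Scheme.Modules.pullback h).obj L)
    (H11Ample.isCoh_of_isInvertible hpL)
  let m := max m₁ (max m₂ m₃)
  obtain ⟨hI, hIs, ⟨eI⟩⟩ := divisor_pow hJ eJ hBi m
  set I := J ^ (m + 1) with hIdef
  let P := CohB1.tensorPow B (m + 1)
  have hP : PicF.IsInvertible P := H11Ample.isInvertible_tensorPow hBi (m + 1)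
  -- the divisor is finite over the target
  have hIdis : Disjoint T (I.support : Set W) := hdis.mono_right hIs
  let i := I.subschemeι
  haveI : IsFinite (i ≫ h) := by
    haveI : LocallyQuasiFinite (i ≫ h) := by
      refine LocallyQuasiFinite.of_finite_preimage_singleton _ fun x => ?_
      have hpre : (i ≫ h) ⁻¹' {x} = i ⁻¹' (h ⁻¹' {x}) := rfl
      rw [hpre]
      by_cases hx : x ∈ U
      · refine Set.Finite.preimage i.isEmbedding.injective.injOn (Set.Subsingleton.finite fun a ha b hb => ?_)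
        have haU : a ∈ h ⁻¹ᵁ U := show h a ∈ U by rw [show h a = x from ha]; exact hx
        have hbU : b ∈ h ⁻¹ᵁ U := show h b ∈ U by rw [show h b = x from hb]; exact hx
        have := (h ∣_ U).homeomorph.injective (a₁ := ⟨a, haU⟩) (a₂ := ⟨b, hbU⟩) (Subtype.ext (by
          show (U.ι ((h ∣_ U) ⟨a, haU⟩) : X) = U.ι ((h ∣_ U) ⟨b, hbU⟩)
          rw [← Scheme.Hom.comp_apply, ← Scheme.Hom.comp_apply, morphismRestrict_ι, Scheme.Hom.comp_apply,
            Scheme.Hom.comp_apply]
          exact (show h a = x from ha).trans (show h b = x from hb).symm))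
        exact congrArg Subtype.val this
      · have hfin := hTF ((h ⁻¹' (U : Set X)ᶜ) ∩ (I.support : Set W)) (hFc.inter I.support.2) Set.inter_subset_left
          (hIdis.symm.mono_left Set.inter_subset_right)
        refine (hfin.preimage i.isEmbedding.injective.injOn).subset fun a ha => ?_
        exact ⟨fun hU'' => hx (by rw [← show h (i a) = x from ha]; exact hU''),
          by rw [← I.range_subschemeι]; exact ⟨a, rfl⟩⟩
    exact IsFinite.of_isProper_of_locallyQuasiFinite (i ≫ h)
  haveI : Epi (ClSub.toSubscheme I) := H10Coh.epi_toSubscheme I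
  let S₀ : ShortComplex W.Modules := ShortComplex.mk (ClSub.idealModι I) (ClSub.toSubscheme I) (kernel.condition _)
  have hS₀ : S₀.ShortExact := H10Coh.shortExact_kernel (ClSub.toSubscheme I)
  let S := S₀.map ((DCoh.tensorBi (X := W)).flip.obj P)
  have hS : S.ShortExact := H28Int.tensor_shortExact hS₀ hP
  have hX₂ : S.X₂ = CohB1.tensorMod (Coh.structureModule W) P := rfl
  have hX₃ : S.X₃ = CohB1.tensorMod (ClSub.quotMod I) P := rfl
  have hc₂ : Coh.IsCoh S.X₂ := H11Ample.isCoh_tensor hO hP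
  have hc₃ : Coh.IsCoh S.X₃ := H11Ample.isCoh_tensor (LeadDev.isCoh_push_structure I.subschemeι) hP
  have hpc : ∀ Y : W.Modules, Coh.IsCoh Y → Coh.IsCoh ((Coh.push h).obj Y) := fun Y hY =>
    H10Coh.isCoh_of_iso ((Scheme.Modules.pushforward h).rightDerivedZeroIsoSelf.app Y) (H10Coh.isCoh_rpush h Y hY 0)
  refine ⟨S, hS, ⟨eI⟩, hc₂, hc₃, hpc _ hc₂, hpc _ hc₃, ?_, fun V hV => hm₂ (m + 1) (by omega) V hV 1 one_pos, ?_⟩
  · intro x hx hxU
    refine (H25Euler.notMem_support_iff _ x).2 ?_ hx
    have haff : ∀ V : X.Opens, IsAffineOpen V → V ≤ U → IsAffineOpen (h ⁻¹ᵁ V) := by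
      intro V hV hVU
      let g := (h ∣_ U) ≫ U.ι
      have hle : V ≤ g.opensRange := fun y hy => by
        refine ⟨inv (h ∣_ U) ⟨y, hVU hy⟩, ?_⟩
        show U.ι ((h ∣_ U) (inv (h ∣_ U) ⟨y, hVU hy⟩)) = y
        rw [← Scheme.Hom.comp_apply (inv (h ∣_ U)) (h ∣_ U), IsIso.inv_hom_id]
        rfl
      have h1 : IsAffineOpen (g ⁻¹ᵁ V) := hV.preimage_of_isOpenImmersion g hle
      have h2 := h1.image_of_isOpenImmersion (h ⁻¹ᵁ U).ι
      have h3 : (h ⁻¹ᵁ U).ι ''ᵁ (g ⁻¹ᵁ V) = h ⁻¹ᵁ V := by
        rw [show g = (h ⁻¹ᵁ U).ι ≫ h from morphismRestrict_ι h U, Scheme.Hom.comp_preimage,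
          Scheme.Hom.image_preimage_eq_opensRange_inf, Scheme.Opens.opensRange_ι]
        exact inf_eq_right.2 fun z hz => hVU hz
      exact h3 ▸ h2
    haveI : S.X₂.IsQuasicoherent := hc₂.1
    haveI : S.X₃.IsQuasicoherent := hc₃.1
    haveI : Epi S.g := hS.epi_g
    let μ := (Coh.push h).map S.g
    have hepi : Epi ((DerSch.stalkFunctor X x).map μ) := by
      rw [ModuleCat.epi_iff_surjective]
      intro t
      obtain ⟨O, hxO, t, rfl⟩ := ((Coh.push h).obj S.X₃).presheaf.exists_germ_eq t
      obtain ⟨V', hV', hxV', hle⟩ := exists_isAffineOpen_mem_and_subset (U := O ⊓ U) (x := x) ⟨hxO, hxU⟩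
      have hsurj : Function.Surjective (μ.app V') := by
        refine fun z => ?_
        have hpre' : IsAffineOpen (h ⁻¹ᵁ V') := haff V' hV' fun y hy => (hle hy).2
        exact H10Coh.surjective_app_of_epi S.g hpre' z
      obtain ⟨s, hs⟩ := hsurj (((Coh.push h).obj S.X₃).presheaf.map
        (homOfLE (fun y hy => (hle hy).1 : V' ≤ O)).op t)
      refine ⟨((Coh.push h).obj S.X₂).presheaf.germ V' x hxV' s, ?_⟩
      refine (TopCat.Presheaf.stalkFunctor_map_germ_apply V' x hxV' μ.mapPresheaf s).trans ?_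
      refine (congrArg (((Coh.push h).obj S.X₃).presheaf.germ V' x hxV') hs).trans ?_
      exact TopCat.Presheaf.germ_res_apply _ _ _ _ _
    let π := cokernel.π μ
    have hE : (ShortComplex.mk (kernel.ι π) π (kernel.condition _)).ShortExact :=
      { exact := ShortComplex.exact_kernel _ }
    haveI := (hE.map_of_exact (DerSch.stalkFunctor X x)).epi_g
    haveI : Epi ((DerSch.stalkFunctor X x).map π) := this
    rw [IsZero.iff_id_eq_zero, ← cancel_epi ((DerSch.stalkFunctor X x).map π), comp_zero,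
      Category.comp_id, ← cancel_epi ((DerSch.stalkFunctor X x).map μ), ← Functor.map_comp,
      cokernel.condition, comp_zero, Functor.map_zero]
  · intro Y hY
    rcases hY with rfl | rfl
    · refine ⟨?_, hm₁ (m + 1) (by omega)⟩
      exact H22Alg.IntPush.euler_push k h hh _ (hm₂ (m + 1) (by omega))
    · refine ⟨euler_push_finite k h hh hP, ?_⟩
      obtain ⟨eL⟩ := H10Coh.Tw.nonempty_push_tensor_iso h S.X₃ hL
      have e₁ : CohB1.tensorMod S.X₃ ((Scheme.Modules.pullback h).obj L) ≅
          CohB1.tensorMod (ClSub.quotMod I) (CohB1.tensorMod P ((Scheme.Modules.pullback h).obj L)) :=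
        H10Coh.Tw.assoc (ClSub.quotMod I) P _
      show Curv2.euler k W _ - Curv2.euler k W _ = Curv2.euler k X _ - Curv2.euler k X _
      rw [H25Euler.euler_congr (H10Coh.Tw.commIso ((Scheme.Modules.pullback h).obj L) S.X₃ ≪≫ e₁),
        H25Euler.euler_congr (H10Coh.Tw.commIso L ((Coh.push h).obj S.X₃) ≪≫ eL ≪≫ (Coh.push h).mapIso e₁),
        euler_push_finite k h hh (H11Ample.isInvertible_tensor hP hpL), hX₃, euler_push_finite k h hh hP]

include hh in
/-- Euler characteristics upstairs and downstairs differ by a module supported off `U`. -/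
theorem exists_defect [IsIntegral W] {A : W.Modules} (hA : CohB1.IsAmple A)
    (hdW : topologicalKrullDim W ≤ ((2 : ℕ) : WithBot ℕ∞)) (U : X.Opens) (hU : ((U : Set X)ᶜ).Finite)
    [IsIso (h ∣_ U)] (hne : (h ⁻¹ᵁ U : Set W).Nonempty) (L : X.Modules) (hL : PicF.IsInvertible L) :
    ∃ K : X.Modules, Coh.IsCoh K ∧ CohB1.support K ⊆ (U : Set X)ᶜ ∧
      Coh.IsCoh ((Coh.push h).obj (Coh.structureModule W)) ∧
      Curv2.euler k W (Coh.structureModule W) =
        Curv2.euler k X ((Coh.push h).obj (Coh.structureModule W)) - Curv2.euler k X K ∧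
      H28Int.D k [(Scheme.Modules.pullback h).obj L] (Coh.structureModule W) =
        H28Int.D k [L] ((Coh.push h).obj (Coh.structureModule W)) ∧
      (IsZero K → ∀ V : X.Opens, IsAffineOpen V →
        Subsingleton (H10Coh.HnM (Coh.structureModule W) 1 (h ⁻¹ᵁ V))) ∧
      ((∀ (x : X) (O : X.Opens), x ∈ O → ∃ V : X.Opens, IsAffineOpen V ∧ x ∈ V ∧ V ≤ O ∧
        Subsingleton (H10Coh.HnM (Coh.structureModule W) 1 (h ⁻¹ᵁ V))) → IsZero K) := by
  classical
  haveI := H28Int.isNoetherian k (X := W)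
  haveI := H28Int.isNoetherian k (X := X)
  haveI : IsProper h := by
    haveI : IsProper (h ≫ (X ↘ Spec (CommRingCat.of k))) := hh ▸ inferInstance
    exact IsProper.of_comp h (X ↘ Spec (CommRingCat.of k))
  obtain ⟨S, hS, ⟨e₁⟩, hc₂, hc₃, hp₂, hp₃, hsupp, hac, hY⟩ := exists_seq k h hh hA hdW U hU hne L hL
  let P := Coh.push h
  haveI : (Scheme.Modules.pushforward h).IsRightAdjoint :=
    (Scheme.Modules.pullbackPushforwardAdjunction h).isRightAdjoint
  have hO : Coh.IsCoh (Coh.structureModule W) := H10Coh.isCoh_structureModule' W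
  have hp₁ : Coh.IsCoh (P.obj (Coh.structureModule W)) :=
    H10Coh.isCoh_of_iso ((Scheme.Modules.pushforward h).rightDerivedZeroIsoSelf.app _) (H10Coh.isCoh_rpush h _ hO 0)
  have hp₁' : Coh.IsCoh (P.obj S.X₁) := H10Coh.isCoh_of_iso (P.mapIso e₁.symm) hp₁
  haveI : Mono S.f := hS.mono_f
  have hex := hS.exact.map_of_mono_of_preservesKernel P inferInstance inferInstance
  haveI : Mono (P.map S.f) := inferInstance
  let μ := P.map S.g
  have hw : P.map S.f ≫ μ = 0 := by rw [← Functor.map_comp, S.zero, Functor.map_zero]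
  let c : cokernel (P.map S.f) ⟶ P.obj S.X₃ := cokernel.desc _ μ hw
  haveI : Mono c := hex.mono_cokernelDesc
  let K := cokernel μ
  have hK : Coh.IsCoh K := H10Coh.isCoh_cokernel μ hp₂.1 hp₃
  have hC : Coh.IsCoh (cokernel (P.map S.f)) := H10Coh.isCoh_cokernel _ hp₁'.1 hp₂
  let eK : cokernel c ≅ K := (cokernelEpiComp (cokernel.π (P.map S.f)) c).symm ≪≫
    cokernelIsoOfEq (cokernel.π_desc _ _ _)
  have hA₁ : (ShortComplex.mk (P.map S.f) (cokernel.π _) (cokernel.condition _)).ShortExact :=
    { exact := ShortComplex.exact_cokernel _ }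
  have hA₂ : (ShortComplex.mk c (cokernel.π c) (cokernel.condition c)).ShortExact :=
    { exact := ShortComplex.exact_cokernel _ }
  have hKc : Coh.IsCoh (cokernel c) := H10Coh.isCoh_of_iso eK.symm hK
  have hZ : topologicalKrullDim (CohB1.support K) < ((1 : ℕ) : WithBot ℕ∞) := by
    refine lt_of_le_of_lt ?_ (show ((0 : ℕ) : WithBot ℕ∞) < ((1 : ℕ) : WithBot ℕ∞) by decide)
    haveI : Finite (CohB1.support K) := (hU.subset hsupp).to_subtype
    haveI : JacobsonSpace X := LocallyOfFiniteType.jacobsonSpace (X ↘ Spec (CommRingCat.of k))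
    exact dim_le_zero (hU.subset hsupp) (H10Coh.isClosed_support _ hK.2)
  have hl : ∀ B ∈ [L], PicF.IsInvertible B := by simpa using hL
  have hlW : ∀ B ∈ [(Scheme.Modules.pullback h).obj L], PicF.IsInvertible B := by
    simpa using H11Ample.isInvertible_pullback h hL
  have key : ∀ {φ : X.Modules → ℤ} {ψ : W.Modules → ℤ}, H28Int.IsAddFn φ → H28Int.IsAddFn ψ →
      φ (P.obj S.X₂) = ψ S.X₂ → φ (P.obj S.X₃) = ψ S.X₃ →
      ψ (Coh.structureModule W) = φ (P.obj (Coh.structureModule W)) - φ K := by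
    intro φ ψ hφ hψ h₂ h₃
    have a₁ := hψ.add _ hS (H10Coh.isCoh_of_iso e₁.symm hO) hc₂ hc₃
    have a₂ := hφ.add _ hA₁ hp₁' hp₂ hC
    have a₃ := hφ.add _ hA₂ hC hp₃ hKc
    change φ (P.obj S.X₂) = φ (P.obj S.X₁) + φ (cokernel (P.map S.f)) at a₂
    change φ (P.obj S.X₃) = φ (cokernel (P.map S.f)) + φ (cokernel c) at a₃
    rw [hφ.congr eK] at a₃
    rw [hψ.congr e₁] at a₁
    rw [hφ.congr (P.mapIso e₁)] at a₂
    omega
  refine ⟨K, hK, hsupp, hp₁, key (H28Int.isAddFn_euler k) (H28Int.isAddFn_euler k)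
    (hY _ (Or.inl rfl)).1 (hY _ (Or.inr rfl)).1, ?_, ?_⟩
  swap
  · haveI : (P.obj S.X₂).IsQuasicoherent := hp₂.1
    haveI : (P.obj S.X₃).IsQuasicoherent := hp₃.1
    refine ⟨fun hz V hV => ?_, fun hvan => ?_⟩
    · haveI : Epi μ := Preadditive.epi_of_isZero_cokernel μ hz
      exact H10Coh.Tw.subsingleton_of_iso e₁ (subsingleton_H1_of_surjective hS (h ⁻¹ᵁ V) (hac V hV)
        (fun z => H10Coh.surjective_app_of_epi μ hV z))
    · haveI : Epi μ := by
        refine H11Tilde.epi_of_locally_surjective _ fun O z x hx => ?_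
        obtain ⟨V, -, hxV, hVO, hvV⟩ := hvan x O hx
        obtain ⟨s, hs⟩ := H10Coh.surjective_app_of_subsingleton_HnM hS (h ⁻¹ᵁ V)
          (H10Coh.Tw.subsingleton_of_iso e₁.symm hvV) ((P.obj S.X₃).presheaf.map (homOfLE hVO).op z)
        exact ⟨V, hVO, hxV, s, hs⟩
      exact isZero_cokernel_of_epi μ
  rw [key (H28Int.isAddFn_D k [L] hl) (H28Int.isAddFn_D k _ hlW) (hY _ (Or.inl rfl)).2.symm
      (hY _ (Or.inr rfl)).2.symm, H28Int.D_eq_zero k [L] hl K hK hZ, sub_zero]

end Groth.Agent.H28RR.LeraySurf
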