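import Groth.Agent.H28RR.RuledPush
import Groth.Agent.H29RR.P1Split
import Groth.Agent.H10Coh.ProjFormulaFLF
import Groth.Agent.H25Par.CurveLocFree
import Groth.Agent.H17.PnExt.Shape

/-! # Bundles on the line with a surjective restriction, and surfaces over the line -/

set_option autoImplicit false
set_option linter.style.haveILetI false
set_option linter.unusedSectionVars false
set_option backward.isDefEq.respectTransparency.types false

universe u

open CategoryTheory CategoryTheory.Limits AlgebraicGeometry TopologicalSpace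

noncomputable section

namespace Groth.Agent.H28RR.LineFib

variable (k : Type u) [Field k]

attribute [local instance] H29RR.PnPic.overSpec

theorem hh1_sum : ∀ {r : ℕ} (d : Fin r → ℤ), (∀ i, -1 ≤ d i) →
    Subsingleton (Coh.HH (CohB1.ProjSpace 1 k) (∐ fun i : Fin r => Twist.twistProjSpace 1 k (d i)) 1) := by
  intro r
  induction r with
  | zero =>
    intro d _
    refine ⟨fun a b => ?_⟩
    have h : (𝟙 (∐ fun i : Fin 0 => Twist.twistProjSpace 1 k (d i))) = 0 := Sigma.hom_ext _ _ fun b => b.elim0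
    have : ∀ x : Coh.HH (CohB1.ProjSpace 1 k) (∐ fun i : Fin 0 => Twist.twistProjSpace 1 k (d i)) 1, x = 0 :=
      fun x => by rw [← H29RR.hhlin_id (k := k) _ 1 x, h, H29RR.hhlin_zero]
    rw [this a, this b]
  | succ r ih =>
    intro d hd
    haveI := ih (fun i => d i.succ) fun i => hd _
    haveI : Subsingleton (Coh.HH (CohB1.ProjSpace 1 k) (Twist.twistProjSpace 1 k (d 0)) 1) := by
      rw [H17.PnExt.od_eq]
      exact H10Coh.Pn.subsingleton_HH_Od 1 (by omega) (by have := hd 0; omega)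
    let e := H29RR.hhIso (k := k) (H29RR.PnPic.consIso fun i => Twist.twistProjSpace 1 k (d i)) 1
    haveI : Subsingleton (Coh.HH (CohB1.ProjSpace 1 k) (Twist.twistProjSpace 1 k (d 0) ⊞
        ∐ fun i : Fin r => Twist.twistProjSpace 1 k (d i.succ)) 1) := by
      refine ⟨fun v w => ?_⟩
      rw [← H29RR.hhlin_id (k := k) _ 1 v, ← H29RR.hhlin_id (k := k) _ 1 w, ← biprod.total, H29RR.hhlin_add,
        H29RR.hhlin_add, H29RR.hhlin_comp, H29RR.hhlin_comp, H29RR.hhlin_comp, H29RR.hhlin_comp,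
        Subsingleton.elim (Canon.HHlin k biprod.fst 1 v) (Canon.HHlin k biprod.fst 1 w),
        Subsingleton.elim (Canon.HHlin k biprod.snd 1 v) (Canon.HHlin k biprod.snd 1 w)]
    exact e.toEquiv.subsingleton

theorem h0_twist [IsAlgClosed k] (d : ℤ) :
    Module.finrank k (Coh.HH (CohB1.ProjSpace 1 k) (Twist.twistProjSpace 1 k d) 0) = (d + 1).toNat := by
  by_cases hd : d < 0
  · haveI := H29RR.PnPic.subsingleton_h0_neg (k := k) (n := 1) one_ne_zero hd
    rw [Module.finrank_zero_of_subsingleton]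
    omega
  haveI : IsProper (CohB1.ProjSpace 1 k ↘ Spec (CommRingCat.of k)) := H27Weil.isProper_toSpec 1 k
  obtain ⟨hint, -, hdim⟩ := H28Curve.projLine_facts k
  haveI := hint
  obtain ⟨c, -, hc⟩ := H29RR.PnPic.deg_twist_line (k := k)
  have h1 := hc 1
  rw [H29DoubleCover.deg_twist_one, one_mul] at h1
  obtain ⟨-, h, -⟩ := H29RR.genus_zero_h0 (k := k) hdim.le
    (H29RR.finrank_h0_structure k (CohB1.ProjSpace 1 k)) (H29DoubleCover.genus_projLine k)
    ((H10Coh.Stab.isTwistFamily_projSpace 1 k).inv d) (by rw [hc d, ← h1]; omega)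
  rw [hc d, ← h1] at h
  omega

/-- A bundle on the line whose restriction to a point is surjective on sections has non-negative summands. -/
theorem h1_eq_zero [IsAlgClosed k] {r : ℕ} {E : (CohB1.ProjSpace 1 k).Modules} (hE : FlatMod.IsFinLocFreeOfRank r E)
    (δ : ℕ) (N : ℕ → (CohB1.ProjSpace 1 k).Modules)
    (hN : ∀ m : ℕ, Nonempty (N m ≅ CohB1.tensorMod E (Twist.twistProjSpace 1 k ((m : ℤ) - 1))))
    (h0 : Module.finrank k (Coh.HH (CohB1.ProjSpace 1 k) (N 1) 0) =
      Module.finrank k (Coh.HH (CohB1.ProjSpace 1 k) (N 0) 0) + δ)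
    (hbig : ∀ m : ℕ, Subsingleton (Coh.HH (CohB1.ProjSpace 1 k) (N m) 1) →
      Module.finrank k (Coh.HH (CohB1.ProjSpace 1 k) (N (m + 1)) 0) =
        Module.finrank k (Coh.HH (CohB1.ProjSpace 1 k) (N m) 0) + δ) :
    ∀ m : ℕ, Subsingleton (Coh.HH (CohB1.ProjSpace 1 k) (N m) 1) := by
  obtain ⟨d, -, ⟨e⟩⟩ := H29RR.PnPic.exists_splitting (k := k) r E hE
  have hiso : ∀ m : ℕ, Nonempty (N m ≅ ∐ fun i : Fin r => Twist.twistProjSpace 1 k (d i + ((m : ℤ) - 1))) := by
    intro m
    obtain ⟨a⟩ := hN m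
    obtain ⟨b⟩ := H29RR.PnPic.nonempty_tensor_sum (k := k) (n := 1) d ((m : ℤ) - 1)
    exact ⟨a ≪≫ PicGrp.tensorModIso e (Iso.refl _) ≪≫ b⟩
  have hh0 : ∀ m : ℕ, (Module.finrank k (Coh.HH (CohB1.ProjSpace 1 k) (N m) 0) : ℤ) =
      ∑ i, max (d i + m) 0 := by
    intro m
    rw [(H29RR.hhIso (k := k) (hiso m).some 0).finrank_eq, (H29RR.PnPic.finrank_h0_sum (k := k) one_ne_zero _).1,
      Nat.cast_sum]
    refine Finset.sum_congr rfl fun i _ => ?_
    rw [h0_twist]
    omega
  have hsub : ∀ m : ℕ, (∀ i, 0 ≤ d i + m) → Subsingleton (Coh.HH (CohB1.ProjSpace 1 k) (N m) 1) := fun m hm => by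
    haveI := hh1_sum k (fun i => d i + ((m : ℤ) - 1)) fun i => by have := hm i; omega
    exact (H29RR.hhIso (k := k) (hiso m).some 1).toEquiv.subsingleton
  obtain ⟨M, hM⟩ : ∃ M : ℕ, ∀ i, 0 ≤ d i + M :=
    ⟨∑ i, (d i).natAbs, fun i => by
      have := Finset.single_le_sum (f := fun i => (d i).natAbs) (fun _ _ => Nat.zero_le _) (Finset.mem_univ i)
      omega⟩
  have hr : (δ : ℤ) = r := by
    have h := hbig M (hsub M hM)
    have h1 := congrArg (fun x : ℕ => (x : ℤ)) h
    simp only [Nat.cast_add, hh0] at h1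
    have e1 : ∑ i, max (d i + ((M + 1 : ℕ) : ℤ)) 0 = ∑ i, (max (d i + (M : ℤ)) 0 + 1) :=
      Finset.sum_congr rfl fun i _ => by have := hM i; push_cast; omega
    push_cast at e1 h1
    rw [e1, Finset.sum_add_distrib] at h1
    simp at h1
    omega
  have h1 := congrArg (fun x : ℕ => (x : ℤ)) h0
  simp only [Nat.cast_add, hh0, hr, Nat.cast_one, Nat.cast_zero] at h1
  have hpos : ∀ i, 0 ≤ d i := by
    by_contra hc
    push Not at hc
    obtain ⟨i₀, hi₀⟩ := hc
    have hlt : ∑ i, max (d i + 1) 0 < ∑ i, (max (d i + 0) 0 + 1) :=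
      Finset.sum_lt_sum (fun i _ => by omega) ⟨i₀, Finset.mem_univ _, by omega⟩
    rw [Finset.sum_add_distrib] at hlt
    simp at hlt h1
    omega
  exact fun m => hsub m fun i => by have := hpos i; omega

end Groth.Agent.H28RR.LineFib
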