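import Groth.Agent.H28RR.ModelProj
import Groth.Agent.H28RR.ContractArtin
import Groth.Agent.H8Props.Reduced
import Groth.Agent.H12Pic.CurveFam.ComapIdeal
import Groth.Agent.S10855
import Groth.Agent.S7624

/-! # Localising an arithmetic surface over a Dedekind domain at a closed point of the base -/

set_option autoImplicit false
set_option linter.style.haveILetI false
set_option linter.unusedSectionVars false
set_option backward.isDefEq.respectTransparency.types false
set_option maxHeartbeats 1600000

universe u

open CategoryTheory CategoryTheory.Limits AlgebraicGeometry TopologicalSpace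
open Groth.Agent

noncomputable section

namespace Groth.Agent.H28RR.LocalBase

attribute [-instance] instAlgebraAtPrimeFractionRing

variable {R : Type u} [CommRing R] [IsDedekindDomain R] (P : Ideal R) [P.IsPrime]

/-- `Spec R_P ⟶ Spec R`. -/
abbrev locMap : Spec (CommRingCat.of (Localization.AtPrime P)) ⟶ Spec (CommRingCat.of R) :=
  Spec.map (CommRingCat.ofHom (algebraMap R (Localization.AtPrime P)))

instance : IsPreimmersion (locMap P) := IsPreimmersion.of_isLocalization P.primeCompl

instance : Flat (locMap P) := by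
  rw [HasRingHomProperty.Spec_iff (P := @Flat)]
  exact (RingHom.flat_algebraMap_iff (R := R) (S := Localization.AtPrime P)).2
    (IsLocalization.flat (Localization.AtPrime P) P.primeCompl)

theorem locMap_closedPoint : locMap P (IsLocalRing.closedPoint _) = (⟨P, ‹_›⟩ : PrimeSpectrum R) :=
  PrimeSpectrum.ext (IsLocalization.AtPrime.comap_maximalIdeal (Localization.AtPrime P) P)

theorem mem_range_locMap {t : Spec (CommRingCat.of R)} :
    t ∈ Set.range (locMap P) ↔ PrimeSpectrum.asIdeal (R := R) t ≤ P := by
  refine (Set.ext_iff.1 (PrimeSpectrum.localization_comap_range (Localization.AtPrime P) P.primeCompl) t).trans ?_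
  exact Set.disjoint_compl_left_iff_subset

theorem isMaximal_of_ne_bot (hP : P ≠ ⊥) : P.IsMaximal := Ideal.IsPrime.isMaximal ‹_› hP

theorem isDVR (hP : P ≠ ⊥) : IsDiscreteValuationRing (Localization.AtPrime P) :=
  IsLocalization.AtPrime.isDiscreteValuationRing_of_dedekind_domain R hP _

variable (X : Over (Spec (CommRingCat.of R)))

/-- The localised scheme. -/
abbrev locX : Over (Spec (CommRingCat.of (Localization.AtPrime P))) := Over.mk (pullback.snd X.hom (locMap P))

/-- The localised scheme in the whole one. -/
abbrev jX : (locX P X).left ⟶ X.left := pullback.fst X.hom (locMap P)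

theorem jX_w : jX P X ≫ X.hom = (locX P X).hom ≫ locMap P := pullback.condition

theorem bijective_stalkMap (x : (locX P X).left) : Function.Bijective ((jX P X).stalkMap x).hom := by
  haveI : Flat (jX P X) := MorphismProperty.pullback_fst (P := @Flat) _ _ inferInstance
  exact H8Props.bijective_stalkMap_of_flat (jX P X) x (Flat.stalkMap (jX P X) x)

theorem mem_range_jX {x : X.left} : x ∈ Set.range (jX P X) ↔ X.hom x ∈ Set.range (locMap P) := by
  rw [Scheme.Pullback.range_fst]
  rfl

theorem isRegularLocalRing_stalk (h : ∀ x : X.left, IsRegularLocalRing (X.left.presheaf.stalk x))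
    (x : (locX P X).left) : IsRegularLocalRing ((locX P X).left.presheaf.stalk x) :=
  haveI := h (jX P X x)
  IsRegularLocalRing.of_ringEquiv (RingEquiv.ofBijective _ (bijective_stalkMap P X x))

theorem isIntegral_locX [IsIntegral X.left] [Flat X.hom] : IsIntegral (locX P X).left := by
  haveI : Flat (jX P X) := MorphismProperty.pullback_fst (P := @Flat) _ _ inferInstance
  haveI : IsReduced (locX P X).left := H8Props.isReduced_of_flat_isPreimmersion (jX P X)
  obtain ⟨e, he⟩ : genericPoint X.left ∈ Set.range (jX P X) := by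
    refine (mem_range_jX P X).2 ((mem_range_locMap P).2 ?_)
    rw [H28Vert.hom_genericPoint_eq_bot]
    exact bot_le
  haveI : IrreducibleSpace (locX P X).left := by
    haveI : Nonempty (locX P X).left := ⟨e⟩
    refine { toPreirreducibleSpace := ⟨?_⟩, toNonempty := ⟨e⟩ }
    have h : ∀ w, e ⤳ w := fun w =>
      (jX P X).isEmbedding.isInducing.specializes_iff.1 (he ▸ (genericPoint_spec X.left).specializes trivial)
    have hu : (Set.univ : Set (locX P X).left) = closure {e} :=
      (Set.eq_univ_of_forall fun w => (h w).mem_closure).symm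
    rw [hu]
    exact isIrreducible_singleton.closure.2
  exact isIntegral_of_irreducibleSpace_of_isReduced _

/-- The generic fibre of the localised scheme is a curve. -/
theorem curve_facts (hP : P ≠ ⊥) [IsProper X.hom] [Flat X.hom] [IsIntegral X.left]
    (hdim : topologicalKrullDim X.left = 2) :
    haveI := isDVR P hP
    IsIntegral ((Neron.genericFibre (Localization.AtPrime P)).obj (locX P X)).left ∧
      topologicalKrullDim ((Neron.genericFibre (Localization.AtPrime P)).obj (locX P X)).left ≤ 1 := by
  haveI := isDVR P hP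
  haveI : IsProper (locX P X).hom := MorphismProperty.pullback_snd (P := @IsProper) X.hom (locMap P) ‹_›
  haveI : Flat (locX P X).hom := MorphismProperty.pullback_snd (P := @Flat) X.hom (locMap P) ‹_›
  haveI := isIntegral_locX P X
  haveI : IsOpenImmersion (Neron.genPt (Localization.AtPrime P)) := H28Vert.isOpenImmersion_generic (R := Localization.AtPrime P)
  let j : ((Neron.genericFibre (Localization.AtPrime P)).obj (locX P X)).left ⟶ (locX P X).left :=
    pullback.fst (locX P X).hom (Neron.genPt (Localization.AtPrime P))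
  haveI : IsOpenImmersion j := inferInstanceAs (IsOpenImmersion (pullback.fst (locX P X).hom (Neron.genPt (Localization.AtPrime P))))
  obtain ⟨e, -⟩ : genericPoint (locX P X).left ∈ Set.range j := by
    refine H28Vert.mem_opensRange_of_isPullback (IsPullback.of_hasPullback _ _) _
      (⟨⊥, Ideal.isPrime_bot⟩ : PrimeSpectrum (FractionRing (Localization.AtPrime P))) ?_
    rw [H28Vert.hom_genericPoint_eq_bot]
    exact PrimeSpectrum.ext (Ideal.comap_bot_of_injective _ (IsFractionRing.injective (Localization.AtPrime P) (FractionRing (Localization.AtPrime P)))).symm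
  haveI : Nonempty ((Neron.genericFibre (Localization.AtPrime P)).obj (locX P X)).left := ⟨e⟩
  refine ⟨isIntegral_of_isOpenImmersion j, ?_⟩
  have hd : topologicalKrullDim (locX P X).left ≤ 2 :=
    (jX P X).isEmbedding.isInducing.topologicalKrullDim_le.trans hdim.le
  simpa using H17.CanonSm.dim_genericFibre_le (locX P X) (d := 1) (by simpa using hd)

/-- The localised scheme is an arithmetic surface. -/
theorem isArithSurface_locX (hP : P ≠ ⊥) [IsProper X.hom] [Flat X.hom] [IsIntegral X.left]
    (hreg : ∀ x : X.left, IsRegularLocalRing (X.left.presheaf.stalk x))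
    (hdim : topologicalKrullDim X.left = 2)
    (hK : haveI := isDVR P hP
      1 ≤ topologicalKrullDim ((Neron.genericFibre (Localization.AtPrime P)).obj (locX P X)).left) :
    haveI := isDVR P hP
    ArSurf.IsArithSurface (Localization.AtPrime P) (locX P X) := by
  haveI := isDVR P hP
  haveI : IsProper (locX P X).hom := MorphismProperty.pullback_snd (P := @IsProper) X.hom (locMap P) ‹_›
  haveI : Flat (locX P X).hom := MorphismProperty.pullback_snd (P := @Flat) X.hom (locMap P) ‹_›
  obtain ⟨hint, hle⟩ := curve_facts P X hP hdim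
  exact ModelProj.isArithSurface_of_model'
    (f := ((Neron.genericFibre (Localization.AtPrime P)).obj (locX P X)).hom)
    ⟨MorphismProperty.pullback_snd (P := @IsProper) (locX P X).hom (Neron.genPt _) ‹_›, hint, le_antisymm hle hK⟩
    ⟨⟨inferInstance, inferInstance, inferInstance, _, IsPullback.of_hasPullback (locX P X).hom (Neron.genPt _)⟩,
      inferInstance, isRegularLocalRing_stalk P X hreg⟩

theorem comap_ker_of_mono {A B C : Scheme.{u}} (n : A ⟶ B) [Mono n] (k : C ⟶ A) [IsClosedImmersion (k ≫ n)] :
    (k ≫ n).ker.comap n = k.ker := by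
  have hp : IsPullback k (𝟙 C) n (k ≫ n) := IsPullback.of_vert_isIso_mono ⟨by simp⟩
  rw [← Scheme.IdealSheafData.ker_fst_of_isClosedImmersion]
  conv_rhs => rw [← hp.isoPullback_hom_fst]
  rw [Scheme.Hom.ker_comp_of_isIso]

/-- A closed subscheme inside the localised scheme: its ideal and conormal module. -/
theorem isExcCurve_iff {E : Scheme.{u}} (k : E ⟶ (locX P X).left) [IsClosedImmersion k]
    [IsClosedImmersion (k ≫ jX P X)] [IsLocallyNoetherian X.left] :
    Models.IsExcCurve (k ≫ jX P X) ↔ Models.IsExcCurve k := by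
  have hc : (k ≫ jX P X).ker.comap (jX P X) = k.ker := comap_ker_of_mono (jX P X) k
  haveI : Flat (jX P X) := MorphismProperty.pullback_fst (P := @Flat) _ _ inferInstance
  have hiff : BlowUp.IsEffCartierIdeal (k ≫ jX P X).ker ↔ BlowUp.IsEffCartierIdeal k.ker := by
    refine ⟨fun h => hc ▸ S10855.result (jX P X) _ h, fun h => ?_⟩
    refine H29Blow.isEffCartierIdeal_of_stalk _ fun x V hx => ?_
    by_cases hxr : x ∈ (k ≫ jX P X).ker.support
    · rw [← SetLike.mem_coe, Scheme.Hom.support_ker,
        (k ≫ jX P X).isClosedEmbedding.isClosed_range.closure_eq] at hxr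
      obtain ⟨e, he⟩ := hxr
      replace he : jX P X (k e) = x := he
      subst he
      let x' := k e
      obtain ⟨W', hxW', f, hf, hfW'⟩ := h x'
      obtain ⟨W, hW, hxW, hWle⟩ := exists_isAffineOpen_mem_and_subset
        (U := (jX P X) ⁻¹ᵁ V.1 ⊓ W'.1) (x := x') ⟨hx, hxW'⟩
      have h1 : k.ker.ideal ⟨W, hW⟩ = (k.ker.ideal W').map
          ((locX P X).left.presheaf.map (homOfLE (fun y hy => (hWle hy).2 : W ≤ W'.1)).op).hom :=
        (k.ker.map_ideal (U := ⟨W, hW⟩) (V := W') (fun y hy => (hWle hy).2)).symm
      have h2 := H29Blow.ideal_comap (k ≫ jX P X).ker (jX P X) V ⟨W, hW⟩ (fun y hy => (hWle hy).1)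
      rw [hc, h1, hfW', Ideal.map_span, Set.image_singleton] at h2
      have hb := bijective_stalkMap P X x'
      let φ := RingEquiv.ofBijective _ hb
      let g₀ := (locX P X).left.presheaf.germ W'.1 x' hxW' f
      refine ⟨φ.symm g₀, ?_, ?_⟩
      · have hg₀ : g₀ ∈ nonZeroDivisors ((locX P X).left.presheaf.stalk x') := by
          letI := TopCat.Presheaf.algebra_section_stalk (locX P X).left.presheaf (⟨x', hxW'⟩ : W'.1)
          haveI := W'.2.isLocalization_stalk ⟨x', hxW'⟩
          exact IsLocalization.map_nonZeroDivisors_le (W'.2.primeIdealOf ⟨x', hxW'⟩).asIdeal.primeCompl _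
            ⟨f, hf, rfl⟩
        refine mem_nonZeroDivisors_iff_right.2 fun z hz => φ.injective ?_
        refine (mem_nonZeroDivisors_iff_right.1 hg₀ _ ?_).trans φ.map_zero.symm
        exact (congrArg (φ z * ·) (φ.apply_symm_apply g₀)).symm.trans
          ((φ.map_mul _ _).symm.trans ((congrArg φ hz).trans φ.map_zero))
      · have hinj : ∀ I J : Ideal (X.left.presheaf.stalk _), I.map φ.toRingHom = J.map φ.toRingHom → I = J :=
          fun I J h => by
            have h' := congrArg (Ideal.map φ.symm.toRingHom) h
            rwa [Ideal.map_map, Ideal.map_map, φ.symm_toRingHom_comp_toRingHom, Ideal.map_id, Ideal.map_id] at h'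
        refine hinj _ _ ?_
        have hg : φ.toRingHom.comp (X.left.presheaf.germ V.1 _ hx).hom =
            ((locX P X).left.presheaf.germ W x' hxW).hom.comp
              ((jX P X).appLE V.1 W (fun y hy => (hWle hy).1)).hom := by
          ext r
          show (jX P X).stalkMap x' (X.left.presheaf.germ V.1 _ hx r) = _
          rw [Scheme.Hom.germ_stalkMap_apply, RingHom.comp_apply]
          exact ((locX P X).left.presheaf.germ_res_apply _ x' hxW _).symm
        show ((_ : Ideal Γ(X.left, V.1)).map _).map φ.toRingHom = (Ideal.span {φ.symm g₀}).map φ.toRingHom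
        rw [Ideal.map_map, hg, ← Ideal.map_map, ← h2, Ideal.map_span, Set.image_singleton, Ideal.map_span,
          Set.image_singleton]
        refine congrArg (fun a => Ideal.span {a}) ?_
        show (locX P X).left.presheaf.germ W x' hxW _ = φ (φ.symm g₀)
        rw [φ.apply_symm_apply, TopCat.Presheaf.germ_res_apply]
    · exact ⟨1, one_mem _, by
        rw [H29Blow.map_germ_eq_top_of_notMem_support _ x V hx hxr, Ideal.span_singleton_one]⟩
  constructor
  · rintro ⟨hEff, K, _, e, ⟨η⟩⟩
    have hk := hiff.1 hEff
    obtain ⟨a⟩ := H12Pic.CurveFam.nonempty_pullback_idealMod_comap (jX P X) hEff (hc ▸ hk)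
    exact ⟨hk, K, _, e, ⟨(Scheme.Modules.pullback (e.hom ≫ k)).mapIso (eqToIso (by rw [hc]) ≪≫ a.symm) ≪≫
      (Scheme.Modules.pullbackComp (e.hom ≫ k) (jX P X)).app _ ≪≫
      eqToIso (by rw [Category.assoc]) ≪≫ η⟩⟩
  · rintro ⟨hk, K, _, e, ⟨η⟩⟩
    have hEff := hiff.2 hk
    obtain ⟨a⟩ := H12Pic.CurveFam.nonempty_pullback_idealMod_comap (jX P X) hEff (hc ▸ hk)
    exact ⟨hEff, K, _, e, ⟨eqToIso (by rw [Category.assoc]) ≪≫
      ((Scheme.Modules.pullbackComp (e.hom ≫ k) (jX P X)).app _).symm ≪≫
      (Scheme.Modules.pullback (e.hom ≫ k)).mapIso (a ≪≫ eqToIso (by rw [hc])) ≪≫ η⟩⟩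

end Groth.Agent.H28RR.LocalBase
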