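import Groth.Agent.H28RR.LocalBase
import Groth.Agent.H28RR.GlobalContract
import Groth.Agent.H28RR.ModelGenusZero
import Groth.Agent.H28Contr.RelMin

/-! # Exceptional curves of arithmetic surfaces over Dedekind domains -/

set_option autoImplicit false
set_option linter.style.haveILetI false
set_option linter.unusedSectionVars false
set_option backward.isDefEq.respectTransparency.types false
set_option maxHeartbeats 1600000

universe u

open CategoryTheory CategoryTheory.Limits AlgebraicGeometry TopologicalSpace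
open Groth.Agent

noncomputable section

attribute [-instance] instAlgebraAtPrimeFractionRing

namespace Groth.Agent.H28RR.LocalExc

open LocalBase

/-- An integral scheme dominating the spectrum of a Dedekind domain is flat over it. -/
theorem flat_of_map_genericPoint {R : Type u} [CommRing R] [IsDedekindDomain R] {Z : Scheme.{u}}
    [IsIntegral Z] (g : Z ⟶ Spec (CommRingCat.of R))
    (hg : g (genericPoint Z) = (⊥ : PrimeSpectrum R)) : Flat g := by
  let S := Spec (CommRingCat.of R)
  let e := (Scheme.ΓSpecIso (CommRingCat.of R)).commRingCatIsoToRingEquiv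
  refine HasRingHomProperty.of_iSup_eq_top (P := @Flat) (fun U : Z.affineOpens => U) (iSup_affineOpens_eq_top Z)
    fun U => ?_
  let φ : R →+* Γ(Z, U) := (g.appLE ⊤ U (by simp)).hom.comp e.symm.toRingHom
  have hφ : φ.Flat := by
    rw [RingHom.Flat]
    letI := φ.toAlgebra
    rw [IsDedekindDomain.flat_iff_torsion_eq_bot, eq_bot_iff]
    rintro b ⟨⟨c, hc⟩, hcb⟩
    have hcb' : φ c * b = 0 := hcb
    rw [Submodule.mem_bot]
    rcases isEmpty_or_nonempty (U : Z.Opens) with hU | hU
    · exact Z.IsSheaf.section_ext fun x hx => (hU.false ⟨x, hx⟩).elim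
    · haveI := hU
      rcases mul_eq_zero.1 hcb' with h0 | h0
      · exfalso
        have hgen : genericPoint Z ∈ (U : Z.Opens) := by
          obtain ⟨x⟩ := hU
          exact (genericPoint_specializes x.1).mem_open (U : Z.Opens).2 x.2
        have hmem : genericPoint Z ∈ Z.basicOpen (φ c) := by
          show genericPoint Z ∈ Z.basicOpen ((g.appLE ⊤ U (by simp)).hom (e.symm c))
          rw [Scheme.basicOpen_appLE]
          refine ⟨hgen, ?_⟩
          show g (genericPoint Z) ∈ S.basicOpen (e.symm c)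
          rw [hg, basicOpen_eq_of_affine']
          show (Scheme.ΓSpecIso (CommRingCat.of R)).hom (e.symm c) ∉ (⊥ : Ideal R)
          rw [show (Scheme.ΓSpecIso (CommRingCat.of R)).hom (e.symm c) = c from e.apply_symm_apply c, Ideal.mem_bot]
          exact nonZeroDivisors.ne_zero hc
        rw [h0, Scheme.basicOpen_zero] at hmem
        exact hmem
      · exact h0
  have hcomp : (g.appLE ⊤ U (by simp)).hom = φ.comp e.toRingHom :=
    RingHom.ext fun z => by simp [φ]
  rw [hcomp]
  exact RingHom.Flat.respectsIso.2 _ e hφ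

/-- A morphism which is an isomorphism away from a point over a closed point of the base is an
isomorphism on generic fibres. -/
theorem isIso_genericFibre {R : Type u} [CommRing R] [IsDedekindDomain R]
    {X Z : Over (Spec (CommRingCat.of R))} (g : X ⟶ Z) (z : Z.left) (hz : IsClosed ({z} : Set Z.left))
    [IsIso (g.left ∣_ (⟨{z}ᶜ, hz.isOpen_compl⟩ : Z.left.Opens))]
    (hzP : Z.hom z ≠ (⊥ : PrimeSpectrum R)) : IsIso ((Neron.genericFibre R).map g) := by
  let O : Z.left.Opens := ⟨{z}ᶜ, hz.isOpen_compl⟩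
  let φ := ((Neron.genericFibre R).map g).left
  have hφ₁ : φ ≫ pullback.fst Z.hom (Neron.genPt R) = pullback.fst X.hom (Neron.genPt R) ≫ g.left :=
    pullback.lift_fst _ _ _
  have hφ₂ : φ ≫ pullback.snd Z.hom (Neron.genPt R) = pullback.snd X.hom (Neron.genPt R) :=
    pullback.lift_snd _ _ _
  have hZO : ∀ w, pullback.fst Z.hom (Neron.genPt R) w ∈ O := fun w e => by
    refine hzP ?_
    rw [← (show pullback.fst Z.hom (Neron.genPt R) w = z from e), ← Scheme.Hom.comp_apply, pullback.condition,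
      Scheme.Hom.comp_apply]
    exact H28Vert.range_genPt.le ⟨_, rfl⟩
  let l := IsOpenImmersion.lift O.ι (pullback.fst Z.hom (Neron.genPt R))
    (by rw [Scheme.Opens.range_ι]; rintro _ ⟨w, rfl⟩; exact hZO w)
  have hl : l ≫ O.ι = pullback.fst Z.hom (Neron.genPt R) := IsOpenImmersion.lift_fac _ _ _
  let v := l ≫ inv (g.left ∣_ O) ≫ (g.left ⁻¹ᵁ O).ι
  have hvg : v ≫ g.left = pullback.fst Z.hom (Neron.genPt R) := by
    simp only [v, Category.assoc]
    rw [← morphismRestrict_ι, IsIso.inv_hom_id_assoc, hl]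
  let ψ := pullback.lift (f := X.hom) (g := Neron.genPt R) v (pullback.snd Z.hom (Neron.genPt R))
    (by rw [← Over.w g, ← Category.assoc, hvg, pullback.condition])
  let l' := IsOpenImmersion.lift (g.left ⁻¹ᵁ O).ι (pullback.fst X.hom (Neron.genPt R))
    (by
      rw [Scheme.Opens.range_ι]
      rintro _ ⟨w, rfl⟩
      show g.left _ ∈ O
      rw [← Scheme.Hom.comp_apply, ← hφ₁, Scheme.Hom.comp_apply]
      exact hZO _)
  have hl' : l' ≫ (g.left ⁻¹ᵁ O).ι = pullback.fst X.hom (Neron.genPt R) := IsOpenImmersion.lift_fac _ _ _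
  have h1 : φ ≫ ψ = 𝟙 _ := by
    apply pullback.hom_ext
    · rw [Category.assoc, pullback.lift_fst, Category.id_comp]
      have : l' ≫ (g.left ∣_ O) = φ ≫ l := by
        rw [← cancel_mono O.ι, Category.assoc, morphismRestrict_ι, ← Category.assoc, hl', Category.assoc, hl]
        exact hφ₁.symm
      simp only [v]
      rw [← Category.assoc φ l, ← this, Category.assoc, IsIso.hom_inv_id_assoc, hl']
    · rw [Category.assoc, pullback.lift_snd, Category.id_comp]
      exact hφ₂
  have h2 : ψ ≫ φ = 𝟙 _ := by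
    apply pullback.hom_ext
    · rw [Category.assoc, hφ₁, Category.id_comp, ← Category.assoc, pullback.lift_fst]
      exact hvg
    · rw [Category.assoc, hφ₂, Category.id_comp]
      exact pullback.lift_snd _ _ _
  haveI : IsIso φ := ⟨ψ, h1, h2⟩
  haveI : IsIso ((Over.forget _).map ((Neron.genericFibre R).map g)) := ‹IsIso φ›
  exact isIso_of_reflects_iso _ (Over.forget _)

/-- A proper injective birational morphism to a normal integral scheme is an isomorphism. -/
theorem isIso_of_injective {Z Y : Scheme.{u}} [IsIntegral Z] [IsIntegral Y]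
    (hN : ∀ y : Y, IsIntegrallyClosed (Y.presheaf.stalk y)) (ψ : Z ⟶ Y) [IsProper ψ]
    (hinj : Function.Injective ψ) (hgen : ψ (genericPoint Z) = genericPoint Y)
    (hbij : Function.Bijective (ψ.stalkMap (genericPoint Z))) : IsIso ψ := by
  haveI : LocallyQuasiFinite ψ := LocallyQuasiFinite.of_finite_preimage_singleton _
    fun y => (Set.subsingleton_singleton.preimage hinj).finite
  haveI : IsFinite ψ := IsFinite.of_isProper_of_locallyQuasiFinite ψ
  haveI : IsIso (ψ.stalkMap (genericPoint Z)) := (ConcreteCategory.isIso_iff_bijective _).2 hbij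
  exact H7Lim.isIso_of_isIntegralHom_birational hN ψ hgen

variable {R : Type u} [CommRing R] [IsDedekindDomain R] (P : Ideal R) [P.IsPrime]

theorem jX_genericPoint (X : Over (Spec (CommRingCat.of R))) [IsIntegral X.left] [Flat X.hom]
    [IsIntegral (locX P X).left] : jX P X (genericPoint (locX P X).left) = genericPoint X.left := by
  obtain ⟨e, he⟩ : genericPoint X.left ∈ Set.range (jX P X) := by
    refine (mem_range_jX P X).2 ((mem_range_locMap P).2 ?_)
    rw [H28Vert.hom_genericPoint_eq_bot]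
    exact bot_le
  exact ((he ▸ ((genericPoint_spec (locX P X).left).specializes (y := e) trivial).map
    (jX P X).continuous : jX P X (genericPoint (locX P X).left) ⤳ genericPoint X.left).antisymm
      (genericPoint_specializes _)).eq

theorem isClosedImmersion_residue (hP : P ≠ ⊥) :
    IsClosedImmersion (Spec.map (CommRingCat.ofHom (IsLocalRing.residue (Localization.AtPrime P))) ≫ locMap P) := by
  haveI := isMaximal_of_ne_bot P hP
  show IsClosedImmersion (Spec.map _ ≫ Spec.map _)
  rw [← Spec.map_comp]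
  refine IsClosedImmersion.spec_of_surjective _ fun y => ?_
  obtain ⟨y, rfl⟩ := Ideal.Quotient.mk_surjective y
  obtain ⟨x, hx⟩ := (IsLocalization.AtPrime.equivQuotMaximalIdeal P (Localization.AtPrime P)).surjective
    (Ideal.Quotient.mk _ y)
  obtain ⟨x, rfl⟩ := Ideal.Quotient.mk_surjective x
  exact ⟨x, hx⟩

theorem closedPoint_eq (hP : P ≠ ⊥) {t : Spec (CommRingCat.of (Localization.AtPrime P))}
    (ht : locMap P t = (⟨P, ‹_›⟩ : PrimeSpectrum R)) : t = IsLocalRing.closedPoint _ :=
  (locMap P).isEmbedding.injective (ht.trans (locMap_closedPoint P).symm)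

theorem isClosed_point (hP : P ≠ ⊥) :
    IsClosed ({(⟨P, ‹_›⟩ : PrimeSpectrum R)} : Set (Spec (CommRingCat.of R))) :=
  (PrimeSpectrum.isClosed_singleton_iff_isMaximal _).2 (isMaximal_of_ne_bot P hP)

variable (X : Over (Spec (CommRingCat.of R)))

/-- A vertical curve of the localised scheme is closed in the whole one, over the closed point. -/
theorem push (hP : P ≠ ⊥) [IsDiscreteValuationRing (Localization.AtPrime P)]
    (Γ : ArSurf.VertComp (Localization.AtPrime P) (locX P X)) :
    IsClosedImmersion (Γ.ι ≫ jX P X) ∧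
      Set.range ((Γ.ι ≫ jX P X) ≫ X.hom).base = {(⟨P, ‹_›⟩ : PrimeSpectrum R)} := by
  have hall : ∀ w, X.hom (jX P X (Γ.ι w)) = (⟨P, ‹_›⟩ : PrimeSpectrum R) := fun w => by
    rw [← Scheme.Hom.comp_apply, jX_w, Scheme.Hom.comp_apply, ← Scheme.Hom.comp_apply Γ.ι (locX P X).hom, Γ.w,
      Scheme.Hom.comp_apply]
    exact (congrArg (locMap P) (IsLocalRing.PrimeSpectrum.comap_residue _ _)).trans (locMap_closedPoint P)
  refine ⟨IsClosedImmersion.of_isPreimmersion _ ?_, Set.ext fun t =>
    ⟨fun ⟨w, hw⟩ => hw.symm.trans (hall w), fun ht => ⟨genericPoint _, (hall _).trans ht.symm⟩⟩⟩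
  rw [Scheme.Hom.comp_base, TopCat.coe_comp, Set.range_comp]
  refine isClosed_of_closure_subset fun x hx => ?_
  have hxs : X.hom x = (⟨P, ‹_›⟩ : PrimeSpectrum R) :=
    closure_minimal (t := X.hom ⁻¹' {(⟨P, ‹_›⟩ : PrimeSpectrum R)}) (by rintro _ ⟨_, ⟨w, rfl⟩, rfl⟩; exact hall w)
      ((isClosed_point P hP).preimage X.hom.continuous) hx
  obtain ⟨x', rfl⟩ := (mem_range_jX P X (x := x)).2 (hxs ▸ ⟨_, locMap_closedPoint P⟩)
  refine ⟨x', ?_, rfl⟩
  have hx' : x' ∈ (jX P X).base ⁻¹' closure ((jX P X).base '' Set.range Γ.ι.base) := hx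
  rw [← (jX P X).isEmbedding.closure_eq_preimage_closure_image,
    Γ.ι.isClosedEmbedding.isClosed_range.closure_eq] at hx'
  exact hx'

/-- An exceptional curve over the closed point lifts to the localised scheme. -/
theorem exists_lift (hP : P ≠ ⊥) [IsDiscreteValuationRing (Localization.AtPrime P)] [IsLocallyNoetherian X.left]
    {E : Scheme.{u}} (ι : E ⟶ X.left) [IsClosedImmersion ι] (hexc : Models.IsExcCurve ι)
    (hs : ∀ w, X.hom (ι w) = (⟨P, ‹_›⟩ : PrimeSpectrum R)) :
    ∃ Γ : ArSurf.VertComp (Localization.AtPrime P) (locX P X),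
      Models.IsExcCurve Γ.ι ∧ Set.range (Γ.ι ≫ jX P X).base = Set.range ι.base := by
  obtain ⟨-, k', hk', e₀, -⟩ := id hexc
  obtain ⟨hint, -, hdE⟩ := H28Curve.projLine_facts k'
  haveI := hint
  haveI : Nonempty E := ⟨e₀.hom (genericPoint (CohB1.ProjSpace 1 k'))⟩
  haveI : IsIntegral E := isIntegral_of_isOpenImmersion e₀.inv
  let cp := Spec.map (CommRingCat.ofHom (IsLocalRing.residue (Localization.AtPrime P)))
  haveI : IsClosedImmersion cp := IsClosedImmersion.spec_of_surjective _ IsLocalRing.residue_surjective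
  haveI := isClosedImmersion_residue P hP
  obtain ⟨ψ, hψ⟩ := H17.exists_lift_of_range_subset (ι ≫ X.hom) (cp ≫ locMap P) (by
    rintro _ ⟨w, rfl⟩
    refine ⟨IsLocalRing.closedPoint _, ?_⟩
    rw [Scheme.Hom.comp_apply, Scheme.Hom.comp_apply, hs w]
    exact (congrArg (locMap P) (IsLocalRing.PrimeSpectrum.comap_residue _ _)).trans (locMap_closedPoint P))
  let k : E ⟶ (locX P X).left := pullback.lift ι (ψ ≫ cp) (by rw [Category.assoc, hψ])
  have hk : k ≫ jX P X = ι := pullback.lift_fst _ _ _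
  haveI : IsClosedImmersion (k ≫ jX P X) := hk.symm ▸ inferInstance
  haveI : IsClosedImmersion k := IsClosedImmersion.of_comp k (jX P X)
  let Γ : ArSurf.VertComp (Localization.AtPrime P) (locX P X) :=
    { curve := Over.mk ψ
      ι := k
      isClosedImmersion := inferInstance
      isIntegral := inferInstanceAs (IsIntegral E)
      dim_eq := (IsHomeomorph.topologicalKrullDim_eq _ e₀.inv.homeomorph.isHomeomorph).trans
        (hdE.trans Nat.cast_one)
      w := pullback.lift_snd _ _ _ }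
  refine ⟨Γ, (isExcCurve_iff P X k).1 ?_, ?_⟩
  · rw [hk]
    exact hexc
  · show Set.range (k ≫ jX P X).base = _
    rw [hk]

/-- Contracting an exceptional curve of an arithmetic surface over a Dedekind domain yields a regular
surface. -/
theorem exists_regular_contraction (hP : P ≠ ⊥) (hX : ArSurf.IsArithSurface R X)
    (hK : haveI := isDVR P hP
      1 ≤ topologicalKrullDim ((Neron.genericFibre (Localization.AtPrime P)).obj (locX P X)).left)
    {E : Scheme.{u}} (ι : E ⟶ X.left) [IsClosedImmersion ι] (hexc : Models.IsExcCurve ι)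
    (hs : ∀ w, X.hom (ι w) = (⟨P, ‹_›⟩ : PrimeSpectrum R)) :
    ∃ (Z : Over (Spec (CommRingCat.of R))) (g : X ⟶ Z),
      (∀ z : Z.left, IsRegularLocalRing (Z.left.presheaf.stalk z)) ∧ Neron.IsProjectiveOver R Z ∧ Flat Z.hom ∧
      IsProper Z.hom ∧ IsIso ((Neron.genericFibre R).map g) ∧ ¬ IsIso g ∧ topologicalKrullDim Z.left ≤ 2 ∧
      ∃ ξ, ξ ∈ Set.range ι.base ∧ ringKrullDim (X.left.presheaf.stalk ξ) ≤ 1 ∧
        ¬ ringKrullDim (Z.left.presheaf.stalk (g.left ξ)) ≤ 1 := by
  classical
  haveI := isDVR P hP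
  obtain ⟨hreg, hint, hdim, hflat, n, i₀, hi₀, hiX⟩ := id hX
  haveI := hint
  haveI := hflat
  haveI := hi₀
  haveI : IsProper X.hom := by rw [← hiX]; infer_instance
  haveI : IsLocallyNoetherian X.left := LocallyOfFiniteType.isLocallyNoetherian X.hom
  haveI : CompactSpace X.left := QuasiCompact.compactSpace_of_compactSpace X.hom
  obtain ⟨M₀, hM₀⟩ := H8Props.Ample.exists_isAmple_projSpaceOver n (S := Spec (CommRingCat.of R))
    (H17.LocalProj.exists_isAmple_of_isAffine _)
  have hnor : ∀ x : X.left, IsIntegrallyClosed (X.left.presheaf.stalk x) := fun x =>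
    (H29Ref.isNormalScheme_of_regular hreg x).2
  obtain ⟨Y, πY, g, y, hy, hYint, hgπ, hYnor, hπp, hgp, hYproj, hgsurj, hggen, hpre, hiso⟩ :=
    GlobalContract.exists_contraction X.hom hnor (H11Ample.isAmple_pullback_of_isAffineHom i₀ hM₀) ι hexc
  haveI := hYint
  haveI := hπp
  haveI := hgp
  haveI := hiso
  let Z : Over (Spec (CommRingCat.of R)) := Over.mk πY
  haveI : IsIntegral Z.left := hYint
  haveI : IsProper Z.hom := hπp
  let g' : X ⟶ Z := Over.homMk g hgπ
  obtain ⟨Γ, hΓexc, hΓr⟩ := exists_lift P X hP ι hexc hs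
  haveI := Γ.isIntegral
  have hyE : ∀ w, g (jX P X (Γ.ι w)) = y := fun w => hpre.ge (hΓr.le ⟨w, rfl⟩)
  have hys : πY y = (⟨P, ‹_›⟩ : PrimeSpectrum R) := by
    obtain ⟨w, hw⟩ := hΓr.le ⟨genericPoint _, rfl⟩
    rw [← hyE (genericPoint _), ← Scheme.Hom.comp_apply, hgπ, ← hs w, hw]
    rfl
  have hne : πY y ≠ (⊥ : PrimeSpectrum R) := fun h => hP (congrArg PrimeSpectrum.asIdeal (hys.symm.trans h))
  haveI : Flat Z.hom := flat_of_map_genericPoint Z.hom (by
    show πY (genericPoint Y) = _
    rw [← hggen, ← Scheme.Hom.comp_apply, hgπ]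
    exact H28Vert.hom_genericPoint_eq_bot)
  -- localised
  haveI : IsProper (locX P Z).hom := MorphismProperty.pullback_snd (P := @IsProper) Z.hom (locMap P) ‹_›
  haveI := isIntegral_locX P Z
  haveI := isIntegral_locX P X
  have hA := isArithSurface_locX P X hP hreg hdim hK
  haveI : IsProper (locX P X).hom := H28Vert.isProper_of_isArithSurface hA
  haveI : IsLocallyNoetherian (locX P X).left := LocallyOfFiniteType.isLocallyNoetherian (locX P X).hom
  haveI : CompactSpace (locX P X).left := QuasiCompact.compactSpace_of_compactSpace (locX P X).hom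
  haveI : IsNoetherian (locX P X).left := ⟨⟩
  obtain ⟨Z₀, b₀, z₀, hz₀, hZ₀, hb₀, hpre₀, hiso₀⟩ := ModelContract.exists_contraction hA Γ hΓexc
  haveI := hiso₀
  haveI : IsIntegral Z₀.left := hZ₀.2.1
  haveI : IsProper Z₀.hom := H28Vert.isProper_of_isArithSurface hZ₀
  haveI hb₀p : IsProper b₀.left := hb₀.2.1
  let gP : (locX P X).left ⟶ (locX P Z).left :=
    pullback.lift (jX P X ≫ g) (locX P X).hom (by rw [Category.assoc]; exact (congrArg (jX P X ≫ ·) hgπ).trans (jX_w P X))
  have hgP : gP ≫ jX P Z = jX P X ≫ g := pullback.lift_fst _ _ _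
  have hgPw : gP ≫ (locX P Z).hom = (locX P X).hom := pullback.lift_snd _ _ _
  have hgPv : ∀ x, jX P Z (gP x) = g (jX P X x) := fun x => by
    rw [← Scheme.Hom.comp_apply, hgP]
    rfl
  obtain ⟨y', hy'⟩ : y ∈ Set.range (jX P Z) := (mem_range_jX P Z).2 (hys ▸ ⟨_, locMap_closedPoint P⟩)
  have hjinj := (jX P Z).isEmbedding.injective
  have hgPΓ : ∀ w, gP (Γ.ι w) = y' := fun w => hjinj (by rw [hgPv, hyE, hy'])
  obtain ⟨ψ, hψ, -⟩ := S7307.result Γ.ι hΓexc b₀.left hb₀ gP y'
    (Set.ext fun t => ⟨fun ⟨w, hw⟩ => hw.symm.trans (hgPΓ w), fun ht => ⟨genericPoint _, (hgPΓ _).trans ht.symm⟩⟩)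
  have hψw : ψ ≫ (locX P Z).hom = Z₀.hom := by
    have hr : Set.range ((Γ.ι ≫ (locX P X).hom).base) =
        {IsLocalRing.closedPoint (Localization.AtPrime P)} := Set.ext fun t => by
      have hall : ∀ w, (locX P X).hom (Γ.ι w) = IsLocalRing.closedPoint (Localization.AtPrime P) := fun w => by
        rw [← Scheme.Hom.comp_apply, Γ.w]
        exact IsLocalRing.PrimeSpectrum.comap_residue _ _
      exact ⟨fun ⟨w, hw⟩ => hw.symm.trans (hall w), fun ht => ⟨genericPoint _, (hall _).trans ht.symm⟩⟩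
    obtain ⟨χ, -, huni⟩ := S7307.result Γ.ι hΓexc b₀.left hb₀ (locX P X).hom _ hr
    exact (huni _ (show b₀.left ≫ ψ ≫ _ = _ by rw [← Category.assoc, hψ, hgPw])).trans (huni _ (Over.w b₀)).symm
  haveI : IsProper (ψ ≫ (locX P Z).hom) := hψw.symm ▸ ‹IsProper Z₀.hom›
  haveI : IsProper ψ := IsProper.of_comp ψ (locX P Z).hom
  -- birationality
  let η := genericPoint (locX P X).left
  have hjη : jX P X η = genericPoint X.left := jX_genericPoint P X
  have hηy : g (genericPoint X.left) ≠ y := fun h => hne (by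
    rw [← h, ← Scheme.Hom.comp_apply, hgπ]
    exact H28Vert.hom_genericPoint_eq_bot)
  haveI : IsIso (g.stalkMap (jX P X η)) :=
    H28Contr.isIso_stalkMap_of_restrict g ⟨{y}ᶜ, hy.isOpen_compl⟩ _ (hjη.symm ▸ hηy)
  have hgPgen : gP η = genericPoint (locX P Z).left := hjinj (by
    rw [hgPv, hjη, hggen, jX_genericPoint P Z]
    rfl)
  have hgPbij : Function.Bijective (gP.stalkMap η) := by
    have h := congrArg (fun φ : (locX P X).left ⟶ Z.left => Function.Bijective (φ.stalkMap η)) hgP
    have h2 : Function.Bijective ((jX P X ≫ g).stalkMap η) := by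
      rw [Scheme.Hom.stalkMap_comp]
      exact (bijective_stalkMap P X η).comp
        ((ConcreteCategory.isIso_iff_bijective (g.stalkMap (jX P X η))).1 inferInstance)
    have h3 : Function.Bijective ((gP ≫ jX P Z).stalkMap η) := h.symm ▸ h2
    rw [Scheme.Hom.stalkMap_comp] at h3
    exact (Function.Bijective.of_comp_iff _ (bijective_stalkMap P Z _)).1 h3
  have hbη : b₀.left η = genericPoint Z₀.left :=
    ModelGenusZero.map_genericPoint_of_iso (π := b₀.left) (U := ⟨{z₀}ᶜ, hz₀.isOpen_compl⟩)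
      ⟨b₀.left η, fun h => by
        have h1 : η ∈ Set.range Γ.ι.base := hpre₀.le h
        obtain ⟨w, hw⟩ := h1
        exact hηy (by rw [← hjη, ← hw]; exact hyE w)⟩
  haveI : IsIso (b₀.left.stalkMap η) :=
    H28Contr.isIso_stalkMap_of_restrict b₀.left ⟨{z₀}ᶜ, hz₀.isOpen_compl⟩ _ (fun h => by
      obtain ⟨w, hw⟩ := hpre₀.le h
      exact hηy (by rw [← hjη, ← hw]; exact hyE w))
  have hψgen : ψ (genericPoint Z₀.left) = genericPoint (locX P Z).left := by
    rw [← hbη, ← Scheme.Hom.comp_apply, hψ, hgPgen]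
  have hψbij : Function.Bijective (ψ.stalkMap (genericPoint Z₀.left)) := by
    have h3 : Function.Bijective ((b₀.left ≫ ψ).stalkMap η) := hψ.symm ▸ hgPbij
    rw [Scheme.Hom.stalkMap_comp] at h3
    have h4 : Function.Bijective (ψ.stalkMap (b₀.left η)) :=
      (Function.Bijective.of_comp_iff' ((ConcreteCategory.isIso_iff_bijective (b₀.left.stalkMap η)).1 inferInstance) _).1 h3
    exact hbη ▸ h4
  -- injectivity
  haveI : IsDominant b₀.left := H10ZMT.isDominant_of_apply_genericPoint b₀.left hbη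
  have hb₀surj : Function.Surjective b₀.left := fun t => by
    have h1 : Set.range b₀.left = Set.univ := by
      rw [← b₀.left.isClosedMap.isClosed_range.closure_eq]
      exact b₀.left.denseRange.closure_range
    exact h1.ge (Set.mem_univ t)
  have hginj : ∀ a b, a ∉ Set.range ι.base → g b = g a → b = a := by
    intro a b ha hab
    have ha' : a ∈ g ⁻¹ᵁ (⟨{y}ᶜ, hy.isOpen_compl⟩ : Y.Opens) := fun h => ha (hpre.le h)
    have hb' : b ∈ g ⁻¹ᵁ (⟨{y}ᶜ, hy.isOpen_compl⟩ : Y.Opens) := fun h => ha (hpre.le (hab.symm.trans h))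
    let O : Y.Opens := ⟨{y}ᶜ, hy.isOpen_compl⟩
    refine congrArg Subtype.val (((g ∣_ O) ≫ O.ι).isOpenEmbedding.injective (a₁ := ⟨b, hb'⟩) (a₂ := ⟨a, ha'⟩) ?_)
    rw [morphismRestrict_ι]
    exact hab
  have hψinj : Function.Injective ψ := by
    intro u v huv
    obtain ⟨a, rfl⟩ := hb₀surj u
    obtain ⟨b, rfl⟩ := hb₀surj v
    have hab : g (jX P X a) = g (jX P X b) := by
      rw [← hgPv, ← hgPv, ← hψ]
      exact congrArg (jX P Z) huv
    by_cases hb : jX P X b ∈ Set.range ι.base
    · have hb' : jX P X a ∈ Set.range ι.base := hpre.le (hab.trans (hpre.ge hb))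
      have hmem : ∀ c, jX P X c ∈ Set.range ι.base → b₀.left c = z₀ := fun c hc => by
        obtain ⟨w, hw⟩ := hΓr.ge hc
        exact hpre₀.ge ⟨w, (jX P X).isEmbedding.injective hw⟩
      rw [hmem a hb', hmem b hb]
    · exact congrArg b₀.left ((jX P X).isEmbedding.injective (hginj _ _ hb hab))
  haveI : IsIso ψ := isIso_of_injective (fun w => by
    haveI : IsIntegrallyClosed (Z.left.presheaf.stalk (jX P Z w)) := hYnor _
    exact IsIntegrallyClosed.of_equiv (RingEquiv.ofBijective _ (bijective_stalkMap P Z w)))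
    ψ hψinj hψgen hψbij
  have hψz : ψ z₀ = y' := by
    rw [← (hpre₀.ge ⟨genericPoint _, rfl⟩ : b₀.left (Γ.ι (genericPoint _)) = z₀), ← Scheme.Hom.comp_apply, hψ]
    exact hgPΓ _
  -- the local ring at the point
  let e₁ := RingEquiv.ofBijective _ (bijective_stalkMap P Z y')
  let e₂ := (asIso (ψ.stalkMap z₀)).commRingCatIsoToRingEquiv
  obtain ⟨-, -, zz, -, hzr, hzreg, hz2, -⟩ := id hb₀
  have hzz : zz = z₀ := by
    have h1 : b₀.left (Γ.ι (genericPoint _)) ∈ ({zz} : Set Z₀.left) := hzr.le ⟨_, rfl⟩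
    exact (Set.mem_singleton_iff.1 h1).symm.trans (hpre₀.ge ⟨_, rfl⟩)
  subst hzz
  have hregy : IsRegularLocalRing (Y.presheaf.stalk y) ∧ ringKrullDim (Y.presheaf.stalk y) = 2 := by
    haveI := hzreg
    haveI h1 : IsRegularLocalRing ((locX P Z).left.presheaf.stalk (ψ zz)) := IsRegularLocalRing.of_ringEquiv e₂.symm
    have h1' : ringKrullDim ((locX P Z).left.presheaf.stalk (ψ zz)) = 2 :=
      (ringKrullDim_eq_of_ringEquiv e₂).trans hz2
    rw [hψz] at h1 h1'
    haveI := h1
    have h3 : IsRegularLocalRing (Z.left.presheaf.stalk (jX P Z y')) := IsRegularLocalRing.of_ringEquiv e₁.symm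
    have h4 : ringKrullDim (Z.left.presheaf.stalk (jX P Z y')) = 2 := (ringKrullDim_eq_of_ringEquiv e₁).trans h1'
    rw [hy'] at h3 h4
    exact ⟨h3, h4⟩
  have hregZ : ∀ z : Z.left, IsRegularLocalRing (Z.left.presheaf.stalk z) := by
    intro q
    rcases eq_or_ne q y with rfl | hq
    · exact hregy.1
    · obtain ⟨x, rfl⟩ := hgsurj q
      haveI := hreg x
      haveI := H28Contr.isIso_stalkMap_of_restrict g ⟨{y}ᶜ, hy.isOpen_compl⟩ x hq
      exact IsRegularLocalRing.of_ringEquiv (asIso (g.stalkMap x)).commRingCatIsoToRingEquiv.symm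
  haveI : IsIso (g'.left ∣_ (⟨{y}ᶜ, hy.isOpen_compl⟩ : Z.left.Opens)) := hiso
  haveI : Flat (locX P X).hom := hA.2.2.2.1
  refine ⟨Z, g', hregZ, hYproj, ‹_›, ‹_›, isIso_genericFibre g' y hy hne, fun hg => ?_, ?_,
    jX P X (Models.genPtOf _ _ Γ), hΓr.le ⟨_, rfl⟩, ?_, ?_⟩
  · haveI : IsIso g := inferInstanceAs (IsIso ((Over.forget _).map g'))
    obtain ⟨c, -, ⟨w, hw⟩, -, hcne⟩ := ModelProj.exists_closed_ne Γ
    exact hcne ((jX P X).isEmbedding.injective
      (g.homeomorph.injective ((hyE _).trans (hw ▸ (hyE w).symm))))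
  · exact (H17.topologicalKrullDim_le_of_specializingMap g g.isClosedMap.specializingMap hgsurj).trans hdim.le
  · rw [ringKrullDim_eq_of_ringEquiv (RingEquiv.ofBijective _ (bijective_stalkMap P X _))]
    refine (H28Vert.dim_stalk_genPt_of_mem (hA.1) Γ ?_).le
    obtain ⟨nc, Γc, hΓc⟩ := H28Vert.exists_isComponentList' (R := Localization.AtPrime P) (X := locX P X) hA.2.2.1
    exact H28Vert.mem_fibreComponents (H28Vert.dim_fibre_le_one hΓc) Γ
  · show ¬ ringKrullDim (Y.presheaf.stalk (g (jX P X (Γ.ι _)))) ≤ 1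
    rw [hyE, hregy.2]
    decide

end Groth.Agent.H28RR.LocalExc
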