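import Groth.Agent.H28RR.ModelProj
import Groth.Agent.H28RR.CastMain
import Groth.Agent.H28RR.CastLine2
import Groth.Agent.H28Vert.ExcNum
import Groth.Agent.H29RR.Sections
import Groth.Agent.H05EGA4.DimFibre
import Groth.Agent.H1CAlg.Serre
import Groth.Agent.S3257

/-! # Contracting exceptional curves on regular proper models of curves -/

set_option autoImplicit false
set_option linter.style.haveILetI false
set_option linter.unusedSectionVars false
set_option backward.isDefEq.respectTransparency.types false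
set_option maxHeartbeats 1600000

universe u

open CategoryTheory CategoryTheory.Limits AlgebraicGeometry TopologicalSpace

noncomputable section

namespace Groth.Agent.H28RR.ModelContract

variable {R : Type u} [CommRing R] [IsDomain R] [IsDiscreteValuationRing R]

/-- A morphism to the spectrum of a ring is determined by the global functions it gives. -/
theorem comp_specMap_eq {A B : Type u} [CommRing A] [CommRing B] (φ : A →+* B) {E : Scheme.{u}}
    (q : E ⟶ Spec (CommRingCat.of B)) (g : E ⟶ Spec (CommRingCat.of A))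
    (h : ∀ a, Coh.toGlobal q (φ a) = Coh.toGlobal g a) : q ≫ Spec.map (CommRingCat.ofHom φ) = g := by
  refine ext_of_isAffine ?_
  ext s
  obtain ⟨r, rfl⟩ := (ConcreteCategory.bijective_of_isIso (Scheme.ΓSpecIso (CommRingCat.of A)).inv).2 s
  refine Eq.trans ?_ (h r)
  rw [Scheme.Hom.comp_appTop]
  exact (congrArg (fun z => q.appTop z)
    (congrArg (fun φ => φ r) (Scheme.ΓSpecIso_inv_naturality (CommRingCat.ofHom φ)))).symm

/-- An exceptional vertical curve is a projective line over a finite extension of the residue field. -/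
theorem exists_line {Y : Over (Spec (CommRingCat.of R))} [IsProper Y.hom] {Γ : ArSurf.VertComp R Y}
    (hexc : Models.IsExcCurve Γ.ι) :
    ∃ (k' : Type u) (_ : Field k') (_ : Algebra (IsLocalRing.ResidueField R) k')
      (_ : FiniteDimensional (IsLocalRing.ResidueField R) k') (e : Γ.curve.left ≅ CohB1.ProjSpace 1 k'),
      e.hom ≫ CohB1.ProjSpace.toSpec 1 k' ≫
        Spec.map (CommRingCat.ofHom (algebraMap (IsLocalRing.ResidueField R) k')) = Γ.curve.hom ∧
      Models.wdeg R Y Γ = Module.finrank (IsLocalRing.ResidueField R) k' := by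
  obtain ⟨-, k', hk', e₀, -⟩ := hexc
  let k := IsLocalRing.ResidueField R
  let e : Γ.curve.left ≅ CohB1.ProjSpace 1 k' := e₀.symm
  haveI := H28Vert.isProper_curve Γ
  haveI : IsProper (Γ.curve.left ↘ Spec (CommRingCat.of k)) := inferInstanceAs (IsProper Γ.curve.hom)
  letI := CastLine.overK e
  haveI : IsProper (Γ.curve.left ↘ Spec (CommRingCat.of k')) :=
    MorphismProperty.comp_mem @IsProper _ _ (inferInstance : IsProper e.hom) (H27Weil.isProper_toSpec 1 k')
  let tK := Coh.toGlobal (Γ.curve.left ↘ Spec (CommRingCat.of k'))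
  let t := RingEquiv.ofBijective tK (CastLine.bijective_toGlobal e Γ.dim_eq.le)
  let φ : k →+* k' := (t.symm : Coh.Γtop Γ.curve.left →+* k').comp (Coh.toGlobal (Γ.curve.left ↘ Spec (CommRingCat.of k)))
  letI alg : Algebra k k' := φ.toAlgebra
  have htow : ∀ a : k, tK (algebraMap k k' a) = Coh.toGlobal (Γ.curve.left ↘ Spec (CommRingCat.of k)) a := fun a =>
    t.apply_symm_apply _
  have he : e.hom ≫ CohB1.ProjSpace.toSpec 1 k' ≫ Spec.map (CommRingCat.ofHom (algebraMap k k')) = Γ.curve.hom :=
    (Category.assoc _ _ _).symm.trans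
      (comp_specMap_eq (algebraMap k k') (e.hom ≫ CohB1.ProjSpace.toSpec 1 k') Γ.curve.hom htow)
  have hmul := H28Vert.finrank_HH_tower k k' (E := Γ.curve.left) htow (Coh.structureModule Γ.curve.left) 0
  obtain ⟨z⟩ := (H10Coh.Stab.isTwistFamily_projSpace 1 k').zero
  obtain ⟨s⟩ := H11Ample.nonempty_pullback_structureModule_iso e.hom
  have h1 := CastLine.finrank_H0 e (M := Coh.structureModule Γ.curve.left) H11Ample.isInvertible_structureModule
    Γ.dim_eq.le 0 (s.symm ≪≫ (Scheme.Modules.pullback e.hom).mapIso (z.symm ≪≫ eqToIso (congrArg _ Nat.cast_zero.symm)))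
  rw [h1, zero_add, mul_one] at hmul
  haveI hH : Module.Finite k (Coh.HH Γ.curve.left (Coh.structureModule Γ.curve.left) 0) :=
    H29RR.finite_HH _ H11Ample.isInvertible_structureModule 0
  let u : k' ≃ₗ[k] Coh.HH Γ.curve.left (Coh.structureModule Γ.curve.left) 0 :=
    LinearEquiv.ofBijective
      { toFun := fun a => (H29RR.sec (Coh.structureModule Γ.curve.left)).symm (show Γ(Γ.curve.left, ⊤) from tK a)
        map_add' := fun a b => by
          rw [← map_add]
          exact congrArg _ (map_add tK a b)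
        map_smul' := fun a b => (H29RR.sec (Coh.structureModule Γ.curve.left)).injective (by
          show _ = H29RR.sec (Coh.structureModule Γ.curve.left) (a • _)
          rw [H29RR.sec_smul, AddEquiv.apply_symm_apply, AddEquiv.apply_symm_apply]
          show tK (a • b) = _
          rw [Algebra.smul_def, map_mul, htow]
          rfl) }
      ((H29RR.sec (Coh.structureModule Γ.curve.left)).symm.bijective.comp t.bijective)
  haveI : FiniteDimensional k k' := Module.Finite.equiv u.symm
  exact ⟨k', hk', alg, inferInstance, e, he, hmul⟩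

/-- Contraction of an exceptional curve of an arithmetic surface. -/
theorem exists_contraction {Y : Over (Spec (CommRingCat.of R))} (hY : ArSurf.IsArithSurface R Y)
    (Γ : ArSurf.VertComp R Y) (hexc : Models.IsExcCurve Γ.ι) :
    ∃ (Z : Over (Spec (CommRingCat.of R))) (b : Y ⟶ Z) (z : Z.left) (hz : IsClosed ({z} : Set Z.left)),
      ArSurf.IsArithSurface R Z ∧ Models.IsContractionOf Γ.ι b.left ∧ b.left.base ⁻¹' {z} = Set.range Γ.ι.base ∧
      IsIso (b.left ∣_ (⟨{z}ᶜ, hz.isOpen_compl⟩ : Z.left.Opens)) := by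
  obtain ⟨hreg, hint, hdim, hflat, hproj⟩ := id hY
  haveI := hint
  haveI := hflat
  haveI : IsProper Y.hom := H28Vert.isProper_of_isArithSurface hY
  obtain ⟨k', _, _, _, e, he, hw⟩ := exists_line hexc
  obtain ⟨L, hLi, hL⟩ := H11Sym.exists_inverse (H29Blow.isInvertible_of_isEffCartierIdeal _ hexc.1)
  have hself : ArSurf.inter R Y L Γ =
      -(((1 : ℕ) : ℤ) * (Module.finrank (IsLocalRing.ResidueField R) k' : ℤ)) := by
    rw [Nat.cast_one, one_mul, (H28Vert.exc_facts hexc hLi hL).2, hw]
  obtain ⟨Z, b, z, hz, hint', hnor, hdim', hflat', hproj', hr, hpre, hiso, hcot, hregZ⟩ :=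
    CastMain.exists_contraction R Y hY Γ k' e he L hL 1 le_rfl hself
  haveI := hint'
  obtain ⟨n, i, hi, hiZ⟩ := hproj'
  haveI := hi
  haveI : IsProper Z.hom := by rw [← hiZ]; infer_instance
  haveI : IsLocallyNoetherian Z.left := LocallyOfFiniteType.isLocallyNoetherian Z.hom
  haveI : CompactSpace Z.left := QuasiCompact.compactSpace_of_compactSpace Z.hom
  have hrz : IsRegularLocalRing (Z.left.presheaf.stalk z) := by
    rw [IsRegularLocalRing.iff_finrank_cotangentSpace]
    haveI := hnor z
    by_cases h1 : ringKrullDim (Z.left.presheaf.stalk z) ≤ 1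
    · haveI := H1CAlg.isRegularLocalRing_of_isIntegrallyClosed h1
      exact (IsRegularLocalRing.iff_finrank_cotangentSpace _).1 inferInstance
    · rw [hcot]
      rw [H28Contr.eq_two_of_le ((H05EGA4.DimFibre.stalkDim_le_top z).trans hdim'.le) h1]
      rfl
  have hd2 : ringKrullDim (Z.left.presheaf.stalk z) = 2 := by
    have h := (IsRegularLocalRing.iff_finrank_cotangentSpace _).1 hrz
    rw [hcot] at h
    exact h.symm.trans rfl
  have hreg' : ∀ q : Z.left, IsRegularLocalRing (Z.left.presheaf.stalk q) := fun q => by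
    rcases eq_or_ne q z with rfl | h
    · exact hrz
    · exact hregZ q h
  have hZ : ArSurf.IsArithSurface R Z := ⟨hreg', hint', hdim', hflat', n, i, hi, hiZ⟩
  have hpre' : b.left.base ⁻¹' {z} = Set.range Γ.ι.base := by
    have h1 : (b.left.base ⁻¹' ({z} : Set Z.left))ᶜ = (Set.range Γ.ι.base)ᶜ := hpre
    exact compl_injective h1
  obtain ⟨c, hcc, ⟨c', hc'⟩, -, hcne⟩ := ModelProj.exists_closed_ne Γ
  have hbz : ∀ x ∈ Set.range Γ.ι.base, b.left.base x = z := fun x hx => hpre'.ge hx
  have hblow : BlowUp.IsBlowUp b.left (Scheme.IdealSheafData.vanishingIdeal ⟨{z}, hz⟩) := by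
    refine S3257.result Y Z hY hZ b z hz hiso ?_
      ⟨Models.genPtOf R Y Γ, c, hcne, hbz _ ⟨_, rfl⟩, hbz _ ⟨c', hc'⟩⟩
    rw [hpre', ← Set.image_univ]
    exact ((IrreducibleSpace.isIrreducible_univ _).image _ Γ.ι.continuous.continuousOn).isPreirreducible
  haveI : IsProper (b.left ≫ Z.hom) := by rw [Over.w b]; infer_instance
  haveI : IsProper b.left := IsProper.of_comp b.left Z.hom
  exact ⟨Z, b, z, hz, hZ, ⟨⟨⟩, inferInstance, z, hz, hr, hrz, hd2, hblow⟩, hpre', hiso⟩

theorem mem_special_iff {Y Z : Over (Spec (CommRingCat.of R))} (b : Y ⟶ Z) (y : Y.left) :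
    b.left y ∈ Models.specialFibreSet R Z ↔ y ∈ Models.specialFibreSet R Y := by
  show Z.hom (b.left y) = _ ↔ Y.hom y = _
  rw [← Scheme.Hom.comp_apply, Over.w b]

section Components

variable {Y Z : Over (Spec (CommRingCat.of R))} [IsProper Y.hom] [IsProper Z.hom] [Flat Z.hom] [IsIntegral Z.left]
  (b : Y ⟶ Z) (z : Z.left) (hz : IsClosed ({z} : Set Z.left))
  [IsIso (b.left ∣_ (⟨{z}ᶜ, hz.isOpen_compl⟩ : Z.left.Opens))]

omit [IsProper Y.hom] [IsProper Z.hom] [Flat Z.hom] [IsIntegral Z.left] in
include hz in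
/-- Away from the centre, specializations downstairs come from upstairs. -/
theorem specializes_of_map {y y' : Y.left} (h : b.left y ⤳ b.left y') (hy : b.left y' ≠ z) : y ⤳ y' := by
  let O : Z.left.Opens := ⟨{z}ᶜ, hz.isOpen_compl⟩
  have hyO : b.left y' ∈ O := hy
  have hyO' : b.left y ∈ O := h.mem_open O.2 hyO
  let a : (b.left ⁻¹ᵁ O).toScheme := ⟨y, hyO'⟩
  let a' : (b.left ⁻¹ᵁ O).toScheme := ⟨y', hyO⟩
  have hι : ∀ w : (b.left ⁻¹ᵁ O).toScheme, O.ι ((b.left ∣_ O) w) = b.left ((b.left ⁻¹ᵁ O).ι w) := fun w => by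
    rw [← Scheme.Hom.comp_apply, morphismRestrict_ι, Scheme.Hom.comp_apply]
  have h1 : (b.left ∣_ O) a ⤳ (b.left ∣_ O) a' :=
    O.ι.isOpenEmbedding.isInducing.specializes_iff.1 (by rw [hι, hι]; exact h)
  exact ((b.left ⁻¹ᵁ O).ι.isOpenEmbedding.isInducing.specializes_iff).2
    ((b.left ∣_ O).isOpenEmbedding.isInducing.specializes_iff.1 h1)

omit [IsProper Y.hom] [IsProper Z.hom] [Flat Z.hom] [IsIntegral Z.left] in
include hz in
theorem exists_preimage {w : Z.left} (hw : w ≠ z) : ∃ y : Y.left, b.left y = w := by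
  let O : Z.left.Opens := ⟨{z}ᶜ, hz.isOpen_compl⟩
  obtain ⟨v, hv⟩ := (b.left ∣_ O).homeomorph.surjective ⟨w, hw⟩
  refine ⟨(b.left ⁻¹ᵁ O).ι v, ?_⟩
  rw [← Scheme.Hom.comp_apply, ← morphismRestrict_ι, Scheme.Hom.comp_apply]
  exact congrArg Subtype.val hv

variable (hdZ : topologicalKrullDim Z.left = 2)
include hdZ hz

/-- The centre is not the generic point of a component. -/
theorem ne_of_closure_mem {ζ : Z.left} (h : closure ({ζ} : Set Z.left) ∈ Models.fibreComponents R Z) : ζ ≠ z := by
  obtain ⟨n, Δ, hΔ⟩ := H28Vert.exists_isComponentList' (R := R) (X := Z) hdZ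
  obtain ⟨i, hi⟩ := hΔ.2.ge h
  obtain ⟨c, -, hc, hgc, hgne⟩ := ModelProj.exists_closed_ne (Δ i)
  intro e
  have hone : ∀ x ∈ Set.range (Δ i).ι.base, x = z := fun x hx => by
    have h1 : x ∈ closure ({ζ} : Set Z.left) := (show Set.range (Δ i).ι.base = closure {ζ} from hi).le hx
    rwa [e, hz.closure_eq] at h1
  exact hgne ((hone _ ⟨_, rfl⟩).trans (hone c hc).symm)

include hz in
/-- A component downstairs is the image of a unique component upstairs not over the centre. -/
theorem exists_lift {W : Set Z.left} (hW : W ∈ Models.fibreComponents R Z) :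
    ∃ ξ : Y.left, b.left ξ ≠ z ∧ closure ({b.left ξ} : Set Z.left) = W ∧
      closure ({ξ} : Set Y.left) ∈ Models.fibreComponents R Y := by
  have hWc := H28Vert.isClosed_of_mem_fibreComponents hW
  obtain ⟨ζ, hζ⟩ : ∃ ζ, IsGenericPoint ζ W := QuasiSober.sober hW.1.1 hWc
  have hζ' : closure ({ζ} : Set Z.left) = W := hζ
  have hne : ζ ≠ z := ne_of_closure_mem z hz hdZ (hζ'.symm ▸ hW)
  obtain ⟨ξ, hξ⟩ := exists_preimage b z hz hne
  refine ⟨ξ, hξ.trans_ne hne, by rw [hξ, hζ'], ?_⟩
  have hξs : ξ ∈ Models.specialFibreSet R Y := (mem_special_iff b ξ).1 (hξ ▸ hW.1.2 (hζ.mem))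
  refine ⟨⟨isIrreducible_singleton.closure,
    closure_minimal (Set.singleton_subset_iff.2 hξs) (Models.isClosed_specialFibreSet R Y)⟩, ?_⟩
  rintro T ⟨hT, hTS⟩ hle
  let τ := hT.genericPoint
  have hτ : IsGenericPoint τ (closure T) := hT.isGenericPoint_genericPoint_closure
  have hτS : τ ∈ Models.specialFibreSet R Y := closure_minimal hTS (Models.isClosed_specialFibreSet R Y) hτ.mem
  have h1 : τ ⤳ ξ := hτ.specializes (subset_closure (hle (subset_closure rfl)))
  have h2 : W ⊆ closure {b.left τ} := by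
    rw [← hζ']
    exact closure_minimal (Set.singleton_subset_iff.2 (hξ ▸ (h1.map b.left.continuous).mem_closure)) isClosed_closure
  have h3 := hW.2 ⟨isIrreducible_singleton.closure, closure_minimal
    (Set.singleton_subset_iff.2 ((mem_special_iff b τ).2 hτS)) (Models.isClosed_specialFibreSet R Z)⟩ h2
  have h4 : ζ ⤳ b.left τ := hζ.specializes (h3 (subset_closure rfl))
  have h5 : ξ ⤳ τ := by
    refine specializes_of_map b z hz (hξ.symm ▸ h4) fun e => hne ?_
    have h6 : z ⤳ ζ := e ▸ hξ ▸ h1.map b.left.continuous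
    exact h6.mem_closed hz rfl
  intro t ht
  exact (h5.trans (hτ.specializes (subset_closure ht))).mem_closure

/-- There are fewer components downstairs. -/
theorem ncard_lt [NoetherianSpace Y.left] [NoetherianSpace Z.left] {E : Set Y.left}
    (hE : E ∈ Models.fibreComponents R Y) (hEz : b.left.base ⁻¹' {z} = E) :
    (Models.fibreComponents R Z).ncard < (Models.fibreComponents R Y).ncard := by
  classical
  have hfin := H28Vert.finite_fibreComponents (R := R) (X := Y)
  haveI : Nonempty Y.left := ⟨hE.1.1.nonempty.some⟩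
  choose! ξ hξne hξW hξY using fun W (hW : W ∈ Models.fibreComponents R Z) => exists_lift b z hz hdZ hW
  refine lt_of_le_of_lt (Set.ncard_le_ncard_of_injOn (fun W => closure ({ξ W} : Set Y.left))
    (t := Models.fibreComponents R Y \ {E}) (fun W hW => ⟨hξY W hW, fun h => ?_⟩) ?_ hfin.sdiff)
    (Set.ncard_sdiff_singleton_lt_of_mem hE hfin)
  · have h1 : ξ W ∈ E := (show closure ({ξ W} : Set Y.left) = E from h).le (subset_closure rfl)
    exact hξne W hW (hEz.ge h1)
  · intro W hW W' hW' h
    have h1 : ξ W = ξ W' :=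
      ((specializes_iff_mem_closure.2 (h.ge (subset_closure rfl))).antisymm
        (specializes_iff_mem_closure.2 (h.le (subset_closure rfl)))).eq
    rw [← hξW W hW, ← hξW W' hW', h1]

end Components

/-- The generic fibre inclusion composed with a contraction. -/
theorem isPullback_comp {C : Scheme.{u}} {f : C ⟶ Spec (CommRingCat.of (FractionRing R))}
    {Y Z : Over (Spec (CommRingCat.of R))} (b : Y ⟶ Z) (z : Z.left) (hz : IsClosed ({z} : Set Z.left))
    [IsIso (b.left ∣_ (⟨{z}ᶜ, hz.isOpen_compl⟩ : Z.left.Opens))] (hzs : z ∈ Models.specialFibreSet R Z)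
    (gY : C ⟶ Y.left)
    (hgY : IsPullback gY f Y.hom (Spec.map (CommRingCat.ofHom (algebraMap R (FractionRing R))))) :
    IsPullback (gY ≫ b.left) f Z.hom (Spec.map (CommRingCat.ofHom (algebraMap R (FractionRing R)))) := by
  let gen := Spec.map (CommRingCat.ofHom (algebraMap R (FractionRing R)))
  haveI : IsOpenImmersion gen := H28Vert.isOpenImmersion_generic (R := R)
  haveI : IsOpenImmersion gY := MorphismProperty.of_isPullback hgY.flip inferInstance
  let O : Z.left.Opens := ⟨{z}ᶜ, hz.isOpen_compl⟩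
  have hgen : ∀ t, gen t ≠ IsLocalRing.closedPoint R := fun t e =>
    IsDiscreteValuationRing.not_a_field R ((congrArg PrimeSpectrum.asIdeal e).symm.trans
      ((congrArg (Ideal.comap (algebraMap R (FractionRing R))) (Ideal.eq_bot_of_prime
        (PrimeSpectrum.asIdeal (R := FractionRing R) t))).trans
          (Ideal.comap_bot_of_injective _ (IsFractionRing.injective R (FractionRing R)))))
  have hO : ∀ c, b.left (gY c) ∈ O := fun c e => by
    have h1 : Y.hom (gY c) = IsLocalRing.closedPoint R :=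
      (mem_special_iff b (gY c)).1 ((show b.left (gY c) = z from e) ▸ hzs)
    rw [← Scheme.Hom.comp_apply, hgY.w, Scheme.Hom.comp_apply] at h1
    exact hgen _ h1
  haveI : IsOpenImmersion (gY ≫ b.left) := by
    let l := IsOpenImmersion.lift (b.left ⁻¹ᵁ O).ι gY
      (by rintro _ ⟨c, rfl⟩; exact ⟨⟨gY c, hO c⟩, rfl⟩)
    have hl : l ≫ (b.left ⁻¹ᵁ O).ι = gY := IsOpenImmersion.lift_fac _ _ _
    haveI : IsOpenImmersion (l ≫ (b.left ⁻¹ᵁ O).ι) := by rw [hl]; infer_instance
    haveI : IsOpenImmersion l := IsOpenImmersion.of_comp l (b.left ⁻¹ᵁ O).ι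
    rw [← hl, Category.assoc, ← morphismRestrict_ι]
    infer_instance
  refine (IsOpenImmersion.isPullback f (gY ≫ b.left) gen Z.hom
    (by rw [Category.assoc, Over.w b, hgY.w]) ?_).flip
  ext w
  constructor
  · intro hw
    obtain ⟨t, ht⟩ := hw
    have hwz : w ≠ z := fun e => hgen t (ht.trans (e ▸ hzs))
    obtain ⟨y, rfl⟩ := exists_preimage b z hz hwz
    have hy : gen t = Y.hom y := by
      rw [← Over.w b, Scheme.Hom.comp_apply]
      exact ht
    obtain ⟨c, hc⟩ := H28Vert.mem_opensRange_of_isPullback hgY y t hy.symm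
    exact ⟨c, (Scheme.Hom.comp_apply _ _ _).trans (congrArg b.left.base hc)⟩
  · rintro ⟨c, rfl⟩
    refine ⟨f c, ?_⟩
    show gen (f c) = Z.hom ((gY ≫ b.left) c)
    rw [← Scheme.Hom.comp_apply, ← hgY.w, ← Scheme.Hom.comp_apply, Category.assoc, Over.w b]

variable (R) in
/-- Successive contractions reach a minimal model. -/
theorem exists_minimal {C : Scheme.{u}} {f : C ⟶ Spec (CommRingCat.of (FractionRing R))}
    (hC : Curve.IsSmoothProperCurve (FractionRing R) C f) :
    ∀ (n : ℕ) (Y : Scheme.{u}) (q : Y ⟶ Spec (CommRingCat.of R)),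
      (Models.fibreComponents R (Over.mk q)).ncard ≤ n → Models.IsRegularProperModel R Y q C f →
      ∀ gY : C ⟶ Y, IsPullback gY f q (Spec.map (CommRingCat.ofHom (algebraMap R (FractionRing R)))) →
      ∃ (X : Scheme.{u}) (p : X ⟶ Spec (CommRingCat.of R)) (gX : C ⟶ X) (b : Y ⟶ X),
        Models.IsMinimalModel R X p C f ∧
        IsPullback gX f p (Spec.map (CommRingCat.ofHom (algebraMap R (FractionRing R)))) ∧
        b ≫ p = q ∧ gY ≫ b = gX ∧ Models.IsContractionSeq b := by
  intro n
  induction n using Nat.strong_induction_on with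
  | _ n ih =>
    intro Y q hn hY gY hgY
    by_cases hmin : ∀ Γ : ArSurf.VertComp R (Over.mk q), ¬ Models.IsExcCurve Γ.ι
    · exact ⟨Y, q, gY, 𝟙 Y, ⟨hY, hmin⟩, hgY, Category.id_comp _, Category.comp_id _,
        Models.IsContractionSeq.iso (Iso.refl Y)⟩
    push Not at hmin
    obtain ⟨Γ, hΓ⟩ := hmin
    have hA : ArSurf.IsArithSurface R (Over.mk q) := ModelProj.isArithSurface_of_model hC hY
    haveI hp : IsProper (Over.mk q).hom := hY.2.1
    haveI : Flat (Over.mk q).hom := hY.1.1
    haveI : IsIntegral (Over.mk q).left := hA.2.1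
    haveI : IsLocallyNoetherian (Over.mk q).left := LocallyOfFiniteType.isLocallyNoetherian (Over.mk q).hom
    haveI : CompactSpace (Over.mk q).left := QuasiCompact.compactSpace_of_compactSpace (Over.mk q).hom
    haveI : IsNoetherian (Over.mk q).left := ⟨⟩
    obtain ⟨Z, b, z, hz, hZ, hb, hpre, hiso⟩ := exists_contraction hA Γ hΓ
    haveI := hiso
    obtain ⟨hreg, hint, hdim, hflat, -⟩ := id hZ
    haveI := hint
    haveI := hflat
    haveI : IsProper Z.hom := H28Vert.isProper_of_isArithSurface hZ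
    haveI : IsLocallyNoetherian Z.left := LocallyOfFiniteType.isLocallyNoetherian Z.hom
    haveI : CompactSpace Z.left := QuasiCompact.compactSpace_of_compactSpace Z.hom
    haveI : IsNoetherian Z.left := ⟨⟩
    have hE : Set.range Γ.ι.base ∈ Models.fibreComponents R (Over.mk q) := by
      obtain ⟨m, Δ, hΔ⟩ := H28Vert.exists_isComponentList' (R := R) (X := Over.mk q) hA.2.2.1
      exact H28Vert.mem_fibreComponents (H28Vert.dim_fibre_le_one hΔ) Γ
    have hzs : z ∈ Models.specialFibreSet R Z := by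
      have h1 : b.left (Models.genPtOf R _ Γ) = z := hpre.ge ⟨_, rfl⟩
      exact h1 ▸ (mem_special_iff b _).2 (ModelProj.genPtOf_mem Γ)
    have hlt := ncard_lt b z hz hdim hE hpre
    have hgZ := isPullback_comp b z hz hzs gY hgY
    have hZm : Models.IsRegularProperModel R Z.left Z.hom C f :=
      ⟨⟨hflat, inferInstance, inferInstance, _, hgZ⟩, inferInstance, hreg⟩
    obtain ⟨X, p, gX, r, hX, hgX, hrp, hgr, hseq⟩ :=
      ih _ (hlt.trans_le hn) Z.left Z.hom (le_rfl : (Models.fibreComponents R (Over.mk Z.hom)).ncard ≤ _) hZm _ hgZ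
    refine ⟨X, p, gX, b.left ≫ r, hX, hgX, ?_, ?_, Models.IsContractionSeq.step Γ.ι b.left r Γ.isClosedImmersion hΓ hb hseq⟩
    · rw [Category.assoc, hrp]
      exact Over.w b
    · rw [← Category.assoc, hgr]

end Groth.Agent.H28RR.ModelContract
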