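import Groth.Agent.H28RR.ModelGenusZero
import Groth.Agent.H28Vert.SmoothModel
import Groth.Agent.S3258
import Mathlib.AlgebraicGeometry.Morphisms.SmoothFiber

/-! # Minimal models and good reduction -/

set_option autoImplicit false
set_option linter.style.haveILetI false
set_option linter.unusedSectionVars false
set_option backward.isDefEq.respectTransparency.types false
set_option maxHeartbeats 1600000

universe u

open CategoryTheory CategoryTheory.Limits AlgebraicGeometry TopologicalSpace

noncomputable section

namespace Groth.Agent.H28RR.ModelSmooth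

open ModelContract

/-- Smoothness of the fibre at a point in the image of a preimmersion. -/
theorem smooth_fiber_of_preimmersion {X S T Z : Scheme.{u}} {f : X ⟶ S} {ι : T ⟶ S} [IsPreimmersion ι]
    {a : Z ⟶ X} {g : Z ⟶ T} (hsq : IsPullback a g f ι) [Smooth g] (t : T) :
    Smooth (f.fiberToSpecResidueField (ι t)) := by
  have hb : Function.Bijective (ι.residueFieldMap t) := by
    refine ⟨RingHom.injective _, fun x => ?_⟩
    obtain ⟨y, hy⟩ := (T.residue_surjective t) x
    obtain ⟨z, hz⟩ := ι.stalkMap_surjective t y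
    refine ⟨S.residue (ι t) z, ?_⟩
    have h := congrArg (fun φ => (ConcreteCategory.hom φ) z) (Scheme.residue_residueFieldMap ι t)
    exact h.trans ((congrArg (T.residue t) hz).trans hy)
  haveI : IsIso (ι.residueFieldMap t) := (ConcreteCategory.isIso_iff_bijective _).2 hb
  have h := isPullback_fiberToSpecResidueField_of_isPullback hsq t
  haveI : Smooth (g.fiberToSpecResidueField t) :=
    MorphismProperty.of_isPullback (IsPullback.of_hasPullback g _) ‹Smooth g›
  haveI h2 : IsIso (Spec.map (ι.residueFieldMap t)) := by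
    refine ⟨Spec.map (inv (ι.residueFieldMap t)), ?_, ?_⟩ <;> rw [← Spec.map_comp] <;> simp
  haveI h3 := h.isIso_fst_of_isIso
  exact ((MorphismProperty.arrow_mk_iso_iff (P := @Smooth)
    (Arrow.isoMk (@asIso _ _ _ _ _ h3) (@asIso _ _ _ _ _ h2) h.w)).1 ‹Smooth (g.fiberToSpecResidueField t)›)

variable {R : Type u} [CommRing R] [IsDomain R] [IsDiscreteValuationRing R] {C X : Scheme.{u}}
  {f : C ⟶ Spec (CommRingCat.of (FractionRing R))} {p : X ⟶ Spec (CommRingCat.of R)}

/-- A smooth proper model is minimal. -/
theorem isMinimal_of_smooth (hC : Curve.IsSmoothProperCurve (FractionRing R) C f)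
    (hX : Models.IsModel R X p C f) [IsProper p] [Smooth p] : Models.IsMinimalModel R X p C f := by
  obtain ⟨hreg, -, -⟩ := H28Vert.smoothModel_facts hC hX
  have hm : Models.IsRegularProperModel R X p C f := ⟨hX, inferInstance, hreg⟩
  refine ⟨hm, fun Γ hΓ => ?_⟩
  have hA := ModelProj.isArithSurface_of_model hC hm
  haveI : IsProper (Over.mk p).hom := inferInstanceAs (IsProper p)
  haveI : Smooth (Over.mk p).hom := inferInstanceAs (Smooth p)
  obtain ⟨Z, b, z, hz, hZ, hb, hpre, hiso⟩ := exists_contraction hA Γ hΓ
  haveI := hiso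
  obtain ⟨g, hg⟩ := hX.2.2.2
  have hzs : z ∈ Models.specialFibreSet R Z := by
    have h1 : b.left (Models.genPtOf R _ Γ) = z := hpre.ge ⟨_, rfl⟩
    exact h1 ▸ (mem_special_iff b _).2 (ModelProj.genPtOf_mem Γ)
  have hgZ := isPullback_comp b z hz hzs g hg
  obtain ⟨hregZ, -, -, hflZ, hprojZ⟩ := hZ
  haveI : IsIso ((Neron.genericFibre R).map b) := by
    let φ := ((Neron.genericFibre R).map b).left
    have hφ : φ = hg.isoPullback.inv ≫ hgZ.isoPullback.hom := by
      refine (Iso.eq_inv_comp _).2 (pullback.hom_ext ?_ ?_)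
      · exact (Category.assoc _ _ _).trans ((congrArg (hg.isoPullback.hom ≫ ·) (pullback.lift_fst _ _ _)).trans
          ((Category.assoc _ _ _).symm.trans ((congrArg (· ≫ b.left) hg.isoPullback_hom_fst).trans
            hgZ.isoPullback_hom_fst.symm)))
      · exact (Category.assoc _ _ _).trans ((congrArg (hg.isoPullback.hom ≫ ·)
          ((pullback.lift_snd _ _ _).trans (Category.comp_id _))).trans
            (hg.isoPullback_hom_snd.trans hgZ.isoPullback_hom_snd.symm))
    haveI : IsIso φ := hφ ▸ inferInstance
    haveI : IsIso ((Over.forget _).map ((Neron.genericFibre R).map b)) := ‹IsIso φ›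
    exact isIso_of_reflects_iso _ (Over.forget _)
  haveI : IsIso b := (S3258.result (Over.mk p) hA).2.2.2 Z hregZ hprojZ hflZ b ‹_›
  haveI : IsIso b.left := inferInstanceAs (IsIso ((Over.forget _).map b))
  have hinj : Function.Injective b.left.base := b.left.homeomorph.injective
  haveI := Γ.isIntegral
  obtain ⟨c, -, ⟨w, rfl⟩, -, hne⟩ := ModelProj.exists_closed_ne Γ
  have key : ∀ w, b.left (Γ.ι w) = z := fun w => hpre.ge ⟨w, rfl⟩
  exact hne (hinj ((key _).trans (key w).symm))

/-- A model with smooth closed fibre is smooth. -/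
theorem smooth_of_specialFibre (hC : Curve.IsSmoothProperCurve (FractionRing R) C f)
    (hX : Models.IsModel R X p C f) [LocallyOfFinitePresentation p]
    (h : Smooth (pullback.snd p (Spec.map (CommRingCat.ofHom (algebraMap R (IsLocalRing.ResidueField R)))))) :
    Smooth p := by
  obtain ⟨hfl, -, -, g, hg⟩ := hX
  haveI := hfl
  haveI := hC.2.1
  haveI := h
  haveI : IsClosedImmersion (Spec.map (CommRingCat.ofHom (algebraMap R (IsLocalRing.ResidueField R)))) :=
    IsClosedImmersion.spec_of_surjective _ IsLocalRing.residue_surjective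
  haveI := H28Vert.isOpenImmersion_generic (R := R)
  refine Smooth.of_smooth_fiberToSpecResidueField p fun y => ?_
  by_cases hy : y.asIdeal = ⊥
  · obtain rfl : y = Spec.map (CommRingCat.ofHom (algebraMap R (FractionRing R)))
        (IsLocalRing.closedPoint (FractionRing R)) := by
      refine PrimeSpectrum.ext (hy.trans ?_)
      exact ((congrArg (Ideal.comap (algebraMap R (FractionRing R))) (Ideal.eq_bot_of_prime
        (PrimeSpectrum.asIdeal (R := FractionRing R) (IsLocalRing.closedPoint _)))).trans
          (Ideal.comap_bot_of_injective _ (IsFractionRing.injective R (FractionRing R)))).symm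
    exact smooth_fiber_of_preimmersion hg _
  · obtain rfl : y = Spec.map (CommRingCat.ofHom (algebraMap R (IsLocalRing.ResidueField R)))
        (IsLocalRing.closedPoint (IsLocalRing.ResidueField R)) := by
      refine PrimeSpectrum.ext ((IsLocalRing.eq_maximalIdeal (Ideal.IsPrime.isMaximal y.isPrime hy)).trans ?_)
      exact (congrArg PrimeSpectrum.asIdeal (IsLocalRing.PrimeSpectrum.comap_residue R _)).symm
    exact smooth_fiber_of_preimmersion (IsPullback.of_hasPullback p _) _


/-- A reduced irreducible closed fibre is the component. -/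
theorem exists_fibre_iso {X : Over (Spec (CommRingCat.of R))} [IsProper X.hom] [Flat X.hom]
    [IsLocallyNoetherian X.left] {Δ : ArSurf.VertComp R X} (hreg : Models.IsRegularScheme X.left)
    (hΔ : Models.IsComponentList R X (fun _ : Fin 1 => Δ)) (hm : Models.mult R X Δ = 1) :
    ∃ t : Models.specialFibre R X.left X.hom ≅ Δ.curve.left,
      t.hom ≫ Δ.curve.hom = pullback.snd X.hom (Spec.map (CommRingCat.ofHom (algebraMap R (IsLocalRing.ResidueField R)))) := by
  haveI := Δ.isClosedImmersion
  let fs := pullback.fst X.hom (H28Vert.closedPt R)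
  have hker : fs.ker = Δ.ι.ker := by
    rw [H28Vert.ker_fst_eq, H28Vert.specialFibreIdeal_eq_prod hreg hΔ, Fin.prod_univ_one, hm, pow_one]
  let t := IsClosedImmersion.lift Δ.ι fs hker.ge
  have ht : t ≫ Δ.ι = fs := IsClosedImmersion.lift_fac _ _ _
  have h1 : H28Vert.toFibre Δ ≫ t = 𝟙 _ := by
    rw [← cancel_mono Δ.ι, Category.assoc, ht, H28Vert.toFibre_fst, Category.id_comp]
  have h2 : t ≫ H28Vert.toFibre Δ = 𝟙 _ := by
    rw [← cancel_mono fs, Category.assoc, H28Vert.toFibre_fst, ht, Category.id_comp]
  refine ⟨Iso.mk t (H28Vert.toFibre Δ) h2 h1, ?_⟩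
  show t ≫ Δ.curve.hom = pullback.snd X.hom (H28Vert.closedPt R)
  rw [← cancel_mono (H28Vert.closedPt R), Category.assoc, ← pullback.condition]
  exact (congrArg (t ≫ ·) Δ.w.symm).trans ((Category.assoc _ _ _).symm.trans (congrArg (· ≫ X.hom) ht))

end Groth.Agent.H28RR.ModelSmooth
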