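import Groth.Agent.H28RR.ModelUnique
import Groth.Agent.H28RR.ModelImage
import Groth.Agent.H28RR.ModelCanon
import Groth.Agent.H17.Canon.BlowVert
import Groth.Agent.H17.Canon.VertAdj
import Groth.Agent.S7314
import Groth.Agent.S7941

/-! # Models with nef canonical sheaf receive every regular proper model -/

set_option autoImplicit false
set_option linter.style.haveILetI false
set_option linter.unusedSectionVars false
set_option backward.isDefEq.respectTransparency.types false
set_option maxHeartbeats 1600000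

universe u

open CategoryTheory CategoryTheory.Limits AlgebraicGeometry TopologicalSpace

noncomputable section

namespace Groth.Agent.H28RR.ModelUniqueN

open ModelContract ModelUnique

variable {R : Type u} [CommRing R] [IsDomain R] [IsDiscreteValuationRing R]

section

variable {C X Y : Scheme.{u}} {f : C ⟶ Spec (CommRingCat.of (FractionRing R))}
  {p : X ⟶ Spec (CommRingCat.of R)}

/-- Morphisms of models are determined on the generic fibre. -/
theorem eq_of_generic {T S : Scheme.{u}} {q : Y ⟶ Spec (CommRingCat.of R)} (hC : IsProper f ∧ IsIntegral C ∧ topologicalKrullDim C = 1)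
    (hY : Models.IsRegularProperModel R Y q C f) {gY : C ⟶ Y}
    (hgY : IsPullback gY f q (Spec.map (CommRingCat.ofHom (algebraMap R (FractionRing R)))))
    (s : T ⟶ S) [IsSeparated s] {b b' : Y ⟶ T} (h : b ≫ s = b' ≫ s) (hb : gY ≫ b = gY ≫ b') :
    b = b' := by
  haveI := ModelArith.isIntegral_model' hC hY
  haveI : IsIntegral C := hC.2.1
  haveI := H28Vert.isOpenImmersion_generic (R := R)
  haveI : IsOpenImmersion gY := MorphismProperty.of_isPullback hgY.flip inferInstance
  haveI : IsDominant gY := ⟨by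
    have h1 : (gY.opensRange : Set Y).Nonempty := ⟨gY (genericPoint C), ⟨_, rfl⟩⟩
    exact gY.opensRange.2.dense h1⟩
  exact ext_of_isDominant_of_isSeparated s h gY hb

variable (hC : IsProper f ∧ IsIntegral C ∧ topologicalKrullDim C = 1)
  (hX : Models.IsRegularProperModel R X p C f)
  (hnef : ∀ (ω : X.Modules), Canon.IsCanonical p ω → ∀ Δ : ArSurf.VertComp R (Over.mk p),
    0 ≤ ArSurf.inter R (Over.mk p) ω Δ)
  {gX : C ⟶ X} (hgX : IsPullback gX f p (Spec.map (CommRingCat.ofHom (algebraMap R (FractionRing R)))))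

include hC hX hgX in
/-- A morphism of models is a composite of contractions. -/
theorem isContractionSeq_of_hom {W : Scheme.{u}} {q : W ⟶ Spec (CommRingCat.of R)}
    (hW : Models.IsRegularProperModel R W q C f) {gW : C ⟶ W}
    (hgW : IsPullback gW f q (Spec.map (CommRingCat.ofHom (algebraMap R (FractionRing R)))))
    (g : W ⟶ X) (hgp : g ≫ p = q) (hgg : gW ≫ g = gX) : Models.IsContractionSeq g := by
  obtain ⟨hregW, hintW, hdW, -, -⟩ := ModelProj.isArithSurface_of_model' hC hW
  obtain ⟨hregX, hintX, hdX, -, -⟩ := ModelProj.isArithSurface_of_model' hC hX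
  haveI : IsIntegral W := hintW
  haveI : IsIntegral X := hintX
  haveI : IsProper q := hW.2.1
  haveI : IsProper p := hX.2.1
  haveI : IsLocallyNoetherian W := LocallyOfFiniteType.isLocallyNoetherian q
  haveI : CompactSpace W := QuasiCompact.compactSpace_of_compactSpace q
  haveI : IsNoetherian W := ⟨⟩
  haveI : IsLocallyNoetherian X := LocallyOfFiniteType.isLocallyNoetherian p
  haveI : CompactSpace X := QuasiCompact.compactSpace_of_compactSpace p
  haveI : IsNoetherian X := ⟨⟩
  haveI : IsProper (g ≫ p) := by rw [hgp]; infer_instance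
  haveI : IsProper g := IsProper.of_comp g p
  haveI := H28Vert.isOpenImmersion_generic (R := R)
  haveI : IsOpenImmersion gX := MorphismProperty.of_isPullback hgX.flip inferInstance
  haveI : IsIntegral C := hC.2.1
  exact S7314.result g ⟨gX.opensRange, ⟨gX (genericPoint C), ⟨_, rfl⟩⟩,
    isIso_restrict_opensRange hgW hgX g hgp hgg⟩ hregW hdW hregX hdX

include hC hX hnef hgX in
/-- A morphism to the minimal model descends along contractions. -/
theorem exists_descend {W Y : Scheme.{u}} {b : W ⟶ Y} (hb : Models.IsContractionSeq b) :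
    ∀ (qW : W ⟶ Spec (CommRingCat.of R)) (qY : Y ⟶ Spec (CommRingCat.of R)) (gW : C ⟶ W) (g : W ⟶ X),
      qW = b ≫ qY → IsProper qY → Models.IsRegularProperModel R W qW C f →
      IsPullback gW f qW (Spec.map (CommRingCat.ofHom (algebraMap R (FractionRing R)))) →
      g ≫ p = qW → gW ≫ g = gX → ∃ h : Y ⟶ X, b ≫ h = g := by
  induction hb with
  | iso e =>
    intro qW qY gW g _ _ _ _ _ _
    exact ⟨e.inv ≫ g, e.hom_inv_id_assoc g⟩
  | @step W Z Y F ι b r hι hF hbc hr ih =>
    intro qW qY gW g hq hqY hW hgW hgp hgg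
    haveI := hι
    haveI := hqY
    haveI := isProper_seq hr
    haveI hbp : IsProper b := hbc.2.1
    let qZ := r ≫ qY
    have hq' : qW = b ≫ qZ := hq.trans (Category.assoc _ _ _)
    subst hq'
    obtain ⟨E₁, -, -, hE₁, hb₁⟩ :=
      exists_vertComp (W := Over.mk (b ≫ qZ)) ι hF b hbc qZ rfl
    have hA : ArSurf.IsArithSurface R (Over.mk (b ≫ qZ)) := ModelProj.isArithSurface_of_model' hC hW
    haveI : IsProper (Over.mk (b ≫ qZ)).hom := H28Vert.isProper_of_isArithSurface hA
    haveI : IsLocallyNoetherian W := LocallyOfFiniteType.isLocallyNoetherian (Over.mk (b ≫ qZ)).hom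
    haveI : CompactSpace W := QuasiCompact.compactSpace_of_compactSpace (Over.mk (b ≫ qZ)).hom
    haveI : IsNoetherian W := ⟨⟩
    obtain ⟨ωW, -, hωW⟩ := ModelCanon.exists_canonical hA
    obtain ⟨ωX, -, hωX⟩ := ModelCanon.exists_canonical (ModelProj.isArithSurface_of_model' hC hX)
    have hcontr : ∃ x : X, Set.range ((E₁.ι ≫ g).base : E₁.curve.left → X) = {x} := by
      by_contra hnc
      obtain ⟨Δ, hΔ⟩ := exists_neg_image (isContractionSeq_of_hom hC hX hgX hW hgW g hgp hgg) (b ≫ qZ) p
        hgp.symm hX.2.1 hA E₁ ωW hωW (inter_canonical_exc hA E₁ hE₁ hωW) hnc ωX hωX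
      exact (hnef ωX hωX Δ).not_gt hΔ
    obtain ⟨x, hx⟩ := hcontr
    haveI := E₁.isClosedImmersion
    haveI : IsNoetherian (Over.mk (b ≫ qZ)).left := ‹IsNoetherian W›
    obtain ⟨g₁, hg₁, -⟩ := S7307.result E₁.ι hE₁ b hb₁ g x hx
    have hxs : Set.range ((E₁.ι ≫ b ≫ qZ).base : E₁.curve.left → Spec (CommRingCat.of R)) = {p x} := by
      rw [show E₁.ι ≫ b ≫ qZ = (E₁.ι ≫ g) ≫ p by rw [Category.assoc, hgp], Scheme.Hom.comp_base,
        TopCat.coe_comp, Set.range_comp, hx, Set.image_singleton]
    obtain ⟨ψ, -, huni⟩ := S7307.result E₁.ι hE₁ b hb₁ (b ≫ qZ) _ hxs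
    have hg₁p : g₁ ≫ p = qZ :=
      (huni _ (show b ≫ g₁ ≫ p = b ≫ qZ by rw [← Category.assoc, hg₁]; exact hgp)).trans (huni _ rfl).symm
    let b' : Over.mk (b ≫ qZ) ⟶ Over.mk qZ := Over.homMk b
    obtain ⟨z, hz, hZ, hpre, hiso⟩ := ModelImage.contraction_facts hA E₁ hE₁ b' hb₁
    haveI := hiso
    have hzs : z ∈ Models.specialFibreSet R (Over.mk qZ) := by
      have h1 : b'.left (Models.genPtOf R _ E₁) = z := hpre.ge ⟨_, rfl⟩
      exact h1 ▸ (mem_special_iff b' _).2 (ModelProj.genPtOf_mem E₁)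
    have hgZ := isPullback_comp b' z hz hzs gW hgW
    haveI : IsProper qZ := inferInstanceAs (IsProper (r ≫ qY))
    have hZm : Models.IsRegularProperModel R Z qZ C f :=
      ⟨⟨hZ.2.2.2.1, inferInstance, inferInstance, gW ≫ b, hgZ⟩, inferInstance, hZ.1⟩
    obtain ⟨h, hh⟩ := ih qZ qY (gW ≫ b) g₁ rfl hqY hZm hgZ hg₁p (by rw [Category.assoc, hg₁, hgg])
    exact ⟨h, by rw [Category.assoc, hh, hg₁]⟩

include hC hX hnef hgX in
/-- Every regular proper model maps to the minimal model. -/
theorem exists_hom {q : Y ⟶ Spec (CommRingCat.of R)} (hY : Models.IsRegularProperModel R Y q C f) {gY : C ⟶ Y}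
    (hgY : IsPullback gY f q (Spec.map (CommRingCat.ofHom (algebraMap R (FractionRing R))))) :
    ∃ b : Y ⟶ X, b ≫ p = q ∧ gY ≫ b = gX := by
  haveI : IsProper p := hX.2.1
  haveI : IsProper q := hY.2.1
  haveI hgenO := H28Vert.isOpenImmersion_generic (R := R)
  haveI : IsOpenImmersion gY := MorphismProperty.of_isPullback hgY.flip inferInstance
  haveI : IsIntegral C := hC.2.1
  let gen := Spec.map (CommRingCat.ofHom (algebraMap R (FractionRing R)))
  let U := gY.opensRange
  let φ : (U : Scheme.{u}) ⟶ X := gY.isoOpensRange.inv ≫ gX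
  have hi : gY.isoOpensRange.inv ≫ gY = U.ι := gY.isoOpensRange_inv_comp
  have hφ : φ ≫ p = U.ι ≫ q := by
    rw [Category.assoc, hgX.w, ← hgY.w, ← Category.assoc, hi]
  obtain ⟨W, b, g, hb, hgp, hagree⟩ := S7941.result R (Over.mk q) (ModelProj.isArithSurface_of_model' hC hY)
    (Over.mk p) (ModelProj.isArithSurface_of_model' hC hX).2.2.2.2 U ⟨gY (genericPoint C), ⟨_, rfl⟩⟩ φ hφ
  have hUeq : U = q ⁻¹ᵁ gen.opensRange := by
    ext y
    constructor
    · rintro ⟨c, rfl⟩
      refine ⟨f c, ?_⟩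
      rw [← Scheme.Hom.comp_apply, ← hgY.w]
      rfl
    · rintro ⟨t, ht⟩
      exact H28Vert.mem_opensRange_of_isPullback hgY y t ht.symm
  haveI : IsIso (b ∣_ U) := by
    rw [hUeq]
    exact isIso_generic hb q inferInstance
  let gW : C ⟶ W := gY.isoOpensRange.hom ≫ inv (b ∣_ U) ≫ (b ⁻¹ᵁ U).ι
  have hgWb : gW ≫ b = gY := by
    simp only [gW, Category.assoc, ← morphismRestrict_ι, IsIso.inv_hom_id_assoc]
    exact gY.isoOpensRange_hom_ι
  have hgWg : gW ≫ g = gX := by
    simp only [gW, Category.assoc]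
    rw [hagree, IsIso.inv_hom_id_assoc]
    exact gY.isoOpensRange.hom_inv_id_assoc gX
  haveI : IsProper b := isProper_seq hb
  have hgW : IsPullback gW f (b ≫ q) gen := by
    refine (IsOpenImmersion.isPullback f gW gen (b ≫ q)
      (by rw [← Category.assoc, hgWb, hgY.w]) ?_).flip
    rw [Scheme.Hom.comp_preimage, ← hUeq]
    simp [gW, Scheme.Hom.opensRange_comp_of_isIso]
  have hWm : Models.IsRegularProperModel R W (b ≫ q) C f := by
    have hA := ModelProj.isArithSurface_of_model' hC hY
    obtain ⟨hWi, hWr, hWg⟩ := regular_of_seq hb hA.2.1 hA.1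
    haveI : IsIntegral Y := hA.2.1
    haveI := hWi
    haveI : Flat q := hY.1.1
    haveI : Flat (Over.mk q).hom := hY.1.1
    haveI : IsIntegral (Over.mk q).left := hA.2.1
    have heq : b (genericPoint W) = genericPoint Y := (hWg _ (genericPoint_spec W)).eq (genericPoint_spec Y)
    haveI : Flat (b ≫ q) := by
      refine H18Subtr.flat_of_isIntegral_of_map_genericPoint (Z := W) (b ≫ q) ?_
      rw [Scheme.Hom.comp_apply, heq]
      exact H28Vert.hom_genericPoint_eq_bot (X := Over.mk q)
    exact ⟨⟨inferInstance, inferInstance, inferInstance, gW, hgW⟩, inferInstance, hWr⟩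
  obtain ⟨h, hh⟩ := exists_descend hC hX hnef hgX hb (b ≫ q) q gW g rfl inferInstance hWm hgW hgp hgWg
  have hgh : gY ≫ h = gX := by rw [← hgWb, Category.assoc, hh, hgWg]
  refine ⟨h, ?_, hgh⟩
  exact eq_of_generic hC hY hgY (terminal.from (Spec (CommRingCat.of R))) (terminal.hom_ext _ _)
    (by rw [← Category.assoc, hgh, hgX.w, hgY.w])

end

end Groth.Agent.H28RR.ModelUniqueN
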