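import Groth.Agent.H28Surf.CurveDecomp
import Groth.Agent.H29Ref.DivisorPart
import Groth.Agent.S1680
import Groth.Agent.H11Strict.StrictCurve
import Groth.Agent.H22Alg.FlatSurj

/-!
# The order of a divisor at a closed point and the exceptional divisor of its blow-up
-/

set_option autoImplicit false
set_option linter.style.haveILetI false
set_option backward.isDefEq.respectTransparency.types false
universe u

open CategoryTheory CategoryTheory.Limits AlgebraicGeometry TopologicalSpace IsLocalRing
open Groth.Agent.H26Blow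

namespace Groth.Agent.H28RR

variable {X : Scheme.{u}}

/-- The restriction of an ideal sheaf to the spectrum of a local ring. -/
theorem comap_fromSpecStalk (I : X.IdealSheafData) (x : X) (V : X.affineOpens) (hx : x ∈ V.1) :
    I.comap (X.fromSpecStalk x) = centre (H28Vert.stalkId I V hx) := by
  have htop : (X.fromSpecStalk x) ⁻¹ᵁ V.1 = ⊤ := eq_top_iff.2 fun q _ => by
    have h1 : X.fromSpecStalk x q ⤳ x := by
      have := Scheme.range_fromSpecStalk (X := X) (x := x)
      exact this.le ⟨q, rfl⟩
    exact h1.mem_open V.1.2 hx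
  have h := H29Blow.ideal_comap I (X.fromSpecStalk x) V ⟨⊤, isAffineOpen_top _⟩ (by rw [htop])
  have key : (I.comap (X.fromSpecStalk x)).ideal ⟨⊤, isAffineOpen_top _⟩ =
      (H28Vert.stalkId I V hx).map (Scheme.ΓSpecIso (X.presheaf.stalk x)).inv.hom := by
    rw [h, H28Vert.stalkId, Ideal.map_map, ← CommRingCat.hom_comp, Scheme.Hom.appLE,
      Scheme.fromSpecStalk_app hx, Category.assoc, Category.assoc, ← Functor.map_comp]
    congr 1
  refine le_antisymm (Scheme.IdealSheafData.le_of_isAffine ?_) (Scheme.IdealSheafData.le_of_isAffine ?_)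
  · rw [key, ideal_centre_top]
    rfl
  · rw [key, ideal_centre_top]
    rfl

variable [IsLocallyNoetherian X] {P : X} {hP : IsClosed ({P} : Set X)}

/-- The stalk of the ideal of a closed point is the maximal ideal. -/
theorem stalkId_point (V : X.affineOpens) (hV : P ∈ V.1) :
    H28Vert.stalkId (Scheme.IdealSheafData.vanishingIdeal ⟨{P}, hP⟩) V hV = maximalIdeal _ := by
  set J := Scheme.IdealSheafData.vanishingIdeal (⟨{P}, hP⟩ : Closeds X) with hJ
  haveI : IsReduced J.subscheme := H17.isReduced_vanishingIdeal_subscheme _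
  have hr : Set.range J.subschemeι = {P} := by
    rw [Scheme.IdealSheafData.range_subschemeι, hJ, Scheme.IdealSheafData.coe_support_vanishingIdeal]
    rfl
  haveI : Nonempty J.subscheme := Set.range_nonempty_iff_nonempty.1 (hr ▸ Set.singleton_nonempty P)
  haveI : Subsingleton J.subscheme := ⟨fun a b => J.subschemeι.isEmbedding.injective
    ((hr.le (Set.mem_range_self a)).trans (hr.le (Set.mem_range_self b)).symm)⟩
  haveI : IrreducibleSpace J.subscheme :=
    (irreducibleSpace_def _).2 (by
      obtain ⟨a⟩ : Nonempty J.subscheme := inferInstance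
      rw [Set.top_eq_univ, show (Set.univ : Set J.subscheme) = {a} from Set.eq_singleton_iff_unique_mem.2 ⟨trivial, fun b _ => Subsingleton.elim b a⟩]
      exact isIrreducible_singleton)
  haveI := isIntegral_of_irreducibleSpace_of_isReduced J.subscheme
  have hg : J.subschemeι (genericPoint J.subscheme) = P := hr.le (Set.mem_range_self _)
  have key : ∀ w, J.subschemeι (genericPoint J.subscheme) = w → ∀ hw : w ∈ V.1,
      H28Vert.stalkId J V hw = maximalIdeal _ := by
    rintro w rfl hw
    exact H28Surf.stalkId_gen J V hw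
  exact key P hg hV

variable {X' : Scheme.{u}} {π : X' ⟶ X}

/-- An ideal whose total transform lies in a power of the exceptional divisor lies in that power of the
point. -/
theorem le_pow_of_comap_le (hreg : IsRegularLocalRing (X.presheaf.stalk P)) (hdim : ringKrullDim (X.presheaf.stalk P) = 2)
    (hπ : BlowUp.IsBlowUp π (Scheme.IdealSheafData.vanishingIdeal ⟨{P}, hP⟩))
    {C : X.IdealSheafData} (hC : BlowUp.IsEffCartierIdeal C) {n : ℕ}
    (hle : C.comap π ≤ BlowUp.exceptional π (Scheme.IdealSheafData.vanishingIdeal ⟨{P}, hP⟩) ^ n) :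
    C ≤ Scheme.IdealSheafData.vanishingIdeal ⟨{P}, hP⟩ ^ n := by
  haveI := hreg
  obtain ⟨V, hV, hPV, -⟩ := exists_isAffineOpen_mem_and_subset (X := X) (x := P) (U := ⊤) trivial
  set J := Scheme.IdealSheafData.vanishingIdeal (⟨{P}, hP⟩ : Closeds X) with hJ
  obtain ⟨g, hg, hgI⟩ := H29Ref.exists_stalk_gen hC P
  rw [H29Ref.stalkIdeal_eq C P ⟨V, hV⟩ hPV] at hgI
  have hgm : g ∈ maximalIdeal _ ^ n := by
    by_contra hgn
    classical
    have hex : ∃ j, g ∉ maximalIdeal (X.presheaf.stalk P) ^ (j + 1) := by
      obtain ⟨j, hj⟩ : ∃ j, n = j + 1 := ⟨n - 1, by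
        rcases Nat.eq_zero_or_pos n with h0 | h0
        · exact absurd (by rw [h0, pow_zero, Ideal.one_eq_top]; trivial) hgn
        · omega⟩
      exact ⟨j, hj ▸ hgn⟩
    have hμ' := Nat.find_spec hex
    have hμ : g ∈ maximalIdeal (X.presheaf.stalk P) ^ Nat.find hex := by
      rcases Nat.eq_zero_or_pos (Nat.find hex) with h0 | h0
      · rw [h0, pow_zero, Ideal.one_eq_top]; trivial
      · have := Nat.find_min hex (Nat.sub_lt h0 one_pos)
        rw [show Nat.find hex - 1 + 1 = Nat.find hex by omega, not_not] at this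
        exact this
    have hlt : Nat.find hex < n := by
      by_contra hcon
      exact hgn (Ideal.pow_le_pow_right (not_lt.1 hcon) hμ)
    haveI := H22Alg.flat_fromSpecStalk X P
    have hb := S1680.result (X.fromSpecStalk P) J π hπ
    rw [comap_fromSpecStalk J P ⟨V, hV⟩ hPV, stalkId_point] at hb
    obtain ⟨-, hnot, -⟩ := H11Strict.pullback_divisor hdim _ hb g _ hμ hμ'
    refine hnot ?_
    have hCs : (centre (Ideal.span {g})) = C.comap (X.fromSpecStalk P) := by
      rw [comap_fromSpecStalk C P ⟨V, hV⟩ hPV]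
      exact congrArg centre hgI.symm
    rw [hCs, ← Scheme.IdealSheafData.comap_comp, pullback.condition, Scheme.IdealSheafData.comap_comp]
    refine (Scheme.IdealSheafData.comap_mono (f := pullback.snd (X.fromSpecStalk P) π) hle).trans ?_
    beta_reduce
    rw [H11Strict.comap_pow, show BlowUp.exceptional π J = J.comap π from rfl, ← Scheme.IdealSheafData.comap_comp,
      ← pullback.condition, Scheme.IdealSheafData.comap_comp, comap_fromSpecStalk J P ⟨V, hV⟩ hPV, stalkId_point]
    intro U
    rw [Scheme.IdealSheafData.ideal_pow, Pi.pow_apply, Scheme.IdealSheafData.ideal_pow, Pi.pow_apply]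
    exact Ideal.pow_le_pow_right hlt
  intro W
  refine H29Ref.le_of_stalkIdeal_le W fun x hx => ?_
  rw [H29Ref.stalkIdeal_eq _ x W hx, H29Ref.stalkIdeal_eq _ x W hx]
  show H28Vert.stalkId C W hx ≤ H28Vert.stalkId (J ^ n) W hx
  have hp : H28Vert.stalkId (J ^ n) W hx = H28Vert.stalkId J W hx ^ n := by
    simp only [H28Vert.stalkId, Scheme.IdealSheafData.ideal_pow, Pi.pow_apply, Ideal.map_pow]
  rw [hp]
  by_cases hxP : x = P
  · subst hxP
    rw [stalkId_point, H28Vert.stalkId_congr C W ⟨V, hV⟩ hx hPV]
    exact hgI.trans_le ((Ideal.span_singleton_le_iff_mem _).2 hgm)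
  · rw [H28Surf.stalkId_top J W hx fun h => hxP ?_, ← Ideal.one_eq_top, one_pow, Ideal.one_eq_top]
    · exact le_top
    · rw [hJ, Scheme.IdealSheafData.coe_support_vanishingIdeal] at h
      exact h

end Groth.Agent.H28RR
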