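import Groth.Agent.H28RR.PrincipalLocal
import Groth.Agent.H28Alg.Laplacian
import Groth.Agent.H28Int.Curves

/-!
# Curves contracted to a point of a surface have negative definite intersection matrix (Mumford)
-/

set_option autoImplicit false
set_option linter.style.haveILetI false
set_option backward.isDefEq.respectTransparency.types false
universe u

open CategoryTheory CategoryTheory.Limits AlgebraicGeometry Opposite TopologicalSpace
open Groth.Agent.H8Props.FieldDim (cdim)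

namespace Groth.Agent.H28RR.MumfordNeg

open Groth.Agent.H28Int Groth.Agent.H28Surf PrincipalLocal

/-- Mumford: the intersection matrix of a connected exceptional fibre is negative definite. -/
theorem negDef (k : Type u) [Field k] {X : Scheme.{u}} [X.Over (Spec (CommRingCat.of k))]
    [IsProper (X ↘ Spec (CommRingCat.of k))] [Smooth (X ↘ Spec (CommRingCat.of k))] [IsIntegral X]
    (hdim : topologicalKrullDim X = 2) {Y : Scheme.{u}} [IsIntegral Y] (q : Y ⟶ Spec (CommRingCat.of k))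
    [LocallyOfFiniteType q] (hYd : topologicalKrullDim Y = 2) (π : X ⟶ Y) [IsProper π]
    {y : Y} (hy : IsClosed ({y} : Set Y))
    (hiso : IsIso (π ∣_ (⟨({y} : Set Y)ᶜ, hy.isOpen_compl⟩ : Y.Opens)))
    {r : ℕ} (C : Fin r → X.IdealSheafData) (hCinj : Function.Injective C) (hC : ∀ i, IsCurve (C i))
    (hfib : (π.base : X → Y) ⁻¹' {y} = ⋃ i, ((C i).support : Set X))
    (hconn : _root_.IsConnected (⋃ i, ((C i).support : Set X))) (a : Fin r → ℤ) (ha : a ≠ 0) :
    ∑ i, ∑ j, a i * a j * dot k (C i) (C j) < 0 := by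
  classical
  haveI := H28Int.isNoetherian k (X := X)
  haveI : IsLocallyNoetherian Y := LocallyOfFiniteType.isLocallyNoetherian q
  let W : Y.Opens := ⟨({y} : Set Y)ᶜ, hy.isOpen_compl⟩
  haveI : IsIso (π ∣_ W) := hiso
  -- the point `y` has codimension two
  have hy2 : ringKrullDim (Y.presheaf.stalk y) = ((2 : ℕ) : WithBot ℕ∞) := by
    have h := H8Props.FieldDim.localDim_eq_stalk_add_cdim q y
    rw [H8Props.FieldDim.localDim_eq_dim_of_irreducible q y, hYd, H28Int.Curves.cdim_closed hy] at h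
    simpa using h.symm
  obtain ⟨V, hV, hyV, -⟩ := exists_isAffineOpen_mem_and_subset (U := (⊤ : Y.Opens)) (x := y) trivial
  let A := Γ(Y, V)
  haveI : Nonempty ↥V := ⟨⟨y, hyV⟩⟩
  haveI : IsDomain A := @IsIntegral.component_integral Y _ V ⟨⟨y, hyV⟩⟩
  haveI : IsNoetherianRing A := IsLocallyNoetherian.component_noetherian ⟨V, hV⟩
  let P := hV.primeIdealOf ⟨y, hyV⟩
  have hPh : P.asIdeal.height = 2 := by
    letI := TopCat.Presheaf.algebra_section_stalk Y.presheaf (⟨y, hyV⟩ : V)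
    haveI := hV.isLocalization_stalk ⟨y, hyV⟩
    have h := IsLocalization.AtPrime.ringKrullDim_eq_height P.asIdeal (Y.presheaf.stalk y)
    rw [hy2] at h
    exact (WithBot.coe_injective h).symm
  obtain ⟨f, hfP, hf0⟩ : ∃ f ∈ P.asIdeal, f ≠ 0 := by
    by_contra hcon
    push Not at hcon
    have hbot : P.asIdeal = ⊥ := (Submodule.eq_bot_iff _).2 hcon
    rw [hbot, Ideal.height_bot] at hPh
    exact absurd hPh (by decide)
  obtain ⟨p, hp, hpP⟩ := Ideal.exists_minimalPrimes_le ((Ideal.span_singleton_le_iff_mem _).2 hfP)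
  haveI : p.IsPrime := hp.1.1
  let z : PrimeSpectrum A := ⟨p, hp.1.1⟩
  have hfp : f ∈ p := hp.1.2 (Ideal.mem_span_singleton_self f)
  have hh : p.height = 1 :=
    le_antisymm (Ideal.height_le_one_of_isPrincipal_of_mem_minimalPrimes _ _ hp) (by
      rw [← Ideal.height_span_singleton_eq_one_of_mem_nonZeroDivisors (mem_nonZeroDivisors_of_ne_zero hf0)
        (fun hu => hp.1.1.ne_top (Ideal.eq_top_of_isUnit_mem _ hfp hu))]
      exact Ideal.height_mono ((Ideal.span_singleton_le_iff_mem _).2 hfp))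
  let w := hV.fromSpec z
  have hwV : w ∈ V := by
    have h : w ∈ Set.range hV.fromSpec := ⟨z, rfl⟩
    rwa [hV.range_fromSpec] at h
  have hw1 : ringKrullDim (Y.presheaf.stalk w) = 1 := by
    letI := (Y.presheaf.germ V w hwV).hom.toAlgebra
    haveI : IsLocalization.AtPrime (Y.presheaf.stalk w) p := hV.isLocalization_stalk' z hwV
    rw [IsLocalization.AtPrime.ringKrullDim_eq_height p (Y.presheaf.stalk w), hh]
    rfl
  have hmem : ∀ (t : PrimeSpectrum A), f ∈ t.asIdeal ↔ hV.fromSpec t ∉ Y.basicOpen f := by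
    intro t
    have h := congrArg (fun O => t ∈ O) (hV.fromSpec_preimage_basicOpen f)
    exact not_not.symm.trans (not_congr (Iff.of_eq h.symm))
  have hwf : w ∉ Y.basicOpen f := (hmem z).1 hfp
  have hyf : y ∉ Y.basicOpen f := fun h => (hmem P).1 hfP (by rw [hV.fromSpec_primeIdealOf]; exact h)
  have hwy : w ⤳ y := by
    have h : z ⤳ P := (PrimeSpectrum.le_iff_specializes z P).1 hpP
    have h2 := h.map hV.fromSpec.base.hom.continuous
    rwa [show hV.fromSpec.base P = y from hV.fromSpec_primeIdealOf ⟨y, hyV⟩] at h2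
  have hwne : w ≠ y := fun h => by
    rw [h, hy2] at hw1
    exact absurd hw1 (by decide)
  -- the pulled back function
  let U : X.Opens := π ⁻¹ᵁ V
  let g : Γ(X, U) := π.app V f
  have hgU : X.basicOpen g = π ⁻¹ᵁ Y.basicOpen f := (Scheme.preimage_basicOpen π f).symm
  have hlift : ∀ v : Y, v ≠ y → ∃ x : X, π x = v := fun v hv => by
    refine ⟨(π ⁻¹ᵁ W).ι (inv (π ∣_ W) ⟨v, hv⟩), ?_⟩
    rw [← Scheme.Hom.comp_apply, ← morphismRestrict_ι, Scheme.Hom.comp_apply]
    show W.ι ((π ∣_ W) (inv (π ∣_ W) ⟨v, hv⟩)) = v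
    rw [← Scheme.Hom.comp_apply (inv (π ∣_ W)) (π ∣_ W), IsIso.inv_hom_id]
    rfl
  have hfne : Y.basicOpen f ≠ ⊥ := fun hb => hf0 ((basicOpen_eq_bot_iff f).1 hb)
  have hηf : genericPoint Y ∈ Y.basicOpen f := by
    obtain ⟨v, hv⟩ := Set.nonempty_iff_ne_empty.2 fun e : ((Y.basicOpen f : Y.Opens) : Set Y) = ∅ =>
      hfne (Opens.ext e)
    exact (genericPoint_specializes v).mem_open (Y.basicOpen f).2 hv
  obtain ⟨xη, hxη⟩ := hlift (genericPoint Y) fun h => hyf (h ▸ hηf)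
  obtain ⟨s, e, hs, he, hsum⟩ := exists_divisor k hdim U g ⟨xη, by
    rw [hgU]
    show π xη ∈ Y.basicOpen f
    rw [hxη]
    exact hηf⟩
  -- the curves of the fibre are in the divisor
  have hCy : ∀ i, ∀ x ∈ ((C i).support : Set X), π x = y := fun i x hx =>
    hfib.ge (Set.mem_iUnion.2 ⟨i, hx⟩)
  have hCU : ∀ i, ((C i).support : Set X) ⊆ U := fun i x hx => by
    show π x ∈ V
    rw [hCy i x hx]
    exact hyV
  choose ξ hξC hξ1 hξcl using fun i => exists_eq_curveAt k hdim (hC i)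
  have hξy : ∀ i, π (ξ i) = y := fun i => hCy i _ ((hξcl i).le (subset_closure rfl))
  have hξs : ∀ i, ξ i ∈ s := fun i => (hs _).2 ⟨hCU i ((hξcl i).le (subset_closure rfl)), by
    rw [hgU]
    show π (ξ i) ∉ Y.basicOpen f
    rw [hξy i]
    exact hyf, hξ1 i⟩
  have hξinj : Function.Injective ξ := fun i j h => hCinj ((hξC i).trans ((congrArg curveAt h).trans (hξC j).symm))
  -- another curve of the divisor meets the fibre
  obtain ⟨x₀, hx₀⟩ := hlift w hwne
  have hx₀1 : ringKrullDim (X.presheaf.stalk x₀) = 1 := by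
    have hx₀W : x₀ ∈ π ⁻¹ᵁ W := show π x₀ ∈ W by rw [hx₀]; exact hwne
    let η : (π ⁻¹ᵁ W).toScheme := ⟨x₀, hx₀W⟩
    haveI : IsIso (π.stalkMap x₀) :=
      ((MorphismProperty.isomorphisms _).arrow_mk_iso_iff (morphismRestrictStalkMap π W η)).mp
        (inferInstance : IsIso ((π ∣_ W).stalkMap η))
    rw [← ringKrullDim_eq_of_ringEquiv (asIso (π.stalkMap x₀)).commRingCatIsoToRingEquiv]
    show ringKrullDim (Y.presheaf.stalk (π x₀)) = 1
    rw [hx₀]
    exact hw1
  have hx₀s : x₀ ∈ s := (hs _).2 ⟨show π x₀ ∈ V by rw [hx₀]; exact hwV, by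
    rw [hgU]
    show π x₀ ∉ Y.basicOpen f
    rw [hx₀]
    exact hwf, hx₀1⟩
  have hx₀out : ∀ i, ξ i ≠ x₀ := fun i h => hwne (by rw [← hx₀, ← h, hξy i])
  obtain ⟨j₀, hj₀⟩ : ∃ j, ¬ Disjoint ((curveAt x₀).support : Set X) ((C j).support : Set X) := by
    obtain ⟨x, hx, hxy⟩ : ∃ x ∈ closure ({x₀} : Set X), π x = y := by
      have hc : IsClosed (π '' closure ({x₀} : Set X)) := π.isClosedMap _ isClosed_closure
      have hsub : closure ({w} : Set Y) ⊆ π '' closure ({x₀} : Set X) :=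
        closure_minimal (Set.singleton_subset_iff.2 ⟨x₀, subset_closure rfl, hx₀⟩) hc
      exact hsub (specializes_iff_mem_closure.1 hwy)
    obtain ⟨j, hj⟩ := Set.mem_iUnion.1 (hfib.le (show x ∈ (π.base : X → Y) ⁻¹' {y} from hxy))
    exact ⟨j, Set.not_disjoint_iff.2 ⟨x, by rw [support_curveAt]; exact hx, hj⟩⟩
  -- the matrix
  let M : Matrix (Fin r) (Fin r) ℝ := fun i j => (dot k (C i) (C j) : ℝ)
  let m : Fin r → ℝ := fun i => (e (ξ i) : ℝ)
  have hCe : ∀ i, FGA.IsEffCartier (C i) := fun i => isEffCartier_curve k hdim (hC i)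
  have hsymm : M.IsSymm := Matrix.IsSymm.ext fun i j =>
    congrArg (fun t : ℤ => (t : ℝ)) (H28Surf.symm k hdim (hCe j) (hCe i))
  have hoff : ∀ i j, i ≠ j → 0 ≤ M i j := fun i j hij => by
    show (0 : ℝ) ≤ (dot k (C i) (C j) : ℝ)
    exact_mod_cast dot_nonneg_of_ne k hdim (hC i) (hC j) fun h => hij (hCinj h)
  have hm : ∀ i, 0 < m i := fun i => by
    show (0 : ℝ) < (e (ξ i) : ℝ)
    exact_mod_cast he _ (hξs i)
  let S₀ : Finset X := Finset.univ.image ξ
  have hS₀ : S₀ ⊆ s := fun x hx => by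
    obtain ⟨i, -, rfl⟩ := Finset.mem_image.1 hx
    exact hξs i
  have hrest : ∀ j, ∀ x ∈ s \ S₀, 0 ≤ (e x : ℤ) * dot k (curveAt x) (C j) := fun j x hx => by
    obtain ⟨hxs, hxS⟩ := Finset.mem_sdiff.1 hx
    refine mul_nonneg (Int.natCast_nonneg _) (dot_nonneg_of_ne k hdim
      (isCurve_curveAt k hdim ((hs x).1 hxs).2.2) (hC j) fun h => hxS ?_)
    refine Finset.mem_image.2 ⟨j, Finset.mem_univ _, ?_⟩
    have h' : closure ({x} : Set X) = closure {ξ j} := by
      rw [← support_curveAt, h, hξcl]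
    exact (isGenericPoint_def.2 h'.symm).eq (isGenericPoint_def.2 rfl)
  have hrow : ∀ j, (∑ x ∈ s \ S₀, (e x : ℤ) * dot k (curveAt x) (C j)) +
      ∑ i, (e (ξ i) : ℤ) * dot k (C i) (C j) = 0 := fun j => by
    have h := hsum (C j) (hC j) (hCU j)
    rw [← Finset.sum_sdiff hS₀, Finset.sum_image fun i _ i' _ h => hξinj h] at h
    refine Eq.trans ?_ h
    exact congrArg (_ + ·) (Finset.sum_congr rfl fun i _ => by rw [← hξC i])
  have hMm : ∀ j, M.mulVec m j = ((∑ i, (e (ξ i) : ℤ) * dot k (C i) (C j) : ℤ) : ℝ) := fun j => by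
    simp only [Matrix.mulVec, dotProduct, Int.cast_sum, Int.cast_mul, Int.cast_natCast, M, m]
    exact Finset.sum_congr rfl fun i _ => by rw [H28Surf.symm k hdim (hCe j) (hCe i), mul_comm]
  have hMle : ∀ j, M.mulVec m j ≤ 0 := fun j => by
    rw [hMm]
    have h := hrow j
    have h' := Finset.sum_nonneg (hrest j)
    exact_mod_cast (show (∑ i, (e (ξ i) : ℤ) * dot k (C i) (C j)) ≤ 0 by omega)
  have hlt : M.mulVec m j₀ < 0 := by
    rw [hMm]
    have h := hrow j₀
    have hmem₀ : x₀ ∈ s \ S₀ := Finset.mem_sdiff.2 ⟨hx₀s, fun hx => by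
      obtain ⟨i, -, hi⟩ := Finset.mem_image.1 hx
      exact hx₀out i hi⟩
    have hne₀ : curveAt x₀ ≠ C j₀ := fun h => hx₀out j₀ (by
      have h' : closure ({x₀} : Set X) = closure {ξ j₀} := by rw [← support_curveAt, h, hξcl]
      exact (isGenericPoint_def.2 h'.symm).eq (isGenericPoint_def.2 rfl))
    have hpos : 0 < (e x₀ : ℤ) * dot k (curveAt x₀) (C j₀) :=
      mul_pos (by exact_mod_cast he _ hx₀s) (dot_pos_of_meet k hdim (isCurve_curveAt k hdim hx₀1) (hC j₀) hne₀ hj₀)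
    have h' := Finset.single_le_sum (hrest j₀) hmem₀
    exact_mod_cast (show (∑ i, (e (ξ i) : ℤ) * dot k (C i) (C j₀)) < 0 by omega)
  let x : Fin r → ℝ := fun i => (a i : ℝ)
  obtain ⟨hle, heq⟩ := H28Alg.scaled_facts hsymm hoff hm hMle x
  have hQ : ((∑ i, ∑ j, a i * a j * dot k (C i) (C j) : ℤ) : ℝ) = dotProduct x (M.mulVec x) := by
    simp only [dotProduct, Matrix.mulVec, Finset.mul_sum, x, M, Int.cast_sum, Int.cast_mul]
    exact Finset.sum_congr rfl fun i _ => Finset.sum_congr rfl fun j _ => by ring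
  have h0 : ∑ i, ∑ j, a i * a j * dot k (C i) (C j) ≤ 0 := by exact_mod_cast hQ.trans_le hle
  refine lt_of_le_of_ne h0 fun hz => ha ?_
  obtain ⟨hedge, hker⟩ := heq (by rw [← hQ, hz, Int.cast_zero])
  have hxj₀ : x j₀ = 0 := (hker j₀).resolve_left hlt.ne
  by_contra hne
  obtain ⟨i₁, hi₁⟩ := Function.ne_iff.1 hne
  let A₁ : Set X := ⋃ i ∈ Finset.univ.filter (fun i => a i = 0), ((C i).support : Set X)
  let B₁ : Set X := ⋃ i ∈ Finset.univ.filter (fun i => a i ≠ 0), ((C i).support : Set X)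
  have hcov : (⋃ i, ((C i).support : Set X)) ⊆ A₁ ∪ B₁ := fun t ht => by
    obtain ⟨i, hi⟩ := Set.mem_iUnion.1 ht
    by_cases h : a i = 0
    · exact Or.inl (Set.mem_biUnion (Finset.mem_filter.2 ⟨Finset.mem_univ _, h⟩) hi)
    · exact Or.inr (Set.mem_biUnion (Finset.mem_filter.2 ⟨Finset.mem_univ _, h⟩) hi)
  have hpt : ∀ i, ξ i ∈ ((C i).support : Set X) := fun i => (hξcl i).le (subset_closure rfl)
  have ha₀ : a j₀ = 0 := by exact_mod_cast (show (a j₀ : ℝ) = 0 from hxj₀)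
  obtain ⟨t, -, htA, htB⟩ := (isPreconnected_closed_iff.1 hconn.2) A₁ B₁
    (isClosed_biUnion_finset fun i _ => (C i).support.2) (isClosed_biUnion_finset fun i _ => (C i).support.2) hcov
    ⟨ξ j₀, Set.mem_iUnion.2 ⟨j₀, hpt j₀⟩,
      Set.mem_biUnion (Finset.mem_filter.2 ⟨Finset.mem_univ _, ha₀⟩) (hpt j₀)⟩
    ⟨ξ i₁, Set.mem_iUnion.2 ⟨i₁, hpt i₁⟩,
      Set.mem_biUnion (Finset.mem_filter.2 ⟨Finset.mem_univ _, hi₁⟩) (hpt i₁)⟩
  obtain ⟨i, hi, hti⟩ := Set.mem_iUnion₂.1 htA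
  obtain ⟨j, hj, htj⟩ := Set.mem_iUnion₂.1 htB
  have hi0 : a i = 0 := (Finset.mem_filter.1 hi).2
  have hj0 : a j ≠ 0 := (Finset.mem_filter.1 hj).2
  have hij : i ≠ j := fun h => hj0 (h ▸ hi0)
  have hpos := dot_pos_of_meet k hdim (hC i) (hC j) (fun h => hij (hCinj h)) (Set.not_disjoint_iff.2 ⟨t, hti, htj⟩)
  have h := hedge i j hij (show (dot k (C i) (C j) : ℝ) ≠ 0 by exact_mod_cast hpos.ne')
  simp only [x, hi0, Int.cast_zero, zero_div] at h
  exact hj0 (by exact_mod_cast (div_eq_zero_iff.1 h.symm).resolve_right (hm j).ne')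

end Groth.Agent.H28RR.MumfordNeg
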