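import Groth.Agent.H28RR.ZariskiVol

/-!
# Vanishing of `H¹(K + nL)` for nef and big `L` on a surface, `n` large, in any characteristic

Write a multiple of `L` as an ample class plus an effective divisor; the divisor can be peeled off
curve by curve, ending in Serre vanishing.
-/

set_option autoImplicit false
set_option linter.style.haveILetI false
set_option linter.unusedSectionVars false
set_option backward.isDefEq.respectTransparency.types false
universe u

open CategoryTheory CategoryTheory.Limits AlgebraicGeometry TopologicalSpace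
open Groth.Agent.H28RR.PicNum Groth.Agent.H28RR.ZariskiVol
open Groth.Agent.H28Surf hiding dot dot_mul_left dot_mul_right dot_pow_left

noncomputable section

namespace Groth.Agent.H28RR.NefBigVan

attribute [local instance] H28Vert.picLaw

variable {X : Scheme.{u}} (k : Type u) [Field k] [IsAlgClosed k] [X.Over (Spec (CommRingCat.of k))]
  [IsProper (X ↘ Spec (CommRingCat.of k))] [Smooth (X ↘ Spec (CommRingCat.of k))] [IsIntegral X]
  (hdim : topologicalKrullDim X = 2)

include hdim

/-- `Hⁱ(K - c) = Hⁱ(c)` in degree one. -/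
theorem h1_dual {W : X.Modules} (hW : ExtPow.IsExtPow 2 (Omega.sheaf (X ↘ Spec (CommRingCat.of k))) W)
    (c : PicLoc.PicSet X) :
    hc k 1 (PicGrp.cls W (isInvertible_canonical k hdim hW) * c⁻¹) = hc k 1 c := by
  set w := PicGrp.cls W (isInvertible_canonical k hdim hW) with hw
  have h1 := chi_rr k hdim hW c
  have h2 := chi_rr k hdim hW (w * c⁻¹)
  have e1 := h2_eq k hdim hW c
  have e2 := h2_eq k hdim hW (w * c⁻¹)
  rw [← hw] at h1 h2 e1 e2
  rw [show w * (w * c⁻¹)⁻¹ = c by rw [mul_inv, inv_inv, ← mul_assoc, mul_inv_cancel, one_mul]] at e2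
  rw [dot_mul_left k hdim, dot_mul_right k hdim, dot_mul_right k hdim, dot_mul_left k hdim,
    dot_inv_left k hdim, dot_inv_left k hdim, dot_inv_right k hdim, dot_inv_right k hdim, dot_comm k w c] at h2
  have c1 := chi_eq_three k hdim c
  have c2 := chi_eq_three k hdim (w * c⁻¹)
  omega

/-- Removing a curve of large degree does not lose first cohomology. -/
theorem h1_step {W : X.Modules} (hW : ExtPow.IsExtPow 2 (Omega.sheaf (X ↘ Spec (CommRingCat.of k))) W)
    {C : X.IdealSheafData} (hC : IsCurve C) (c : PicLoc.PicSet X)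
    (h : dot k (curveCls k hdim hC) (curveCls k hdim hC) +
        dot k (PicGrp.cls W (isInvertible_canonical k hdim hW)) (curveCls k hdim hC) + 1 ≤
      dot k c (curveCls k hdim hC)) :
    hc k 1 c ≤ hc k 1 (c * (curveCls k hdim hC)⁻¹) := by
  haveI := H28Int.isNoetherian k (X := X)
  have hCe := isEffCartier_curve k hdim hC
  have hI := isInvertible_ideal k hCe
  set δ := curveCls k hdim hC with hδ
  set L := rep c with hLdef
  have hL : PicF.IsInvertible L := rep_inv _
  obtain ⟨S, hS, e₁, e₂, e₃⟩ := exists_restrict_seq k C hL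
  have h1 : Module.finrank k (Coh.HH X S.X₁ 1) = hc k 1 (c * δ⁻¹) := by
    rw [e₁, ← hc_cls k 1 (H11Ample.isInvertible_tensor hI hL)]
    congr 1
    refine Subtype.ext ?_
    rw [show c * δ⁻¹ = PicGrp.cls (ClSub.idealMod C) hI * PicGrp.cls L hL by
      rw [hδ, curveCls, inv_inv, mul_comm]; congr 1; exact (cls_rep c).symm, PicGrp.cls_mul_cls_val]
    rfl
  have h2 : Module.finrank k (Coh.HH X S.X₂ 1) = hc k 1 c := by
    rw [e₂]
    exact (H29RR.hhIso (k := k) (H10Coh.Tw.leftUnitIso L) 1).finrank_eq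
  have h3 : Subsingleton (Coh.HH X S.X₃ 1) := by
    rw [e₃]
    haveI := hC.int
    let i := C.subschemeι
    letI : C.subscheme.Over (Spec (CommRingCat.of k)) := ⟨i ≫ (X ↘ Spec (CommRingCat.of k))⟩
    haveI : IsProper (C.subscheme ↘ Spec (CommRingCat.of k)) :=
      inferInstanceAs (IsProper (i ≫ (X ↘ Spec (CommRingCat.of k))))
    have hd1 : topologicalKrullDim C.subscheme ≤ 1 := ((dim_subscheme C).trans hC.dim).le
    haveI : (Coh.structureModule C.subscheme).IsQuasicoherent := H10Coh.isQuasicoherent_unit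
    have hg : 2 * (Curv2.genus k C.subscheme : ℤ) - 2 =
        dot k δ δ + dot k (PicGrp.cls W (isInvertible_canonical k hdim hW)) δ := by
      have hq := euler_quot k hdim hW hCe
      have he := euler_eq_sub' k hdim hCe (isCoh_quot k C) (support_quot k C).subset
      rw [finrank_quot_zero k hC, show Module.finrank k (Coh.HH X (ClSub.quotMod C) 1) = Curv2.genus k C.subscheme from
        H28Int.Push.finrank_HH_push k i rfl (Coh.structureModule C.subscheme) 1] at he
      rw [hδ, curveCls, dot_inv_left k hdim, dot_inv_right k hdim, dot_inv_right k hdim, neg_neg,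
        dot_cls k hdim hI hI, dot_comm k (PicGrp.cls W _), dot_cls k hdim hI (isInvertible_canonical k hdim hW)]
      omega
    have hP := H11Ample.isInvertible_pullback i hL
    haveI := H29RR.h1_vanish_of_deg (k := k) hd1 (H29RR.finrank_h0_structure k C.subscheme) hP (by
      rw [← degOn_eq_deg k hC hL, hLdef, degOn_eq_dot k hdim hC c, ← hδ]
      omega)
    haveI := H10Coh.finite_HH_proper k X _ (H11Ample.isCoh_tensor (isCoh_quot k C) hL) 1
    refine (Module.finrank_zero_iff (R := k)).1 ?_
    rw [finrank_quot_tensor k hC hL 1]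
    exact Module.finrank_zero_of_subsingleton
  have hc₁ : Coh.IsCoh S.X₁ := e₁ ▸ H11Ample.isCoh_tensor (H11Ample.isCoh_of_isInvertible hI) hL
  haveI := H10Coh.finite_HH_proper k X _ hc₁ 1
  have hle : Module.finrank k (Coh.HH X S.X₂ 1) ≤ Module.finrank k (Coh.HH X S.X₁ 1) :=
    LinearMap.finrank_le_finrank_of_surjective (f := Canon.HHlin k S.f 1)
      (H22Alg.NakaiGen.hhlin_f_surjective k hS 1 h3)
  omega

/-- `L` nef and big: a class orthogonal to `L` of positive degree has negative square. -/
theorem self_neg_of_orth {A : PicLoc.PicSet X} (hA : CohB1.IsAmple (rep A)) {L D : PicLoc.PicSet X}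
    (hsq : 0 < dot k L L) (hLA : 0 ≤ dot k L A) (horth : dot k D L = 0) (hDA : 0 < dot k D A) : dot k D D < 0 := by
  have key : ∀ M : PicLoc.PicSet X, dot k L M = 0 → dot k M M ≤ 0 := fun M hM =>
    pr_self_nonpos_of_orth k hdim hA (rep_inv L) (rep_inv M) hsq hM
  have hle := key D (by rw [dot_comm]; exact horth)
  refine lt_of_le_of_ne hle fun h0 => ?_
  obtain ⟨a, ha⟩ := Int.eq_ofNat_of_zero_le hsq.le
  obtain ⟨b, hb⟩ := Int.eq_ofNat_of_zero_le hLA
  set V := A ^ a * (L ^ b)⁻¹ with hV
  have hVL : dot k L V = 0 := by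
    rw [hV, dot_mul_right k hdim, dot_inv_right k hdim, dot_pow_right k hdim, dot_pow_right k hdim, ha, hb]
    ring
  have hVD : dot k D V = dot k L L * dot k D A := by
    rw [hV, dot_mul_right k hdim, dot_inv_right k hdim, dot_pow_right k hdim, dot_pow_right k hdim, ha, horth]
    ring
  clear_value V
  set t := (dot k V V).natAbs + 1
  have h2 := key (D ^ t * V) (by
    rw [dot_mul_right k hdim, dot_pow_right k hdim, dot_comm k L D, horth, hVL]; ring)
  rw [dot_mul_left k hdim, dot_mul_right k hdim, dot_mul_right k hdim, dot_pow_left k hdim, dot_pow_left k hdim,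
    dot_pow_right k hdim, dot_pow_right k hdim, h0, dot_comm k V D, hVD] at h2
  have h3 : 1 ≤ dot k L L * dot k D A := by
    have := mul_pos hsq hDA
    omega
  have ht : (t : ℤ) = |dot k V V| + 1 := by simp [t]
  nlinarith [neg_abs_le (dot k V V), mul_le_mul_of_nonneg_left h3 (Int.natCast_nonneg t), abs_nonneg (dot k V V)]

open scoped Classical in
/-- The class of a divisor. -/
def multisetCls {S : Multiset X.IdealSheafData} (hS : ∀ C ∈ S, IsCurve C) : PicLoc.PicSet X :=
  (S.attach.map fun C => curveCls k hdim (hS C.1 C.2)).prod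

/-- The class of a curve, extended by one to every ideal. -/
def clsOf (C : X.IdealSheafData) : PicLoc.PicSet X :=
  @dite _ (IsCurve C) (Classical.propDecidable _) (fun h => curveCls k hdim h) fun _ => 1

theorem clsOf_eq {C : X.IdealSheafData} (hC : IsCurve C) : clsOf k hdim C = curveCls k hdim hC := by
  classical
  rw [clsOf, dif_pos hC]

/-- Peeling an effective divisor. -/
theorem h1_peel {W : X.Modules} (hW : ExtPow.IsExtPow 2 (Omega.sheaf (X ↘ Spec (CommRingCat.of k))) W)
    {A : PicLoc.PicSet X} (hA : CohB1.IsAmple (rep A)) {L : PicLoc.PicSet X} (hsq : 0 < dot k L L)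
    (hnef : ∀ (C : X.IdealSheafData) (hC : IsCurve C), 0 ≤ dot k L (curveCls k hdim hC)) (hLA : 0 ≤ dot k L A)
    (T : ℤ) :
    ∀ Z : Multiset X.IdealSheafData, (∀ C ∈ Z, IsCurve C) →
      (∀ Z' ≤ Z, ∀ C ∈ Z, dot k (Z'.map (clsOf k hdim)).prod (clsOf k hdim C) ≤ T) →
      ∀ i j : ℕ, (T + 1 ≤ (i : ℤ) ∨ T + 1 ≤ (j : ℤ)) →
        hc k 1 (PicGrp.cls W (isInvertible_canonical k hdim hW) * L ^ i * A ^ j) ≤
          hc k 1 (PicGrp.cls W (isInvertible_canonical k hdim hW) * L ^ i * A ^ j *
            ((Z.map (clsOf k hdim)).prod)⁻¹) := by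
  classical
  intro Z
  induction Z using Multiset.strongInductionOn with
  | _ Z ih =>
  intro hZ hT i j hij
  rcases eq_or_ne Z 0 with rfl | hne
  · simp
  set D := (Z.map (clsOf k hdim)).prod with hD
  set w := PicGrp.cls W (isInvertible_canonical k hdim hW)
  have hpos : ∀ C ∈ Z, 0 < dot k A (clsOf k hdim C) := fun C hC => by
    rw [clsOf_eq k hdim (hZ C hC), ← degOn_eq_dot k hdim (hZ C hC)]
    exact ample_deg_pos k hdim hA (hZ C hC)
  have hnef' : ∀ C ∈ Z, 0 ≤ dot k L (clsOf k hdim C) := fun C hC => by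
    rw [clsOf_eq k hdim (hZ C hC)]; exact hnef C (hZ C hC)
  obtain ⟨C, hC, hgood⟩ : ∃ C ∈ Z, 1 ≤ (i : ℤ) * dot k L (clsOf k hdim C) + (j : ℤ) * dot k A (clsOf k hdim C) -
      dot k D (clsOf k hdim C) := by
    by_contra hno
    push Not at hno
    have hTC : ∀ C ∈ Z, dot k D (clsOf k hdim C) ≤ T := fun C hC => hT Z le_rfl C hC
    obtain ⟨C₀, hC₀⟩ := Multiset.exists_mem_of_ne_zero hne
    rcases hij with hi | hj
    · have hnull : ∀ C ∈ Z, dot k L (clsOf k hdim C) = 0 := fun C hC => by
        by_contra h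
        have h1 : 1 ≤ dot k L (clsOf k hdim C) := by have := hnef' C hC; omega
        nlinarith [hno C hC, hTC C hC, hpos C hC, Int.natCast_nonneg i, Int.natCast_nonneg j,
          mul_nonneg (Int.natCast_nonneg j) (hpos C hC).le]
      have hnn : ∀ C ∈ Z, 0 ≤ dot k D (clsOf k hdim C) := fun C hC => by
        have := hno C hC
        rw [hnull C hC] at this
        nlinarith [mul_nonneg (Int.natCast_nonneg j) (hpos C hC).le]
      have hsum : ∀ c : PicLoc.PicSet X, dot k D c = (Z.map fun C => dot k (clsOf k hdim C) c).sum := fun c => by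
        have h := map_multiset_prod (dotHom k hdim c) (Z.map (clsOf k hdim))
        rw [Multiset.map_map] at h
        refine (congrArg Multiplicative.toAdd h).trans ?_
        rw [toAdd_multiset_sum, Multiset.map_map]
        rfl
      have hDL : dot k D L = 0 := by
        rw [hsum, Multiset.map_congr rfl fun C hC => by rw [dot_comm, hnull C hC]]
        simp
      have hDA : 0 < dot k D A := by
        rw [hsum]
        obtain ⟨Z₀, hZ₀⟩ := Multiset.exists_cons_of_mem hC₀
        rw [hZ₀, Multiset.map_cons, Multiset.sum_cons]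
        have h0 : 0 ≤ (Z₀.map fun C => dot k (clsOf k hdim C) A).sum := Multiset.sum_nonneg fun x hx => by
          obtain ⟨C, hC, rfl⟩ := Multiset.mem_map.1 hx
          rw [dot_comm]; exact (hpos C (hZ₀ ▸ Multiset.mem_cons_of_mem hC)).le
        have := hpos C₀ hC₀
        rw [dot_comm] at this
        omega
      have hneg := self_neg_of_orth k hdim hA hsq hLA hDL hDA
      have : 0 ≤ dot k D D := by
        rw [hsum]
        exact Multiset.sum_nonneg fun x hx => by
          obtain ⟨C, hC, rfl⟩ := Multiset.mem_map.1 hx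
          rw [dot_comm]; exact hnn C hC
      omega
    · have h1 : 1 ≤ dot k A (clsOf k hdim C₀) := hpos C₀ hC₀
      nlinarith [hno C₀ hC₀, hTC C₀ hC₀, hnef' C₀ hC₀, Int.natCast_nonneg i, Int.natCast_nonneg j,
        mul_nonneg (Int.natCast_nonneg i) (hnef' C₀ hC₀)]
  obtain ⟨Z₀, rfl⟩ := Multiset.exists_cons_of_mem hC
  have h1 := ih Z₀ (Multiset.lt_cons_self _ _) (fun C' hC' => hZ C' (Multiset.mem_cons_of_mem hC'))
    (fun Z' hZ' C' hC' => hT Z' (hZ'.trans (Multiset.le_cons_self _ _)) C' (Multiset.mem_cons_of_mem hC')) i j hij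
  refine h1.trans ?_
  rw [Multiset.map_cons, Multiset.prod_cons] at hD
  rw [hD, mul_inv_rev, ← mul_assoc]
  rw [hD] at hgood
  rw [clsOf_eq k hdim (hZ C hC)] at hgood ⊢
  refine h1_step k hdim hW (hZ C hC) _ ?_
  rw [dot_mul_left k hdim] at hgood
  rw [dot_mul_left k hdim, dot_mul_left k hdim, dot_mul_left k hdim, dot_inv_left k hdim, dot_pow_left k hdim,
    dot_pow_left k hdim]
  change dot k _ _ + dot k w _ + 1 ≤ dot k w _ + _ + _ + _
  omega

/-- `H¹(-nL) = 0` for nef and big `L` and large `n`. -/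
theorem exists_h1_inv_pow_vanishing {L : PicLoc.PicSet X} (hsq : 0 < dot k L L)
    (hnef : ∀ (C : X.IdealSheafData) (hC : IsCurve C), 0 ≤ dot k L (curveCls k hdim hC)) :
    ∃ n₀ : ℕ, ∀ n, n₀ ≤ n → hc k 1 (L ^ n)⁻¹ = 0 := by
  classical
  obtain ⟨C, hC, hH⟩ := exists_ample_curve (X := X) k hdim
  set H := curveCls k hdim hC
  obtain ⟨W, hW⟩ := exists_canonical k hdim
  have hLH : 0 < dot k L H := by
    refine lt_of_le_of_ne (hnef C hC) fun h => ?_
    have := pr_self_nonpos k hdim hH (rep_inv L) h.symm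
    exact absurd hsq (not_lt.2 this)
  have hHH : 0 < dot k H H := by rw [← degOn_eq_dot k hdim hC H]; exact ample_deg_pos k hdim hH hC
  set m := (dot k H H).natAbs + (dot k L H).natAbs * 2 + 1
  have hm : (m : ℤ) = dot k H H + 2 * dot k L H + 1 := by
    simp only [m]; push_cast; rw [abs_of_pos hHH, abs_of_pos hLH]; ring
  set M := L ^ m * H⁻¹ with hM
  have hMH : 0 < dot k M H := by
    rw [hM, dot_mul_left k hdim, dot_pow_left k hdim, dot_inv_left k hdim, hm]
    nlinarith
  have hMM : 0 < dot k M M := by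
    rw [hM, dot_mul_left k hdim, dot_mul_right k hdim, dot_mul_right k hdim, dot_pow_left k hdim, dot_pow_left k hdim,
      dot_pow_right k hdim, dot_inv_left k hdim, dot_inv_left k hdim, dot_inv_right k hdim, dot_pow_right k hdim,
      dot_inv_right k hdim, dot_comm k H L, hm]
    have h1 : 1 ≤ dot k L L := by omega
    nlinarith [mul_le_mul_of_nonneg_left h1 (sq_nonneg (dot k H H + 2 * dot k L H + 1))]
  obtain ⟨N, hN⟩ := eventually_sections k hdim hH (rep_inv M) hMH hMM
  have hsec : 0 < hc k 0 (M ^ (N + 1)) := by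
    haveI := H28Int.isNoetherian k (X := X)
    haveI := hN (N + 1) N.le_succ
    haveI := H10Coh.finite_HH_proper k X _ (H11Ample.isCoh_of_isInvertible (H11Ample.isInvertible_tensorPow (rep_inv M) (N + 1))) 0
    have e : M ^ (N + 1) = PicGrp.cls _ (H28Vert.isInvertible_tensorPow (rep_inv M) (N + 1)) := by
      rw [H28Vert.cls_tensorPow (rep_inv M), cls_rep]
    rw [e, hc_cls]
    exact Module.finrank_pos
  set t := N + 1
  have hR : PicF.IsInvertible (rep (M ^ t)) := rep_inv _
  obtain ⟨Z, hZ, ⟨eZ⟩⟩ := exists_divisor k hR (Module.nontrivial_of_finrank_pos (R := k) hsec)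
  obtain ⟨S, hS, rfl⟩ := H28Surf.exists_multiset k hdim Z hZ
  have hD : (S.map (clsOf k hdim)).prod = M ^ t := by
    have key : ∀ S : Multiset X.IdealSheafData, (∀ C ∈ S, IsCurve C) →
        ∃ h : PicF.IsInvertible (ClSub.idealMod S.prod),
          PicGrp.cls (ClSub.idealMod S.prod) h = ((S.map (clsOf k hdim)).prod)⁻¹ := by
      intro S
      induction S using Multiset.induction with
      | empty =>
        intro _
        refine ⟨isInvertible_ideal k (isEffCartier_prod k hdim _ (by simp)), ?_⟩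
        simp only [Multiset.map_zero, Multiset.prod_zero, inv_one]
        rw [← PicGrp.cls_structureModule_eq_one, PicGrp.cls_eq_cls_iff]
        exact H28Reg.nonempty_idealMod_top (X := X)
      | cons J T ih =>
        intro h
        obtain ⟨hT, eT⟩ := ih fun C hC => h C (Multiset.mem_cons_of_mem hC)
        have hJ := h J (Multiset.mem_cons_self J T)
        have hJe := isEffCartier_curve k hdim hJ
        have hTe := isEffCartier_prod k hdim _ fun C hC => h C (Multiset.mem_cons_of_mem hC)
        refine ⟨isInvertible_ideal k (isEffCartier_prod k hdim _ h), ?_⟩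
        conv_rhs => rw [Multiset.map_cons, Multiset.prod_cons, mul_inv, ← eT, clsOf_eq k hdim hJ, curveCls, inv_inv]
        refine Subtype.ext ?_
        rw [PicGrp.cls_mul_cls_val]
        obtain ⟨e⟩ := H28Vert.nonempty_idealMod_mul (show BlowUp.IsEffCartierIdeal J from hJe) (show BlowUp.IsEffCartierIdeal T.prod from hTe)
        rw [PicGrp.cls_val]
        exact Quot.sound ⟨eqToIso (congrArg ClSub.idealMod (Multiset.prod_cons J T)) ≪≫ e.symm⟩
    obtain ⟨h, e⟩ := key S hS
    rw [← inv_inv (S.map (clsOf k hdim)).prod, ← e]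
    refine inv_eq_of_mul_eq_one_left (G := PicLoc.PicSet X) ?_
    rw [← cls_rep (M ^ t)]
    exact Subtype.ext (by rw [PicGrp.cls_mul_cls_val, PicGrp.one_val]; exact Quot.sound ⟨eZ⟩)
  set A := H ^ t with hAdef
  have hA : CohB1.IsAmple (rep A) := by
    have hHi := (H11Ample.isAmple_iff.1 hH).1
    have e : A = PicGrp.cls _ (H28Vert.isInvertible_tensorPow (rep_inv H) t) := by
      rw [H28Vert.cls_tensorPow (rep_inv H), cls_rep]
    rw [e]
    exact H11Ample.isAmple_of_iso (nonempty_rep_iso _).some.symm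
      ((H11Ample.isAmple_tensorPow_iff hHi t (Nat.succ_pos N)).1 hH)
  have hLA : 0 ≤ dot k L A := by rw [hAdef, dot_pow_right k hdim]; positivity
  have hstep : (S.map (clsOf k hdim)).prod⁻¹ = (L ^ (m * t))⁻¹ * A := by
    rw [hD, hM, mul_pow, mul_inv, inv_pow, inv_inv, ← pow_mul, hAdef]
  obtain ⟨T, hT0, hT⟩ : ∃ T : ℕ, 0 ≤ T ∧ ∀ Z' ≤ S, ∀ C ∈ S,
      dot k (Z'.map (clsOf k hdim)).prod (clsOf k hdim C) ≤ (T : ℤ) := by
    let vals := (S.powerset.toFinset ×ˢ S.toFinset).image fun p =>
      (dot k (p.1.map (clsOf k hdim)).prod (clsOf k hdim p.2)).natAbs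
    refine ⟨vals.sup id, Nat.zero_le _, fun Z' hZ' C hC => ?_⟩
    refine Int.le_natAbs.trans (Int.ofNat_le.2 (Finset.le_sup (f := id) (Finset.mem_image.2 ⟨(Z', C), ?_, rfl⟩)))
    simp [Multiset.mem_toFinset, Multiset.mem_powerset, hZ', hC]
  set w := PicGrp.cls W (isInvertible_canonical k hdim hW)
  set q := m * t with hq
  have hq0 : 0 < q := Nat.mul_pos (Nat.succ_pos _) (Nat.succ_pos N)
  choose b hb using fun r : ℕ => exists_hc_vanishing k hdim hA (w * L ^ r)
  refine ⟨(T + 1) * (q + 1) + q * (∑ r ∈ Finset.range q, b r + 1), fun n hn => ?_⟩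
  rw [← h1_dual k hdim hW (L ^ n)⁻¹, inv_inv]
  refine Nat.le_zero.1 ?_
  have hdesc : ∀ l : ℕ, l * q ≤ n → hc k 1 (w * L ^ n) ≤ hc k 1 (w * L ^ (n - l * q) * A ^ l) := by
    intro l
    induction l with
    | zero => intro _; simp
    | succ l ih =>
      intro hl
      have hl' : l * q ≤ n := le_trans (by rw [Nat.succ_mul]; omega) hl
      refine (ih hl').trans ?_
      have hij : (T : ℤ) + 1 ≤ ((n - l * q : ℕ) : ℤ) ∨ (T : ℤ) + 1 ≤ (l : ℤ) := by
        by_cases h : T + 1 ≤ l
        · exact Or.inr (by exact_mod_cast h)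
        · refine Or.inl ?_
          have h1 : l * q ≤ T * q := Nat.mul_le_mul_right q (by omega)
          have h2 : T * q + (T + 1) ≤ (T + 1) * (q + 1) := by ring_nf; omega
          exact_mod_cast (show T + 1 ≤ n - l * q by omega)
      have h1 := h1_peel k hdim hW hA hsq hnef hLA (T : ℤ) S hS hT (n - l * q) l hij
      refine h1.trans (le_of_eq (congrArg _ ?_))
      rw [hstep, show n - l * q = (n - (l + 1) * q) + q by rw [Nat.succ_mul] at hl ⊢; omega, pow_add, pow_succ]
      have grp : ∀ x a b c d : PicLoc.PicSet X, x * (a * b) * c * (b⁻¹ * d) = x * a * (c * d) := fun x a b c d =>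
        calc x * (a * b) * c * (b⁻¹ * d) = x * a * (c * d) * (b * b⁻¹) := by ac_rfl
          _ = _ := by rw [mul_inv_cancel, mul_one]
      exact grp _ _ _ _ _
  have h1 := hdesc (n / q) (Nat.div_mul_le_self n q)
  have e : n - n / q * q = n % q := by
    have := Nat.mod_add_div n q
    rw [mul_comm q] at this
    omega
  have hbig : b (n % q) ≤ n / q := by
    rw [Nat.le_div_iff_mul_le hq0]
    have := Finset.single_le_sum (f := b) (fun i _ => Nat.zero_le _) (Finset.mem_range.2 (Nat.mod_lt n hq0))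
    calc b (n % q) * q ≤ q * (∑ r ∈ Finset.range q, b r + 1) := by rw [mul_comm]; exact Nat.mul_le_mul_left q (by omega)
      _ ≤ n := le_trans (Nat.le_add_left _ _) hn
  rw [e, hb _ _ hbig 1 one_pos] at h1
  exact h1

end Groth.Agent.H28RR.NefBigVan
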