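import Groth.Agent.H28RR.Nakai
import Groth.Agent.H28Reg.Basic

/-!
# Nef modules have nonnegative square
-/

set_option autoImplicit false
set_option linter.style.haveILetI false
set_option linter.unusedSectionVars false
set_option backward.isDefEq.respectTransparency.types false
universe u

open CategoryTheory CategoryTheory.Limits AlgebraicGeometry TopologicalSpace
open Groth.Agent.H28Surf

namespace Groth.Agent.H28RR

variable {X : Scheme.{u}} (k : Type u) [Field k] [IsAlgClosed k] [X.Over (Spec (CommRingCat.of k))]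
  [IsProper (X ↘ Spec (CommRingCat.of k))] [Smooth (X ↘ Spec (CommRingCat.of k))] [IsIntegral X]

/-- A nef module meets a module with sections nonnegatively. -/
theorem pr_nonneg_of_nef_of_sections (hdim : topologicalKrullDim X = 2) {L M : X.Modules}
    (hL : PicF.IsInvertible L) (hnef : ∀ C : X.IdealSheafData, IsCurve C → 0 ≤ degOn k C L)
    (hM : PicF.IsInvertible M) (hsec : Nontrivial (Coh.HH X M 0)) : 0 ≤ pr k L M := by
  obtain ⟨Z, hZ, ⟨e⟩⟩ := exists_divisor k hM hsec
  obtain ⟨S, hS, rfl⟩ := H28Surf.exists_multiset k hdim Z hZ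
  have hI := isInvertible_ideal k hZ
  have h1 : pr k (ClSub.idealMod S.prod) L ≤ 0 := by
    rw [H28Reg.pr_prod_left k (fun x => H19Grp.isRegularLocalRing_stalk_of_smooth (X ↘ Spec (CommRingCat.of k)) x)
      hdim S hS hL]
    refine (Multiset.sum_map_le_sum_map _ (fun _ => (0 : ℤ)) fun C hC => ?_).trans (by simp)
    have h := hnef C (hS C hC)
    rw [degOn_eq_pr k hdim (hS C hC) hL] at h
    omega
  rw [pr_inv_left k hdim hM hI hL e] at h1
  rw [pr_symm k L M]
  omega

/-- A nef module has nonnegative square. -/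
theorem pr_self_nonneg_of_nef (hdim : topologicalKrullDim X = 2) {L : X.Modules}
    (hL : PicF.IsInvertible L) (hnef : ∀ C : X.IdealSheafData, IsCurve C → 0 ≤ degOn k C L) : 0 ≤ pr k L L := by
  by_contra hs
  push Not at hs
  obtain ⟨H, hH⟩ := exists_ample k hdim
  have hHi := (H11Ample.isAmple_iff.1 hH).1
  have hh := (pr_nonneg_of_nef k hdim hH hL hnef).1
  have ha : 0 < pr k H H := (pr_nonneg_of_nef k hdim hH hHi fun C hC => (ample_deg_pos k hdim hH hC).le).2
    fun C hC => ample_deg_pos k hdim hH hC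
  have key : ∀ p q : ℕ, 0 < p →
      0 < (q : ℤ) * q * pr k L L + 2 * p * q * pr k L H + (p : ℤ) * p * pr k H H →
      0 ≤ (q : ℤ) * pr k L L + p * pr k L H := by
    intro p q hp hpos
    have hPi := H11Ample.isInvertible_tensorPow hHi p
    have hQi := H11Ample.isInvertible_tensorPow hL q
    have hM := H11Ample.isInvertible_tensor hPi hQi
    have hB : ∀ {B : X.Modules}, PicF.IsInvertible B →
        pr k (CohB1.tensorMod (CohB1.tensorPow H p) (CohB1.tensorPow L q)) B = p * pr k H B + q * pr k L B :=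
      fun {B} hB => by rw [pr_tensor_left k hdim hPi hQi hB, pr_pow_left k hdim hHi hB, pr_pow_left k hdim hL hB]
    have hMH : 0 < pr k (CohB1.tensorMod (CohB1.tensorPow H p) (CohB1.tensorPow L q)) H := by
      rw [hB hHi]
      nlinarith [mul_pos (show (0 : ℤ) < p by exact_mod_cast hp) ha, mul_nonneg (Int.natCast_nonneg q) hh]
    have hMM : 0 < pr k (CohB1.tensorMod (CohB1.tensorPow H p) (CohB1.tensorPow L q))
        (CohB1.tensorMod (CohB1.tensorPow H p) (CohB1.tensorPow L q)) := by
      rw [hB hM, pr_symm k H (CohB1.tensorMod _ _), hB hHi, pr_symm k L (CohB1.tensorMod _ _), hB hL, pr_symm k H L]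
      linarith
    obtain ⟨N, hN⟩ := eventually_sections k hdim hH hM hMH hMM
    have h := pr_nonneg_of_nef_of_sections k hdim hL hnef (H11Ample.isInvertible_tensorPow hM (N + 1)) (hN _ N.le_succ)
    rw [pr_symm k L (CohB1.tensorPow _ _), pr_pow_left k hdim hM hL, hB hL, pr_symm k H L] at h
    have := (mul_nonneg_iff_of_pos_left (show (0 : ℤ) < ((N + 1 : ℕ) : ℤ) by exact_mod_cast N.succ_pos)).1 h
    linarith
  obtain ⟨S, hS⟩ := Int.eq_ofNat_of_zero_le (show (0 : ℤ) ≤ - pr k L L by omega)
  have hS1 : (1 : ℤ) ≤ (S : ℤ) := by omega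
  have hL2 : pr k L L = -(S : ℤ) := by omega
  obtain ⟨h, hh'⟩ := Int.eq_ofNat_of_zero_le hh
  rcases Nat.eq_zero_or_pos h with h0 | h0
  · have := key (S + 1) 1 S.succ_pos (by
      rw [hL2, hh', h0]; push_cast; nlinarith)
    rw [hL2, hh', h0] at this
    push_cast at this
    omega
  · have h1 : (1 : ℤ) ≤ (h : ℤ) := by exact_mod_cast h0
    obtain ⟨p, hp⟩ : ∃ p : ℕ, (p : ℤ) = 3 * S - 1 := ⟨3 * S - 1, by push_cast [show 1 ≤ 3 * S by omega]; rfl⟩
    have := key p (3 * h) (by omega) (by
      rw [hL2, hh', hp]; push_cast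
      nlinarith [mul_le_mul_of_nonneg_left hS1 (mul_nonneg (show (0:ℤ) ≤ 3 by norm_num) (mul_self_nonneg (h : ℤ))),
        mul_pos (mul_pos (show (0 : ℤ) < 3 * S - 1 by omega) (show (0 : ℤ) < 3 * S - 1 by omega)) ha])
    rw [hL2, hh', hp] at this
    push_cast at this
    nlinarith

end Groth.Agent.H28RR
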