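import Groth.Agent.H28RR.BlowPic
import Groth.Agent.H28Num.Basic

/-!
# The numerically trivial classes on a surface
-/

set_option autoImplicit false
set_option linter.style.haveILetI false
set_option linter.unusedSectionVars false
set_option backward.isDefEq.respectTransparency.types false

universe u

open CategoryTheory CategoryTheory.Limits AlgebraicGeometry TopologicalSpace Opposite
open Groth.Agent.H28Surf

namespace Groth.Agent.H28RR

variable {X : Scheme.{u}} (k : Type u) [Field k] [IsAlgClosed k] [X.Over (Spec (CommRingCat.of k))]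
  [IsProper (X ↘ Spec (CommRingCat.of k))] [Smooth (X ↘ Spec (CommRingCat.of k))] [IsIntegral X]

/-- A module of degree zero on all curves is orthogonal to all invertible modules. -/
theorem pr_eq_zero_of_numEquivZero (hdim : topologicalKrullDim X = 2) {L N : X.Modules} (hL : PicF.IsInvertible L)
    (h : Pic13.IsNumEquivZero k X L) (hN : PicF.IsInvertible N) : pr k N L = 0 := by
  haveI := H28Int.isNoetherian k (X := X)
  have hcurve : ∀ C : X.IdealSheafData, IsCurve C → pr k (ClSub.idealMod C) L = 0 := fun C hC => by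
    haveI := hC.int
    letI : C.subscheme.Over (Spec (CommRingCat.of k)) := ⟨C.subschemeι ≫ (X ↘ Spec (CommRingCat.of k))⟩
    haveI : IsProper (C.subscheme ↘ Spec (CommRingCat.of k)) :=
      inferInstanceAs (IsProper (C.subschemeι ≫ (X ↘ Spec (CommRingCat.of k))))
    have hd : topologicalKrullDim C.subscheme = 1 := (dim_subscheme C).trans hC.dim
    have h0 : Pic13.curveDeg k (C.subscheme ↘ Spec (CommRingCat.of k))
        ((Scheme.Modules.pullback C.subschemeι).obj L) = 0 := h C.subscheme C.subschemeι hC.int hd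
    rw [H28Int.Curves.curveDeg_eq k hd (H11Ample.isInvertible_pullback _ hL),
      ← H28Int.Curves.D_push_affine k C.subschemeι rfl hL] at h0
    have h1 := degOn_eq_pr k hdim hC hL
    rw [degOn_eq, show ClSub.quotMod C = (Coh.push C.subschemeι).obj (Coh.structureModule C.subscheme) from rfl] at h1
    omega
  have heff : ∀ M : X.Modules, PicF.IsInvertible M → Nontrivial (Coh.HH X M 0) → pr k M L = 0 := fun M hM hs => by
    obtain ⟨Z, hZ, ⟨e⟩⟩ := exists_divisor k hM hs
    obtain ⟨S, hS, rfl⟩ := exists_multiset k hdim Z hZ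
    have hZi := isInvertible_ideal k (H28Surf.isEffCartier_prod k hdim S hS)
    rw [pr_inv_left k hdim hZi hM hL (H10Coh.Tw.commIso _ _ ≪≫ e), H28Reg.pr_prod_left k
      (fun x => H19Grp.isRegularLocalRing_stalk_of_smooth (X ↘ Spec (CommRingCat.of k)) x) hdim S hS hL,
      Multiset.sum_eq_zero fun a ha => by
        obtain ⟨C, hC, rfl⟩ := Multiset.mem_map.1 ha
        exact hcurve C (hS C hC), neg_zero]
  obtain ⟨H, hH⟩ := exists_ample k hdim
  have hHi := (H11Ample.isAmple_iff.1 hH).1
  obtain ⟨m, hm⟩ := exists_sections_twist k hH hN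
  obtain ⟨j, hj⟩ := exists_sections_twist k hH hHi
  have hHm := H11Ample.isInvertible_tensorPow hHi m
  have hHj := H11Ample.isInvertible_tensorPow hHi j
  have h1 := heff _ (H11Ample.isInvertible_tensor hN hHm) hm
  have h2 := heff _ (H11Ample.isInvertible_tensor hHi hHj) hj
  rw [pr_tensor_left k hdim hN hHm hL, pr_pow_left k hdim hHi hL] at h1
  rw [pr_tensor_left k hdim hHi hHj hL, pr_pow_left k hdim hHi hL] at h2
  have h3 : pr k H L = 0 := by
    have : ((j : ℤ) + 1) * pr k H L = 0 := by linear_combination h2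
    rcases mul_eq_zero.1 this with h | h <;> omega
  rw [h3, mul_zero, add_zero] at h1
  exact h1

/-- The classes divided out in `N¹` are exactly the classes orthogonal to everything. -/
theorem mem_subCl_iff [PicGrp.Law X] (hdim : topologicalKrullDim X = 2)
    (hh : ∀ (M : X.Modules), PicF.IsInvertible M → (PicLoc.PicSet X →* Multiplicative ℤ))
    (hh' : ∀ (M : X.Modules) (hM : PicF.IsInvertible M) (L : X.Modules) (hL : PicF.IsInvertible L),
      hh M hM (PicGrp.cls L hL) = Multiplicative.ofAdd (pr k L M))
    (c : PicLoc.PicSet X) :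
    c ∈ PicGrp.subCl (Y := X) (Pic13.IsNumEquivZero k X) ↔ ∀ M hM, hh M hM c = 1 := by
  constructor
  · intro hc M hM
    refine MonoidHom.mem_ker.1 ((Subgroup.closure_le (hh M hM).ker).2 ?_ hc)
    rintro _ ⟨L, hL, hn, rfl⟩
    rw [SetLike.mem_coe, MonoidHom.mem_ker, hh' M hM L hL, pr_symm k,
      pr_eq_zero_of_numEquivZero k hdim hL hn hM]
    rfl
  · intro h
    obtain ⟨L, hL, rfl⟩ := PicGrp.exists_eq_cls c
    refine PicGrp.cls_mem_subCl hL ?_
    intro Y i hi hY hd
    haveI := hi
    haveI := hY
    haveI := H28Int.isNoetherian k (X := X)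
    letI : Y.Over (Spec (CommRingCat.of k)) := ⟨i ≫ (X ↘ Spec (CommRingCat.of k))⟩
    haveI : IsProper (Y ↘ Spec (CommRingCat.of k)) := inferInstanceAs (IsProper (i ≫ _))
    have hI := H28Int.isInvertible_idealMod_curve k hdim i hd
    have h1 : pr k (ClSub.idealMod i.ker) L = 0 := by
      have h0 := h _ hI
      rw [hh' _ hI L hL] at h0
      rw [pr_symm k]
      exact congrArg Multiplicative.toAdd h0
    show Pic13.curveDeg k (Y ↘ Spec (CommRingCat.of k)) _ = 0
    rw [H28Int.Curves.curveDeg_eq k hd (H11Ample.isInvertible_pullback i hL),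
      ← H28Int.Curves.D_push_affine k i rfl hL,
      ← (H28Int.isAddFn_D k [L] (List.forall_mem_singleton.2 hL)).congr (H28Vert.quotModKerIso i)]
    have h2 := H28Surf.intNum_idealMod k hdim.le i.ker hI hL
    rw [intNum_eq_pr k hdim hI hL, h1] at h2
    rw [← h2, neg_zero]

end Groth.Agent.H28RR
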