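import Groth.Agent.H28RR.NefSq
import Groth.Agent.H28RR.Sect
import Groth.Agent.H28RR.Duality
import Groth.Agent.H28Surf.Twist
import Groth.Agent.H28Surf.Hyperplane
import Groth.Agent.H28Vert.PicVert

/-!
# Dimensions of cohomology and intersection numbers as functions on the Picard group of a surface
-/

set_option autoImplicit false
set_option linter.style.haveILetI false
set_option linter.unusedSectionVars false
set_option backward.isDefEq.respectTransparency.types false
universe u

open CategoryTheory CategoryTheory.Limits AlgebraicGeometry TopologicalSpace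
open Groth.Agent.H28Surf Groth.Agent.H11Proj

noncomputable section

namespace Groth.Agent.H28RR.PicNum

attribute [local instance] H28Vert.picLaw

variable {X : Scheme.{u}}

/-- A module in the class. -/
def rep (c : PicLoc.PicSet X) : X.Modules := (PicGrp.exists_eq_cls c).choose

theorem rep_inv (c : PicLoc.PicSet X) : PicF.IsInvertible (rep c) := (PicGrp.exists_eq_cls c).choose_spec.choose

theorem cls_rep (c : PicLoc.PicSet X) : PicGrp.cls (rep c) (rep_inv c) = c :=
  (PicGrp.exists_eq_cls c).choose_spec.choose_spec.symm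

theorem nonempty_rep_iso {L : X.Modules} (hL : PicF.IsInvertible L) : Nonempty (rep (PicGrp.cls L hL) ≅ L) :=
  (PicGrp.cls_eq_cls_iff _ hL).1 (cls_rep _)

theorem nonempty_rep_mul (a b : PicLoc.PicSet X) : Nonempty (rep (a * b) ≅ CohB1.tensorMod (rep a) (rep b)) := by
  refine (PicGrp.cls_eq_cls_iff (rep_inv _) (H11Ample.isInvertible_tensor (rep_inv a) (rep_inv b))).1 ?_
  rw [cls_rep]
  refine Subtype.ext ?_
  conv_lhs => rw [← cls_rep a, ← cls_rep b]
  rw [PicGrp.cls_mul_cls_val]
  rfl

theorem nonempty_rep_one : Nonempty (rep (1 : PicLoc.PicSet X) ≅ Coh.structureModule X) := by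
  rw [← PicGrp.cls_structureModule_eq_one]
  exact nonempty_rep_iso _

variable (k : Type u) [Field k] [X.Over (Spec (CommRingCat.of k))]

/-- `dim Hⁱ`. -/
def hc (i : ℕ) (c : PicLoc.PicSet X) : ℕ := Module.finrank k (Coh.HH X (rep c) i)

/-- The Euler characteristic. -/
def chi (c : PicLoc.PicSet X) : ℤ := Curv2.euler k X (rep c)

theorem hc_cls (i : ℕ) {L : X.Modules} (hL : PicF.IsInvertible L) :
    hc k i (PicGrp.cls L hL) = Module.finrank k (Coh.HH X L i) :=
  (H29RR.hhIso (k := k) (nonempty_rep_iso hL).some i).finrank_eq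

variable [IsProper (X ↘ Spec (CommRingCat.of k))]

/-- The intersection number. -/
def dot (a b : PicLoc.PicSet X) : ℤ := pr k (rep a) (rep b)

theorem dot_comm (a b : PicLoc.PicSet X) : dot k a b = dot k b a := pr_symm k _ _

variable [Smooth (X ↘ Spec (CommRingCat.of k))] [IsIntegral X] (hdim : topologicalKrullDim X = 2)

include hdim

theorem dot_mul_left (a b c : PicLoc.PicSet X) : dot k (a * b) c = dot k a c + dot k b c := by
  obtain ⟨e⟩ := nonempty_rep_mul a b
  rw [dot, pr_congr_left k (rep_inv c) e, pr_tensor_left k hdim (rep_inv a) (rep_inv b) (rep_inv c)]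
  rfl

theorem dot_mul_right (a b c : PicLoc.PicSet X) : dot k c (a * b) = dot k c a + dot k c b := by
  rw [dot_comm k c, dot_mul_left k hdim, dot_comm k a, dot_comm k b]

/-- Intersection with a fixed class as a homomorphism. -/
def dotHom (c : PicLoc.PicSet X) : PicLoc.PicSet X →* Multiplicative ℤ :=
  MonoidHom.mk' (fun a => Multiplicative.ofAdd (dot k a c)) fun a b => by rw [dot_mul_left k hdim]; rfl

theorem dot_pow_left (a c : PicLoc.PicSet X) (n : ℕ) : dot k (a ^ n) c = n * dot k a c := by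
  have h := map_pow (dotHom k hdim c) a n
  simpa [dotHom] using congrArg Multiplicative.toAdd h

theorem dot_pow_right (a c : PicLoc.PicSet X) (n : ℕ) : dot k c (a ^ n) = n * dot k c a := by
  rw [dot_comm k c, dot_pow_left k hdim, dot_comm k a]

theorem dot_inv_left (a c : PicLoc.PicSet X) : dot k a⁻¹ c = - dot k a c := by
  have h := map_inv (dotHom k hdim c) a
  simpa [dotHom] using congrArg Multiplicative.toAdd h

theorem dot_inv_right (a c : PicLoc.PicSet X) : dot k c a⁻¹ = - dot k c a := by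
  rw [dot_comm k c, dot_inv_left k hdim, dot_comm k a]

theorem dot_one_left (c : PicLoc.PicSet X) : dot k 1 c = 0 := by
  have h := map_one (dotHom k hdim c)
  simpa [dotHom] using congrArg Multiplicative.toAdd h

theorem dot_cls {L M : X.Modules} (hL : PicF.IsInvertible L) (hM : PicF.IsInvertible M) :
    dot k (PicGrp.cls L hL) (PicGrp.cls M hM) = pr k L M := by
  rw [dot, pr_congr_left k (rep_inv _) (nonempty_rep_iso hL).some, pr_symm k L,
    pr_congr_left k hL (nonempty_rep_iso hM).some, pr_symm k M]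

omit hdim in
variable [IsAlgClosed k] in
include hdim in
/-- The class of a curve. -/
def curveCls {C : X.IdealSheafData} (hC : IsCurve C) : PicLoc.PicSet X :=
  (PicGrp.cls (ClSub.idealMod C) (isInvertible_ideal k (isEffCartier_curve k hdim hC)))⁻¹

variable [IsAlgClosed k]

theorem chi_eq_three (c : PicLoc.PicSet X) : chi k c = (hc k 0 c : ℤ) - hc k 1 c + hc k 2 c :=
  euler_eq_three k hdim (H11Ample.isCoh_of_isInvertible (rep_inv c))

theorem chi_rr {W : X.Modules} (hW : ExtPow.IsExtPow 2 (Omega.sheaf (X ↘ Spec (CommRingCat.of k))) W)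
    (c : PicLoc.PicSet X) :
    2 * chi k c = dot k c c - dot k c (PicGrp.cls W (isInvertible_canonical k hdim hW)) +
      2 * Curv2.euler k X (Coh.structureModule X) := by
  have h := riemann_roch' k hdim hW (rep_inv c)
  rw [chi, h, dot, dot, pr_symm k (rep c) W,
    pr_symm k (rep c) (rep (PicGrp.cls W (isInvertible_canonical k hdim hW))),
    pr_congr_left k (rep_inv c) (nonempty_rep_iso (isInvertible_canonical k hdim hW)).some]

theorem h2_eq {W : X.Modules} (hW : ExtPow.IsExtPow 2 (Omega.sheaf (X ↘ Spec (CommRingCat.of k))) W)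
    (c : PicLoc.PicSet X) :
    hc k 2 c = hc k 0 (PicGrp.cls W (isInvertible_canonical k hdim hW) * c⁻¹) := by
  set w := PicGrp.cls W (isInvertible_canonical k hdim hW)
  obtain ⟨e₁⟩ := nonempty_rep_mul c c⁻¹
  obtain ⟨e₂⟩ := nonempty_rep_one (X := X)
  obtain ⟨e₃⟩ := nonempty_rep_mul w c⁻¹
  rw [hc, hc, finrank_h2 k hdim hW (rep_inv c) (rep_inv c⁻¹)
    (e₁.symm ≪≫ eqToIso (by rw [mul_inv_cancel]) ≪≫ e₂)]
  exact (H29RR.hhIso (k := k) (PicGrp.tensorModIso (nonempty_rep_iso (isInvertible_canonical k hdim hW)).some.symm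
    (Iso.refl _) ≪≫ e₃.symm) 0).finrank_eq

/-- Adding a curve: sections grow by at most the degree plus one. -/
theorem h0_step {C : X.IdealSheafData} (hC : IsCurve C) (c : PicLoc.PicSet X) :
    hc k 0 c ≤ hc k 0 (c * curveCls k hdim hC) ∧
      (hc k 0 (c * curveCls k hdim hC) : ℤ) ≤
        hc k 0 c + max (dot k (c * curveCls k hdim hC) (curveCls k hdim hC) + 1) 0 := by
  haveI := H28Int.isNoetherian k (X := X)
  have hI := isInvertible_ideal k (isEffCartier_curve k hdim hC)
  set δ := curveCls k hdim hC with hδ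
  set L := rep (c * δ) with hLdef
  have hL : PicF.IsInvertible L := rep_inv _
  obtain ⟨S, hS, e₁, e₂, e₃⟩ := exists_restrict_seq k C hL
  have h1 : Module.finrank k (Coh.HH X S.X₁ 0) = hc k 0 c := by
    rw [e₁, ← hc_cls k 0 (H11Ample.isInvertible_tensor hI hL)]
    congr 1
    refine Subtype.ext ?_
    have : c = PicGrp.cls (ClSub.idealMod C) hI * (c * δ) := by
      rw [hδ, curveCls, mul_comm c, ← mul_assoc, mul_inv_cancel, one_mul]
    conv_rhs => rw [this, ← cls_rep (c * δ), PicGrp.cls_mul_cls_val]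
    rfl
  have h2 : Module.finrank k (Coh.HH X S.X₂ 0) = hc k 0 (c * δ) := by
    rw [e₂]
    exact (H29RR.hhIso (k := k) (H10Coh.Tw.leftUnitIso L) 0).finrank_eq
  have hc₂ : Coh.IsCoh S.X₂ := e₂ ▸ H11Ample.isCoh_tensor (H10Coh.isCoh_structureModule' X) hL
  have hc₁ : Coh.IsCoh S.X₁ := e₁ ▸ H11Ample.isCoh_tensor (H11Ample.isCoh_of_isInvertible hI) hL
  have hc₃ : Coh.IsCoh S.X₃ := e₃ ▸ H11Ample.isCoh_tensor (isCoh_quot k C) hL
  haveI := H10Coh.finite_HH_proper k X _ hc₂ 0
  have hge := LinearMap.finrank_le_finrank_of_injective (H28Surf.hhlin_injective k hS)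
  have hle := finrank_zero_le k hS hc₁ hc₂ hc₃
  refine ⟨by omega, ?_⟩
  have hdeg : degOn k C L = dot k (c * δ) δ := by
    rw [degOn_eq_pr k hdim hC hL, hδ, curveCls, dot_inv_right k hdim, dot,
      pr_symm k (rep (c * _)) (rep (PicGrp.cls (ClSub.idealMod C) hI)),
      pr_congr_left k (rep_inv _) (nonempty_rep_iso hI).some]
    rfl
  have h3 : (Module.finrank k (Coh.HH X S.X₃ 0) : ℤ) ≤ max (dot k (c * δ) δ + 1) 0 := by
    rw [e₃, ← hdeg]
    by_cases hneg : degOn k C L < 0
    · haveI := subsingleton_zero_of_neg k hC hL hneg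
      rw [Module.finrank_zero_of_subsingleton (R := k)]
      simp
    letI : C.subscheme.Over (Spec (CommRingCat.of k)) := ⟨C.subschemeι ≫ (X ↘ Spec (CommRingCat.of k))⟩
    haveI : IsProper (C.subscheme ↘ Spec (CommRingCat.of k)) :=
      inferInstanceAs (IsProper (C.subschemeι ≫ (X ↘ Spec (CommRingCat.of k))))
    haveI := hC.int
    haveI : (Coh.structureModule C.subscheme).IsQuasicoherent := H10Coh.isQuasicoherent_unit
    have hP := H11Ample.isInvertible_pullback C.subschemeι hL
    rw [finrank_quot_tensor k hC hL 0]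
    rcases Nat.eq_zero_or_pos (Module.finrank k (Coh.HH C.subscheme ((Scheme.Modules.pullback C.subschemeι).obj L) 0)) with h0 | h0
    · rw [h0]; simp
    have hb := (H29RR.bounds_of_section (k := k) ((dim_subscheme C).trans hC.dim).le hP
      (Module.nontrivial_of_finrank_pos (R := k) h0)).2.1
    have hone : Module.finrank k (Coh.HH C.subscheme (Coh.structureModule C.subscheme) 0) = 1 := by
      rw [← finrank_quot_zero k hC]
      exact (H28Int.Push.finrank_HH_push k C.subschemeι rfl (Coh.structureModule C.subscheme) 0).symm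
    rw [degOn_eq_deg k hC hL]
    rw [hone] at hb
    push_cast at hb
    exact le_max_of_le_left (by linarith)
  have hle' : (Module.finrank k (Coh.HH X S.X₂ 0) : ℤ) ≤
      Module.finrank k (Coh.HH X S.X₁ 0) + Module.finrank k (Coh.HH X S.X₃ 0) := by exact_mod_cast hle
  rw [h1, h2] at hle'
  linarith

/-- A curve class meeting a class negatively is a fixed component. -/
theorem h0_fixed {C : X.IdealSheafData} (hC : IsCurve C) (c : PicLoc.PicSet X)
    (h : dot k (c * curveCls k hdim hC) (curveCls k hdim hC) < 0) :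
    hc k 0 (c * curveCls k hdim hC) = hc k 0 c := by
  obtain ⟨h1, h2⟩ := h0_step k hdim hC c
  rw [max_eq_right (by omega)] at h2
  omega

theorem h0_mul_pow {C : X.IdealSheafData} (hC : IsCurve C) (c : PicLoc.PicSet X) (n : ℕ) :
    hc k 0 c ≤ hc k 0 (c * curveCls k hdim hC ^ n) := by
  induction n with
  | zero => simp
  | succ n ih => rw [pow_succ, ← mul_assoc]; exact ih.trans (h0_step k hdim hC _).1

/-- Serre vanishing. -/
theorem exists_hc_vanishing {a : PicLoc.PicSet X} (ha : CohB1.IsAmple (rep a)) (c : PicLoc.PicSet X) :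
    ∃ b : ℕ, ∀ n, b ≤ n → ∀ p, 0 < p → hc k p (c * a ^ n) = 0 := by
  haveI := H28Int.isNoetherian k (X := X)
  obtain ⟨b, hb⟩ := H10Coh.Tw.exists_vanishing_ample (X ↘ Spec (CommRingCat.of k)) ha (rep c)
    (H11Ample.isCoh_of_isInvertible (rep_inv c))
  refine ⟨b, fun n hn => ?_⟩
  have hi : ∀ p, 0 < p → hc k p (c * a ^ n) = 0 := by
    intro p hp
    haveI : Subsingleton (Coh.HH X (CohB1.tensorMod (rep c) (CohB1.tensorPow (rep a) n)) p) :=
      (H10Coh.HHEquiv _ p).toEquiv.subsingleton_congr.2 (hb n hn p hp)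
    have h : c * a ^ n = PicGrp.cls _ (H11Ample.isInvertible_tensor (rep_inv c)
        (H28Vert.isInvertible_tensorPow (rep_inv a) n)) := by
      refine Subtype.ext ?_
      conv_lhs => rw [← cls_rep c, ← cls_rep a, ← H28Vert.cls_tensorPow (rep_inv a) n]
      rw [PicGrp.cls_mul_cls_val]
      rfl
    rw [h, hc_cls]
    exact Module.finrank_zero_of_subsingleton
  exact hi

theorem exists_vanishing {a : PicLoc.PicSet X} (ha : CohB1.IsAmple (rep a)) (c : PicLoc.PicSet X) :
    ∃ b : ℕ, ∀ n, b ≤ n → (hc k 0 (c * a ^ n) : ℤ) = chi k (c * a ^ n) := by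
  obtain ⟨b, hb⟩ := exists_hc_vanishing k hdim ha c
  refine ⟨b, fun n hn => ?_⟩
  rw [chi_eq_three k hdim, hb n hn 1 one_pos, hb n hn 2 two_pos]
  simp

omit hdim in
include hdim in
/-- A curve with ample class. -/
theorem exists_ample_curve : ∃ (C : X.IdealSheafData) (hC : IsCurve C), CohB1.IsAmple (rep (curveCls k hdim hC)) := by
  obtain ⟨A, hA⟩ := exists_ample k hdim
  obtain ⟨m₀, hm₀⟩ := Embed.eventually_closedImmersion (X ↘ Spec (CommRingCat.of k)) hA
  obtain ⟨n, r, hr, hrq, -⟩ := hm₀ (m₀ + 1) (Nat.le_succ _)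
  haveI := hr
  obtain ⟨C, hC, -, ⟨e⟩⟩ := exists_hyperplane_curve k hdim r hrq
  have hL : CohB1.IsAmple (SepPts.L r) :=
    H11Ample.isAmple_pullback_of_isAffineHom r (H11Ample.isAmple_twistProjSpace n k)
  have hLi := (H11Ample.isAmple_iff.1 hL).1
  refine ⟨C, hC, ?_⟩
  have : curveCls k hdim hC = PicGrp.cls (SepPts.L r) hLi := by
    refine inv_eq_of_mul_eq_one_right (Subtype.ext ?_)
    rw [PicGrp.cls_mul_cls_val, PicGrp.one_val]
    exact Quot.sound ⟨e⟩
  rw [this]
  exact H11Ample.isAmple_of_iso (nonempty_rep_iso hLi).some.symm hL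

end Groth.Agent.H28RR.PicNum
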