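import Groth.Agent.H28RR.LeraySurf
import Groth.Agent.H28RR.Cor
import Groth.Agent.H28RR.Blow
import Groth.Agent.H28RR.Duality
import Groth.Agent.H28RR.Sect
import Groth.Agent.S16558
import Groth.Agent.S7860
import Groth.Agent.S4466
import Groth.Agent.S10829
import Groth.Agent.H28Contr.BlowH1
import Groth.Agent.H28Vert.Contracted
import Groth.Agent.H28Bertini.Regular
import Groth.Agent.H26Smooth.ProjSmooth
import Groth.Agent.H29Ref.Hartogs
import Groth.Agent.H10Coh.Stab.TwistInt
import Groth.Agent.H22Alg.RegSheaf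
import Groth.Agent.H16Derived.KFlat.SheafAssoc
import Groth.Agent.H22Alg.CMField
import Groth.Agent.H11Strict.Admissible
import Groth.Agent.H14AlgSt.IdealLemmas
import Groth.Agent.LeadBC.GenBC.AppIsoApps

/-!
# The projective plane blown up at finitely many points

`χ(O) = 1`, `H² = 1` and `H·K = -3` for the pull-back `H` of `O(1)`.
-/

set_option autoImplicit false
set_option linter.style.haveILetI false
set_option linter.unusedSectionVars false
set_option backward.isDefEq.respectTransparency.types false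
universe u

open CategoryTheory CategoryTheory.Limits AlgebraicGeometry Opposite TopologicalSpace
open Groth.Agent.H28Surf

noncomputable section

namespace Groth.Agent.H28RR.PlaneBlow

attribute [local instance 10000] H10Coh.hasSheafifyAb H10Coh.hasWeakSheafifyAb H10Coh.hasExtAb H10Coh.enoughInjAb

theorem euler_twist (k : Type u) [Field k] (d : ℤ) :
    Curv2.euler k (CohB1.ProjSpace 2 k) (Twist.twistProjSpace 2 k d) = Ring.choose (d + 2) 2 := by
  haveI := H28Int.isNoetherian k (X := CohB1.ProjSpace 2 k)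
  have h := S4466.result k 2 (by norm_num) d
  norm_num at h
  rw [← h]
  exact H25Euler.euler_eq_sum _ 3 fun p hp =>
    H22Alg.CMField.van_iff.1 (H22Alg.CMField.van_high (n := 2) (k := k) (i := p) (by omega)
      (H11Ample.isCoh_of_isInvertible (H22Alg.RegSheaf.isInvertible_twistProjSpace 2 k d)).1)

/-- An open set of the plane containing at most one centre keeps the first cohomology zero. -/
theorem subsingleton_H1_preimage {Z X : Scheme.{u}} {σ : X ⟶ Z} [IsProper σ] {S : Set Z} (hS : IsClosed S)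
    (hσ : BlowUp.IsBlowUp σ (Scheme.IdealSheafData.vanishingIdeal ⟨S, hS⟩)) [IsLocallyNoetherian Z]
    {V : Z.Opens} (hV : IsAffineOpen V) {y : Z} (hyV : y ∈ V) (hy : IsClosed ({y} : Set Z))
    (hreg : IsRegularLocalRing (Z.presheaf.stalk y)) (hdim : ringKrullDim (Z.presheaf.stalk y) = 2)
    (hyS : y ∈ S) (honly : ∀ z ∈ V, z ∈ S → z = y) :
    Subsingleton (H10Coh.HnM (Coh.structureModule X) 1 (σ ⁻¹ᵁ V)) := by
  haveI : IsAffine V.toScheme := hV
  haveI : IsNoetherian V.toScheme := { }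
  haveI : IsProper (σ ∣_ V) := inferInstance
  have hy' : IsClosed ({(⟨y, hyV⟩ : V)} : Set V.toScheme) := by
    have h := hy.preimage V.ι.continuous
    convert h
    ext z
    exact ⟨fun h => congrArg Subtype.val h, fun h => Subtype.ext h⟩
  have hcomap : (Scheme.IdealSheafData.vanishingIdeal (⟨S, hS⟩ : Closeds Z)).comap V.ι =
      Scheme.IdealSheafData.vanishingIdeal (⟨{(⟨y, hyV⟩ : V)}, hy'⟩ : Closeds V.toScheme) := by
    rw [H14AlgSt.comap_vanishingIdeal_of_smooth]
    congr 1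
    ext z
    exact ⟨fun h => Subtype.ext (honly z.1 z.2 h), fun h => by rw [Set.mem_singleton_iff.1 h]; exact hyS⟩
  have hb := H11Strict.isBlowUp_restrict_opens hσ V
  rw [hcomap] at hb
  have e := (V.stalkIso (⟨y, hyV⟩ : V)).commRingCatIsoToRingEquiv
  have hreg' : IsRegularLocalRing (V.toScheme.presheaf.stalk ⟨y, hyV⟩) := IsRegularLocalRing.of_ringEquiv e.symm
  have hdim' : ringKrullDim (V.toScheme.presheaf.stalk ⟨y, hyV⟩) = 2 := by
    rw [ringKrullDim_eq_of_ringEquiv e]; exact hdim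
  haveI : (Coh.structureModule V.toScheme).IsQuasicoherent := H10Coh.isQuasicoherent_unit
  have h := H28Contr.subsingleton_HnM_blowUp hy' hreg' hdim' hb
    (H10Coh.subsingleton_HnM_of_isAffineOpen _ (isAffineOpen_top _) 0)
  exact H10Coh.subsingleton_HnM_image (σ ⁻¹ᵁ V).ι (Coh.structureModule X) 1 ⊤ _
    (Scheme.Opens.ι_image_top _)
    (H10Coh.Tw.subsingleton_of_iso (Scheme.Modules.restrictUnitIso (σ ⁻¹ᵁ V).ι).symm h)

theorem facts_all (k : Type u) [Field k] [IsAlgClosed k]
    (r : ℕ) (P : Fin r → ↥(CohB1.ProjSpace 2 k))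
    (hPc : ∀ i, IsClosed ({P i} : Set ↥(CohB1.ProjSpace 2 k))) (hZ : IsClosed (Set.range P))
    (X : Scheme.{u}) [X.Over (Spec (CommRingCat.of k))] (σ : X ⟶ CohB1.ProjSpace 2 k)
    (hσk : σ ≫ CohB1.ProjSpace.toSpec 2 k = X ↘ (Spec (CommRingCat.of k)))
    (hσ : BlowUp.IsBlowUp σ (Scheme.IdealSheafData.vanishingIdeal ⟨Set.range P, hZ⟩))
    [IsIntegral X] [IsProper (X ↘ (Spec (CommRingCat.of k)))] [Smooth (X ↘ (Spec (CommRingCat.of k)))]
    (hdim : topologicalKrullDim X = 2) :
    let H := (Scheme.Modules.pullback σ).obj (Twist.twistProjSpace 2 k 1)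
    PicF.IsInvertible H ∧ pr k H H = 1 ∧ Curv2.euler k X (Coh.structureModule X) = 1 ∧
      (∀ d : ℤ, Curv2.euler k X ((Scheme.Modules.pullback σ).obj (Twist.twistProjSpace 2 k d)) = Ring.choose (d + 2) 2) ∧
      ∀ W : X.Modules, ExtPow.IsExtPow 2 (Omega.sheaf (X ↘ (Spec (CommRingCat.of k)))) W → pr k H W = -3 := by
  intro H
  classical
  let Q := CohB1.ProjSpace 2 k
  haveI := H28Int.isNoetherian k (X := X)
  haveI := H28Int.isNoetherian k (X := Q)
  haveI : IsIntegral Q := LeadPic.PnRel.isIntegral_projSpace (n := 2) k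
  haveI : Smooth (Q ↘ Spec (CommRingCat.of k)) := H26Smooth.smooth_toSpec 2 k
  have hdQ : topologicalKrullDim Q = 2 := by exact_mod_cast S10829.result k 2
  haveI : IsProper (σ ≫ CohB1.ProjSpace.toSpec 2 k) := hσk ▸ inferInstance
  haveI : IsProper σ := IsProper.of_comp σ (CohB1.ProjSpace.toSpec 2 k)
  let U : Q.Opens := ⟨(Set.range P)ᶜ, hZ.isOpen_compl⟩
  have hUf : ((U : Set Q)ᶜ).Finite := by
    show ((Set.range P)ᶜᶜ).Finite
    rw [compl_compl]
    exact Set.finite_range P
  haveI : IsIso (σ ∣_ U) := H29Blow.isIso_morphismRestrict hσ U fun x hx hsupp => by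
    rw [← SetLike.mem_coe, Scheme.IdealSheafData.coe_support_vanishingIdeal] at hsupp
    exact hx hsupp
  haveI : JacobsonSpace Q := LocallyOfFiniteType.jacobsonSpace (Q ↘ Spec (CommRingCat.of k))
  have hUne : (U : Set Q).Nonempty := by
    by_contra hemp
    rw [Set.not_nonempty_iff_eq_empty] at hemp
    rw [hemp, Set.compl_empty] at hUf
    have h := LeraySurf.dim_le_zero (X := Q) hUf isClosed_univ
    rw [(Homeomorph.Set.univ Q).isHomeomorph.topologicalKrullDim_eq, hdQ] at h
    exact absurd h (by decide)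
  obtain ⟨hξ, hbir⟩ := H28Vert.birational_of_isIso_restrict σ U hUne
  have hne : (σ ⁻¹ᵁ U : Set X).Nonempty := by
    obtain ⟨x, hx⟩ := hUne
    exact ⟨((inv (σ ∣_ U)) ⟨x, hx⟩).1, ((inv (σ ∣_ U)) ⟨x, hx⟩).2⟩
  have hregQ : ∀ z : Q, IsRegularLocalRing (Q.presheaf.stalk z) := fun z =>
    H19Grp.isRegularLocalRing_stalk_of_smooth (Q ↘ Spec (CommRingCat.of k)) z
  haveI : IsIso (ClSub.unitToPush σ) := LeadBC.GenBC.isIso_unitToPush_of_app σ fun V =>
    (ConcreteCategory.isIso_iff_bijective _).2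
      (H28Pinch.bijective_app_of_birational σ (H29Ref.isNormalScheme_of_regular hregQ) hξ hbir V)
  obtain ⟨A, hA⟩ := exists_ample k (X := X) hdim
  have hcomp : ∀ d : ℤ,
      Curv2.euler k X ((Scheme.Modules.pullback σ).obj (Twist.twistProjSpace 2 k d)) -
          Curv2.euler k X (Coh.structureModule X) = Ring.choose (d + 2) 2 - 1 ∧
        Curv2.euler k X (Coh.structureModule X) = 1 := by
    intro d
    have hT : PicF.IsInvertible (Twist.twistProjSpace 2 k d) := H22Alg.RegSheaf.isInvertible_twistProjSpace 2 k d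
    obtain ⟨K, hK, -, -, hχ, hD, -, hvan⟩ := LeraySurf.exists_defect k σ hσk hA (by rw [hdim]; rfl) U hUf hne _ hT
    have e := (asIso (ClSub.unitToPush σ)).symm
    rw [(H28Int.isAddFn_D k [Twist.twistProjSpace 2 k d] (by simpa using hT)).congr e] at hD
    have hO : Curv2.euler k Q (Coh.structureModule Q) = 1 := by
      obtain ⟨e₀⟩ := (H10Coh.Stab.isTwistFamily_projSpace 2 k).zero
      rw [← H25Euler.euler_congr e₀, euler_twist, show ((0 : ℤ) + 2) = ((2 : ℕ) : ℤ) by norm_num,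
        Ring.choose_natCast]
      rfl
    rw [H25Euler.euler_congr e, hO] at hχ
    have hKz : IsZero K := hvan fun x O hxO => by
      let T : Q.Opens := ⟨(Set.range P \ {x})ᶜ,
        ((Set.finite_range P).subset Set.diff_subset).isClosed_biUnion (f := fun z => ({z} : Set Q))
          (fun z hz => by obtain ⟨i, rfl⟩ := hz.1; exact hPc i) |> (fun h => by
            rw [Set.biUnion_of_singleton] at h; exact h.isOpen_compl)⟩
      obtain ⟨V, hV, hxV, hle⟩ := exists_isAffineOpen_mem_and_subset (U := O ⊓ T) (x := x)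
        ⟨hxO, fun h => h.2 rfl⟩
      refine ⟨V, hV, hxV, fun z hz => (hle hz).1, ?_⟩
      by_cases hxP : x ∈ Set.range P
      · obtain ⟨i, rfl⟩ := hxP
        exact subsingleton_H1_preimage hZ hσ hV hxV (hPc i) (hregQ _) (dim_stalk_closed k hdQ (hPc i))
          ⟨i, rfl⟩ fun z hz hzP => by
            by_contra hne
            exact (hle hz).2 ⟨hzP, hne⟩
      · have hVU : V ≤ U := fun z hz hzP => (hle hz).2 ⟨hzP, fun h => hxP (h ▸ hzP)⟩
        haveI : IsAffineHom (σ ∣_ U) := inferInstance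
        have hVU' : IsAffineOpen (σ ⁻¹ᵁ V) := by
          let g := (σ ∣_ U) ≫ U.ι
          have hrange : V ≤ g.opensRange := fun y hy => by
            refine ⟨inv (σ ∣_ U) ⟨y, hVU hy⟩, ?_⟩
            show U.ι ((σ ∣_ U) (inv (σ ∣_ U) ⟨y, hVU hy⟩)) = y
            rw [← Scheme.Hom.comp_apply (inv (σ ∣_ U)) (σ ∣_ U), IsIso.inv_hom_id]
            rfl
          have h2 := (hV.preimage_of_isOpenImmersion g hrange).image_of_isOpenImmersion (σ ⁻¹ᵁ U).ι
          have h3 : (σ ⁻¹ᵁ U).ι ''ᵁ (g ⁻¹ᵁ V) = σ ⁻¹ᵁ V := by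
            rw [show g = (σ ⁻¹ᵁ U).ι ≫ σ from morphismRestrict_ι σ U, Scheme.Hom.comp_preimage,
              Scheme.Hom.image_preimage_eq_opensRange_inf, Scheme.Opens.opensRange_ι]
            exact inf_eq_right.2 fun z hz => hVU hz
          exact h3 ▸ h2
        haveI : (Coh.structureModule X).IsQuasicoherent := H10Coh.isQuasicoherent_unit
        exact H10Coh.subsingleton_HnM_of_isAffineOpen _ hVU' 0
    rw [(H28Int.isAddFn_euler k).zero hKz, sub_zero] at hχ
    refine ⟨?_, hχ⟩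
    change Curv2.euler k X _ - Curv2.euler k X _ = Curv2.euler k Q _ - Curv2.euler k Q _ at hD
    rw [H25Euler.euler_congr (H10Coh.Tw.rightUnitIso _), H25Euler.euler_congr (H10Coh.Tw.rightUnitIso _)] at hD
    rw [hO, euler_twist] at hD
    omega
  have hχ := (hcomp 0).2
  have hH : PicF.IsInvertible H := H11Ample.isInvertible_pullback σ H11Ample.isInvertible_twist
  have h1 := (hcomp 1).1
  have h2 := (hcomp 2).1
  rw [show ((1 : ℤ) + 2) = ((3 : ℕ) : ℤ) by norm_num, Ring.choose_natCast, show Nat.choose 3 2 = 3 by rfl] at h1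
  change Curv2.euler k X H - _ = _ at h1
  rw [show ((2 : ℤ) + 2) = ((4 : ℕ) : ℤ) by norm_num, Ring.choose_natCast, show Nat.choose 4 2 = 6 by rfl] at h2
  let ep := (H16Derived.KFlat.Stalk.pullTensorLIso σ (Twist.twistProjSpace 2 k 1)).app
    (Twist.twistProjSpace 2 k 1)
  obtain ⟨et⟩ := (H10Coh.Stab.isTwistFamily_projSpace 2 k).add 1 1
  have e2 : Curv2.euler k X (CohB1.tensorMod H H) =
      Curv2.euler k X ((Scheme.Modules.pullback σ).obj (Twist.twistProjSpace 2 k 2)) :=
    H25Euler.euler_congr (ep.symm ≪≫ (Scheme.Modules.pullback σ).mapIso et)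
  obtain ⟨W₀, hW₀⟩ := exists_canonical k hdim
  have hrr : ∀ W : X.Modules, ExtPow.IsExtPow 2 (Omega.sheaf (X ↘ (Spec (CommRingCat.of k)))) W →
      pr k H H = 1 ∧ pr k H W = -3 := by
    intro W hW
    have r1 := riemann_roch' k hdim hW hH
    have r2 := riemann_roch' k hdim hW (H11Ample.isInvertible_tensor hH hH)
    have a1 : pr k (CohB1.tensorMod H H) (CohB1.tensorMod H H) = 4 * pr k H H := by
      rw [pr_tensor_left k hdim hH hH (H11Ample.isInvertible_tensor hH hH), pr_symm k H (CohB1.tensorMod H H),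
        pr_tensor_left k hdim hH hH hH]
      ring
    have a2 : pr k (CohB1.tensorMod H H) W = 2 * pr k H W := by
      rw [pr_tensor_left k hdim hH hH (isInvertible_canonical k hdim hW)]
      ring
    rw [a1, a2, e2] at r2
    omega
  exact ⟨hH, (hrr W₀ hW₀).1, hχ, fun d => by have := (hcomp d).1; omega, fun W hW => (hrr W hW).2⟩

theorem facts (k : Type u) [Field k] [IsAlgClosed k]
    (r : ℕ) (P : Fin r → ↥(CohB1.ProjSpace 2 k))
    (hPc : ∀ i, IsClosed ({P i} : Set ↥(CohB1.ProjSpace 2 k))) (hZ : IsClosed (Set.range P))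
    (X : Scheme.{u}) [X.Over (Spec (CommRingCat.of k))] (σ : X ⟶ CohB1.ProjSpace 2 k)
    (hσk : σ ≫ CohB1.ProjSpace.toSpec 2 k = X ↘ (Spec (CommRingCat.of k)))
    (hσ : BlowUp.IsBlowUp σ (Scheme.IdealSheafData.vanishingIdeal ⟨Set.range P, hZ⟩))
    [IsIntegral X] [IsProper (X ↘ (Spec (CommRingCat.of k)))] [Smooth (X ↘ (Spec (CommRingCat.of k)))]
    (hdim : topologicalKrullDim X = 2) :
    let H := (Scheme.Modules.pullback σ).obj (Twist.twistProjSpace 2 k 1)
    PicF.IsInvertible H ∧ pr k H H = 1 ∧ Curv2.euler k X (Coh.structureModule X) = 1 ∧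
      ∀ W : X.Modules, ExtPow.IsExtPow 2 (Omega.sheaf (X ↘ (Spec (CommRingCat.of k)))) W → pr k H W = -3 := by
  intro H
  obtain ⟨h1, h2, h3, -, h5⟩ := facts_all k r P hPc hZ X σ hσk hσ hdim
  exact ⟨h1, h2, h3, h5⟩

/-- `H²(L) = 0` once `L·H ≥ -2`. -/
theorem subsingleton_h2 (k : Type u) [Field k] [IsAlgClosed k]
    (r : ℕ) (P : Fin r → ↥(CohB1.ProjSpace 2 k)) (hP : Function.Injective P)
    (hPc : ∀ i, IsClosed ({P i} : Set ↥(CohB1.ProjSpace 2 k))) (hZ : IsClosed (Set.range P))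
    (X : Scheme.{u}) [X.Over (Spec (CommRingCat.of k))] (σ : X ⟶ CohB1.ProjSpace 2 k)
    (hσk : σ ≫ CohB1.ProjSpace.toSpec 2 k = X ↘ (Spec (CommRingCat.of k)))
    (hσ : BlowUp.IsBlowUp σ (Scheme.IdealSheafData.vanishingIdeal ⟨Set.range P, hZ⟩))
    [IsIntegral X] [IsProper (X ↘ (Spec (CommRingCat.of k)))] [Smooth (X ↘ (Spec (CommRingCat.of k)))]
    (hdim : topologicalKrullDim X = 2) {L : X.Modules} (hL : PicF.IsInvertible L)
    (hd : -2 ≤ pr k L ((Scheme.Modules.pullback σ).obj (Twist.twistProjSpace 2 k 1))) :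
    Subsingleton (Coh.HH X L 2) := by
  obtain ⟨hH, -, -, hW'⟩ := facts k r P hPc hZ X σ hσk hσ hdim
  haveI := H28Int.isNoetherian k (X := X)
  obtain ⟨W, hW⟩ := exists_canonical k hdim
  have hWi := isInvertible_canonical k hdim hW
  obtain ⟨N, hN, ⟨e₀⟩⟩ := H11Sym.exists_inverse hL
  have e : CohB1.tensorMod L N ≅ Coh.structureModule X := H10Coh.Tw.commIso L N ≪≫ e₀
  haveI := S16558.result k r P hP hPc hZ X σ hσk hσ hdim (CohB1.tensorMod W N) (H11Ample.isInvertible_tensor hWi hN) (by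
    rw [intNum_eq_pr k hdim (H11Ample.isInvertible_tensor hWi hN) hH, pr_tensor_left k hdim hWi hN hH,
      pr_inv_left k hdim hL hN hH e, pr_symm k W, hW' W hW]
    omega)
  haveI := H10Coh.finite_HH_proper k X _ (H11Ample.isCoh_of_isInvertible hL) 2
  refine (Module.finrank_zero_iff (R := k)).1 ?_
  rw [finrank_h2 k hdim hW hL hN e]
  exact Module.finrank_zero_of_subsingleton

end Groth.Agent.H28RR.PlaneBlow
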