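import Groth.Agent.H28Surf.Cycle
import Groth.Agent.H17.SuppTensor

/-!
# Divisors principal near a curve on a surface

A rational function regular on an open set `U` gives a combination of curves having degree zero on
every curve inside `U`.
-/

set_option autoImplicit false
set_option linter.style.haveILetI false
set_option backward.isDefEq.respectTransparency.types false
universe u

open CategoryTheory CategoryTheory.Limits AlgebraicGeometry Opposite TopologicalSpace
open Groth.Agent.H8Props.FieldDim (cdim)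

namespace Groth.Agent.H28RR.PrincipalLocal

open Groth.Agent.H28Int Groth.Agent.H28Surf

section ideals

variable {X : Scheme.{u}} [IsLocallyNoetherian X]

/-- Ideals of sections over an affine open are compared at stalks. -/
theorem ideal_le_of_stalk (V : X.affineOpens) (I J : Ideal Γ(X, V.1))
    (h : ∀ (x : X) (hx : x ∈ V.1), I.map (X.presheaf.germ V.1 x hx).hom ≤ J.map (X.presheaf.germ V.1 x hx).hom) :
    I ≤ J := by
  intro b hb
  by_contra hbJ
  have hne : J.colon {b} ≠ ⊤ := fun htop => hbJ <| by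
    have h1 := Submodule.mem_colon_singleton.1 (htop.symm ▸ Submodule.mem_top : (1 : Γ(X, V.1)) ∈ J.colon {b})
    simpa using h1
  obtain ⟨P, hP, hle⟩ := Ideal.exists_le_maximal _ hne
  let q : PrimeSpectrum Γ(X, V.1) := ⟨P, hP.isPrime⟩
  have hxV : V.2.fromSpec q ∈ V.1 := by
    have h1 : V.2.fromSpec q ∈ Set.range V.2.fromSpec := ⟨q, rfl⟩
    rwa [V.2.range_fromSpec] at h1
  letI := (X.presheaf.germ V.1 (V.2.fromSpec q) hxV).hom.toAlgebra
  haveI : IsLocalization.AtPrime (X.presheaf.stalk (V.2.fromSpec q)) q.asIdeal :=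
    V.2.isLocalization_stalk' q hxV
  obtain ⟨s, hs, hsb⟩ := (IsLocalization.algebraMap_mem_map_algebraMap_iff q.asIdeal.primeCompl
    (X.presheaf.stalk (V.2.fromSpec q)) J b).1 (h _ hxV (Ideal.mem_map_of_mem _ hb))
  exact hs (hle (Submodule.mem_colon_singleton.2 hsb))

/-- Principal stalks of two ideals agreeing in codimension one agree. -/
theorem ideal_eq_of_height_one
    (hufd : ∀ x : X, IsDomain (X.presheaf.stalk x) ∧ UniqueFactorizationMonoid (X.presheaf.stalk x))
    (V : X.affineOpens) (I J : Ideal Γ(X, V.1))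
    (hI : ∀ (x : X) (hx : x ∈ V.1), ∃ g ≠ 0, I.map (X.presheaf.germ V.1 x hx).hom = Ideal.span {g})
    (hJ : ∀ (x : X) (hx : x ∈ V.1), ∃ g ≠ 0, J.map (X.presheaf.germ V.1 x hx).hom = Ideal.span {g})
    (h : ∀ (y : X) (hy : y ∈ V.1), ringKrullDim (X.presheaf.stalk y) = 1 →
      I.map (X.presheaf.germ V.1 y hy).hom = J.map (X.presheaf.germ V.1 y hy).hom) : I = J := by
  suffices ∀ (x : X) (hx : x ∈ V.1),
      I.map (X.presheaf.germ V.1 x hx).hom = J.map (X.presheaf.germ V.1 x hx).hom from
    le_antisymm (ideal_le_of_stalk V I J fun x hx => (this x hx).le)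
      (ideal_le_of_stalk V J I fun x hx => (this x hx).ge)
  intro x hx
  obtain ⟨hd, hu⟩ := hufd x
  obtain ⟨f, hf0, hf⟩ := hI x hx
  obtain ⟨g, hg0, hg⟩ := hJ x hx
  rw [hf, hg, Ideal.span_singleton_eq_span_singleton]
  refine H28Vert.associated_of_forall_prime_pow hf0 hg0 fun q hq k => ?_
  haveI : IsNoetherianRing Γ(X, V.1) := IsLocallyNoetherian.component_noetherian V
  letI := TopCat.Presheaf.algebra_section_stalk X.presheaf (⟨x, hx⟩ : V.1)
  haveI hloc := V.2.isLocalization_stalk ⟨x, hx⟩
  haveI : IsNoetherianRing (X.presheaf.stalk x) :=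
    IsLocalization.isNoetherianRing (V.2.primeIdealOf ⟨x, hx⟩).asIdeal.primeCompl _ inferInstance
  haveI hqP : (Ideal.span {q}).IsPrime := (Ideal.span_singleton_prime hq.ne_zero).2 hq
  let Q : Ideal Γ(X, V.1) := (Ideal.span {q}).under Γ(X, V.1)
  have hQh : Q.height = 1 := by
    rw [IsLocalization.height_under (V.2.primeIdealOf ⟨x, hx⟩).asIdeal.primeCompl]
    exact Ideal.height_span_singleton_eq_one_of_mem_nonZeroDivisors
      (mem_nonZeroDivisors_of_ne_zero hq.ne_zero) hq.not_unit
  let z : PrimeSpectrum Γ(X, V.1) := ⟨Q, inferInstance⟩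
  have hyV : V.2.fromSpec z ∈ V.1 := by
    have h1 : V.2.fromSpec z ∈ Set.range V.2.fromSpec := ⟨z, rfl⟩
    rwa [V.2.range_fromSpec] at h1
  letI := (X.presheaf.germ V.1 (V.2.fromSpec z) hyV).hom.toAlgebra
  haveI : IsLocalization.AtPrime (X.presheaf.stalk (V.2.fromSpec z)) z.asIdeal :=
    V.2.isLocalization_stalk' z hyV
  have hdim : ringKrullDim (X.presheaf.stalk (V.2.fromSpec z)) = 1 := by
    rw [IsLocalization.AtPrime.ringKrullDim_eq_height z.asIdeal, show z.asIdeal.height = 1 from hQh]
    rfl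
  have heq := h (V.2.fromSpec z) hyV hdim
  have key : ∀ (K L : Ideal Γ(X, V.1)),
      L.map (X.presheaf.germ V.1 _ hyV).hom ≤ K.map (X.presheaf.germ V.1 _ hyV).hom →
      K.map (X.presheaf.germ V.1 x hx).hom ≤ Ideal.span {q ^ k} →
      L.map (X.presheaf.germ V.1 x hx).hom ≤ Ideal.span {q ^ k} := by
    intro K L hKL hK
    refine Ideal.map_le_iff_le_comap.2 fun b hb => ?_
    obtain ⟨s, hs, hsb⟩ := (IsLocalization.algebraMap_mem_map_algebraMap_iff z.asIdeal.primeCompl
      (X.presheaf.stalk (V.2.fromSpec z)) K b).1 (hKL (Ideal.mem_map_of_mem _ hb))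
    have h1 : q ^ k ∣ (X.presheaf.germ V.1 x hx).hom s * (X.presheaf.germ V.1 x hx).hom b := by
      rw [← map_mul]
      exact Ideal.mem_span_singleton.1 (hK (Ideal.mem_map_of_mem _ hsb))
    exact Ideal.mem_span_singleton.2 (hq.pow_dvd_of_dvd_mul_left k
      (fun hd => hs (Ideal.mem_span_singleton.2 hd)) h1)
  constructor
  · intro hk
    have h1 := key I J heq.ge (by rw [hf]; exact Ideal.span_singleton_le_span_singleton.2 hk)
    rw [hg] at h1
    exact Ideal.span_singleton_le_span_singleton.1 h1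
  · intro hk
    have h1 := key J I heq.le (by rw [hg]; exact Ideal.span_singleton_le_span_singleton.2 hk)
    rw [hf] at h1
    exact Ideal.span_singleton_le_span_singleton.1 h1

end ideals

variable {X : Scheme.{u}}

/-- The reduced closure of a point as an ideal sheaf. -/
noncomputable def curveAt (x : X) : X.IdealSheafData :=
  Scheme.IdealSheafData.vanishingIdeal (⟨closure {x}, isClosed_closure⟩ : Closeds X)

theorem support_curveAt (x : X) : ((curveAt x).support : Set X) = closure {x} := by
  rw [curveAt, ← Scheme.IdealSheafData.range_subschemeι, H17.range_vanishingIdeal_subschemeι]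
  rfl

variable (k : Type u) [Field k] [X.Over (Spec (CommRingCat.of k))]
  [IsProper (X ↘ Spec (CommRingCat.of k))] [Smooth (X ↘ Spec (CommRingCat.of k))] [IsIntegral X]

include k in
/-- A point of codimension one is the generic point of a curve. -/
theorem isCurve_curveAt (hdim : topologicalKrullDim X = 2) {x : X}
    (hx : ringKrullDim (X.presheaf.stalk x) = 1) : IsCurve (curveAt x) := by
  refine ⟨H22Alg.isIntegral_vanishingIdeal_closure x, ?_⟩
  rw [support_curveAt]
  have h := H8Props.FieldDim.localDim_eq_stalk_add_cdim (X ↘ Spec (CommRingCat.of k)) x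
  rw [H8Props.FieldDim.localDim_eq_dim_of_irreducible (X ↘ Spec (CommRingCat.of k)) x, hdim, hx] at h
  exact H8Props.FieldDim.withBot_nat_cancel (m := 1) (n := 1) ((add_comm _ _).trans h.symm)

theorem gen_curveAt {x : X} (hC : IsCurve (curveAt x)) :
    haveI := hC.int
    (curveAt x).subschemeι (genericPoint (curveAt x).subscheme) = x := by
  haveI := hC.int
  have h := hC.closure_gen
  rw [support_curveAt] at h
  exact (isGenericPoint_def.2 h).eq (isGenericPoint_def.2 rfl)

include k in
/-- A curve is the curve at its generic point, which has codimension one. -/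
theorem exists_eq_curveAt (hdim : topologicalKrullDim X = 2) {C : X.IdealSheafData} (hC : IsCurve C) :
    ∃ x, C = curveAt x ∧ ringKrullDim (X.presheaf.stalk x) = 1 ∧ closure {x} = (C.support : Set X) := by
  haveI := hC.int
  let x := C.subschemeι (genericPoint C.subscheme)
  have hcl : closure {x} = (C.support : Set X) := hC.closure_gen
  have h1 : ringKrullDim (X.presheaf.stalk x) = 1 := by
    have h := H8Props.FieldDim.localDim_eq_stalk_add_cdim (X ↘ Spec (CommRingCat.of k)) x
    rw [H8Props.FieldDim.localDim_eq_dim_of_irreducible (X ↘ Spec (CommRingCat.of k)) x, hdim,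
      show cdim x = ((1 : ℕ) : WithBot ℕ∞) from (show topologicalKrullDim (closure ({x} : Set X)) = _ by
        rw [hcl]; exact hC.dim)] at h
    exact H8Props.FieldDim.withBot_nat_cancel (m := 1) (n := 1) h.symm
  refine ⟨x, by_contra fun hne => ?_, h1, hcl⟩
  haveI := (isCurve_curveAt k hdim h1).int
  exact genericPoint_notMem_support hC.dim (isCurve_curveAt k hdim h1).dim hne
    (by rw [support_curveAt]; exact subset_closure rfl)

theorem degOn_eq_zero_of_gen {C : X.IdealSheafData} (hC : IsCurve C) {L : X.Modules} (hL : PicF.IsInvertible L)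
    {U : X.Opens} {e : Γ(L, U)} (he : H11Tilde.IsGen L e) (hCU : (C.support : Set X) ⊆ U) :
    degOn k C L = 0 := by
  letI : C.subscheme.Over (Spec (CommRingCat.of k)) := ⟨C.subschemeι ≫ (X ↘ Spec (CommRingCat.of k))⟩
  rw [degOn_eq_deg k hC hL]
  have key : ∀ (M : C.subscheme.Modules) (W : C.subscheme.Opens) (m : Γ(M, W)), H11Tilde.IsGen M m → W = ⊤ →
      Nonempty (Coh.structureModule C.subscheme ≅ M) := by
    rintro M W m hm rfl
    let φ := H11Tilde.homOfGlobal M m
    haveI : IsIso φ := H11Tilde.isIso_homOfGlobal M m fun V => hm.bijective le_top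
    exact ⟨asIso φ⟩
  obtain ⟨i⟩ := key _ _ _ (he.pullSect C.subschemeι) (top_le_iff.1 fun z _ => hCU
    (C.range_subschemeι ▸ ⟨z, rfl⟩))
  show Curv2.euler k C.subscheme _ - _ = _
  rw [H25Euler.euler_congr i.symm, Nat.cast_one, one_mul, sub_self]

include k in
theorem dot_prod_pow (hdim : topologicalKrullDim X = 2) {ι : Type*} (s : Finset ι) (C : ι → X.IdealSheafData)
    (hC : ∀ i ∈ s, FGA.IsEffCartier (C i)) (e : ι → ℕ) {B : X.IdealSheafData} (hB : FGA.IsEffCartier B) :
    dot k (∏ i ∈ s, C i ^ e i) B = ∑ i ∈ s, (e i : ℤ) * dot k (C i) B := by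
  classical
  have hpow : ∀ {A : X.IdealSheafData}, FGA.IsEffCartier A → ∀ n : ℕ, FGA.IsEffCartier (A ^ n) ∧
      dot k (A ^ n) B = (n : ℤ) * dot k A B := by
    intro A hA n
    induction n with
    | zero => exact ⟨by rw [pow_zero]; exact H29Blow.isEffCartierIdeal_top,
        by rw [pow_zero, Scheme.IdealSheafData.one_eq_top, dot_top_left k hdim hB]; simp⟩
    | succ n ih =>
      refine ⟨by rw [pow_succ]; exact H28Vert.isEffCartierIdeal_mul ih.1 hA, ?_⟩
      rw [pow_succ, dot_mul_left k hdim ih.1 hA hB, ih.2]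
      push_cast
      ring
  induction s using Finset.induction with
  | empty => rw [Finset.prod_empty, Scheme.IdealSheafData.one_eq_top, dot_top_left k hdim hB, Finset.sum_empty]
  | insert a s ha ih =>
    have hs : ∀ i ∈ s, FGA.IsEffCartier (C i) := fun i hi => hC i (Finset.mem_insert_of_mem hi)
    have hCa := hC a (Finset.mem_insert_self a s)
    rw [Finset.prod_insert ha, dot_mul_left k hdim (hpow hCa (e a)).1 (H28Vert.isEffCartierIdeal_prod s C hs e) hB,
      (hpow hCa (e a)).2, ih hs, Finset.sum_insert ha]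

include k in
/-- Two different curves which meet have positive intersection number. -/
theorem dot_pos_of_meet (hdim : topologicalKrullDim X = 2) {C C' : X.IdealSheafData} (hC : IsCurve C)
    (hC' : IsCurve C') (hne : C ≠ C') (hmeet : ¬ Disjoint (C.support : Set X) (C'.support : Set X)) :
    0 < dot k C C' := by
  haveI := hC.int
  haveI := hC'.int
  haveI := H28Int.isNoetherian k (X := X)
  have hCe := isEffCartier_curve k hdim hC
  have hJ := isInvertible_ideal k (isEffCartier_curve k hdim hC')
  rw [dot_eq k hdim hCe (isEffCartier_curve k hdim hC')]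
  show 0 < D k [ClSub.idealMod C'] ((Coh.push C.subschemeι).obj (Coh.structureModule C.subscheme))
  let j := C.subschemeι
  letI : C.subscheme.Over (Spec (CommRingCat.of k)) := ⟨j ≫ (X ↘ Spec (CommRingCat.of k))⟩
  haveI : IsProper (C.subscheme ↘ Spec (CommRingCat.of k)) :=
    inferInstanceAs (IsProper (j ≫ (X ↘ Spec (CommRingCat.of k))))
  obtain ⟨N', -, ⟨e⟩⟩ := H11Sym.exists_inverse hJ
  have hN' : PicF.IsInvertible N' := H17.InvertibleTensor.isInvertible_of_tensor_iso N' (ClSub.idealMod C') e
  let ν := ClSub.idealModι C'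
  have hgen : j (genericPoint C.subscheme) ∉ (C'.support : Set X) := genericPoint_notMem_support hC.dim hC'.dim hne
  have hν := H25Euler.isIso_stalk_idealModι C' hgen
  rw [H28Vert.D_eq_euler_tensor k j hJ hN' (H10Coh.Tw.commIso _ _ ≪≫ e) ν hν]
  have hO := H10Coh.isCoh_structureModule' X
  have hQ : Coh.IsCoh (cokernel ν) := H10Coh.isCoh_cokernel _ (H11Ample.isCoh_of_isInvertible hJ).1 hO
  let E := (Coh.push j).obj (Coh.structureModule C.subscheme)
  have hE : Coh.IsCoh E := LeadDev.isCoh_push_structure j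
  let T := (DCoh.tensorBi (X := X)).obj E
  have hT : Coh.IsCoh (CohB1.tensorMod E (cokernel ν)) :=
    H10Coh.isCoh_of_iso (PreservesCokernel.iso T ν).symm
      (H10Coh.isCoh_cokernel (T.map ν) (H11Ample.isCoh_tensor hE hJ).1
        (H10Coh.isCoh_of_iso (H10Coh.Tw.rightUnitIso E).symm hE))
  have hs : CohB1.support (CohB1.tensorMod E (cokernel ν)) = (C.support : Set X) ∩ (C'.support : Set X) := by
    rw [H17.SuppTensor.support_tensor _ _ hE.2 hQ.2, H28Vert.support_cokernel_idealModι,
      support_push_structure_eq j, C.range_subschemeι]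
  have hd : topologicalKrullDim (CohB1.support (CohB1.tensorMod E (cokernel ν))) < ((1 : ℕ) : WithBot ℕ∞) :=
    dim_lt_of_notMem hC.closure_gen hC.dim.le
      (H10Coh.isClosed_support _ hT.2) (fun x hx => (hs.le hx).1) fun h => hgen (hs.le h).2
  refine (pos_of_ample k [] (by simp) _ hT ?_).2 ?_
  · rcases hdm : topologicalKrullDim (CohB1.support (CohB1.tensorMod E (cokernel ν))) with _ | n
    · exact bot_le
    · rw [hdm] at hd
      have : n < ((0 + 1 : ℕ) : ℕ∞) := WithBot.coe_lt_coe.1 hd
      exact WithBot.coe_le_coe.2 (ENat.lt_natCast_add_one_iff.1 (by exact_mod_cast this))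
  · obtain ⟨x, hxC, hxC'⟩ := Set.not_disjoint_iff.1 hmeet
    refine ⟨x, hs.ge ⟨hxC, hxC'⟩, ?_⟩
    haveI : Nonempty (IrreducibleCloseds (closure ({x} : Set X))) :=
      ⟨⟨closure {(⟨x, subset_closure rfl⟩ : closure ({x} : Set X))}, isIrreducible_singleton.closure,
        isClosed_closure⟩⟩
    exact Order.krullDim_nonneg

include k in
theorem dot_nonneg_of_ne (hdim : topologicalKrullDim X = 2) {C C' : X.IdealSheafData} (hC : IsCurve C)
    (hC' : IsCurve C') (hne : C ≠ C') : 0 ≤ dot k C C' := by
  haveI := hC.int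
  haveI := hC'.int
  rw [dot_eq k hdim (isEffCartier_curve k hdim hC) (isEffCartier_curve k hdim hC')]
  exact D_idealMod_nonneg k C.subschemeι ((dim_subscheme C).trans hC.dim).le C'
    (isInvertible_ideal k (isEffCartier_curve k hdim hC')) (genericPoint_notMem_support hC.dim hC'.dim hne)

include k in
/-- The divisor of a function regular on `U` has degree zero on the curves inside `U`. -/
theorem exists_divisor (hdim : topologicalKrullDim X = 2) (U : X.Opens) (g : Γ(X, U))
    (hg : (X.basicOpen g : Set X).Nonempty) :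
    ∃ (s : Finset X) (e : X → ℕ),
      (∀ x, x ∈ s ↔ x ∈ U ∧ x ∉ X.basicOpen g ∧ ringKrullDim (X.presheaf.stalk x) = 1) ∧
      (∀ x ∈ s, 0 < e x) ∧
      ∀ D : X.IdealSheafData, IsCurve D → (D.support : Set X) ⊆ U →
        ∑ x ∈ s, (e x : ℤ) * dot k (curveAt x) D = 0 := by
  classical
  haveI := H28Int.isNoetherian k (X := X)
  let f := X ↘ Spec (CommRingCat.of k)
  haveI hreg : ∀ x : X, IsRegularLocalRing (X.presheaf.stalk x) :=
    fun x => H19Grp.isRegularLocalRing_stalk_of_smooth f x
  haveI hdom : ∀ x : X, IsDomain (X.presheaf.stalk x) := fun x => inferInstance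
  have hufd : ∀ x : X, IsDomain (X.presheaf.stalk x) ∧ UniqueFactorizationMonoid (X.presheaf.stalk x) :=
    fun x => ⟨hdom x, H28Alg.ufd_of_regular _⟩
  have hgp : genericPoint X ∈ X.basicOpen g :=
    let ⟨z, hz⟩ := hg; (genericPoint_specializes z).mem_open (X.basicOpen g).2 hz
  let T : Set X := ((X.basicOpen g : X.Opens) : Set X)ᶜ
  have hTc : IsClosed T := (X.basicOpen g).2.isClosed_compl
  let Y : Set X := {x ∈ T | ringKrullDim (X.presheaf.stalk x) ≤ 1}
  have hYf : Y.Finite := H28Contr.finite_codimOne hTc fun h => h hgp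
  have hY1 : ∀ y ∈ Y, ringKrullDim (X.presheaf.stalk y) = 1 := fun y hy => by
    refine le_antisymm hy.2 (le_of_not_gt fun hlt => ?_)
    exact hy.1 (H28Contr.eq_genericPoint_of_dim_lt_one hlt ▸ hgp)
  let s := hYf.toFinset.filter fun x => x ∈ U
  have hs : ∀ x, x ∈ s ↔ x ∈ U ∧ x ∉ X.basicOpen g ∧ ringKrullDim (X.presheaf.stalk x) = 1 := fun x => by
    rw [Finset.mem_filter, Set.Finite.mem_toFinset]
    exact ⟨fun h => ⟨h.2, h.1.1, hY1 x h.1⟩, fun h => ⟨⟨h.2.1, h.2.2.le⟩, h.1⟩⟩
  have hne : ∀ x (hx : x ∈ U), (X.presheaf.germ U x hx).hom g ≠ 0 := fun x hx h0 => by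
    obtain ⟨W, hxW, i₁, i₂, hW⟩ := X.presheaf.germ_eq (U := U) (V := U) x hx hx g 0 (h0.trans (map_zero _).symm)
    have hres : X.presheaf.map i₁.op g = 0 := hW.trans (map_zero _)
    have hb : X.basicOpen (X.presheaf.map i₁.op g) = ⊥ := by rw [hres, X.basicOpen_zero]
    rw [X.basicOpen_res g i₁.op] at hb
    have hgW : genericPoint X ∈ W := (genericPoint_specializes x).mem_open W.2 hxW
    have : genericPoint X ∈ (⊥ : X.Opens) := hb ▸ ⟨hgW, hgp⟩
    exact this
  have he : ∀ x, ∃ e : ℕ, ∀ hx : x ∈ U, ringKrullDim (X.presheaf.stalk x) = 1 →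
      Ideal.span {(X.presheaf.germ U x hx).hom g} = IsLocalRing.maximalIdeal _ ^ e := by
    intro x
    by_cases hxU : x ∈ U ∧ ringKrullDim (X.presheaf.stalk x) = 1
    swap
    · exact ⟨0, fun hx h1 => absurd ⟨hx, h1⟩ hxU⟩
    have hpr : (IsLocalRing.maximalIdeal (X.presheaf.stalk x)).IsPrincipal := by
      have h1 := IsRegularLocalRing.spanFinrank_maximalIdeal (R := X.presheaf.stalk x)
      rw [hxU.2] at h1
      have hfg : (IsLocalRing.maximalIdeal (X.presheaf.stalk x)).FG := IsNoetherian.noetherian _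
      have hc : (IsLocalRing.maximalIdeal (X.presheaf.stalk x)).generators.ncard = 1 := by
        rw [Submodule.FG.generators_ncard hfg]; exact_mod_cast h1
      obtain ⟨π, hπ⟩ := Set.ncard_eq_one.1 hc
      exact ⟨π, by rw [← hπ, Submodule.span_generators]⟩
    obtain ⟨e, he⟩ := exists_pow_span (hne x hxU.1) hpr
    exact ⟨e, fun hx _ => he⟩
  choose e he using he
  have hcurve : ∀ x ∈ s, IsCurve (curveAt x) := fun x hx => isCurve_curveAt k hdim ((hs x).1 hx).2.2
  refine ⟨s, e, hs, fun x hx => Nat.pos_of_ne_zero fun h0 => ?_, fun D hD hDU => ?_⟩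
  · obtain ⟨hxU, hxg, h1⟩ := (hs x).1 hx
    have h := he x hxU h1
    rw [h0, pow_zero, Ideal.one_eq_top, Ideal.span_singleton_eq_top] at h
    exact hxg ((X.mem_basicOpen g x hxU).2 h)
  let Z : X.IdealSheafData := ∏ x ∈ s, curveAt x ^ e x
  have hce : ∀ x ∈ s, FGA.IsEffCartier (curveAt x) := fun x hx => isEffCartier_curve k hdim (hcurve x hx)
  have hZ : FGA.IsEffCartier Z := H28Vert.isEffCartierIdeal_prod s curveAt hce e
  have hideal : ∀ (V : X.affineOpens) (hVU : V.1 ≤ U),
      Z.ideal V = Ideal.span {X.presheaf.map (homOfLE hVU).op g} := by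
    intro V hVU
    have hspan : ∀ (x : X) (hx : x ∈ V.1), (Ideal.span {X.presheaf.map (homOfLE hVU).op g}).map
        (X.presheaf.germ V.1 x hx).hom = Ideal.span {(X.presheaf.germ U x (hVU hx)).hom g} := fun x hx => by
      rw [Ideal.map_span, Set.image_singleton]
      exact congrArg (fun a => Ideal.span {a}) (TopCat.Presheaf.germ_res_apply X.presheaf (homOfLE hVU) x hx g)
    refine ideal_eq_of_height_one hufd V _ _
      (fun x hx => H28Vert.exists_gen_of_isEffCartierIdeal hZ x V hx)
      (fun x hx => ⟨_, hne x (hVU hx), hspan x hx⟩) fun z hz hd => ?_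
    rw [hspan]
    show H28Vert.stalkId Z V hz = _
    rw [H28Vert.stalkId_prod s]
    have hother : ∀ y ∈ s, y ≠ z → H28Vert.stalkId (curveAt y) V hz = 1 := fun y hy hne' => by
      rw [Ideal.one_eq_top]
      refine stalkId_top _ V hz fun h => ?_
      rw [support_curveAt] at h
      have hlt := H28Contr.ringKrullDim_stalk_lt (specializes_iff_mem_closure.2 h) hne'
      rw [hd, ((hs y).1 hy).2.2] at hlt
      exact lt_irrefl _ hlt
    by_cases hzs : z ∈ s
    · rw [Finset.prod_eq_single z (fun y hy hne' => by rw [hother y hy hne', one_pow])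
        (fun h => absurd hzs h), he z (hVU hz) hd]
      congr 1
      haveI := (hcurve z hzs).int
      have key : ∀ (w : X) (hw : w ∈ V.1), (curveAt z).subschemeι (genericPoint (curveAt z).subscheme) = w →
          H28Vert.stalkId (curveAt z) V hw = IsLocalRing.maximalIdeal _ := by
        rintro w hw rfl
        exact stalkId_gen (curveAt z) V hw
      exact key z hz (gen_curveAt (hcurve z hzs))
    · rw [Finset.prod_eq_one fun y hy => by
        rw [hother y hy fun h => hzs (h ▸ hy), one_pow], Ideal.one_eq_top]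
      refine (Ideal.span_singleton_eq_top.2 ((X.mem_basicOpen g z (hVU hz)).1 ?_)).symm
      by_contra hzg
      exact hzs ((hs z).2 ⟨hVU hz, hzg, hd⟩)
  have hw : (ClSub.toSubscheme Z).app U g = 0 := by
    refine H11Tilde.eq_of_locally _ _ fun x hx => ?_
    obtain ⟨W, hW, hxW, hWU⟩ := exists_isAffineOpen_mem_and_subset hx
    refine ⟨W, hWU, hxW, ?_⟩
    rw [← H11Tilde.app_map_apply]
    refine ((H17.IdealPair.app_eq_zero_iff Z hW _).2 ?_).trans (map_zero _).symm
    rw [hideal ⟨W, hW⟩ hWU]
    exact Ideal.mem_span_singleton_self _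
  obtain ⟨a, ha⟩ := H29Blow.exists_kernelι_app_eq (ClSub.toSubscheme Z) U g hw
  have hgen : H11Tilde.IsGen (ClSub.idealMod Z) a := by
    intro x hx
    obtain ⟨W, hW, hxW, hWU⟩ := exists_isAffineOpen_mem_and_subset hx
    have h1 : H11Tilde.IsGen (ClSub.idealMod Z) ((ClSub.idealMod Z).presheaf.map (homOfLE hWU).op a) := by
      refine H28Vert.isGen_idealSect hZ hW ?_
      refine (hideal ⟨W, hW⟩ hWU).trans (congrArg (fun b => Ideal.span {b}) ?_)
      exact ((H29Blow.idealSect_res Z hWU a).trans (congrArg (X.presheaf.map (homOfLE hWU).op) ha)).symm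
    have h2 := h1 x hxW
    exact (congrArg (fun m : (ClSub.idealMod Z).presheaf.stalk x => Function.Bijective fun r : X.presheaf.stalk x => r • m)
      (TopCat.Presheaf.germ_res_apply (ClSub.idealMod Z).presheaf (homOfLE hWU) x hxW a)).mp h2
  have h0 := degOn_eq_zero_of_gen k hD (isInvertible_ideal k hZ) hgen hDU
  rw [degOn_ideal k hdim hZ (isEffCartier_curve k hdim hD), dot_prod_pow k hdim s curveAt hce e
    (isEffCartier_curve k hdim hD)] at h0
  omega

end Groth.Agent.H28RR.PrincipalLocal
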