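import Groth.Agent.H28Vert.TrivGeneric
import Groth.Agent.H28Vert.PicVert
import Groth.Agent.H28Vert.PicInter
import Groth.Agent.H22Alg.KosTwist
import Groth.Agent.H17.Canon.PrincipalOff

/-!
# Invertible modules trivial off several components of the closed fibre
-/

set_option autoImplicit false
set_option linter.style.haveILetI false
set_option linter.unusedSectionVars false
set_option backward.isDefEq.respectTransparency.types false
set_option synthInstance.maxHeartbeats 400000
set_option maxHeartbeats 3200000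

universe u

open CategoryTheory CategoryTheory.Limits AlgebraicGeometry Opposite TopologicalSpace
open Groth.Agent.H28Vert

namespace Groth.Agent.H28RR.PrincipalOffSet

open Groth.Agent.H17.CanonSm

attribute [local instance] picLaw

variable {R : Type u} [CommRing R] [IsDomain R] [IsDiscreteValuationRing R]
  {X : Over (Spec (CommRingCat.of R))} [IsLocallyNoetherian X.left] [Flat X.hom] [IsProper X.hom]
  [IsIntegral X.left] {n : ℕ} {Γ : Fin n → ArSurf.VertComp R X}
  (hreg : Models.IsRegularScheme X.left) (hΓ : Models.IsComponentList R X Γ)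

include hreg hΓ in
/-- An invertible module trivial off some components of the closed fibre is a product of powers of their ideals. -/
theorem cls_eq_prod_of_gen (S : Finset (Fin n)) (U : X.left.Opens)
    (hU : ∀ z : X.left, (∀ i ∈ S, z ∉ Set.range (Γ i).ι.base) → z ∈ U) {M : X.left.Modules} (hM : PicF.IsInvertible M)
    {e : Γ(M, U)} (he : H11Tilde.IsGen M e) :
    ∃ c : Fin n → ℤ, PicGrp.cls M hM = ∏ i ∈ S, idealCls (isEffCartierIdeal_ker hreg hΓ i) ^ c i := by
  classical
  obtain ⟨ϖ, hϖ⟩ := IsDiscreteValuationRing.exists_irreducible R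
  haveI : CompactSpace X.left := QuasiCompact.compactSpace_of_compactSpace X.hom
  haveI : QuasiSeparatedSpace X.left := (quasiSeparated_iff_quasiSeparatedSpace X.hom).1 inferInstance
  haveI : ∀ x : X.left, IsDomain (X.left.presheaf.stalk x) := fun x => (ufd_stalk hreg x).1
  let φ : Γ(X.left, ⊤) := Coh.toGlobal X.hom ϖ
  let D := X.left.basicOpen φ
  have hnot : ∀ (j : Fin n) (z : X.left), z ∈ Set.range (Γ j).ι.base → z ∈ Models.specialFibreSet R X :=
    fun j z hz => (hΓ.2 ▸ ⟨j, rfl⟩ : Set.range (Γ j).ι.base ∈ Models.fibreComponents R X).1.2 hz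
  have hmem : ∀ x : X.left, x ∈ D ↔ IsUnit (Models.stalkHom R X x ϖ) :=
    fun x => mem_basicOpen_uniformizer R X.hom ϖ x
  have hD : D ≤ U := fun x hx => hU x fun i _ h => (notMem_specialFibreSet_iff hϖ x).2 ((hmem x).1 hx) (hnot i x h)
  let e' : Γ(M, D) := M.presheaf.map (homOfLE hD).op e
  have he' : H11Tilde.IsGen M e' := he.res hD
  haveI : M.IsQuasicoherent := (H11Ample.isCoh_of_isInvertible hM).1
  obtain ⟨N, s, hs⟩ := H10Coh.exists_pow_smul_eq_res_of_isCompact M (W := ⊤) (by simpa using isCompact_univ) φ e'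
  -- the coefficient on `U`
  obtain ⟨c, hc⟩ := H11Ample.exists_coeff he (M.presheaf.map (homOfLE (le_top : U ≤ ⊤)).op s)
  obtain ⟨M', hM', ⟨ε⟩⟩ := H11Sym.exists_inverse hM
  let μ : M' ⟶ Coh.structureModule X.left := H22Alg.KosTwist.mulHom M' s ≫ ε.hom
  have himg : ∀ (y : X.left) (hy : y ∈ U), imGerm μ y = Ideal.span {X.left.presheaf.germ U y hy c} := by
    intro y hy
    obtain ⟨W₀, f, hyW₀, hf⟩ := H11Ample.exists_gen hM' y
    let W := W₀ ⊓ U
    have hfW : H11Tilde.IsGen M' (M'.presheaf.map (homOfLE (inf_le_left : W ≤ W₀)).op f) := hf.res _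
    have heW : H11Tilde.IsGen M (M.presheaf.map (homOfLE (inf_le_right : W ≤ U)).op e) := he.res _
    have hg := H11Tilde.IsGen.map_iso ε (H11Ample.isGen_tm hfW heW)
    have hsW : M.presheaf.map (homOfLE (le_top : W ≤ ⊤)).op s =
        X.left.presheaf.map (homOfLE (inf_le_right : W ≤ U)).op c • M.presheaf.map (homOfLE (inf_le_right : W ≤ U)).op e := by
      rw [← Scheme.Modules.map_smul, ← hc, H10Coh.mres_mres]
    rw [imGerm_eq_span μ hfW y ⟨hyW₀, hy⟩]
    have hμ : μ.app W (M'.presheaf.map (homOfLE (inf_le_left : W ≤ W₀)).op f) =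
        X.left.presheaf.map (homOfLE (inf_le_right : W ≤ U)).op c • ε.hom.app W
          (H11Ample.tm (M'.presheaf.map (homOfLE (inf_le_left : W ≤ W₀)).op f)
            (M.presheaf.map (homOfLE (inf_le_right : W ≤ U)).op e)) := by
      show ε.hom.app W ((H22Alg.KosTwist.mulHom M' s).app W _) = _
      rw [H22Alg.KosTwist.mulHom_app, hsW, H11Ample.tm_smul_right, Scheme.Modules.Hom.app_smul]
    rw [hμ]
    let u : Γ(X.left, W) := ε.hom.app W
          (H11Ample.tm (M'.presheaf.map (homOfLE (inf_le_left : W ≤ W₀)).op f)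
            (M.presheaf.map (homOfLE (inf_le_right : W ≤ U)).op e))
    have hu : IsUnit u := by
      obtain ⟨r, hr⟩ := (hg.bijective (le_refl W)).2 (1 : Γ(X.left, W))
      refine IsUnit.of_mul_eq_one_right r ?_
      have h1 : r * u = (1 : Γ(X.left, W)) := by
        refine Eq.trans ?_ hr
        exact congrArg (r • ·) (H10Coh.mres_self (Coh.structureModule X.left) le_rfl u).symm
      exact h1
    show Ideal.span {X.left.presheaf.germ W y ⟨hyW₀, hy⟩ (X.left.presheaf.map (homOfLE (inf_le_right : W ≤ U)).op c * u)} = _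
    rw [map_mul, TopCat.Presheaf.germ_res_apply, Ideal.span_singleton_mul_right_unit (hu.map (X.left.presheaf.germ W y ⟨hyW₀, hy⟩).hom)]
  have hcD : X.left.presheaf.map (homOfLE hD).op c = (X.left.presheaf.map (homOfLE (X.left.basicOpen_le φ)).op φ) ^ N := by
    refine (he'.bijective (le_refl D)).1 ?_
    show X.left.presheaf.map (homOfLE hD).op c • M.presheaf.map (homOfLE (le_refl D)).op e' =
      (X.left.presheaf.map (homOfLE (X.left.basicOpen_le φ)).op φ) ^ N • M.presheaf.map (homOfLE (le_refl D)).op e'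
    rw [H10Coh.mres_self, ← map_pow]
    refine Eq.trans ?_ hs
    show _ • M.presheaf.map (homOfLE hD).op e = _
    rw [← Scheme.Modules.map_smul, ← hc, H10Coh.mres_mres]
  have hcgerm : ∀ (y : X.left) (hy : y ∈ U),
      X.left.presheaf.germ U y hy c = Models.stalkHom R X y ϖ ^ N := by
    intro y hy
    have h1 : c = (X.left.presheaf.map (homOfLE (le_top : U ≤ ⊤)).op φ) ^ N := by
      haveI : Nonempty U := ⟨⟨y, hy⟩⟩
      haveI : Nonempty D := by
        obtain ⟨z, hz⟩ : ∃ z : X.left, z ∈ D := ⟨genericPoint X.left, (hmem _).2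
          (Ne.isUnit (stalkHom_ne_zero hϖ.ne_zero (genericPoint X.left)) : IsUnit (Models.stalkHom R X (genericPoint X.left) ϖ : X.left.functionField))⟩
        exact ⟨⟨z, hz⟩⟩
      refine map_injective_of_isIntegral X.left (homOfLE hD) ?_
      refine hcD.trans ?_
      rw [map_pow, ← CategoryTheory.comp_apply, ← X.left.presheaf.map_comp]
      rfl
    rw [h1, map_pow, TopCat.Presheaf.germ_res_apply]
    rfl
  have hone : ∀ y : X.left, y ∈ D → imGerm μ y = ⊤ := fun y hy => by
    rw [himg y (hD hy), hcgerm y (hD hy), Ideal.span_singleton_eq_top]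
    exact ((hmem y).1 hy).pow N
  have hne : ∀ y : X.left, imGerm μ y ≠ ⊥ := fun y h0 => by
    obtain ⟨W, f, hyW, hf⟩ := H11Ample.exists_gen hM' y
    let cc : Γ(X.left, W) := μ.app W f
    rw [imGerm_eq_span μ hf y hyW, Ideal.span_singleton_eq_bot] at h0
    change X.left.presheaf.germ W y hyW cc = 0 at h0
    have hη : genericPoint X.left ∈ W := (genericPoint_spec X.left).mem_open_set_iff W.2 |>.2 ⟨y, trivial, hyW⟩
    have h2 := hone (genericPoint X.left) ((hmem _).2
      (Ne.isUnit (stalkHom_ne_zero hϖ.ne_zero (genericPoint X.left)) : IsUnit (Models.stalkHom R X (genericPoint X.left) ϖ : X.left.functionField)))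
    rw [imGerm_eq_span μ hf _ hη, Ideal.span_singleton_eq_top] at h2
    change IsUnit (X.left.presheaf.germ W (genericPoint X.left) hη cc) at h2
    haveI : Nonempty W := ⟨⟨y, hyW⟩⟩
    have h3 : cc = 0 := germ_injective_of_isIntegral X.left y hyW (h0.trans (map_zero (X.left.presheaf.germ W y hyW).hom).symm)
    rw [h3, map_zero] at h2
    exact not_isUnit_zero h2
  obtain ⟨I, hI, ⟨ι⟩, hIs⟩ := exists_ideal_of_hom hM' μ hne
  obtain ⟨a, ha⟩ := exists_exponent (Z := X) hreg hΓ I hI fun y V hy hys => by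
    rw [hIs]
    exact hone y ((hmem y).2 ((notMem_specialFibreSet_iff hϖ y).1 hys))
  have haj : ∀ j, j ∉ S → a j = N * Models.mult R X (Γ j) := fun j hj => by
    let ξ := Models.genPtOf R X (Γ j)
    have hξ : ξ ∈ U := hU ξ fun i hi => genPt_notMem_range hΓ (fun e => hj (e ▸ hi))
    obtain ⟨V, hV, hξV, -⟩ := exists_isAffineOpen_mem_and_subset (U := (⊤ : X.left.Opens)) (x := ξ) trivial
    refine pow_maximalIdeal_inj hreg hΓ j ?_
    have h1 := hIs ξ ⟨V, hV⟩ hξV
    rw [himg ξ hξ, hcgerm ξ hξ] at h1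
    rw [ha] at h1
    have hm : IsLocalRing.maximalIdeal (X.left.presheaf.stalk ξ) ^ Models.mult R X (Γ j) =
        Ideal.span {Models.stalkHom R X ξ ϖ} := by
      have h2 := stalkId_divIdeal_genPt hΓ j (fun l => Models.mult R X (Γ l)) ⟨V, hV⟩ hξV
      rw [← h2, ← specialFibreIdeal_eq_prod hreg hΓ, specialFibreIdeal_stalk ⟨V, hV⟩ hξV, hϖ.maximalIdeal_eq,
        Ideal.map_span, Set.image_singleton]
    rw [pow_mul', hm, Ideal.span_singleton_pow, ← stalkId_divIdeal_genPt hΓ j a ⟨V, hV⟩ hξV]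
    exact h1
  refine ⟨fun i => (Models.mult R X (Γ i) : ℤ) * N - a i, ?_⟩
  have hcls : PicGrp.cls M' hM' = ∏ j, idealCls (isEffCartierIdeal_ker hreg hΓ j) ^ a j := by
    rw [← idealCls_prod Finset.univ (fun j => (Γ j).ι.ker) (fun j => isEffCartierIdeal_ker hreg hΓ j)]
    refine (PicGrp.cls_eq_cls_iff hM' _).2 ⟨ι ≪≫ eqToIso (congrArg ClSub.idealMod ha)⟩
  have hfib := congrArg (· ^ N) (prod_idealCls_mult (R := R) (X := X) hreg hΓ)
  simp only [one_pow, ← Finset.prod_pow, ← pow_mul] at hfib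
  let Q := fun j => idealCls (isEffCartierIdeal_ker hreg hΓ j)
  have hsplit : (∏ j, Q j ^ a j) * ∏ i ∈ S, Q i ^ (Models.mult R X (Γ i) * N) = ∏ i ∈ S, Q i ^ a i := by
    rw [← Finset.prod_sdiff (Finset.subset_univ S), mul_right_comm]
    have h1 : ∏ j ∈ Finset.univ \ S, Q j ^ a j = ∏ j ∈ Finset.univ \ S, Q j ^ (Models.mult R X (Γ j) * N) :=
      Finset.prod_congr rfl fun j hj => by rw [haj j (Finset.mem_sdiff.1 hj).2, Nat.mul_comm]
    rw [h1, Finset.prod_sdiff (Finset.subset_univ S)]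
    show (∏ j, Q j ^ (Models.mult R X (Γ j) * N)) * _ = _
    rw [hfib, one_mul]
  have hinv : PicGrp.cls M hM = (PicGrp.cls M' hM')⁻¹ :=
    (PicGrp.cls_inv_eq_cls hM' hM ⟨ε⟩).symm
  rw [hinv, hcls]
  show (∏ j, Q j ^ a j)⁻¹ = ∏ i ∈ S, Q i ^ _
  have h2 : ∏ i ∈ S, Q i ^ ((Models.mult R X (Γ i) : ℤ) * N - a i) =
      (∏ i ∈ S, Q i ^ (Models.mult R X (Γ i) * N)) * (∏ i ∈ S, Q i ^ a i)⁻¹ := by
    rw [← Finset.prod_inv_distrib, ← Finset.prod_mul_distrib]
    refine Finset.prod_congr rfl fun i _ => ?_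
    rw [zpow_sub, ← Nat.cast_mul, zpow_natCast, zpow_natCast]
  rw [h2, ← hsplit]
  group

end Groth.Agent.H28RR.PrincipalOffSet
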