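import Groth.Agent.H28RR.Adjunction

/-!
# Riemann–Roch on a smooth projective surface over an algebraically closed field
-/

set_option autoImplicit false
set_option linter.style.haveILetI false
set_option backward.isDefEq.respectTransparency.types false

universe u

open CategoryTheory CategoryTheory.Limits AlgebraicGeometry TopologicalSpace Opposite
open Groth.Agent.H28Surf

namespace Groth.Agent.H28RR

variable {X : Scheme.{u}} (k : Type u) [Field k] [X.Over (Spec (CommRingCat.of k))]
  [IsProper (X ↘ Spec (CommRingCat.of k))] [Smooth (X ↘ Spec (CommRingCat.of k))] [IsIntegral X]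

omit [Smooth (X ↘ Spec (CommRingCat.of k))] [IsIntegral X] in
/-- The Euler characteristic of a tensor product. -/
theorem euler_tensor (A B : X.Modules) :
    Curv2.euler k X (CohB1.tensorMod A B) = Curv2.euler k X A + Curv2.euler k X B -
      Curv2.euler k X (Coh.structureModule X) + pr k A B := by
  have h1 : pr k A B = Curv2.euler k X (Coh.structureModule X) - Curv2.euler k X B -
      Curv2.euler k X A + Curv2.euler k X (CohB1.tensorMod A B) := by
    show (Curv2.euler k X _ - Curv2.euler k X _) - (Curv2.euler k X _ - Curv2.euler k X _) = _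
    rw [H25Euler.euler_congr (H10Coh.Tw.rightUnitIso B), H25Euler.euler_congr (H10Coh.Tw.rightUnitIso A),
      H25Euler.euler_congr (PicGrp.tensorModIso (Iso.refl B) (H10Coh.Tw.rightUnitIso A) ≪≫
        H10Coh.Tw.commIso B A)]
    ring
  omega

/-- The defect in Riemann–Roch. -/
noncomputable def defect (W L : X.Modules) : ℤ :=
  2 * Curv2.euler k X L - pr k L L + pr k L W - 2 * Curv2.euler k X (Coh.structureModule X)

omit [Smooth (X ↘ Spec (CommRingCat.of k))] [IsIntegral X] in
theorem defect_congr {W L L' : X.Modules} (hW : PicF.IsInvertible W) (hL : PicF.IsInvertible L)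
    (hL' : PicF.IsInvertible L') (e : L ≅ L') : defect k W L = defect k W L' := by
  have h1 : pr k L L = pr k L' L' := by
    rw [pr_congr_left k hL e, pr_symm k, pr_congr_left k hL' e]
  rw [defect, defect, h1, pr_congr_left k hW e, H25Euler.euler_congr e]

theorem defect_tensor (hdim : topologicalKrullDim X = 2) {W A B : X.Modules} (hW : PicF.IsInvertible W)
    (hA : PicF.IsInvertible A) (hB : PicF.IsInvertible B) :
    defect k W (CohB1.tensorMod A B) = defect k W A + defect k W B := by
  have hT := H11Ample.isInvertible_tensor hA hB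
  have h1 : pr k (CohB1.tensorMod A B) (CohB1.tensorMod A B) = pr k A A + 2 * pr k A B + pr k B B := by
    rw [pr_tensor_left k hdim hA hB hT, pr_symm k A, pr_symm k B, pr_tensor_left k hdim hA hB hA,
      pr_tensor_left k hdim hA hB hB, pr_symm k B A]
    ring
  rw [defect, defect, defect, h1, pr_tensor_left k hdim hA hB hW, euler_tensor]
  ring

theorem defect_structure {W : X.Modules} (hW : PicF.IsInvertible W) :
    defect k W (Coh.structureModule X) = 0 := by
  rw [defect, pr_structure_left k (H28Int.isInvertible_structureModule X), pr_structure_left k hW]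
  ring

theorem defect_pow (hdim : topologicalKrullDim X = 2) {W A : X.Modules} (hW : PicF.IsInvertible W)
    (hA : PicF.IsInvertible A) (m : ℕ) : defect k W (CohB1.tensorPow A m) = m * defect k W A := by
  induction m with
  | zero =>
    rw [show CohB1.tensorPow A 0 = Coh.structureModule X from rfl, defect_structure k hW]
    simp
  | succ m ih =>
    rw [show CohB1.tensorPow A (m + 1) = CohB1.tensorMod (CohB1.tensorPow A m) A from rfl,
      defect_tensor k hdim hW (H11Ample.isInvertible_tensorPow hA m) hA, ih]
    push_cast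
    ring

theorem defect_curve [IsAlgClosed k] (hdim : topologicalKrullDim X = 2) {W : X.Modules}
    (hW : ExtPow.IsExtPow 2 (Omega.sheaf (X ↘ Spec (CommRingCat.of k))) W)
    {C : Scheme.{u}} (i : C ⟶ X) [IsClosedImmersion i] [IsIntegral C] (hC : topologicalKrullDim C = 1)
    [Smooth (i ≫ (X ↘ Spec (CommRingCat.of k)))] : defect k W (ClSub.idealMod i.ker) = 0 := by
  letI : C.Over (Spec (CommRingCat.of k)) := ⟨i ≫ (X ↘ Spec (CommRingCat.of k))⟩
  haveI : IsProper (C ↘ Spec (CommRingCat.of k)) := show IsProper (i ≫ _) from inferInstance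
  haveI := H28Int.isNoetherian k (X := X)
  haveI := H28Int.isNoetherian k (X := C)
  have hI := H28Int.isInvertible_idealMod_curve k hdim i hC
  haveI := H10Coh.epi_toSubscheme i.ker
  have hO := H10Coh.isCoh_structureModule' X
  have hQ : Coh.IsCoh (ClSub.quotMod i.ker) :=
    H10Coh.isCoh_of_iso (H28Vert.quotModKerIso i).symm (LeadDev.isCoh_push_structure i)
  have hadd := H25Euler.euler_add (k := k) (H10Coh.shortExact_kernel (ClSub.toSubscheme i.ker))
    (H11Ample.isCoh_of_isInvertible hI) hO hQ
  change Curv2.euler k X (Coh.structureModule X) =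
    Curv2.euler k X (ClSub.idealMod i.ker) + Curv2.euler k X (ClSub.quotMod i.ker) at hadd
  haveI : (Coh.structureModule C).IsQuasicoherent := (H10Coh.isCoh_structureModule' C).1
  rw [H25Euler.euler_congr (H28Vert.quotModKerIso i), H28Int.Push.euler_push k i rfl] at hadd
  have hadj := adjunction_smooth k hdim hW i hC
  have hrr := H29RR.riemann_roch (k := k) (X := C) hC.le (Coh.structureModule C)
  rw [H29RR.deg_structureModule] at hrr
  have h0 := S19352.finrank_structure k C
  have hc : Curv2.euler k C (Coh.structureModule C) = 1 - (Curv2.genus k C : ℤ) := by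
    rw [H29RR.euler_eq_sub (k := k) hC.le, h0]; rfl
  rw [defect]
  omega

theorem defect_ample [IsAlgClosed k] (hdim : topologicalKrullDim X = 2) {W : X.Modules}
    (hW : ExtPow.IsExtPow 2 (Omega.sheaf (X ↘ Spec (CommRingCat.of k))) W)
    {A : X.Modules} (hA : CohB1.IsAmple A) : defect k W A = 0 := by
  have hWi := isInvertible_canonical k hdim hW
  have hAi := (H11Ample.isAmple_iff.1 hA).1
  obtain ⟨m₀, hm₀⟩ := Embed.eventually_closedImmersion (X ↘ Spec (CommRingCat.of k)) hA
  obtain ⟨n, r, hr, hrq, ⟨τ⟩⟩ := hm₀ (m₀ + 1) (Nat.le_succ _)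
  haveI := hr
  obtain ⟨C, hC, hsm, ⟨e⟩⟩ := exists_hyperplane_curve k hdim r hrq
  haveI := hsm
  haveI := hC.int
  have hCd : topologicalKrullDim C.subscheme = 1 := by
    rw [IsHomeomorph.topologicalKrullDim_eq _ ((C.subschemeι.isClosedEmbedding.isEmbedding.toHomeomorph).trans
      (Homeomorph.setCongr C.range_subschemeι)).isHomeomorph]
    exact hC.dim
  have h0 := defect_curve k hdim hW C.subschemeι hCd
  rw [C.ker_subschemeι] at h0
  have hI := isInvertible_ideal k (isEffCartier_curve k hdim hC)
  have hP := H11Ample.isInvertible_tensorPow hAi (m₀ + 1)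
  let e' : CohB1.tensorMod (ClSub.idealMod C) (CohB1.tensorPow A (m₀ + 1)) ≅ Coh.structureModule X :=
    PicGrp.tensorModIso (Iso.refl _) τ.symm ≪≫ e
  have h := defect_congr k hWi (H11Ample.isInvertible_tensor hI hP) (H28Int.isInvertible_structureModule X) e'
  rw [defect_tensor k hdim hWi hI hP, defect_pow k hdim hWi hAi, defect_structure k hWi, h0, zero_add] at h
  rcases mul_eq_zero.1 h with h | h
  · push_cast at h; omega
  · exact h

/-- Riemann–Roch. -/
theorem riemann_roch [IsAlgClosed k] (hdim : topologicalKrullDim X = 2) {H : X.Modules} (hH : CohB1.IsAmple H)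
    {W : X.Modules} (hW : ExtPow.IsExtPow 2 (Omega.sheaf (X ↘ Spec (CommRingCat.of k))) W)
    {L : X.Modules} (hL : PicF.IsInvertible L) :
    2 * Curv2.euler k X L = pr k L L - pr k L W + 2 * Curv2.euler k X (Coh.structureModule X) := by
  haveI := H28Int.isNoetherian k (X := X)
  have hWi := isInvertible_canonical k hdim hW
  have hHi := (H11Ample.isAmple_iff.1 hH).1
  obtain ⟨n, -, hn⟩ := H11Ample.eventually_ample_tensor hH hL
  have hA := (hn n le_rfl).1
  have h := defect_ample k hdim hW hA
  rw [defect_tensor k hdim hWi (H11Ample.isInvertible_tensorPow hHi n) hL, defect_pow k hdim hWi hHi,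
    defect_ample k hdim hW hH, mul_zero, zero_add, defect] at h
  omega

end Groth.Agent.H28RR
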