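import Groth.Agent.H28RR.PicNum

/-!
# Asymptotic cohomology of a Zariski decomposition on a surface

`h⁰(mL) ∼ m²P²/2`, `h²(mL) = O(1)`: the negative part is fixed, and the positive part is perturbed
to an ample class.
-/

set_option autoImplicit false
set_option linter.style.haveILetI false
set_option linter.unusedSectionVars false
set_option backward.isDefEq.respectTransparency.types false
universe u

open CategoryTheory CategoryTheory.Limits AlgebraicGeometry TopologicalSpace Matrix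
open Groth.Agent.H28RR.PicNum
open Groth.Agent.H28Surf hiding dot dot_mul_left dot_mul_right dot_pow_left

noncomputable section

namespace Groth.Agent.H28RR.ZariskiVol

/-- A positive definite integral form is coercive. -/
theorem coercive {s : ℕ} (Q : Matrix (Fin s) (Fin s) ℤ) (hsym : Q.transpose = Q)
    (hpos : ∀ x : Fin s → ℤ, x ≠ 0 → 0 < x ⬝ᵥ (Q *ᵥ x)) (α : Fin s → ℤ) :
    ∃ B : ℕ, ∀ c : Fin s → ℤ, (∀ j, 0 ≤ c j) → c ⬝ᵥ (Q *ᵥ c) ≤ α ⬝ᵥ c → ∀ j, c j ≤ B := by
  classical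
  have hd : Q.det ≠ 0 := fun h => by
    obtain ⟨v, hv, hv0⟩ := Matrix.exists_mulVec_eq_zero_iff.2 h
    have := hpos v hv
    rw [hv0, dotProduct_zero] at this
    exact lt_irrefl _ this
  let u : Fin s → Fin s → ℤ := fun j => Q.adjugate *ᵥ Pi.single j 1
  have hu : ∀ j, Q *ᵥ u j = Q.det • Pi.single j 1 := fun j => by
    rw [Matrix.mulVec_mulVec, Matrix.mul_adjugate, Matrix.smul_mulVec, Matrix.one_mulVec]
  let K : ℤ := ∑ j, u j ⬝ᵥ (Q *ᵥ u j)
  let A : ℤ := ∑ j, |α j|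
  have hu0 : ∀ j, 0 < u j ⬝ᵥ (Q *ᵥ u j) := fun j => hpos _ fun h => by
    have h1 := congrFun (hu j) j
    rw [h, Matrix.mulVec_zero] at h1
    simp at h1
    exact hd h1.symm
  refine ⟨(K * A * s).toNat, fun c hc hle j => ?_⟩
  obtain ⟨M, -, hM⟩ := Finset.exists_max_image Finset.univ c ⟨j, Finset.mem_univ j⟩
  have hsum : α ⬝ᵥ c ≤ A * c M := by
    rw [dotProduct, Finset.sum_mul]
    exact Finset.sum_le_sum fun i hi =>
      (mul_le_mul_of_nonneg_right (le_abs_self _) (hc i)).trans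
        (mul_le_mul_of_nonneg_left (hM i hi) (abs_nonneg _))
  have hcu : c ⬝ᵥ (Q *ᵥ u M) = Q.det * c M := by
    rw [hu, dotProduct_smul, dotProduct_single, mul_one, smul_eq_mul]
  have huc : u M ⬝ᵥ (Q *ᵥ c) = Q.det * c M := by
    rw [Matrix.dotProduct_mulVec, ← Matrix.mulVec_transpose, hsym, dotProduct_comm, hcu]
  set p := u M ⬝ᵥ (Q *ᵥ u M) with hp
  have hp0 : 0 < p := hu0 M
  have hq : ∀ x : Fin s → ℤ, 0 ≤ x ⬝ᵥ (Q *ᵥ x) := fun x => by
    by_cases hx : x = 0
    · simp [hx]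
    · exact (hpos x hx).le
  have hbil : ∀ (t r : ℤ) (x y : Fin s → ℤ), (t • x + r • y) ⬝ᵥ (Q *ᵥ (t • x + r • y)) =
      t * t * (x ⬝ᵥ (Q *ᵥ x)) + t * r * (x ⬝ᵥ (Q *ᵥ y) + y ⬝ᵥ (Q *ᵥ x)) + r * r * (y ⬝ᵥ (Q *ᵥ y)) := by
    intro t r x y
    rw [Matrix.mulVec_add, Matrix.mulVec_smul, Matrix.mulVec_smul, add_dotProduct, dotProduct_add, dotProduct_add]
    simp only [smul_dotProduct, dotProduct_smul, smul_eq_mul]
    ring
  have hexp := hq (p • c + (-(Q.det * c M)) • u M)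
  rw [hbil, hcu, huc, ← hp] at hexp
  have hkey : (Q.det * c M) ^ 2 ≤ p * (c ⬝ᵥ (Q *ᵥ c)) := by
    generalize c ⬝ᵥ (Q *ᵥ c) = g at hexp ⊢
    generalize Q.det * c M = e at hexp ⊢
    exact le_of_mul_le_mul_left (by linarith) hp0
  have hpK : p ≤ K := Finset.single_le_sum (f := fun j => u j ⬝ᵥ (Q *ᵥ u j)) (fun i _ => (hu0 i).le) (Finset.mem_univ M)
  have hd2 : 1 ≤ Q.det ^ 2 := by
    have := sq_pos_of_ne_zero hd
    omega
  have hA : 0 ≤ A := Finset.sum_nonneg fun i _ => abs_nonneg _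
  clear_value K A p
  have h1 : c M ^ 2 ≤ Q.det ^ 2 * c M ^ 2 := le_mul_of_one_le_left (sq_nonneg _) hd2
  have h2 : p * (c ⬝ᵥ (Q *ᵥ c)) ≤ K * (A * c M) :=
    (mul_le_mul_of_nonneg_left (hle.trans hsum) hp0.le).trans (mul_le_mul_of_nonneg_right hpK (mul_nonneg hA (hc M)))
  have h3 : c M ^ 2 ≤ K * A * c M := by rw [mul_pow] at hkey; linarith
  have hKA : 0 ≤ K * A := mul_nonneg (hp0.le.trans hpK) hA
  have h4 : c M ≤ K * A * s := by
    have hs : (1 : ℤ) ≤ s := by exact_mod_cast j.pos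
    rcases (hc M).eq_or_lt with h0 | h0
    · rw [← h0]; exact mul_nonneg hKA (Int.natCast_nonneg s)
    · exact (le_of_mul_le_mul_right (by linarith [sq (c M)]) h0).trans (le_mul_of_one_le_right hKA hs)
  exact (hM j (Finset.mem_univ j)).trans (h4.trans (Int.self_le_toNat _))

attribute [local instance] H28Vert.picLaw

variable {X : Scheme.{u}} (k : Type u) [Field k] [IsAlgClosed k] [X.Over (Spec (CommRingCat.of k))]
  [IsProper (X ↘ Spec (CommRingCat.of k))] [Smooth (X ↘ Spec (CommRingCat.of k))] [IsIntegral X]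
  (hdim : topologicalKrullDim X = 2)

include hdim

theorem degOn_eq_dot {C : X.IdealSheafData} (hC : IsCurve C) (c : PicLoc.PicSet X) :
    degOn k C (rep c) = dot k c (curveCls k hdim hC) := by
  have hI := isInvertible_ideal k (isEffCartier_curve k hdim hC)
  rw [degOn_eq_pr k hdim hC (rep_inv c), curveCls, dot_inv_right k hdim, dot,
    pr_symm k (rep c) (rep (PicGrp.cls (ClSub.idealMod C) hI)),
    pr_congr_left k (rep_inv _) (nonempty_rep_iso hI).some]

/-- Classes of bounded degree have boundedly many sections. -/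
theorem h0_le_sq {C : X.IdealSheafData} (hC : IsCurve C) (hA : CohB1.IsAmple (rep (curveCls k hdim hC))) :
    ∀ (t : ℕ) (c : PicLoc.PicSet X), dot k c (curveCls k hdim hC) < t → hc k 0 c ≤ t * t := by
  intro t
  induction t with
  | zero =>
    intro c hlt
    haveI := subsingleton_h0_of_neg k hdim hA (rep_inv c) (by simpa [dot] using hlt)
    simp [hc, Module.finrank_zero_of_subsingleton]
  | succ t ih =>
    intro c hlt
    set δ := curveCls k hdim hC
    have hpos : 0 < dot k δ δ := by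
      rw [← degOn_eq_dot k hdim hC δ]
      exact ample_deg_pos k hdim hA hC
    have h := (h0_step k hdim hC (c * δ⁻¹)).2
    have h' := ih (c * δ⁻¹) (by rw [dot_mul_left k hdim, dot_inv_left k hdim]; push_cast at hlt; omega)
    rw [inv_mul_cancel_right] at h
    push_cast at hlt
    have h2 : max (dot k c δ + 1) 0 ≤ (t : ℤ) + 1 := max_le (by omega) (by omega)
    have h3 : (hc k 0 (c * δ⁻¹) : ℤ) ≤ (t : ℤ) * t := by exact_mod_cast h'
    have : (hc k 0 c : ℤ) ≤ ((t + 1) * (t + 1) : ℕ) := by push_cast; nlinarith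
    exact_mod_cast this

omit hdim in
include hdim in
theorem chi_mul_pow {W : X.Modules} (hW : ExtPow.IsExtPow 2 (Omega.sheaf (X ↘ Spec (CommRingCat.of k))) W)
    (R A : PicLoc.PicSet X) :
    ∃ l c : ℤ, ∀ n : ℕ, 2 * chi k (R * A ^ n) = (n : ℤ) * n * dot k A A + n * l + c := by
  set w := PicGrp.cls W (isInvertible_canonical k hdim hW)
  refine ⟨2 * dot k R A - dot k A w, dot k R R - dot k R w + 2 * Curv2.euler k X (Coh.structureModule X), fun n => ?_⟩
  rw [chi_rr k hdim hW, dot_mul_left k hdim, dot_mul_right k hdim, dot_mul_right k hdim, dot_mul_left k hdim,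
    dot_pow_left k hdim, dot_pow_left k hdim, dot_pow_left k hdim, dot_pow_right k hdim, dot_pow_right k hdim,
    dot_comm k A R]
  ring

/-- Sections of multiples of a nef class. -/
theorem exists_upper {C : X.IdealSheafData} (hC : IsCurve C) (hA : CohB1.IsAmple (rep (curveCls k hdim hC)))
    {P : PicLoc.PicSet X} (hnef : ∀ (D : X.IdealSheafData) (hD : IsCurve D), 0 ≤ dot k P (curveCls k hdim hD))
    (R : PicLoc.PicSet X) {q : ℕ} (hq : 0 < q) :
    0 ≤ (q : ℤ) * q * dot k P P + 2 * q * dot k P (curveCls k hdim hC) + dot k (curveCls k hdim hC) (curveCls k hdim hC) ∧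
    ∃ B : ℤ, 0 ≤ B ∧ ∀ n : ℕ, 2 * (q : ℤ) * q * hc k 0 (R * P ^ n) ≤
      (n : ℤ) * n * ((q : ℤ) * q * dot k P P + 2 * q * dot k P (curveCls k hdim hC) +
        dot k (curveCls k hdim hC) (curveCls k hdim hC)) + B * (n + 1) := by
  classical
  set δ := curveCls k hdim hC
  have hHH : 0 < dot k δ δ := by rw [← degOn_eq_dot k hdim hC δ]; exact ample_deg_pos k hdim hA hC
  have hPP : 0 ≤ dot k P P := pr_self_nonneg_of_nef k hdim (rep_inv P) fun D hD => by
    rw [degOn_eq_dot k hdim hD P]; exact hnef D hD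
  set A := P ^ q * δ with hAdef
  have hAA : dot k A A = (q : ℤ) * q * dot k P P + 2 * q * dot k P δ + dot k δ δ := by
    rw [hAdef, dot_mul_left k hdim, dot_mul_right k hdim, dot_mul_right k hdim, dot_pow_left k hdim,
      dot_pow_left k hdim, dot_pow_right k hdim, dot_pow_right k hdim, dot_comm k δ P]
    ring
  rw [← hAA]
  have hAA0 : 0 < dot k A A := by
    rw [hAA]; nlinarith [hnef C hC, Int.natCast_nonneg q]
  have hamp : CohB1.IsAmple (rep A) := by
    refine isAmple_of_pos k hdim (rep_inv A) hAA0 fun D hD => ?_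
    rw [degOn_eq_dot k hdim hD, hAdef, dot_mul_left k hdim, dot_pow_left k hdim]
    have h1 : 0 < dot k δ (curveCls k hdim hD) := by
      rw [← degOn_eq_dot k hdim hD]; exact ample_deg_pos k hdim hA hD
    have h2 := hnef D hD
    positivity
  obtain ⟨W, hW⟩ := exists_canonical k hdim
  choose l cc hchi using fun i : ℕ => chi_mul_pow k hdim hW (R * P ^ i) A
  choose b hb using fun i : ℕ => exists_vanishing k hdim hamp (R * P ^ i)
  let N₀ := ∑ i ∈ Finset.range q, (b i + 1) * q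
  let B₁ : ℤ := ∑ i ∈ Finset.range q, (q : ℤ) * q * (|l i| + |cc i|)
  let B₂ : ℤ := ∑ n ∈ Finset.range N₀, 2 * (q : ℤ) * q * hc k 0 (R * P ^ n)
  have hB₁ : 0 ≤ B₁ := Finset.sum_nonneg fun i _ => by positivity
  have hB₂ : 0 ≤ B₂ := Finset.sum_nonneg fun i _ => by positivity
  refine ⟨hAA0.le, B₁ + B₂, by positivity, fun n => ?_⟩
  have hi := Nat.mod_lt n hq
  have hn := Nat.mod_add_div n q
  set i := n % q
  set j := n / q
  have hn0 : (0 : ℤ) ≤ n := Int.natCast_nonneg n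
  have hsq : (0 : ℤ) ≤ (n : ℤ) * n * dot k A A := by positivity
  by_cases hj : b i ≤ j
  · have hmem : R * P ^ n * δ ^ j = R * P ^ i * A ^ j := by
      rw [hAdef, mul_pow, ← pow_mul, ← mul_assoc, mul_assoc R (P ^ i), ← pow_add, hn]
    have h1 := h0_mul_pow k hdim hC (R * P ^ n) j
    rw [hmem] at h1
    have h2 := hb i j hj
    have h3 := hchi i j
    rw [← h2] at h3
    have hjn : (q : ℤ) * j ≤ n := by exact_mod_cast (show q * j ≤ n by omega)
    have hjn' : (j : ℤ) ≤ n := le_trans (le_mul_of_one_le_left (Int.natCast_nonneg j) (by exact_mod_cast hq)) hjn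
    have hj2 : (q : ℤ) * j * (q * j) * dot k A A ≤ (n : ℤ) * n * dot k A A :=
      mul_le_mul_of_nonneg_right (mul_le_mul hjn hjn (by positivity) hn0) hAA0.le
    have hl : (j : ℤ) * l i + cc i ≤ (|l i| + |cc i|) * (n + 1) := by
      nlinarith [le_abs_self (l i), le_abs_self (cc i), abs_nonneg (l i), abs_nonneg (cc i),
        mul_le_mul_of_nonneg_left (le_abs_self (l i)) (Int.natCast_nonneg j),
        mul_le_mul_of_nonneg_right hjn' (abs_nonneg (l i))]
    have hB : (q : ℤ) * q * (|l i| + |cc i|) ≤ B₁ := Finset.single_le_sum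
      (f := fun i => (q : ℤ) * q * (|l i| + |cc i|)) (fun i _ => by positivity) (Finset.mem_range.2 hi)
    calc 2 * (q : ℤ) * q * hc k 0 (R * P ^ n)
        ≤ (q : ℤ) * q * (2 * hc k 0 (R * P ^ i * A ^ j)) := by
          have : (hc k 0 (R * P ^ n) : ℤ) ≤ hc k 0 (R * P ^ i * A ^ j) := by exact_mod_cast h1
          nlinarith [mul_self_nonneg (q : ℤ)]
      _ = (q : ℤ) * j * (q * j) * dot k A A + (q : ℤ) * q * ((j : ℤ) * l i + cc i) := by rw [h3]; ring
      _ ≤ (n : ℤ) * n * dot k A A + (q : ℤ) * q * ((|l i| + |cc i|) * (n + 1)) :=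
          add_le_add hj2 (mul_le_mul_of_nonneg_left hl (mul_self_nonneg _))
      _ ≤ (n : ℤ) * n * dot k A A + (B₁ + B₂) * (n + 1) := by
          nlinarith [mul_le_mul_of_nonneg_right hB (show (0 : ℤ) ≤ n + 1 by linarith), mul_nonneg hB₂ (show (0 : ℤ) ≤ n + 1 by linarith)]
  · have hlt : n < N₀ := by
      refine lt_of_lt_of_le ?_ (Finset.single_le_sum (f := fun i => (b i + 1) * q) (fun i _ => Nat.zero_le _) (Finset.mem_range.2 hi))
      show n < (b i + 1) * q
      rw [← hn]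
      calc i + q * j < q + q * j := by omega
        _ = (j + 1) * q := by ring
        _ ≤ (b i + 1) * q := Nat.mul_le_mul_right q (by omega)
    have h2 : 2 * (q : ℤ) * q * hc k 0 (R * P ^ n) ≤ B₂ :=
      Finset.single_le_sum (f := fun n => 2 * (q : ℤ) * q * (hc k 0 (R * P ^ n) : ℤ)) (fun i _ => by positivity) (Finset.mem_range.2 hlt)
    nlinarith

variable {s : ℕ} {N : Fin s → X.IdealSheafData} (hN : ∀ j, IsCurve (N j))

/-- The class of a divisor supported on the given curves. -/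
def divCls (e : Fin s → ℕ) : PicLoc.PicSet X := ∏ j, curveCls k hdim (hN j) ^ e j

theorem dot_divCls (e : Fin s → ℕ) (c : PicLoc.PicSet X) :
    dot k (divCls k hdim hN e) c = ∑ j, (e j : ℤ) * dot k (curveCls k hdim (hN j)) c := by
  have h := map_prod (dotHom k hdim c) (fun j => curveCls k hdim (hN j) ^ e j) Finset.univ
  refine (congrArg Multiplicative.toAdd h).trans ?_
  rw [toAdd_prod]
  exact Finset.sum_congr rfl fun j _ => dot_pow_left k hdim _ _ _

theorem h0_le_divCls (e : Fin s → ℕ) (c : PicLoc.PicSet X) :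
    hc k 0 c ≤ hc k 0 (c * divCls k hdim hN e) := by
  classical
  show _ ≤ hc k 0 (c * ∏ j, _)
  induction (Finset.univ : Finset (Fin s)) using Finset.induction generalizing c with
  | empty => simp
  | insert j T hj ih =>
    rw [Finset.prod_insert hj, ← mul_assoc]
    exact (h0_mul_pow k hdim (hN j) c (e j)).trans (ih _)

/-- The negative part is fixed up to a bounded amount. -/
theorem exists_fixed (hneg : ∀ x : Fin s → ℤ, x ≠ 0 →
      ∑ i, ∑ j, x i * x j * dot k (curveCls k hdim (hN i)) (curveCls k hdim (hN j)) < 0)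
    {P : PicLoc.PicSet X} (horth : ∀ j, dot k P (curveCls k hdim (hN j)) = 0) (R : PicLoc.PicSet X) :
    ∃ B : Fin s → ℕ, ∀ (n : ℕ) (e : Fin s → ℕ),
      hc k 0 (R * P ^ n * divCls k hdim hN e) ≤ hc k 0 (R * divCls k hdim hN B * P ^ n) := by
  classical
  let Q : Matrix (Fin s) (Fin s) ℤ := Matrix.of fun i j => - dot k (curveCls k hdim (hN i)) (curveCls k hdim (hN j))
  let α : Fin s → ℤ := fun j => dot k R (curveCls k hdim (hN j))
  have hQ : ∀ x : Fin s → ℤ, x ⬝ᵥ (Q *ᵥ x) =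
      - ∑ i, ∑ j, x i * x j * dot k (curveCls k hdim (hN i)) (curveCls k hdim (hN j)) := fun x => by
    simp only [dotProduct, Matrix.mulVec, Q, Matrix.of_apply, Finset.mul_sum, ← Finset.sum_neg_distrib]
    exact Finset.sum_congr rfl fun i _ => Finset.sum_congr rfl fun j _ => by ring
  obtain ⟨B, hB⟩ := coercive Q (Matrix.ext fun i j => by
      simp only [Matrix.transpose_apply, Q, Matrix.of_apply]
      rw [dot_comm k (curveCls k hdim (hN j))])
    (fun x hx => by rw [hQ]; linarith [hneg x hx]) α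
  refine ⟨fun _ => B, fun n e => ?_⟩
  generalize hS : ∑ j, e j = S
  induction S using Nat.strong_induction_on generalizing e with
  | _ S ih =>
  by_cases hall : ∀ j, e j ≤ B
  · have he : divCls k hdim hN e * divCls k hdim hN (fun j => B - e j) = divCls k hdim hN fun _ => B := by
      rw [divCls, divCls, divCls, ← Finset.prod_mul_distrib]
      exact Finset.prod_congr rfl fun j _ => by rw [← pow_add, Nat.add_sub_cancel' (hall j)]
    refine (h0_le_divCls k hdim hN (fun j => B - e j) _).trans (le_of_eq (congrArg _ ?_))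
    rw [mul_assoc _ (divCls k hdim hN e), he, mul_right_comm]
  push Not at hall
  obtain ⟨j₀, hj₀⟩ := hall
  have hnot : ¬ (fun j => (e j : ℤ)) ⬝ᵥ (Q *ᵥ fun j => (e j : ℤ)) ≤ α ⬝ᵥ fun j => (e j : ℤ) := fun h => by
    have := hB _ (fun j => Int.natCast_nonneg _) h j₀
    omega
  obtain ⟨l, hl0, hl⟩ : ∃ l, 0 < e l ∧
      dot k (R * P ^ n * divCls k hdim hN e) (curveCls k hdim (hN l)) < 0 := by
    by_contra hno
    push Not at hno
    refine hnot ?_
    have h0 : 0 ≤ ∑ l, (e l : ℤ) * dot k (R * P ^ n * divCls k hdim hN e) (curveCls k hdim (hN l)) :=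
      Finset.sum_nonneg fun l _ => by
        rcases Nat.eq_zero_or_pos (e l) with h | h
        · rw [h]; simp
        · exact mul_nonneg (Int.natCast_nonneg _) (hno l h)
    have h1 : ∑ l, (e l : ℤ) * dot k (R * P ^ n * divCls k hdim hN e) (curveCls k hdim (hN l)) =
        (α ⬝ᵥ fun j => (e j : ℤ)) - (fun j => (e j : ℤ)) ⬝ᵥ (Q *ᵥ fun j => (e j : ℤ)) := by
      rw [hQ, sub_neg_eq_add, Finset.sum_comm]
      simp only [dotProduct, α, ← Finset.sum_add_distrib]
      refine Finset.sum_congr rfl fun l _ => ?_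
      rw [dot_mul_left k hdim, dot_mul_left k hdim, dot_pow_left k hdim, horth l, dot_divCls k hdim hN,
        mul_add, Finset.mul_sum]
      simp only [mul_zero, add_zero]
      rw [mul_comm (e l : ℤ)]
      congr 1
      exact Finset.sum_congr rfl fun i _ => by ring
    linarith
  set e' := Function.update e l (e l - 1) with he'
  have hD : divCls k hdim hN e = divCls k hdim hN e' * curveCls k hdim (hN l) := by
    rw [divCls, divCls, ← Finset.mul_prod_erase _ _ (Finset.mem_univ l),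
      ← Finset.mul_prod_erase _ _ (Finset.mem_univ l), he', Function.update_self, mul_right_comm, ← pow_succ,
      Nat.sub_add_cancel hl0]
    congr 1
    exact Finset.prod_congr rfl fun j hj => by rw [Function.update_of_ne (Finset.mem_erase.1 hj).1]
  rw [hD, ← mul_assoc, h0_fixed k hdim (hN l) _ (by rw [mul_assoc, ← hD]; exact hl)]
  refine ih _ ?_ e' rfl
  rw [← hS]
  exact Finset.sum_lt_sum (fun j _ => by rw [he']; by_cases h : j = l <;> simp [h])
    ⟨l, Finset.mem_univ l, by rw [he', Function.update_self]; omega⟩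

/-- The integral estimates. -/
theorem estimates (hneg : ∀ x : Fin s → ℤ, x ≠ 0 →
      ∑ i, ∑ j, x i * x j * dot k (curveCls k hdim (hN i)) (curveCls k hdim (hN j)) < 0)
    {P : PicLoc.PicSet X} (hnef : ∀ (D : X.IdealSheafData) (hD : IsCurve D), 0 ≤ dot k P (curveCls k hdim hD))
    (horth : ∀ j, dot k P (curveCls k hdim (hN j)) = 0) {L : PicLoc.PicSet X} {a : ℕ} (ha : 0 < a)
    (b : Fin s → ℕ) (hLa : L ^ a = P * divCls k hdim hN b) :
    (∃ B : ℤ, ∀ m : ℕ, (m : ℤ) * m * dot k P P - B * (m + 1) ≤ 2 * (a : ℤ) * a * hc k 0 (L ^ m)) ∧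
    (∃ E : ℤ, 0 ≤ E ∧ ∀ q : ℕ, 0 < q → ∃ B : ℤ, ∀ m : ℕ, 2 * (a : ℤ) * a * q * q * hc k 0 (L ^ m) ≤
      (m : ℤ) * m * ((q : ℤ) * q * dot k P P + q * E) + B * (m + 1)) ∧
    (∃ B : ℕ, ∀ m : ℕ, hc k 2 (L ^ m) ≤ B) := by
  classical
  obtain ⟨C, hC, hA⟩ := exists_ample_curve (X := X) k hdim
  set δ := curveCls k hdim hC
  obtain ⟨W, hW⟩ := exists_canonical k hdim
  set w := PicGrp.cls W (isInvertible_canonical k hdim hW)
  have hPH : 0 ≤ dot k P δ := hnef C hC
  have hHH : 0 < dot k δ δ := by rw [← degOn_eq_dot k hdim hC δ]; exact ample_deg_pos k hdim hA hC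
  have hPP : 0 ≤ dot k P P := pr_self_nonneg_of_nef k hdim (rep_inv P) fun D hD => by
    rw [degOn_eq_dot k hdim hD P]; exact hnef D hD
  have hND : ∀ e, 0 ≤ dot k (divCls k hdim hN e) δ := fun e => by
    rw [dot_divCls k hdim hN]
    refine Finset.sum_nonneg fun j _ => mul_nonneg (Int.natCast_nonneg _) ?_
    rw [dot_comm, ← degOn_eq_dot k hdim (hN j)]
    exact (ample_deg_pos k hdim hA (hN j)).le
  have hsplit : ∀ m : ℕ, L ^ m = L ^ (m % a) * P ^ (m / a) * divCls k hdim hN (fun j => b j * (m / a)) := fun m => by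
    conv_lhs => rw [← Nat.mod_add_div m a, pow_add, pow_mul, hLa, mul_pow, ← mul_assoc]
    congr 1
    rw [divCls, divCls, ← Finset.prod_pow]
    exact Finset.prod_congr rfl fun j _ => by rw [← pow_mul]
  have hna : ∀ m : ℕ, a * (m / a) ≤ m := fun m => Nat.mul_div_le m a
  have hnm : ∀ m : ℕ, m / a ≤ m := fun m => Nat.div_le_self m a
  -- second cohomology is bounded by the degree on the curve
  let T : ℕ := ∑ r ∈ Finset.range a, ((dot k (w * (L ^ r)⁻¹) δ).natAbs + 1)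
  have hbd : ∀ m : ℕ, ∀ c, dot k c δ ≤ dot k (w * (L ^ (m % a))⁻¹) δ → hc k 0 c ≤ T * T := fun m c hle =>
    h0_le_sq k hdim hC hA T c (by
      have h := Finset.single_le_sum (f := fun r => (dot k (w * (L ^ r)⁻¹) δ).natAbs + 1)
        (fun i _ => Nat.zero_le _) (Finset.mem_range.2 (Nat.mod_lt m ha))
      have h' := Int.le_natAbs (a := dot k (w * (L ^ (m % a))⁻¹) δ)
      show dot k c δ < (T : ℤ)
      change _ + 1 ≤ T at h
      generalize dot k (w * (L ^ (m % a))⁻¹) δ = g at h h' hle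
      generalize dot k c δ = e at hle ⊢
      omega)
  clear_value T
  refine ⟨?_, ⟨2 * dot k P δ + dot k δ δ, by linarith, ?_⟩, ⟨T * T, fun m => ?_⟩⟩
  · choose l cc hchi using fun r : ℕ => chi_mul_pow k hdim hW (L ^ r) P
    let B : ℤ := ∑ r ∈ Finset.range a, ((a : ℤ) * a * (|l r| + |cc r| + 2 * T * T) + dot k P P * (2 * a * a))
    refine ⟨B, fun m => ?_⟩
    have hB : (a : ℤ) * a * (|l (m % a)| + |cc (m % a)| + 2 * T * T) + dot k P P * (2 * a * a) ≤ B :=
      Finset.single_le_sum (f := fun r => (a : ℤ) * a * (|l r| + |cc r| + 2 * T * T) + dot k P P * (2 * a * a))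
        (fun i _ => by positivity) (Finset.mem_range.2 (Nat.mod_lt m ha))
    set n := m / a
    set r := m % a
    have h1 : hc k 0 (L ^ r * P ^ n) ≤ hc k 0 (L ^ m) := by
      rw [hsplit m]; exact h0_le_divCls k hdim hN _ _
    have h2 : hc k 2 (L ^ r * P ^ n) ≤ T * T := by
      rw [h2_eq k hdim hW]
      refine hbd m _ ?_
      rw [mul_inv, ← mul_assoc, dot_mul_left k hdim, dot_inv_left k hdim, dot_pow_left k hdim]
      nlinarith [Int.natCast_nonneg n]
    have h3 := chi_eq_three k hdim (L ^ r * P ^ n)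
    have h4 := hchi r n
    have h1' : (hc k 0 (L ^ r * P ^ n) : ℤ) ≤ hc k 0 (L ^ m) := by exact_mod_cast h1
    have h2' : (hc k 2 (L ^ r * P ^ n) : ℤ) ≤ T * T := by exact_mod_cast h2
    have h5 : (n : ℤ) * n * dot k P P + n * l r + cc r ≤ 2 * hc k 0 (L ^ m) + 2 * T * T := by
      linarith [Int.natCast_nonneg (hc k 1 (L ^ r * P ^ n))]
    have hn : (m : ℤ) = r + a * n := by exact_mod_cast (Nat.mod_add_div m a).symm
    have hr : (r : ℤ) ≤ a := by exact_mod_cast (Nat.mod_lt m ha).le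
    have hn' : (n : ℤ) ≤ m := by exact_mod_cast hnm m
    have hm0 := Int.natCast_nonneg m
    have hmm : (m : ℤ) * m ≤ a * a * (n * n) + 2 * a * a * (m + 1) := by
      rw [hn]; nlinarith [Int.natCast_nonneg r, Int.natCast_nonneg n, Int.natCast_nonneg a]
    have h6 : -((|l r| + |cc r|) * (m + 1)) ≤ (n : ℤ) * l r + cc r := by
      nlinarith [neg_abs_le (l r), neg_abs_le (cc r), abs_nonneg (cc r), abs_nonneg (l r),
        mul_le_mul_of_nonneg_left (neg_abs_le (l r)) (Int.natCast_nonneg n),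
        mul_le_mul_of_nonneg_right hn' (abs_nonneg (l r))]
    have h7 := mul_le_mul_of_nonneg_left h5 (mul_self_nonneg (a : ℤ))
    have h8 := mul_le_mul_of_nonneg_left h6 (mul_self_nonneg (a : ℤ))
    have h9 := mul_le_mul_of_nonneg_right hmm hPP
    have h10 := mul_le_mul_of_nonneg_right hB (show (0 : ℤ) ≤ m + 1 by linarith)
    nlinarith [show (0 : ℤ) ≤ (a : ℤ) * a * (2 * T * T) * m by positivity]
  · intro q hq
    choose B₁ hB₁ using fun r : ℕ => exists_fixed k hdim hN hneg horth (L ^ r)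
    choose hnn B₂ hB₂0 hB₂ using fun r : ℕ => exists_upper k hdim hC hA hnef (L ^ r * divCls k hdim hN (B₁ r)) hq
    refine ⟨(a : ℤ) * a * ∑ r ∈ Finset.range a, B₂ r, fun m => ?_⟩
    set n := m / a
    set r := m % a
    have h1 : hc k 0 (L ^ m) ≤ hc k 0 (L ^ r * divCls k hdim hN (B₁ r) * P ^ n) := by
      rw [hsplit m]; exact hB₁ r n _
    have h1' : (hc k 0 (L ^ m) : ℤ) ≤ hc k 0 (L ^ r * divCls k hdim hN (B₁ r) * P ^ n) := by exact_mod_cast h1
    have h2 := hB₂ r n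
    have hB : B₂ r ≤ ∑ r ∈ Finset.range a, B₂ r :=
      Finset.single_le_sum (f := B₂) (fun i _ => hB₂0 i) (Finset.mem_range.2 (Nat.mod_lt m ha))
    have hn' : (n : ℤ) ≤ m := by exact_mod_cast hnm m
    have han : (a : ℤ) * n ≤ m := by exact_mod_cast hna m
    have hq1 : (1 : ℤ) ≤ q := by exact_mod_cast hq
    have hE : (q : ℤ) * q * dot k P P + 2 * q * dot k P δ + dot k δ δ ≤
        (q : ℤ) * q * dot k P P + q * (2 * dot k P δ + dot k δ δ) := by nlinarith
    calc 2 * (a : ℤ) * a * q * q * hc k 0 (L ^ m)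
        ≤ (a : ℤ) * a * (2 * q * q * hc k 0 (L ^ r * divCls k hdim hN (B₁ r) * P ^ n)) := by
          nlinarith [mul_le_mul_of_nonneg_left h1' (show (0 : ℤ) ≤ (a : ℤ) * a * (2 * q * q) by positivity)]
      _ ≤ (a : ℤ) * a * ((n : ℤ) * n * _ + B₂ r * (n + 1)) := mul_le_mul_of_nonneg_left h2 (mul_self_nonneg _)
      _ = ((a : ℤ) * n) * (a * n) * ((q : ℤ) * q * dot k P P + 2 * q * dot k P δ + dot k δ δ) +
          (a : ℤ) * a * (B₂ r * (n + 1)) := by ring
      _ ≤ (m : ℤ) * m * ((q : ℤ) * q * dot k P P + q * (2 * dot k P δ + dot k δ δ)) +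
          (a : ℤ) * a * ((∑ r ∈ Finset.range a, B₂ r) * (m + 1)) := by
          refine add_le_add (mul_le_mul (mul_le_mul han han (by positivity) (by positivity)) hE ?_ (by positivity))
            (mul_le_mul_of_nonneg_left (mul_le_mul hB (by linarith) (by positivity) ?_) (mul_self_nonneg _))
          · exact hnn r
          · exact Finset.sum_nonneg fun i _ => hB₂0 i
      _ = _ := by ring
  · rw [h2_eq k hdim hW]
    refine hbd m _ ?_
    rw [hsplit m, mul_inv, mul_inv, ← mul_assoc, ← mul_assoc]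
    simp only [dot_mul_left k hdim, dot_inv_left k hdim, dot_pow_left k hdim]
    nlinarith [hND (fun j => b j * (m / a)), Int.natCast_nonneg (m / a)]

open Filter Topology in
omit hdim [IsAlgClosed k] [IsProper (X ↘ Spec (CommRingCat.of k))] [Smooth (X ↘ Spec (CommRingCat.of k))] [IsIntegral X] [X.Over (Spec (CommRingCat.of k))] [Field k] in
theorem tendsto_of_bounds (v : ℝ) (f : ℕ → ℝ) (hlo : ∃ B : ℝ, ∀ m : ℕ, 1 ≤ m → v - B / m ≤ f m)
    (hhi : ∀ ε : ℝ, 0 < ε → ∃ B : ℝ, ∀ m : ℕ, 1 ≤ m → f m ≤ v + ε + B / m) :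
    Tendsto f atTop (𝓝 v) := by
  rw [Metric.tendsto_atTop]
  intro ε hε
  obtain ⟨B₀, h₀⟩ := hlo
  obtain ⟨B₁, h₁⟩ := hhi (ε / 2) (by linarith)
  obtain ⟨M, hM⟩ := exists_nat_gt (2 * (|B₀| + |B₁| + 1) / ε)
  refine ⟨M + 1, fun m hm => ?_⟩
  have hm1 : 1 ≤ m := by omega
  have hmpos : (0 : ℝ) < m := by exact_mod_cast hm1
  have hMm : (M : ℝ) < m := by exact_mod_cast (show M < m by omega)
  have hb : 2 * (|B₀| + |B₁| + 1) < ε * m := by
    have := (div_lt_iff₀ hε).1 (hM.trans hMm)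
    linarith
  have e₀ : |B₀| / m < ε / 2 := by rw [div_lt_iff₀ hmpos]; nlinarith [abs_nonneg B₁]
  have e₁ : |B₁| / m < ε / 2 := by rw [div_lt_iff₀ hmpos]; nlinarith [abs_nonneg B₀]
  have := h₀ m hm1
  have := h₁ m hm1
  have := div_le_div_of_nonneg_right (le_abs_self B₀) hmpos.le
  have := div_le_div_of_nonneg_right (le_abs_self B₁) hmpos.le
  rw [Real.dist_eq, abs_lt]
  constructor <;> linarith

open Filter Topology in
/-- The limits. -/
theorem tendsto_all (hneg : ∀ x : Fin s → ℤ, x ≠ 0 →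
      ∑ i, ∑ j, x i * x j * dot k (curveCls k hdim (hN i)) (curveCls k hdim (hN j)) < 0)
    {P : PicLoc.PicSet X} (hnef : ∀ (D : X.IdealSheafData) (hD : IsCurve D), 0 ≤ dot k P (curveCls k hdim hD))
    (horth : ∀ j, dot k P (curveCls k hdim (hN j)) = 0) {L : PicLoc.PicSet X} {a : ℕ} (ha : 0 < a)
    (b : Fin s → ℕ) (hLa : L ^ a = P * divCls k hdim hN b) :
    Tendsto (fun m : ℕ => (hc k 0 (L ^ m) : ℝ) * 2 / (m : ℝ) ^ 2) atTop (𝓝 ((dot k P P : ℝ) / (a : ℝ) ^ 2)) ∧
    Tendsto (fun m : ℕ => (hc k 1 (L ^ m) : ℝ) * 2 / (m : ℝ) ^ 2) atTop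
      (𝓝 (-(dot k (divCls k hdim hN b) (divCls k hdim hN b) : ℝ) / (a : ℝ) ^ 2)) ∧
    Tendsto (fun m : ℕ => (hc k 2 (L ^ m) : ℝ) * 2 / (m : ℝ) ^ 2) atTop (𝓝 0) := by
  obtain ⟨⟨B, hB⟩, ⟨E, hE0, hE⟩, ⟨T, hT⟩⟩ := estimates k hdim hN hneg hnef horth ha b hLa
  have haR : (0 : ℝ) < a := by exact_mod_cast ha
  have hB' : ∀ {B : ℤ} {m : ℕ}, 1 ≤ m → (B : ℝ) * (m + 1) ≤ 2 * |(B : ℝ)| * m := fun {B m} hm => by
    have h1 : (1 : ℝ) ≤ m := by exact_mod_cast hm
    nlinarith [le_abs_self (B : ℝ), abs_nonneg (B : ℝ)]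
  have h0 : Tendsto (fun m : ℕ => (hc k 0 (L ^ m) : ℝ) * 2 / (m : ℝ) ^ 2) atTop (𝓝 ((dot k P P : ℝ) / (a : ℝ) ^ 2)) := by
    refine tendsto_of_bounds _ _ ⟨2 * |(B : ℝ)| / (a : ℝ) ^ 2, fun m hm => ?_⟩ fun ε hε => ?_
    · have h : (m : ℝ) * m * dot k P P - B * (m + 1) ≤ 2 * (a : ℝ) * a * hc k 0 (L ^ m) := by exact_mod_cast hB m
      have hm0 : (0 : ℝ) < m := by exact_mod_cast hm
      have := hB' (B := B) hm
      rw [le_div_iff₀ (by positivity), div_div, sub_mul, div_mul_eq_mul_div, div_mul_eq_mul_div,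
        div_sub_div _ _ (by positivity) (by positivity), div_le_iff₀ (by positivity)]
      nlinarith [mul_le_mul_of_nonneg_left (show (m : ℝ) * m * dot k P P - 2 * |(B : ℝ)| * m ≤ 2 * (a : ℝ) * a * hc k 0 (L ^ m) by linarith) (show (0 : ℝ) ≤ (a : ℝ) ^ 2 * m by positivity)]
    · obtain ⟨q, hq⟩ := exists_nat_gt ((E : ℝ) / ((a : ℝ) ^ 2 * ε))
      have hER : (0 : ℝ) ≤ E := by exact_mod_cast hE0
      have hq0 : (0 : ℝ) < q := lt_of_le_of_lt (by positivity) hq
      obtain ⟨B₁, hB₁⟩ := hE q (by exact_mod_cast hq0)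
      refine ⟨2 * |(B₁ : ℝ)| / ((a : ℝ) ^ 2 * q ^ 2), fun m hm => ?_⟩
      have h : 2 * (a : ℝ) * a * q * q * hc k 0 (L ^ m) ≤
          (m : ℝ) * m * ((q : ℝ) * q * dot k P P + q * E) + B₁ * (m + 1) := by exact_mod_cast hB₁ m
      have hm0 : (0 : ℝ) < m := by exact_mod_cast hm
      have hh := hB' (B := B₁) hm
      have hq' : (E : ℝ) ≤ ε * ((a : ℝ) ^ 2 * q) := by
        have := (div_lt_iff₀ (show (0 : ℝ) < (a : ℝ) ^ 2 * ε by positivity)).1 hq
        nlinarith
      have key : (hc k 0 (L ^ m) : ℝ) * 2 / (m : ℝ) ^ 2 ≤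
          ((m : ℝ) * m * ((q : ℝ) * q * dot k P P + q * (ε * ((a : ℝ) ^ 2 * q))) + 2 * |(B₁ : ℝ)| * m) / ((a : ℝ) ^ 2 * q ^ 2 * (m : ℝ) ^ 2) := by
        rw [div_le_div_iff₀ (by positivity) (by positivity)]
        have h2 : (m : ℝ) * m * (q * E) ≤ (m : ℝ) * m * (q * (ε * ((a : ℝ) ^ 2 * q))) :=
          mul_le_mul_of_nonneg_left (mul_le_mul_of_nonneg_left hq' hq0.le) (by positivity)
        nlinarith [mul_le_mul_of_nonneg_right (show 2 * (a : ℝ) * a * q * q * hc k 0 (L ^ m) ≤ (m : ℝ) * m * ((q : ℝ) * q * dot k P P + q * (ε * ((a : ℝ) ^ 2 * q))) + 2 * |(B₁ : ℝ)| * m by linarith) (sq_nonneg (m : ℝ))]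
      refine key.trans (le_of_eq ?_)
      field_simp
  have h2 : Tendsto (fun m : ℕ => (hc k 2 (L ^ m) : ℝ) * 2 / (m : ℝ) ^ 2) atTop (𝓝 0) := by
    refine tendsto_of_bounds _ _ ⟨0, fun m hm => ?_⟩ fun ε hε => ⟨2 * (T : ℝ), fun m hm => ?_⟩
    · simp only [zero_div, sub_zero]; positivity
    · have hm1 : (1 : ℝ) ≤ m := by exact_mod_cast hm
      have hT' : (hc k 2 (L ^ m) : ℝ) ≤ T := by exact_mod_cast hT m
      have : (hc k 2 (L ^ m) : ℝ) * 2 / (m : ℝ) ^ 2 ≤ 2 * (T : ℝ) / m := by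
        rw [div_le_div_iff₀ (by positivity) (by positivity)]
        have hTm : (T : ℝ) * m ≤ T * (m : ℝ) ^ 2 := by nlinarith [mul_nonneg (Nat.cast_nonneg (α := ℝ) T) (mul_nonneg (zero_le_one.trans hm1) (sub_nonneg.2 hm1))]
        nlinarith [mul_le_mul_of_nonneg_right hT' (zero_le_one.trans hm1)]
      linarith
  refine ⟨h0, ?_, h2⟩
  obtain ⟨W, hW⟩ := exists_canonical k hdim
  obtain ⟨l, c, hchi⟩ := chi_mul_pow k hdim hW 1 L
  have hLL : (a : ℤ) * a * dot k L L = dot k P P + dot k (divCls k hdim hN b) (divCls k hdim hN b) := by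
    have h : dot k (L ^ a) (L ^ a) = dot k (P * divCls k hdim hN b) (P * divCls k hdim hN b) := by rw [hLa]
    rw [dot_pow_left k hdim, dot_pow_right k hdim, dot_mul_left k hdim, dot_mul_right k hdim, dot_mul_right k hdim,
      dot_comm k P (divCls k hdim hN b), dot_divCls k hdim hN b P,
      Finset.sum_eq_zero fun j _ => by rw [dot_comm, horth j, mul_zero]] at h
    linarith
  have hLL' : ((a : ℝ) ^ 2) * dot k L L = (dot k P P : ℝ) + dot k (divCls k hdim hN b) (divCls k hdim hN b) := by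
    rw [pow_two]; exact_mod_cast hLL
  have heq : ∀ m : ℕ, 1 ≤ m → (hc k 1 (L ^ m) : ℝ) * 2 / (m : ℝ) ^ 2 = (hc k 0 (L ^ m) : ℝ) * 2 / (m : ℝ) ^ 2 +
      (hc k 2 (L ^ m) : ℝ) * 2 / (m : ℝ) ^ 2 - ((dot k L L : ℝ) + ((l : ℝ) / m + (c : ℝ) / m / m)) := by
    intro m hm
    have h3 := hchi m
    rw [one_mul, chi_eq_three k hdim] at h3
    have h3' : (2 : ℝ) * ((hc k 0 (L ^ m) : ℝ) - hc k 1 (L ^ m) + hc k 2 (L ^ m)) =
        (m : ℝ) * m * dot k L L + m * l + c := by exact_mod_cast h3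
    have hm0 : (m : ℝ) ≠ 0 := by exact_mod_cast (by omega : m ≠ 0)
    field_simp
    linarith
  have ht : Tendsto (fun m : ℕ => (dot k L L : ℝ) + ((l : ℝ) / m + (c : ℝ) / m / m)) atTop (𝓝 (dot k L L : ℝ)) := by
    have h1 := (tendsto_const_div_atTop_nhds_zero_nat (l : ℝ))
    have h2 := (tendsto_const_div_atTop_nhds_zero_nat (c : ℝ)).mul (tendsto_inv_atTop_nhds_zero_nat (𝕜 := ℝ))
    simpa [div_eq_mul_inv] using (h1.add h2).const_add (dot k L L : ℝ)
  have hfin := (h0.add h2).sub ht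
  have hval : (dot k P P : ℝ) / (a : ℝ) ^ 2 + 0 - (dot k L L : ℝ) =
      -(dot k (divCls k hdim hN b) (divCls k hdim hN b) : ℝ) / (a : ℝ) ^ 2 := by
    field_simp; linarith
  rw [hval] at hfin
  exact hfin.congr' (eventually_atTop.2 ⟨1, fun m hm => (heq m hm).symm⟩)

end Groth.Agent.H28RR.ZariskiVol
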