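import Groth.Agent.H28RR.DegOneMap
import Groth.Agent.H28RR.ZariskiVol
import Groth.Agent.H26Smooth.ProjSmooth
import Groth.Agent.H22Alg.MumfordQuot
import Groth.Agent.H11Ample.ToPn
import Groth.Agent.H28RR.LazMukEval

/-! # Surfaces fibred over the projective line by projective lines, with a section -/

set_option autoImplicit false
set_option linter.style.haveILetI false
set_option linter.unusedSectionVars false
set_option backward.isDefEq.respectTransparency.types false

universe u

open CategoryTheory CategoryTheory.Limits AlgebraicGeometry TopologicalSpace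
open Groth.Agent Groth.Agent.H28RR.PicNum Groth.Agent.H28RR.ZariskiVol
open Groth.Agent.H28Surf hiding dot dot_mul_left dot_mul_right dot_pow_left

noncomputable section

namespace Groth.Agent.H28RR.Ruled

attribute [local instance] H28Vert.picLaw

variable (k : Type u) [Field k] [IsAlgClosed k]
variable {X : Scheme.{u}} [X.Over (Spec (CommRingCat.of k))] [IsProper (X ↘ Spec (CommRingCat.of k))]
  [Smooth (X ↘ Spec (CommRingCat.of k))] [IsIntegral X]

local notation "P¹" => CohB1.ProjSpace 1 k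

/-- The classes of a family of twists are the powers of the first. -/
theorem cls_family {Y : Scheme.{u}} {O : ℤ → Y.Modules} (h : H10Coh.Stab.IsTwistFamily O) (d : ℤ) :
    PicGrp.cls (O d) (h.inv d) = PicGrp.cls (O 1) (h.inv 1) ^ d := by
  have hadd : ∀ a b, PicGrp.cls (O (a + b)) (h.inv (a + b)) = PicGrp.cls (O a) (h.inv a) * PicGrp.cls (O b) (h.inv b) :=
    fun a b => Subtype.ext ((PicGrp.cls_mul_cls_val (h.inv a) (h.inv b)).trans
      ((PicGrp.cl_eq_cl_iff _ _).2 (h.add a b))).symm
  have h0 : PicGrp.cls (O 0) (h.inv 0) = 1 := (PicGrp.cls_eq_one_iff _).2 h.zero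
  induction d using Int.induction_on with
  | zero => rw [h0, zpow_zero]
  | succ m ih => rw [hadd, ih, zpow_add_one]
  | pred m ih =>
    have := hadd (-(m : ℤ) - 1) 1
    simp only [sub_add_cancel] at this
    rw [zpow_sub_one, ← ih, eq_mul_inv_iff_mul_eq, ← this]

theorem isProper_line :
    letI := H29RR.PnPic.overSpec 1 k
    IsProper (P¹ ↘ Spec (CommRingCat.of k)) := H27Weil.isProper_toSpec 1 k

theorem smooth_line' :
    letI := H29RR.PnPic.overSpec 1 k
    Smooth (P¹ ↘ Spec (CommRingCat.of k)) := H26Smooth.smooth_toSpec 1 k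

omit [IsAlgClosed k] [Smooth (X ↘ Spec (CommRingCat.of k))] [IsIntegral X] in
theorem isProper_sub (C : X.IdealSheafData) : IsProper (C.subschemeι ≫ (X ↘ Spec (CommRingCat.of k))) :=
  MorphismProperty.comp_mem @IsProper _ _ (inferInstance : IsProper C.subschemeι) ‹_›

variable (π : X ⟶ CohB1.ProjSpace 1 k)

theorem isInvertible_pull (d : ℤ) :
    PicF.IsInvertible ((Scheme.Modules.pullback π).obj (Twist.twistProjSpace 1 k d)) :=
  H11Ample.isInvertible_pullback π ((H10Coh.Stab.isTwistFamily_projSpace 1 k).inv d)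

/-- The class of a fibre. -/
def fc : PicLoc.PicSet X := PicGrp.cls ((Scheme.Modules.pullback π).obj (Twist.twistProjSpace 1 k 1)) (isInvertible_pull k π 1)

theorem cls_pull (d : ℤ) :
    PicGrp.cls ((Scheme.Modules.pullback π).obj (Twist.twistProjSpace 1 k d)) (isInvertible_pull k π d) = fc k π ^ d :=
  cls_family ((H10Coh.Stab.isTwistFamily_projSpace 1 k).pullback π) d

theorem nonempty_rep_fc (d : ℤ) :
    Nonempty (rep (fc k π ^ d) ≅ (Scheme.Modules.pullback π).obj (Twist.twistProjSpace 1 k d)) := by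
  rw [← cls_pull k π d]
  exact nonempty_rep_iso _

variable (hdim : topologicalKrullDim X = 2) (hπ : π ≫ CohB1.ProjSpace.toSpec 1 k = X ↘ Spec (CommRingCat.of k))
  (hsurj : Function.Surjective π)
  (hfib : ∀ y : CohB1.ProjSpace 1 k, IsClosed ({y} : Set (CohB1.ProjSpace 1 k)) →
      Nonempty (pullback π ((CohB1.ProjSpace 1 k).fromSpecResidueField y) ≅ CohB1.ProjSpace 1 k))

include hdim hπ hsurj hfib

/-- Cohomology of the pullbacks of twists. -/
theorem hc_fc (i : ℕ) (d : ℤ) :
    letI := H29RR.PnPic.overSpec 1 k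
    hc k i (fc k π ^ d) = Module.finrank k (Coh.HH P¹ (Twist.twistProjSpace 1 k d) i) := by
  letI := H29RR.PnPic.overSpec 1 k
  haveI := isProper_line k
  haveI := smooth_line' k
  obtain ⟨hint, -, hPd⟩ := H28Curve.projLine_facts k
  haveI := hint
  haveI : Surjective π := ⟨hsurj⟩
  haveI := H10Coh.enoughInjMod X
  haveI := H28Int.isNoetherian k (X := CohB1.ProjSpace 1 k)
  let M := Twist.twistProjSpace 1 k d
  have hM : PicF.IsInvertible M := (H10Coh.Stab.isTwistFamily_projSpace 1 k).inv d
  let G := (Scheme.Modules.pullback π).obj M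
  have hG : PicF.IsInvertible G := H11Ample.isInvertible_pullback π hM
  have happ := app_bijective k π hdim hPd hπ hfib
  haveI := H28Pinch.isIso_unit_of_isFinLocFree π happ M (H28Pinch.isFinLocFree_of_isInvertible hM)
  let e : M ≅ (Coh.push π).obj G := asIso ((Scheme.Modules.pullbackPushforwardAdjunction π).unit.app M)
  have hdeg : ∀ (y : CohB1.ProjSpace 1 k) (hy : IsClosed ({y} : Set (CohB1.ProjSpace 1 k))),
      FGA.intNum k X 2 ![G, ClSub.idealMod ((Scheme.IdealSheafData.vanishingIdeal ⟨{y}, hy⟩).comap π)]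
        (Coh.structureModule X) ≤ 0 := by
    intro y hy
    have hpt : BlowUp.IsEffCartierIdeal (Scheme.IdealSheafData.vanishingIdeal ⟨{y}, hy⟩) :=
      H28RR.isEffCartier_point k hPd hy
    have hF : BlowUp.IsEffCartierIdeal ((Scheme.IdealSheafData.vanishingIdeal ⟨{y}, hy⟩).comap π) :=
      H28RR.ker_fiberι π hy ▸ H28RR.isEffCartier_fibre k hPd π hy
    have hFi := H29Blow.isInvertible_of_isEffCartierIdeal _ hF
    obtain ⟨φ⟩ := hfib y hy
    haveI : IsIntegral (π.fiber y) :=
      haveI : Nonempty (π.fiber y) := ⟨φ.inv (Classical.arbitrary _)⟩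
      isIntegral_of_isOpenImmersion φ.hom
    haveI : IsClosedImmersion ((CohB1.ProjSpace 1 k).fromSpecResidueField y) :=
      isClosed_singleton_iff_isClosedImmersion.mp hy
    haveI : IsClosedImmersion (π.fiberι y) :=
      inferInstanceAs (IsClosedImmersion (pullback.fst π ((CohB1.ProjSpace 1 k).fromSpecResidueField y)))
    letI : (π.fiber y).Over (Spec (CommRingCat.of k)) := ⟨π.fiberι y ≫ (X ↘ Spec (CommRingCat.of k))⟩
    haveI : IsProper ((π.fiber y) ↘ Spec (CommRingCat.of k)) :=
      inferInstanceAs (IsProper (π.fiberι y ≫ (X ↘ Spec (CommRingCat.of k))))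
    have hdimF : topologicalKrullDim ↥(π.fiber y) = 1 :=
      (IsHomeomorph.topologicalKrullDim_eq _ (Scheme.homeoOfIso φ).isHomeomorph).trans hPd
    have hker := H28RR.ker_fiberι π hy
    obtain ⟨L', hL', ⟨eL⟩⟩ := H11Sym.exists_inverse hG
    have eL' : CohB1.tensorMod G L' ≅ Coh.structureModule X := H10Coh.Tw.commIso G L' ≪≫ eL
    have hIi : PicF.IsInvertible (ClSub.idealMod (π.fiberι y).ker) := by rw [hker]; exact hFi
    have h := H28Int.intNum_curve k hdim (π.fiberι y) rfl hIi hdimF hG hL' eL'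
    rw [intNum_eq_pr k hdim hIi hL', pr_symm k, pr_inv_left k hdim hG hL' hIi eL',
      ← intNum_eq_pr k hdim hG hIi, hker] at h
    have hconst : ∀ z, (π.fiberι y ≫ π) z = y := fun z => by
      have hz : π.fiberι y z ∈ Set.range (π.fiberι y) := ⟨z, rfl⟩
      rw [Scheme.Hom.range_fiberι] at hz
      exact hz
    have h0 : H28Int.D k [(Scheme.Modules.pullback (π.fiberι y ≫ π)).obj M]
        (Coh.structureModule (π.fiber y)) = 0 :=
      H28Int.Curves.D_pullback_const k (π.fiberι y ≫ π) (x := y) hconst hM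
    have h2 : Curv2.euler k _ ((Scheme.Modules.pullback (π.fiberι y)).obj G) =
        Curv2.euler k _ ((Scheme.Modules.pullback (π.fiberι y ≫ π)).obj M) :=
      H25Euler.euler_congr (k := k) ((Scheme.Modules.pullbackComp (π.fiberι y) π).app M)
    have h3 : Curv2.euler k (π.fiber y) (Coh.structureModule (π.fiber y)) - Curv2.euler k (π.fiber y)
        (CohB1.tensorMod ((Scheme.Modules.pullback (π.fiberι y ≫ π)).obj M)
          (Coh.structureModule (π.fiber y))) = 0 := h0
    rw [H25Euler.euler_congr (H10Coh.Tw.rightUnitIso _)] at h3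
    rw [Curv2.deg, Nat.cast_one, one_mul] at h
    omega
  have hR := fun p hp => isZero_rpush k π hdim hPd hπ hfib hG hdeg p hp
  obtain ⟨E⟩ := nonempty_push_equiv k π hπ G hR i
  rw [← cls_pull k π d, hc_cls k i hG, E.finrank_eq]
  exact ((H29RR.hhIso (k := k) e i).finrank_eq).symm

/-- The first cohomology of the non-negative multiples of a fibre vanishes. -/
theorem hc_one_fc {d : ℤ} (hd : -1 ≤ d) : hc k 1 (fc k π ^ d) = 0 := by
  letI := H29RR.PnPic.overSpec 1 k
  rw [hc_fc k π hdim hπ hsurj hfib 1 d]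
  haveI : Subsingleton (Coh.HH (CohB1.ProjSpace 1 k) (Twist.twistProjSpace 1 k d) 1) := by
    rw [H17.PnExt.od_eq]
    exact H10Coh.Pn.subsingleton_HH_Od 1 (by omega) (by omega)
  exact Module.finrank_zero_of_subsingleton

/-- The negative multiples of a fibre have no sections. -/
theorem hc_zero_fc {d : ℤ} (hd : d < 0) : hc k 0 (fc k π ^ d) = 0 := by
  letI := H29RR.PnPic.overSpec 1 k
  rw [hc_fc k π hdim hπ hsurj hfib 0 d]
  haveI : Subsingleton (Coh.HH (CohB1.ProjSpace 1 k) (Twist.twistProjSpace 1 k d) 0) := by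
    rw [H17.PnExt.od_eq]
    exact H10Coh.Pn.subsingleton_HH_Od 0 (by omega) (by omega)
  exact Module.finrank_zero_of_subsingleton

omit hπ hfib hsurj hdim in
/-- Non-negative multiples of a fibre are generated. -/
theorem spansAt_fc (d : ℕ) (x : X) : H29RR.SpansAt (rep (fc k π ^ (d : ℤ))) x := by
  have h1 : ∀ y : CohB1.ProjSpace 1 k, H29RR.SpansAt (Twist.twistProjSpace 1 k 1) y := fun y => by
    obtain ⟨i, hi⟩ := H11Ample.exists_mem_basicOpen_X (n := 1) (R := k) y
    exact spansAt_of_gen H11Ample.isInvertible_twist (g := ProjUP.coord 1 k i)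
      (by rw [H11Ample.gen_coord]; exact hi)
  induction d with
  | zero =>
    obtain ⟨e⟩ := nonempty_rep_one (X := X)
    rw [Nat.cast_zero, zpow_zero]
    exact H29RR.spansAt_of_surjective e.inv (H29RR.spansAt_structureModule x) (H06Mod.surjective_stalk_of_epi e.inv x)
  | succ d ih =>
    obtain ⟨e⟩ := nonempty_rep_mul (fc k π ^ (d : ℤ)) (fc k π)
    obtain ⟨e'⟩ := nonempty_rep_fc k π 1
    rw [zpow_one] at e'
    rw [Nat.cast_succ, zpow_add_one]
    refine H29RR.spansAt_of_surjective e.inv (spansAt_tensor (rep_inv _) (rep_inv _) ih ?_)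
      (H06Mod.surjective_stalk_of_epi e.inv x)
    exact H29RR.spansAt_of_surjective e'.inv (H29RR.spansAt_of_globallyGenerated
      (H22Alg.MumfordQuot.isGloballyGenerated_pullback π (H10Inj.GGOn.isGloballyGenerated_of_spansAt _ h1)) x)
      (H06Mod.surjective_stalk_of_epi e'.inv x)

omit hπ hfib hsurj in
/-- Generated classes have non-negative degree on curves. -/
theorem dot_nonneg_of_spans {C : X.IdealSheafData} (hC : IsCurve C) {c : PicLoc.PicSet X}
    (hc : ∀ x, H29RR.SpansAt (rep c) x) : 0 ≤ dot k c (curveCls k hdim hC) := by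
  rw [← degOn_eq_dot k hdim hC, degOn_eq_deg k hC (rep_inv c)]
  letI : C.subscheme.Over (Spec (CommRingCat.of k)) := ⟨C.subschemeι ≫ (X ↘ Spec (CommRingCat.of k))⟩
  haveI : IsProper (C.subscheme ↘ Spec (CommRingCat.of k)) :=
    isProper_sub k C
  haveI := hC.int
  set L := (Scheme.Modules.pullback C.subschemeι).obj (rep c)
  have hL : PicF.IsInvertible L := H11Ample.isInvertible_pullback _ (rep_inv c)
  obtain ⟨g, hg⟩ := exists_gen_of_spansAt hL (H29RR.spansAt_of_globallyGenerated
    (H22Alg.MumfordQuot.isGloballyGenerated_pullback C.subschemeι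
      (H10Inj.GGOn.isGloballyGenerated_of_spansAt (rep c) hc)) (genericPoint C.subscheme))
  refine (H29RR.deg_nonneg_of_hom (k := k) ((dim_subscheme C).trans hC.dim).le hL
    (s := H11Tilde.homOfGlobal L g) fun h0 => ?_).1
  have hz : g = 0 := by
    have h := congrArg (fun φ : Coh.structureModule C.subscheme ⟶ L => φ.app ⊤ (1 : Γ(C.subscheme, ⊤))) h0
    simpa [H11Tilde.homOfGlobal_app] using h
  have hb := ((H11Ample.mem_gen_iff hL g _).1 hg).1
  refine one_ne_zero (α := C.subscheme.presheaf.stalk (genericPoint C.subscheme)) (hb ?_)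
  simp only [hz, map_zero, smul_zero]

section sec

variable {σ : X.IdealSheafData} (hσ : IsCurve σ) (hσf : dot k (fc k π) (curveCls k hdim hσ) = 1)

include hσ hσf

omit hfib in
/-- The curve of degree one over the line is a line. -/
theorem exists_iso_sec : ∃ e : σ.subscheme ≅ P¹,
    e.hom ≫ CohB1.ProjSpace.toSpec 1 k = σ.subschemeι ≫ (X ↘ Spec (CommRingCat.of k)) := by
  letI := H29RR.PnPic.overSpec 1 k
  haveI := isProper_line k
  haveI := smooth_line' k
  obtain ⟨hint, -, hPd⟩ := H28Curve.projLine_facts k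
  haveI := hint
  letI : σ.subscheme.Over (Spec (CommRingCat.of k)) := ⟨σ.subschemeι ≫ (X ↘ Spec (CommRingCat.of k))⟩
  haveI : IsProper (σ.subscheme ↘ Spec (CommRingCat.of k)) :=
    isProper_sub k σ
  haveI := hσ.int
  haveI := H28Int.isNoetherian k (X := σ.subscheme)
  let f : σ.subscheme ⟶ CohB1.ProjSpace 1 k := σ.subschemeι ≫ π
  have hf : f ≫ (CohB1.ProjSpace 1 k ↘ Spec (CommRingCat.of k)) = σ.subscheme ↘ Spec (CommRingCat.of k) := by
    show (σ.subschemeι ≫ π) ≫ CohB1.ProjSpace.toSpec 1 k = _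
    rw [Category.assoc, hπ]
    rfl
  haveI : IsProper f := by
    haveI : IsProper (f ≫ (CohB1.ProjSpace 1 k ↘ Spec (CommRingCat.of k))) := by rw [hf]; infer_instance
    exact IsProper.of_comp f (CohB1.ProjSpace 1 k ↘ Spec (CommRingCat.of k))
  let M := Twist.twistProjSpace 1 k 1
  have hM : PicF.IsInvertible M := (H10Coh.Stab.isTwistFamily_projSpace 1 k).inv 1
  have hd : Curv2.deg k σ.subscheme ((Scheme.Modules.pullback f).obj M) 1 = 1 := by
    obtain ⟨e⟩ := nonempty_rep_fc k π 1
    rw [zpow_one] at e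
    rw [← hσf, ← degOn_eq_dot k hdim hσ, degOn_eq_deg k hσ (rep_inv _)]
    exact H29RR.deg_congr (k := k) (((Scheme.Modules.pullbackComp σ.subschemeι π).app M).symm ≪≫
      (Scheme.Modules.pullback σ.subschemeι).mapIso e.symm)
  have hdimσ : topologicalKrullDim ↥σ.subscheme = 1 := (dim_subscheme σ).trans hσ.dim
  have hnc : ∃ a b : σ.subscheme, f a ≠ f b := by
    by_contra hc
    push Not at hc
    have hconst : ∀ z, f z = f (genericPoint σ.subscheme) := fun z => hc _ _
    have h0 := H28Int.Curves.D_pullback_const k f (x := f (genericPoint σ.subscheme)) hconst hM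
    have h3 : Curv2.euler k σ.subscheme (Coh.structureModule σ.subscheme) - Curv2.euler k σ.subscheme
        (CohB1.tensorMod ((Scheme.Modules.pullback f).obj M) (Coh.structureModule σ.subscheme)) = 0 := h0
    rw [H25Euler.euler_congr (H10Coh.Tw.rightUnitIso _)] at h3
    rw [Curv2.deg, Nat.cast_one, one_mul] at hd
    omega
  haveI := H29DoubleCover.isFinite_of_dominant hdimσ.le f hnc
  haveI : Surjective f := by
    have hη := H29DoubleCover.apply_genericPoint hPd.le f hnc
    refine ⟨fun y => ?_⟩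
    have h1 : closure ({genericPoint (CohB1.ProjSpace 1 k)} : Set (CohB1.ProjSpace 1 k)) ⊆ Set.range f :=
      closure_minimal (by rw [Set.singleton_subset_iff]; exact ⟨_, hη⟩) f.isClosedMap.isClosed_range
    exact h1 (by rw [(genericPoint_spec (CohB1.ProjSpace 1 k)).def]; trivial)
  haveI := isIso_of_deg_one k hPd f hf hM (H29DoubleCover.deg_twist_one (k := k)) hd
  exact ⟨asIso f, hf⟩

/-- Adding the section to enough fibres gives a generated class. -/
theorem spansAt_sec {n : ℕ} (hσσ : dot k (curveCls k hdim hσ) (curveCls k hdim hσ) = -(n : ℤ)) (x : X) :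
    H29RR.SpansAt (rep (fc k π ^ (n : ℤ) * curveCls k hdim hσ)) x := by
  haveI := H28Int.isNoetherian k (X := X)
  have hI := isInvertible_ideal k (isEffCartier_curve k hdim hσ)
  set δ := curveCls k hdim hσ with hδ
  set c := fc k π ^ (n : ℤ) with hc
  obtain ⟨S, hS, e₁, e₂, e₃⟩ := exists_restrict_seq k σ (rep_inv (c * δ))
  obtain ⟨ψ₁⟩ : Nonempty (S.X₁ ≅ rep c) := by
    rw [e₁]
    refine (PicGrp.cls_eq_cls_iff (H11Ample.isInvertible_tensor hI (rep_inv (c * δ))) (rep_inv c)).1 ?_
    rw [cls_rep, show PicGrp.cls (CohB1.tensorMod (ClSub.idealMod σ) (rep (c * δ))) _ = PicGrp.cls (ClSub.idealMod σ) hI * PicGrp.cls (rep (c * δ)) (rep_inv _) from Subtype.ext (PicGrp.cls_mul_cls_val hI (rep_inv (c * δ))).symm, cls_rep, hδ, curveCls, mul_comm c, ← mul_assoc,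
      mul_inv_cancel, one_mul]
  have h1 : Subsingleton (Coh.HH X S.X₁ 1) := by
    haveI := H10Coh.finite_HH_proper k X _ (H11Ample.isCoh_of_isInvertible (rep_inv c)) 1
    haveI : Subsingleton (Coh.HH X (rep c) 1) :=
      (Module.finrank_zero_iff (R := k)).1 (hc_one_fc k π hdim hπ hsurj hfib (d := (n : ℤ)) (by omega))
    exact (H29RR.hhIso (k := k) ψ₁ 1).toEquiv.subsingleton
  have hsur : Function.Surjective (Canon.HHlin k S.g 0) :=
    H22Alg.NakaiGen.hhlin_g_surjective k hS 0 (fun a b _ => h1.elim a b)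
  have hg : Function.Surjective (S.g.app ⊤) := LazMuk.app_surjective S.g hsur
  have hs1 : H29RR.SpansAt S.X₁ x :=
    H29RR.spansAt_of_surjective ψ₁.inv (spansAt_fc k π n x) (H06Mod.surjective_stalk_of_epi ψ₁.inv x)
  have hs3 : H29RR.SpansAt S.X₃ x := by
    rw [e₃]
    obtain ⟨φ⟩ := nonempty_quot_tensor_iso k σ (rep_inv (c * δ))
    haveI := hσ.int
    obtain ⟨e, he⟩ := exists_iso_sec k π hdim hπ hsurj hσ hσf
    letI : σ.subscheme.Over (Spec (CommRingCat.of k)) := ⟨σ.subschemeι ≫ (X ↘ Spec (CommRingCat.of k))⟩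
    haveI : IsProper (σ.subscheme ↘ Spec (CommRingCat.of k)) :=
      isProper_sub k σ
    have hg0 : Curv2.genus k σ.subscheme = 0 := by
      letI := H29RR.PnPic.overSpec 1 k
      rw [H29DoubleCover.genus_congr e he]
      exact H29DoubleCover.genus_projLine k
    let P := (Scheme.Modules.pullback σ.subschemeι).obj (rep (c * δ))
    have hP : PicF.IsInvertible P := H11Ample.isInvertible_pullback _ (rep_inv _)
    have hdP : Curv2.deg k σ.subscheme P 1 = 0 := by
      rw [← degOn_eq_deg k hσ (rep_inv _), degOn_eq_dot k hdim hσ, ← hδ, dot_mul_left k hdim, hσσ, hc,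
        zpow_natCast, PicNum.dot_pow_left k hdim, hσf, mul_one, add_neg_cancel]
    have hdimσ : topologicalKrullDim ↥σ.subscheme ≤ 1 := ((dim_subscheme σ).trans hσ.dim).le
    obtain ⟨hnt, -, -⟩ := H29RR.genus_zero_h0 (k := k) hdimσ (H29RR.finrank_h0_structure k σ.subscheme) hg0 hP
      hdP.ge
    obtain ⟨g, hg⟩ := H29RR.exists_global_ne_zero P hnt
    have hne : H11Tilde.homOfGlobal P g ≠ 0 := fun h0 => hg (by
      have h := congrArg (fun φ : Coh.structureModule σ.subscheme ⟶ P => φ.app ⊤ (1 : Γ(σ.subscheme, ⊤))) h0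
      simpa [H11Tilde.homOfGlobal_app] using h)
    haveI := (H29RR.deg_nonneg_of_hom (k := k) hdimσ hP hne).2 hdP.le
    refine H29RR.spansAt_of_surjective φ.inv
      (LazMuk.spansAt_push σ.subschemeι (fun z => ?_) x) (H06Mod.surjective_stalk_of_epi φ.inv x)
    exact H29RR.spansAt_of_surjective (H11Tilde.homOfGlobal P g) (H29RR.spansAt_structureModule z)
      (H06Mod.surjective_stalk_of_epi _ z)
  have hs2 : H29RR.SpansAt S.X₂ x := by
    rw [H29RR.SpansAt, eq_top_iff]
    rintro v -
    let W := Submodule.span (X.presheaf.stalk x)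
      (Set.range fun g : Γ(S.X₂, ⊤) => S.X₂.presheaf.germ ⊤ x trivial g)
    have hW : Submodule.map (H06Mod.stalkLin S.g x) W = ⊤ := by
      rw [eq_top_iff, ← hs3, Submodule.span_le]
      rintro _ ⟨g, rfl⟩
      obtain ⟨g', rfl⟩ := hg g
      exact ⟨_, Submodule.subset_span ⟨g', rfl⟩, H29RR.germ_app S.g x g'⟩
    obtain ⟨w, hw, hwv⟩ : H06Mod.stalkLin S.g x v ∈ Submodule.map (H06Mod.stalkLin S.g x) W := hW ▸ Submodule.mem_top
    obtain ⟨u, hu⟩ := (H06Mod.stalk_exact S hS x (v - w)).1 (by rw [map_sub, hwv, sub_self])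
    have huW : H06Mod.stalkLin S.f x u ∈ W := by
      have hu' : u ∈ Submodule.span (X.presheaf.stalk x)
          (Set.range fun g : Γ(S.X₁, ⊤) => S.X₁.presheaf.germ ⊤ x trivial g) := hs1.symm ▸ Submodule.mem_top
      have h2 : Submodule.span (X.presheaf.stalk x)
          (Set.range fun g : Γ(S.X₁, ⊤) => S.X₁.presheaf.germ ⊤ x trivial g) ≤
          Submodule.comap (H06Mod.stalkLin S.f x) W := by
        rw [Submodule.span_le]
        rintro _ ⟨g, rfl⟩
        exact Submodule.subset_span ⟨_, (H29RR.germ_app S.f x g).symm⟩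
      exact h2 hu'
    rw [hu] at huW
    have := add_mem huW hw
    rwa [sub_add_cancel] at this
  obtain ⟨ψ₂⟩ : Nonempty (S.X₂ ≅ rep (c * δ)) := by rw [e₂]; exact ⟨H10Coh.Tw.leftUnitIso _⟩
  exact H29RR.spansAt_of_surjective ψ₂.hom hs2 (H06Mod.surjective_stalk_of_epi ψ₂.hom x)

end sec

end Groth.Agent.H28RR.Ruled
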