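import Groth.Agent.H28RR.RuledSlice
import Groth.Agent.H10Coh.BaseChange.Acyclic
import Groth.Agent.LeadBC.GenBC.Glob
import Groth.Agent.LeadBC.GenBC.PullEquiv
import Groth.Agent.H22Alg.PB.Transfer
import Groth.Agent.H10Coh.FinType2

/-! # Direct images from a fibred surface with fibres the projective line -/

set_option autoImplicit false
set_option linter.style.haveILetI false
set_option linter.unusedSectionVars false
set_option backward.isDefEq.respectTransparency.types false

universe u

open CategoryTheory CategoryTheory.Limits AlgebraicGeometry TopologicalSpace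

noncomputable section

namespace Groth.Agent.H28RR.Ruled

/-- A closed point in the closure of a point. -/
theorem exists_closed_specialization {C : Scheme.{u}} [JacobsonSpace C] (y : C) :
    ∃ z : C, IsClosed ({z} : Set C) ∧ y ⤳ z := by
  have h : (closure ({y} : Set C) ∩ closedPoints C).Nonempty :=
    nonempty_inter_closedPoints ⟨y, subset_closure rfl⟩ isClosed_closure.isLocallyClosed
  obtain ⟨z, hzy, hz⟩ := h
  exact ⟨z, mem_closedPoints_iff.1 hz, specializes_iff_mem_closure.2 hzy⟩

/-- A direct image of the structure sheaf which is invertible is trivial. -/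
theorem app_bijective_of_invertible {X C : Scheme.{u}} (f : X ⟶ C) [Surjective f]
    (h : PicF.IsInvertible ((Coh.push f).obj (Coh.structureModule X))) (U : C.Opens) :
    Function.Bijective (f.app U).hom := by
  let M := (Coh.push f).obj (Coh.structureModule X)
  let one : Γ(M, (⊤ : C.Opens)) := (1 : Γ(X, f ⁻¹ᵁ ⊤))
  have hgen : H11Tilde.IsGen M one := by
    intro y hy
    obtain ⟨V, e, hyV, he⟩ := H29Mero.exists_generator h y
    have he' : H11Tilde.IsGen M e := he
    obtain ⟨c, hc⟩ := (he' y hyV).2 (M.presheaf.germ ⊤ y hy one)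
    obtain ⟨W₀, hyW₀, a₀, rfl⟩ := C.presheaf.exists_germ_eq c
    let W := W₀ ⊓ V
    have hc' : M.presheaf.germ W y ⟨hyW₀, hyV⟩ (C.presheaf.map (homOfLE (inf_le_left : W ≤ W₀)).op a₀ •
          M.presheaf.map (homOfLE (inf_le_right : W ≤ V)).op e) =
        M.presheaf.germ W y ⟨hyW₀, hyV⟩ (M.presheaf.map (homOfLE (le_top : W ≤ ⊤)).op one) := by
      rw [H06Mod.germ_smul, TopCat.Presheaf.germ_res_apply, TopCat.Presheaf.germ_res_apply,
        TopCat.Presheaf.germ_res_apply]
      exact hc
    obtain ⟨T, hyT, i, j, hT⟩ := M.presheaf.germ_eq y _ _ _ _ hc'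
    rw [Subsingleton.elim j i, show i = homOfLE i.le from rfl, Scheme.Modules.map_smul, H10Coh.mres_mres,
      H10Coh.mres_mres, H10Coh.rres_rres] at hT
    have hu : IsUnit (C.presheaf.germ W₀ y hyW₀ a₀) := by
      obtain ⟨x, hx⟩ := f.surjective y
      subst hx
      let eX : Γ(X, f ⁻¹ᵁ T) := M.presheaf.map (homOfLE (i.le.trans inf_le_right)).op e
      have h1 : f.app T (C.presheaf.map (homOfLE (i.le.trans inf_le_left)).op a₀) * eX = 1 :=
        hT.trans (map_one (X.presheaf.map _).hom)
      have h2 : IsUnit (X.presheaf.germ (f ⁻¹ᵁ T) x hyT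
          (f.app T (C.presheaf.map (homOfLE (i.le.trans inf_le_left)).op a₀))) :=
        (IsUnit.of_mul_eq_one _ h1).map _
      rw [← Scheme.Hom.germ_stalkMap_apply f T x hyT] at h2
      have h3 := isUnit_of_map_unit (f.stalkMap x).hom _ h2
      rwa [TopCat.Presheaf.germ_res_apply] at h3
    obtain ⟨v, hv⟩ := hu
    have h2 : Function.Bijective fun r : C.presheaf.stalk y =>
        r • (C.presheaf.germ W₀ y hyW₀ a₀ • M.presheaf.germ V y hyV e) := by
      have : (fun r : C.presheaf.stalk y => r • (C.presheaf.germ W₀ y hyW₀ a₀ • M.presheaf.germ V y hyV e)) =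
          (fun r => r • M.presheaf.germ V y hyV e) ∘ fun r => r * C.presheaf.germ W₀ y hyW₀ a₀ :=
        funext fun r => (mul_smul r _ _).symm
      rw [this, ← hv]
      exact (he' y hyV).comp (Units.mulRight v).bijective
    simp only [] at hc
    rw [hc] at h2
    exact h2
  have hb := hgen.bijective (le_top : U ≤ ⊤)
  have : (fun r : Γ(C, U) => r • M.presheaf.map (homOfLE (le_top : U ≤ ⊤)).op one) = (f.app U).hom := by
    funext r
    let oneU : Γ(X, f ⁻¹ᵁ U) := M.presheaf.map (homOfLE (le_top : U ≤ ⊤)).op one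
    show (f.app U).hom r * oneU = (f.app U).hom r
    exact (congrArg ((f.app U).hom r * ·) (map_one (X.presheaf.map _).hom)).trans (mul_one _)
  rwa [this] at hb

variable (k : Type u) [Field k]

/-- Cohomology of an acyclic module and of its direct image, linearly. -/
theorem nonempty_push_equiv {X C : Scheme.{u}} [X.Over (Spec (CommRingCat.of k))] [C.Over (Spec (CommRingCat.of k))]
    [HasInjectiveResolutions X.Modules] (f : X ⟶ C)
    (hf : f ≫ (C ↘ Spec (CommRingCat.of k)) = X ↘ Spec (CommRingCat.of k)) (G : X.Modules)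
    (hG : ∀ i : ℕ, 0 < i → IsZero ((Coh.Rpush f i).obj G)) (n : ℕ) :
    Nonempty (Coh.HH X G n ≃ₗ[k] Coh.HH C ((Coh.push f).obj G) n) := by
  let E : Coh.HH C ((Coh.push f).obj G) n ≃+ Coh.HH X G n :=
    AddEquiv.ofBijective (CohPull.pushEdge f G n) (H10Coh.bijective_pushEdge f G hG n)
  refine ⟨LinearEquiv.symm { E with map_smul' := fun a x => ?_ }⟩
  show CohPull.pushEdge f G n (a • x) = a • CohPull.pushEdge f G n x
  have hm : (Scheme.Modules.pushforward f).map (Formal.smulMod k G a) =
      Formal.smulMod k ((Scheme.Modules.pushforward f).obj G) a := by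
    refine Scheme.Modules.hom_ext _ _ fun U => ConcreteCategory.hom_ext _ _ fun s => ?_
    let m : Γ(G, f ⁻¹ᵁ U) := s
    let rX : Γ(X, f ⁻¹ᵁ U) := Coh.resTop X (.op (f ⁻¹ᵁ U)) (Coh.toGlobal (X ↘ Spec (CommRingCat.of k)) a)
    let rC : Γ(C, U) := Coh.resTop C (.op U) (Coh.toGlobal (C ↘ Spec (CommRingCat.of k)) a)
    show rX • m = f.app U rC • m
    congr 1
    show Coh.resTop X (.op (f ⁻¹ᵁ U)) (Coh.toGlobal (X ↘ Spec (CommRingCat.of k)) a) = _
    rw [← hf]
    exact (congr($(f.naturality (homOfLE (le_top : U ≤ ⊤)).op) (Coh.toGlobal (C ↘ Spec (CommRingCat.of k)) a))).symm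
  refine Eq.trans ?_ (LeadBC.GenBC.pushEdge_natural (Formal.smulMod k G a) n x)
  rw [hm]
  rfl

variable [IsAlgClosed k]
variable {X : Scheme.{u}} [X.Over (Spec (CommRingCat.of k))] [IsProper (X ↘ Spec (CommRingCat.of k))]
  [Smooth (X ↘ Spec (CommRingCat.of k))] [IsIntegral X]
variable {C : Scheme.{u}} [C.Over (Spec (CommRingCat.of k))] [IsProper (C ↘ Spec (CommRingCat.of k))]
  [Smooth (C ↘ Spec (CommRingCat.of k))] [IsIntegral C]
variable (π : X ⟶ C) [Surjective π] (hdim : topologicalKrullDim X = 2) (hdimC : topologicalKrullDim C = 1)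
  (hπ : π ≫ (C ↘ Spec (CommRingCat.of k)) = X ↘ Spec (CommRingCat.of k))
  (hfib : ∀ y : C, IsClosed ({y} : Set C) → Nonempty (pullback π (C.fromSpecResidueField y) ≅ CohB1.ProjSpace 1 k))

include hdim hdimC hπ hfib

/-- Higher direct images vanish when the degree on the fibres is non-negative. -/
theorem isZero_rpush [HasInjectiveResolutions X.Modules] {L : X.Modules} (hL : PicF.IsInvertible L)
    (hdeg : ∀ (y : C) (hy : IsClosed ({y} : Set C)),
      FGA.intNum k X 2 ![L, ClSub.idealMod ((Scheme.IdealSheafData.vanishingIdeal ⟨{y}, hy⟩).comap π)]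
        (Coh.structureModule X) ≤ 0)
    (p : ℕ) (hp : 0 < p) : IsZero ((Coh.Rpush π p).obj L) := by
  haveI := H28Int.isNoetherian k (X := C)
  haveI := isProper_proj k π hπ
  haveI := flat_proj k π hdimC
  haveI : LocallyOfFinitePresentation π := LocallyOfFinitePresentation.iff_locallyOfFiniteType.2 inferInstance
  haveI : JacobsonSpace C := LocallyOfFiniteType.jacobsonSpace (C ↘ Spec (CommRingCat.of k))
  haveI := H28Int.isNoetherian k (X := X)
  have hLc := H11Ample.isCoh_of_isInvertible hL
  haveI : Coh.IsQCoh L := hLc.1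
  have hfl := H10Coh.SheafHom.isFlatOver_of_isFinLocFree π L (H23Para.isFinLocFree_of_isInvertible hL)
  haveI : L.IsQuasicoherent := hLc.1
  refine LeadBC.GenBC.isZero_of_isZero_restrict _ fun y => ?_
  obtain ⟨z, hz, hyz⟩ := exists_closed_specialization y
  obtain ⟨d, hd⟩ : ∃ d : ℕ, FGA.intNum k X 2 ![L, ClSub.idealMod ((Scheme.IdealSheafData.vanishingIdeal ⟨{z}, hz⟩).comap π)]
      (Coh.structureModule X) = -(d : ℤ) :=
    ⟨(-FGA.intNum k X 2 ![L, ClSub.idealMod ((Scheme.IdealSheafData.vanishingIdeal ⟨{z}, hz⟩).comap π)]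
      (Coh.structureModule X)).toNat, by have := hdeg z hz; omega⟩
  obtain ⟨W, hW, hzW, -, -, h, -⟩ := LeadBC.GenBC.exists_vanishing_nhd π L
    (H10Coh.isFP_of_isCoh L hLc) hfl p ((fibre_facts k π hdim hdimC hπ hfib hz hL d hd).2 p hp)
  exact ⟨W, hyz.mem_open W.2 hzW, h⟩

/-- The direct image is locally free of rank one more than the degree on the fibres. -/
theorem push_rank [HasInjectiveResolutions X.Modules] {L : X.Modules} (hL : PicF.IsInvertible L) (n : ℕ)
    (hdeg : ∀ (y : C) (hy : IsClosed ({y} : Set C)),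
      FGA.intNum k X 2 ![L, ClSub.idealMod ((Scheme.IdealSheafData.vanishingIdeal ⟨{y}, hy⟩).comap π)]
        (Coh.structureModule X) = -(n : ℤ)) :
    FlatMod.IsFinLocFreeOfRank (n + 1) ((Coh.push π).obj L) := by
  haveI := H28Int.isNoetherian k (X := C)
  haveI := isProper_proj k π hπ
  haveI := flat_proj k π hdimC
  haveI : JacobsonSpace C := LocallyOfFiniteType.jacobsonSpace (C ↘ Spec (CommRingCat.of k))
  haveI := H28Int.isNoetherian k (X := X)
  have hfl := H10Coh.SheafHom.isFlatOver_of_isFinLocFree π L (H23Para.isFinLocFree_of_isInvertible hL)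
  obtain ⟨-, hfree⟩ := H10Coh.BaseChange.acyclic π L (H11Ample.isCoh_of_isInvertible hL) hfl
    (isZero_rpush k π hdim hdimC hπ hfib hL fun y hy => by rw [hdeg y hy]; omega)
  intro y
  obtain ⟨z, hz, hyz⟩ := exists_closed_specialization y
  obtain ⟨U, hzU, hU⟩ := hfree z
  refine ⟨U, hyz.mem_open U.2 hzU, ?_⟩
  rwa [(fibre_facts k π hdim hdimC hπ hfib hz hL n (hdeg z hz)).1] at hU

/-- The degree of the structure sheaf on the fibres. -/
theorem intNum_structure_fibre {y : C} (hy : IsClosed ({y} : Set C)) :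
    FGA.intNum k X 2 ![Coh.structureModule X, ClSub.idealMod ((Scheme.IdealSheafData.vanishingIdeal ⟨{y}, hy⟩).comap π)]
      (Coh.structureModule X) = 0 := by
  have hF : BlowUp.IsEffCartierIdeal ((Scheme.IdealSheafData.vanishingIdeal ⟨{y}, hy⟩).comap π) :=
    H28RR.ker_fiberι π hy ▸ H28RR.isEffCartier_fibre k hdimC π hy
  have hFi := H29Blow.isInvertible_of_isEffCartierIdeal _ hF
  rw [H28Surf.intNum_eq_pr k hdim (H28Int.isInvertible_structureModule X) hFi, H28Surf.pr_structure_left k hFi]

/-- The direct image of the structure sheaf is trivial. -/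
theorem app_bijective (U : C.Opens) : Function.Bijective (π.app U).hom := by
  haveI := H10Coh.enoughInjMod X
  refine app_bijective_of_invertible π (H22Alg.PB.isInvertible_of_rank_one
    (push_rank k π hdim hdimC hπ hfib (H28Int.isInvertible_structureModule X) 0 fun y hy => ?_)) U
  rw [intNum_structure_fibre k π hdim hdimC hπ hfib hy]
  rfl

end Groth.Agent.H28RR.Ruled
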