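import Groth.Agent.H28RR.Fibre
import Groth.Agent.H28Int.Divisor
import Groth.Agent.H28Vert.ExcNum
import Groth.Agent.H29DoubleCover.Separable
import Groth.Agent.H29DoubleCover.Pencil
import Groth.Agent.H29RR.Consts
import Groth.Agent.H29Curve.Morphism
import Groth.Agent.LeadBC.Chart
import Groth.Agent.LeadBC.GenBC.Conseq
import Groth.Agent.H12Pic.PicCurve.Good
import Groth.Agent.LeadBC.Grauert

/-! # Slices of a fibred surface with fibres the projective line -/

set_option autoImplicit false
set_option linter.style.haveILetI false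
set_option linter.unusedSectionVars false
set_option backward.isDefEq.respectTransparency.types false

universe u

open CategoryTheory CategoryTheory.Limits AlgebraicGeometry TopologicalSpace

noncomputable section

namespace Groth.Agent.H28RR.Ruled

variable (k : Type u) [Field k] [IsAlgClosed k]
variable {X : Scheme.{u}} [X.Over (Spec (CommRingCat.of k))] [IsProper (X ↘ Spec (CommRingCat.of k))]
  [Smooth (X ↘ Spec (CommRingCat.of k))] [IsIntegral X]
variable {C : Scheme.{u}} [C.Over (Spec (CommRingCat.of k))] [IsProper (C ↘ Spec (CommRingCat.of k))]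
  [Smooth (C ↘ Spec (CommRingCat.of k))] [IsIntegral C]
variable (π : X ⟶ C) [Surjective π]

omit [IsAlgClosed k] in
theorem gen_map : π (genericPoint X) = genericPoint C := by
  obtain ⟨z, hz⟩ := π.surjective (genericPoint C)
  have h1 := (genericPoint_specializes z).map π.continuous
  rw [hz] at h1
  exact (h1.antisymm (genericPoint_specializes _)).eq

include k in
omit [IsAlgClosed k] in
theorem flat_proj (hdimC : topologicalKrullDim C = 1) : Flat π := by
  haveI := H28Int.isNoetherian k (X := C)
  refine H29Curve.flat_of_dominant_normal π (gen_map π) (fun y => ?_) hdimC.le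
  haveI := H19Grp.isRegularLocalRing_stalk_of_smooth (C ↘ Spec (CommRingCat.of k)) y
  haveI : IsDomain (C.presheaf.stalk y) := inferInstance
  haveI := H28Alg.ufd_of_regular (C.presheaf.stalk y)
  exact inferInstance

include k in
omit [IsAlgClosed k] in
theorem isProper_proj (hπ : π ≫ (C ↘ Spec (CommRingCat.of k)) = X ↘ Spec (CommRingCat.of k)) : IsProper π := by
  haveI : IsProper (π ≫ (C ↘ Spec (CommRingCat.of k))) := by rw [hπ]; infer_instance
  exact IsProper.of_comp π (C ↘ Spec (CommRingCat.of k))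

/-- Every closed point is a rational point. -/
theorem exists_point {y : C} (hy : IsClosed ({y} : Set C)) :
    ∃ t : Spec (CommRingCat.of k) ⟶ C, t ≫ (C ↘ Spec (CommRingCat.of k)) = 𝟙 _ ∧
      (∀ s, t s = y) ∧ IsClosedImmersion t ∧
      t.ker = Scheme.IdealSheafData.vanishingIdeal ⟨{y}, hy⟩ ∧
      ∃ θ : Spec (CommRingCat.of k) ⟶ Spec (C.residueField y), IsIso θ ∧ θ ≫ C.fromSpecResidueField y = t := by
  let f := C ↘ Spec (CommRingCat.of k)
  let p := (pointEquivClosedPoint f).symm ⟨y, mem_closedPoints_iff.2 hy⟩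
  have hp : ∀ s, p.1 s = y := fun s => by
    rw [Subsingleton.elim (α := PrimeSpectrum k) s (IsLocalRing.closedPoint k)]
    exact pointOfClosedPoint_apply f y hy _
  have hci : IsClosedImmersion p.1 := by
    haveI : IsClosedImmersion (p.1 ≫ f) := by rw [p.2]; infer_instance
    exact IsClosedImmersion.of_comp p.1 f
  refine ⟨p.1, p.2, hp, hci, ?_, ?_⟩
  · refine (H17.ker_eq_vanishingIdeal p.1).trans ?_
    congr 1
    refine Closeds.ext ?_
    show closure (Set.range p.1) = {y}
    have : Set.range p.1 = {y} := Set.eq_singleton_iff_unique_mem.2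
      ⟨⟨IsLocalRing.closedPoint k, hp _⟩, by rintro _ ⟨s, rfl⟩; exact hp s⟩
    rw [this, hy.closure_eq]
  · obtain ⟨⟨z, φ⟩, hzφ⟩ := (Scheme.SpecToEquivOfField k C).symm.surjective p.1
    have hz : z = y := by
      rw [← hp (IsLocalRing.closedPoint k), ← hzφ]
      exact (Scheme.fromSpecResidueField_apply z _).symm
    subst hz
    have hθ : Spec.map φ ≫ C.fromSpecResidueField z = p.1 := hzφ
    refine ⟨Spec.map φ, ?_, hθ⟩
    have hsplit : Spec.map φ ≫ (C.fromSpecResidueField z ≫ f) = 𝟙 _ := by rw [← Category.assoc, hθ]; exact p.2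
    obtain ⟨ψ, hψ⟩ : ∃ ψ, Spec.map ψ = C.fromSpecResidueField z ≫ f := ⟨_, Spec.map_preimage _⟩
    rw [← hψ, ← Spec.map_comp, ← Spec.map_id] at hsplit
    have h2 : ψ ≫ φ = 𝟙 _ := Spec.map_injective hsplit
    haveI : IsIso φ := by
      refine (ConcreteCategory.isIso_iff_bijective _).2 ⟨φ.hom.injective, fun a => ⟨ψ a, ?_⟩⟩
      exact congr($h2 a)
    infer_instance

variable (hdim : topologicalKrullDim X = 2) (hdimC : topologicalKrullDim C = 1)
  (hπ : π ≫ (C ↘ Spec (CommRingCat.of k)) = X ↘ Spec (CommRingCat.of k))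
  (hfib : ∀ y : C, IsClosed ({y} : Set C) → Nonempty (pullback π (C.fromSpecResidueField y) ≅ CohB1.ProjSpace 1 k))

include hdim hdimC hπ hfib

/-- The cohomology of an invertible module on a closed fibre. -/
theorem fibre_facts {y : C} (hy : IsClosed ({y} : Set C)) {L : X.Modules} (hL : PicF.IsInvertible L) (d : ℕ)
    (hd : FGA.intNum k X 2 ![L, ClSub.idealMod ((Scheme.IdealSheafData.vanishingIdeal ⟨{y}, hy⟩).comap π)]
      (Coh.structureModule X) = -(d : ℤ)) :
    CohIII.fiberRank π L 0 y = d + 1 ∧ ∀ i : ℕ, 0 < i → Subsingleton (CohIII.fiberH π L y i) := by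
  haveI := H28Int.isNoetherian k (X := X)
  haveI := H28Int.isNoetherian k (X := C)
  haveI := isProper_proj k π hπ
  haveI := flat_proj k π hdimC
  obtain ⟨t, ht, hty, hci, hker, θ, hθ, hθt⟩ := exists_point k hy
  haveI := hci
  haveI := hθ
  let F := pullback π t
  let g : F ⟶ X := pullback.fst π t
  letI : F.Over (Spec (CommRingCat.of k)) := ⟨pullback.snd π t⟩
  haveI : IsProper (F ↘ Spec (CommRingCat.of k)) := inferInstanceAs (IsProper (pullback.snd π t))
  have hg : g ≫ (X ↘ Spec (CommRingCat.of k)) = F ↘ Spec (CommRingCat.of k) := by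
    rw [← hπ, ← Category.assoc, pullback.condition, Category.assoc, ht, Category.comp_id]; rfl
  obtain ⟨φ⟩ := hfib y hy
  let m : F ⟶ pullback π (C.fromSpecResidueField y) :=
    pullback.map π t π (C.fromSpecResidueField y) (𝟙 X) θ (𝟙 C) (by simp) (by simp [hθt])
  haveI : IsIso m := pullback.map_isIso ..
  let e : F ≅ CohB1.ProjSpace 1 k := asIso m ≪≫ φ
  haveI := H29DoubleCover.isIntegral_projLine k
  haveI : Nonempty F := ⟨e.inv (Classical.arbitrary _)⟩
  haveI : IsIntegral F := isIntegral_of_isOpenImmersion e.hom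
  have hdimF : topologicalKrullDim F = 1 :=
    (IsHomeomorph.topologicalKrullDim_eq _ (Scheme.homeoOfIso e).isHomeomorph).trans (H28Curve.projLine_facts k).2.2
  haveI := H28Int.isNoetherian k (X := F)
  haveI := H10Coh.Stab.isSeparated_of_proper (Z := F) k
  have hgker : g.ker = (Scheme.IdealSheafData.vanishingIdeal ⟨{y}, hy⟩).comap π := by
    rw [← hker]
    exact Scheme.IdealSheafData.ker_fst_of_isClosedImmersion t π
  have hIi : PicF.IsInvertible (ClSub.idealMod g.ker) :=
    H28Int.isInvertible_idealMod_curve k hdim g hdimF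
  -- genus zero
  have hg0 : Curv2.genus k F = 0 := by
    letI := H29RR.PnPic.overSpec 1 k
    haveI : IsProper (CohB1.ProjSpace 1 k ↘ Spec (CommRingCat.of k)) :=
      inferInstanceAs (IsProper (CohB1.ProjSpace.toSpec 1 k))
    haveI := H28Int.isNoetherian k (X := CohB1.ProjSpace 1 k)
    haveI := H10Coh.finite_HH_proper k (CohB1.ProjSpace 1 k) _ (H10Coh.isCoh_structureModule' _) 1
    have hP : Subsingleton (Coh.HH (CohB1.ProjSpace 1 k) (Coh.structureModule _) 1) :=
      (Module.finrank_zero_iff (R := k)).1 (H29DoubleCover.genus_projLine k)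
    haveI : (Coh.structureModule F).IsQuasicoherent := H10Coh.isQuasicoherent_unit
    haveI := H28Vert.subsingleton_HH_of_pullback_iso e.symm (Coh.structureModule F) 1
      (H10Coh.subsingleton_HH_of_iso (H11Ample.nonempty_pullback_structureModule_iso e.inv).some.symm 1 hP)
    exact Module.finrank_zero_of_subsingleton
  have h00 := H29RR.finrank_h0_structure k F
  -- degree
  obtain ⟨L', hL', ⟨eL⟩⟩ := H11Sym.exists_inverse hL
  have eL' : CohB1.tensorMod L L' ≅ Coh.structureModule X := H10Coh.Tw.commIso L L' ≪≫ eL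
  have hdeg : Curv2.deg k F ((Scheme.Modules.pullback g).obj L) 1 = (d : ℤ) := by
    rw [← H28Int.intNum_curve k hdim g hg hIi hdimF hL hL' eL',
      H28Surf.intNum_eq_pr k hdim hIi hL', H28Surf.pr_symm k,
      H28Surf.pr_inv_left k hdim hL hL' hIi eL', ← H28Surf.intNum_eq_pr k hdim hL hIi, hgker, hd, neg_neg]
  obtain ⟨-, hh0, hh1⟩ := H29RR.genus_zero_h0 (k := k) hdimF.le h00 hg0
    (H11Ample.isInvertible_pullback g hL) (hdeg.symm ▸ Int.natCast_nonneg d)
  -- fibre ranks
  have hLc := H11Ample.isCoh_of_isInvertible hL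
  haveI : L.IsQuasicoherent := hLc.1
  have hfl := H10Coh.SheafHom.isFlatOver_of_isFinLocFree π L (H23Para.isFinLocFree_of_isInvertible hL)
  have hrank : ∀ i, CohIII.fiberRank π L i y = Module.finrank k (Coh.HH F ((Scheme.Modules.pullback g).obj L) i) := by
    intro i
    obtain ⟨V, hV, hyV, -⟩ := exists_isAffineOpen_mem_and_subset (U := (⊤ : C.Opens)) (x := y) trivial
    obtain ⟨I, hI, U, hU, ⟨M⟩⟩ := LeadBC.exists_chart_model (f := π) (hV := hV) hLc hfl
    exact (M.fiberRank_chart hU hyV i).trans (M.finrank_bc_chart hU (K := k) g t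
      (IsPullback.of_hasPullback π t) hyV hty _ (Iso.refl _) i).symm
  refine ⟨?_, fun i hi => H12Pic.PicCurve.subsingleton_fiberH_of_fiberRank π hL ?_⟩
  · rw [hrank 0]
    omega
  · rw [hrank i]
    obtain ⟨i, rfl⟩ := Nat.exists_eq_succ_of_ne_zero hi.ne'
    cases i with
    | zero => haveI := hh1; exact Module.finrank_zero_of_subsingleton
    | succ i =>
      haveI : Subsingleton (Coh.HH F ((Scheme.Modules.pullback g).obj L) (i + 1 + 1)) :=
        @Equiv.subsingleton _ _ (H10Coh.HHEquiv _ _).toEquiv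
          (H28Int.subsingleton_HnM_of_support ⊤ 1
            ((Topology.IsInducing.subtypeVal.topologicalKrullDim_le).trans hdimF.le) _
            (H11Ample.isCoh_of_isInvertible (H11Ample.isInvertible_pullback g hL)).1 (Set.subset_univ _) _
            (Nat.succ_lt_succ (Nat.succ_pos i)))
      exact Module.finrank_zero_of_subsingleton

end Groth.Agent.H28RR.Ruled
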