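import Groth.Agent.H10ZMT.Stein
import Groth.Agent.H18PBC.SteinEt.FieldEtale
import Groth.Agent.H28RR.LocalExc
import Groth.Agent.H28RR.ContractVert
import Groth.Agent.H28Vert.SmoothRelMin
import Groth.Agent.H06EGA9.StructureStalk

/-!
# The Stein base of an integral surface over a discrete valuation ring
-/

set_option autoImplicit false
set_option linter.style.haveILetI false
set_option linter.unusedSectionVars false
set_option backward.isDefEq.respectTransparency.types false
set_option maxHeartbeats 1600000

universe u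

open CategoryTheory CategoryTheory.Limits AlgebraicGeometry TopologicalSpace
open Groth.Agent

namespace Groth.Agent.H28RR.SoleComponent

/-- Global functions of a composite. -/
theorem toGlobal_comp {A B : Type u} [CommRing A] [CommRing B] (φ : A →+* B) {X : Scheme.{u}}
    (g : X ⟶ Spec (CommRingCat.of B)) (a : A) :
    Coh.toGlobal (g ≫ Spec.map (CommRingCat.ofHom φ)) a = Coh.toGlobal g (φ a) := by
  show (g ≫ Spec.map (CommRingCat.ofHom φ)).appTop ((Scheme.ΓSpecIso (CommRingCat.of A)).inv a) =
    g.appTop ((Scheme.ΓSpecIso (CommRingCat.of B)).inv (φ a))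
  rw [Scheme.Hom.comp_appTop, CommRingCat.comp_apply]
  exact congrArg g.appTop
    (ConcreteCategory.congr_hom (Scheme.ΓSpecIso_inv_naturality (CommRingCat.ofHom φ)) a).symm

/-- A morphism to an affine scheme inducing the identity on functions has connected fibres. -/
theorem isConnected_fibre_toSpecΓ (X : Scheme.{u}) [IsProper X.toSpecΓ] [IsLocallyNoetherian (Spec Γ(X, ⊤))]
    (y : Spec Γ(X, ⊤)) : _root_.IsConnected (X.toSpecΓ ⁻¹' {y}) := by
  have htop : Function.Bijective (X.toSpecΓ.app ⊤) := by
    show Function.Bijective X.toSpecΓ.appTop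
    rw [Scheme.toSpecΓ_appTop]
    exact ConcreteCategory.bijective_of_isIso _
  have hall : ∀ U : (Spec Γ(X, ⊤)).Opens, IsAffineOpen U → IsIso (X.toSpecΓ.app U) := fun U _ => by
    refine H10ZMT.isIso_app_of_basis X.toSpecΓ (fun A => ∃ s : Γ(Spec Γ(X, ⊤), ⊤), A = (Spec Γ(X, ⊤)).basicOpen s)
      (fun z W hzW => ?_) ?_ U
    · obtain ⟨s, hs, hzs⟩ := (isAffineOpen_top (Spec Γ(X, ⊤))).exists_basicOpen_le (V := W) ⟨z, hzW⟩ trivial
      exact ⟨_, ⟨s, rfl⟩, hzs, hs⟩
    · rintro _ ⟨s, rfl⟩
      exact H10ZMT.bijective_app_basicOpen X.toSpecΓ (isAffineOpen_top _) htop s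
  haveI : GeometricallyConnected X.toSpecΓ := H10ZMT.geometricallyConnected X.toSpecΓ hall
  exact X.toSpecΓ.isConnected_preimage_singleton y

variable {R : Type u} [CommRing R] [IsDomain R] [IsDiscreteValuationRing R]

/-- The structure map on global functions. -/
noncomputable abbrev str (X : Over (Spec (CommRingCat.of R))) : R →+* Γ(X.left, ⊤) := Coh.toGlobal X.hom

/-- The algebra of global functions of an integral surface, normal and proper over a discrete
valuation ring. -/
theorem stein_base (X : Over (Spec (CommRingCat.of R))) [IsProper X.hom] [Flat X.hom] [IsIntegral X.left]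
    (hnor : ∀ x : X.left, IsIntegrallyClosed (X.left.presheaf.stalk x)) :
    Function.Injective (str X) ∧ (str X).Finite ∧ IsDedekindDomain Γ(X.left, ⊤) ∧
      X.left.toSpecΓ ≫ Spec.map (CommRingCat.ofHom (str X)) = X.hom := by
  haveI : Nonempty (⊤ : X.left.Opens) := ⟨⟨genericPoint X.left, trivial⟩⟩
  haveI : IsLocallyNoetherian X.left := LocallyOfFiniteType.isLocallyNoetherian X.hom
  have hinj : Function.Injective (str X) := by
    refine (injective_iff_map_eq_zero _).2 fun r hr => by_contra fun hr0 => ?_
    refine H28Vert.stalkHom_ne_zero (X := X) hr0 (genericPoint X.left) ?_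
    show (X.left.presheaf.germ ⊤ (genericPoint X.left) trivial) (str X r) = 0
    rw [hr]
    exact map_zero (X.left.presheaf.germ ⊤ (genericPoint X.left) trivial).hom
  have hfin : (str X).Finite := H18PBC.SteinEt.finite_globalFunctions X.hom
  letI : Algebra R Γ(X.left, ⊤) := (str X).toAlgebra
  haveI : Module.Finite R Γ(X.left, ⊤) := hfin
  haveI : Algebra.IsIntegral R Γ(X.left, ⊤) := Algebra.IsIntegral.of_finite R _
  haveI : IsNoetherianRing Γ(X.left, ⊤) := IsNoetherianRing.of_finite R _
  haveI : IsIntegrallyClosed Γ(X.left, ⊤) :=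
    ContractVert.isIntegrallyClosed_sections hnor (O := ⊤) trivial
  haveI : Ring.DimensionLEOne Γ(X.left, ⊤) := ⟨fun {Q} hQ hQp => by
    haveI := hQp
    refine Ideal.isMaximal_of_isIntegral_of_isMaximal_comap (R := R) Q ?_
    refine Ideal.IsPrime.isMaximal inferInstance fun h0 => hQ ?_
    exact Ideal.eq_bot_of_comap_eq_bot h0⟩
  haveI : IsDedekindRing Γ(X.left, ⊤) := {}
  refine ⟨hinj, hfin, {}, ?_⟩
  exact (H11Tilde.hom_to_Spec_ext X.hom).symm

end Groth.Agent.H28RR.SoleComponent
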