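import Groth.Agent.H28RR.BlowCanon
import Groth.Agent.H28RR.Mult
import Groth.Agent.H28Surf.Twist
import Groth.Agent.H28Reg.Basic

/-!
# Strict transforms under the blow-up of a point
-/

set_option autoImplicit false
set_option linter.style.haveILetI false
set_option linter.unusedSectionVars false
set_option backward.isDefEq.respectTransparency.types false
universe u

open CategoryTheory CategoryTheory.Limits AlgebraicGeometry TopologicalSpace

namespace Groth.Agent.H28RR

variable {X : Scheme.{u}} (k : Type u) [Field k] [X.Over (Spec (CommRingCat.of k))]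
  [IsProper (X ↘ Spec (CommRingCat.of k))] [Smooth (X ↘ Spec (CommRingCat.of k))] [IsIntegral X]
variable [IsAlgClosed k]
variable {X' : Scheme.{u}} [X'.Over (Spec (CommRingCat.of k))] [IsProper (X' ↘ Spec (CommRingCat.of k))]
  [Smooth (X' ↘ Spec (CommRingCat.of k))] [IsIntegral X']
variable {π : X' ⟶ X} {x : X} {hx : IsClosed ({x} : Set X)}

/-- The drop of the arithmetic genus of a curve under blowing up a point. -/
theorem pr_sub_strictTransform (hdim : topologicalKrullDim X = 2) (hdim' : topologicalKrullDim X' = 2)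
    (hπk : π ≫ (X ↘ Spec (CommRingCat.of k)) = X' ↘ Spec (CommRingCat.of k))
    (hπ : BlowUp.IsBlowUp π (Scheme.IdealSheafData.vanishingIdeal ⟨{x}, hx⟩))
    {W : X.Modules} (hW : ExtPow.IsExtPow 2 (Omega.sheaf (X ↘ (Spec (CommRingCat.of k)))) W)
    {W' : X'.Modules} (hW' : ExtPow.IsExtPow 2 (Omega.sheaf (X' ↘ Spec (CommRingCat.of k))) W')
    {C : X.IdealSheafData} (hC : H28Surf.IsCurve C) {C' : X'.IdealSheafData} (hC' : H28Surf.IsCurve C') {m : ℕ}
    (hm : C.comap π = C' * (BlowUp.exceptional π (Scheme.IdealSheafData.vanishingIdeal ⟨{x}, hx⟩)) ^ m) :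
    H28Surf.pr k (ClSub.idealMod C') (ClSub.idealMod C') - H28Surf.pr k (ClSub.idealMod C') W' =
      H28Surf.pr k (ClSub.idealMod C) (ClSub.idealMod C) - H28Surf.pr k (ClSub.idealMod C) W -
        (m : ℤ) * ((m : ℤ) - 1) := by
  obtain ⟨φ⟩ := H28RR.canonical_blowup k hdim hdim' hπk hπ hW hW'
  have hE := H28RR.exc_isCurve k hdim hπ
  have hee := H28RR.pr_exc_self k hdim hdim' hπ
  have hle := fun (L : X.Modules) (hL : PicF.IsInvertible L) => H28RR.pr_pullback_exc k hdim hdim' hπk hπ hL
  have hll := fun (L M : X.Modules) (hL : PicF.IsInvertible L) (hM : PicF.IsInvertible M) =>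
    H28RR.pr_pullback k hdim hdim' hπk hπ hL hM
  have hWi := H28RR.isInvertible_canonical k hdim hW
  have hWi' := H28RR.isInvertible_canonical k hdim' hW'
  generalize BlowUp.exceptional π (Scheme.IdealSheafData.vanishingIdeal ⟨{x}, hx⟩) = E at hm φ hE hee hle ⊢
  have hCe := H28Surf.isEffCartier_curve k hdim hC
  have hCe' := H28Surf.isEffCartier_curve k hdim' hC'
  have hEm := H28Surf.isEffCartier_pow k hdim' hE m
  have hI := H28Surf.isInvertible_ideal k (H28Surf.isEffCartier_curve k hdim' hE)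
  have hc := H28Surf.isInvertible_ideal k hCe
  have hc' := H28Surf.isInvertible_ideal k hCe'
  have hP := H28Vert.isEffCartierIdeal_mul hCe' hEm
  obtain ⟨ψ⟩ := H12Pic.CurveFam.nonempty_pullback_idealMod_comap π hCe (hm ▸ hP)
  have ψ' := ψ ≪≫ eqToIso (congrArg ClSub.idealMod hm)
  have hreg' : ∀ z : X', IsRegularLocalRing (X'.presheaf.stalk z) := fun z =>
    H19Grp.isRegularLocalRing_stalk_of_smooth (X' ↘ Spec (CommRingCat.of k)) z
  -- expansion of the total transform
  have key : ∀ M : X'.Modules, PicF.IsInvertible M → H28Surf.pr k ((Scheme.Modules.pullback π).obj (ClSub.idealMod C)) M =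
      H28Surf.pr k (ClSub.idealMod C') M + (m : ℤ) * H28Surf.pr k (ClSub.idealMod E) M := fun M hM => by
    rw [H28Surf.pr_congr_left k hM ψ', H28Reg.pr_mul_left k hdim' hCe' hEm hM, ← Multiset.prod_replicate,
      H28Reg.pr_prod_left k hreg' hdim' _ (fun D hD => (Multiset.eq_of_mem_replicate hD).symm ▸ hE) hM,
      Multiset.map_replicate, Multiset.sum_replicate, nsmul_eq_mul]
  have hpc := H11Ample.isInvertible_pullback π hc
  have hpw := H11Ample.isInvertible_pullback π hWi
  have keyW : ∀ M : X'.Modules, PicF.IsInvertible M → H28Surf.pr k ((Scheme.Modules.pullback π).obj W) M =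
      H28Surf.pr k W' M + H28Surf.pr k (ClSub.idealMod E) M := fun M hM => by
    rw [← H28Surf.pr_congr_left k hM φ, H28Surf.pr_tensor_left k hdim' hWi' hI hM]
  rw [← hll _ _ hc hc, ← hll _ _ hc hWi]
  have a1 := key _ hpc
  have a2 := key _ hI
  have a3 := key _ hc'
  have a4 := key _ hpw
  have a5 := keyW _ hc'
  have a6 := keyW _ hI
  rw [H28Surf.pr_symm k (ClSub.idealMod C') ((Scheme.Modules.pullback π).obj (ClSub.idealMod C)), a3,
    H28Surf.pr_symm k (ClSub.idealMod E) ((Scheme.Modules.pullback π).obj (ClSub.idealMod C))] at a1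
  rw [hle _ hc, hee] at a2
  rw [H28Surf.pr_symm k (ClSub.idealMod C') ((Scheme.Modules.pullback π).obj W), a5,
    H28Surf.pr_symm k (ClSub.idealMod E) ((Scheme.Modules.pullback π).obj W), hle _ hWi] at a4
  rw [hle _ hWi, hee] at a6
  rw [a1, a4, hle _ hc, H28Surf.pr_symm k W' (ClSub.idealMod C'), H28Surf.pr_symm k (ClSub.idealMod E) (ClSub.idealMod C')]
  have a7 : H28Surf.pr k (ClSub.idealMod C') (ClSub.idealMod E) = (m : ℤ) := by linarith
  rw [a7]
  ring

end Groth.Agent.H28RR
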