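import Groth.Agent.H28RR.Cor

/-!
# The union of finitely many curves as a divisor
-/

set_option autoImplicit false
set_option linter.style.haveILetI false
set_option linter.unusedSectionVars false
set_option backward.isDefEq.respectTransparency.types false

universe u

open CategoryTheory CategoryTheory.Limits AlgebraicGeometry TopologicalSpace Opposite
open Groth.Agent.H28Surf

namespace Groth.Agent.H28RR

theorem iInf_span_eq_prod {R : Type u} [CommRing R] [IsDomain R] {ι : Type*} (s : Finset ι) (I : ι → Ideal R)
    (hI : ∀ i ∈ s, I i = ⊤ ∨ ((I i).IsPrime ∧ ∃ g ≠ 0, I i = Ideal.span {g}))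
    (hne : ∀ i ∈ s, ∀ j ∈ s, i ≠ j → I i = I j → I i = ⊤) :
    s.inf I ≤ ∏ i ∈ s, I i := by
  classical
  induction s using Finset.induction with
  | empty => simp
  | insert a s ha ih =>
    rw [Finset.inf_insert, Finset.prod_insert ha]
    have ih' := ih (fun i hi => hI i (Finset.mem_insert_of_mem hi))
      fun i hi j hj => hne i (Finset.mem_insert_of_mem hi) j (Finset.mem_insert_of_mem hj)
    rcases hI a (Finset.mem_insert_self a s) with h | ⟨hp, g, hg0, hg⟩
    · rw [h, Ideal.top_mul]; exact inf_le_right.trans ih'
    intro x hx
    obtain ⟨hxa, hxs⟩ := Ideal.mem_inf.1 hx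
    rw [hg] at hxa hp ⊢
    -- the product of the others is principal, with generator prime to `g`
    have hgp : Prime g := (Ideal.span_singleton_prime hg0).1 hp
    obtain ⟨G, hG, hGg⟩ : ∃ G, ∏ i ∈ s, I i = Ideal.span {G} ∧ ¬ g ∣ G := by
      clear ih ih' hx hxs
      induction s using Finset.induction with
      | empty => exact ⟨1, by simp, fun h => hgp.not_unit (isUnit_of_dvd_one h)⟩
      | insert b t hb ih₂ =>
        have hbmem : b ∈ insert a (insert b t) := Finset.mem_insert_of_mem (Finset.mem_insert_self b t)
        have hab : a ≠ b := fun h => ha (h ▸ Finset.mem_insert_self b t)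
        obtain ⟨G, hG, hGg⟩ := ih₂ (fun h => ha (Finset.mem_insert_of_mem h))
          (fun i hi => hI i (Finset.insert_subset_insert a (Finset.subset_insert b t) hi))
          (fun i hi j hj => hne i (Finset.insert_subset_insert a (Finset.subset_insert b t) hi) j
            (Finset.insert_subset_insert a (Finset.subset_insert b t) hj))
        rcases hI b hbmem with h | ⟨hbp, c, hc0, hc⟩
        · exact ⟨G, by rw [Finset.prod_insert hb, h, Ideal.top_mul, hG], hGg⟩
        refine ⟨c * G, by rw [Finset.prod_insert hb, hc, hG, Ideal.span_singleton_mul_span_singleton],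
          fun hd => (hgp.dvd_or_dvd hd).elim (fun hgc => ?_) hGg⟩
        rw [hc] at hbp
        have hassoc := hgp.associated_of_dvd ((Ideal.span_singleton_prime hc0).1 hbp) hgc
        have htop := hne a (Finset.mem_insert_self _ _) b hbmem hab
          (hg.trans ((Ideal.span_singleton_eq_span_singleton.2 hassoc).trans hc.symm))
        rw [hg] at htop
        exact hgp.not_unit (Ideal.span_singleton_eq_top.1 htop)
    have hxs' := ih' hxs
    rw [hG, Ideal.mem_span_singleton] at hxs'
    obtain ⟨y, rfl⟩ := hxs'
    rw [hG, Ideal.span_singleton_mul_span_singleton, Ideal.mem_span_singleton, mul_comm g G]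
    exact mul_dvd_mul_left G ((hgp.dvd_or_dvd (Ideal.mem_span_singleton.1 hxa)).resolve_left hGg)

variable {X : Scheme.{u}} (k : Type u) [Field k] [X.Over (Spec (CommRingCat.of k))]
  [IsProper (X ↘ Spec (CommRingCat.of k))] [Smooth (X ↘ Spec (CommRingCat.of k))] [IsIntegral X]

include k

/-- The intersection of the ideals of distinct curves is their product. -/
theorem iInf_eq_prod (hdim : topologicalKrullDim X = 2) {n : ℕ} (C : Fin n → X.IdealSheafData)
    (hC : ∀ i, IsCurve (C i)) (hinj : Function.Injective fun i => ((C i).support : Set X)) :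
    (⨅ i, C i) = ∏ i, C i := by
  classical
  haveI := H28Int.isNoetherian k (X := X)
  haveI hreg : ∀ x : X, IsRegularLocalRing (X.presheaf.stalk x) :=
    fun x => H19Grp.isRegularLocalRing_stalk_of_smooth (X ↘ Spec (CommRingCat.of k)) x
  haveI hdom : ∀ x : X, IsDomain (X.presheaf.stalk x) := fun x => inferInstance
  have hp : ∀ (x : X) (V : X.affineOpens) (hx : x ∈ V.1),
      H28Vert.stalkId (∏ i, C i) V hx = ∏ i, H28Vert.stalkId (C i) V hx := fun x V hx => by
    have h := H28Vert.stalkId_prod Finset.univ C (fun _ => 1) V hx
    simpa using h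
  refine le_antisymm (H28Vert.le_of_stalk _ _ fun x V hx => ?_)
    (le_iInf fun i => H28Vert.le_of_stalk _ _ fun x V hx => ?_)
  · rw [hp x V hx]
    refine le_trans (Finset.le_inf fun i _ => Ideal.map_mono ?_) (iInf_span_eq_prod Finset.univ _ (fun i _ => ?_) ?_)
    · rw [Scheme.IdealSheafData.ideal_iInf, iInf_apply]
      exact iInf_le (fun j => (C j).ideal V) i
    · haveI := (hC i).int
      by_cases hs : x ∈ ((C i).support : Set X)
      swap
      · exact Or.inl (stalkId_top _ V hx hs)
      obtain ⟨g, hg0, hg⟩ := H28Vert.exists_gen_of_isEffCartierIdeal (isEffCartier_curve k hdim (hC i)) x V hx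
      refine Or.inr ⟨?_, g, hg0, hg⟩
      obtain ⟨y, rfl⟩ : x ∈ Set.range (C i).subschemeι := by rw [(C i).range_subschemeι]; exact hs
      have h := H17.ker_stalkMap_eq_map (C i).subschemeι V.2 y hx
      rw [← Scheme.Hom.ker_apply, (C i).ker_subschemeι] at h
      show (((C i).ideal V).map _).IsPrime
      rw [← h]
      exact RingHom.ker_isPrime _
    · intro i _ j _ hij heq
      haveI := (hC i).int
      haveI := (hC j).int
      by_contra htop
      have hxs : x ∈ ((C i).support : Set X) := by
        by_contra hs; exact htop (stalkId_top _ V hx hs)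
      rw [← (hC i).closure_gen, ← specializes_iff_mem_closure] at hxs
      have hsj : ∀ {i j : Fin n}, H28Vert.stalkId (C i) V hx = H28Vert.stalkId (C j) V hx → ∀ {η : X}, η ⤳ x →
          η ∈ ((C i).support : Set X) → η ∈ ((C j).support : Set X) := by
        intro i j he η hη hi
        have hηV : η ∈ V.1 := hη.mem_open V.1.2 hx
        have hloc : ∀ l, H28Vert.stalkId (C l) V hηV =
            (H28Vert.stalkId (C l) V hx).map (X.presheaf.stalkSpecializes hη).hom := fun l => by
          rw [H28Vert.stalkId, H28Vert.stalkId, Ideal.map_map, ← CommRingCat.hom_comp,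
            TopCat.Presheaf.germ_stalkSpecializes]
        by_contra hns
        have h1 := stalkId_top (C j) V hηV hns
        rw [hloc j, ← he, ← hloc i] at h1
        have hp' : H28Vert.stalkId (C i) V hηV ≠ ⊤ := by
          obtain ⟨y, rfl⟩ : η ∈ Set.range (C i).subschemeι := by rw [(C i).range_subschemeι]; exact hi
          have h := H17.ker_stalkMap_eq_map (C i).subschemeι V.2 y hηV
          rw [← Scheme.Hom.ker_apply, (C i).ker_subschemeι] at h
          show ((C i).ideal V).map _ ≠ ⊤
          rw [← h]
          exact RingHom.ker_ne_top _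
        exact hp' h1
      have hηi := (C i).range_subschemeι.subset (Set.mem_range_self (genericPoint (C i).subscheme))
      have hsub : ((C i).support : Set X) ⊆ (C j).support := by
        rw [← (hC i).closure_gen]
        exact closure_minimal (Set.singleton_subset_iff.2 (hsj heq hxs hηi)) (C j).support.2
      have hxs' : x ∈ ((C j).support : Set X) := by
        by_contra hs; exact htop (heq.trans (stalkId_top _ V hx hs))
      rw [← (hC j).closure_gen, ← specializes_iff_mem_closure] at hxs'
      have hsub' : ((C j).support : Set X) ⊆ (C i).support := by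
        rw [← (hC j).closure_gen]
        exact closure_minimal (Set.singleton_subset_iff.2 (hsj heq.symm hxs'
          ((C j).range_subschemeι.subset (Set.mem_range_self (genericPoint (C j).subscheme))))) (C i).support.2
      exact hij (hinj (subset_antisymm hsub hsub'))
  · rw [hp x V hx]
    exact Ideal.prod_le_inf.trans (Finset.inf_le (Finset.mem_univ i))

end Groth.Agent.H28RR
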