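import Groth.Agent.H28RR.FibreNef
import Groth.Agent.H28RR.HodgeIndex
import Groth.Agent.H28RR.Adjunction
import Groth.Agent.H28RR.Cor

/-!
# Vertical curves of a fibration
-/

set_option autoImplicit false
set_option linter.style.haveILetI false
set_option linter.unusedSectionVars false
set_option backward.isDefEq.respectTransparency.types false
universe u

open CategoryTheory CategoryTheory.Limits AlgebraicGeometry TopologicalSpace
open Groth.Agent.H28Surf

namespace Groth.Agent.H28RR

variable {X : Scheme.{u}} (k : Type u) [Field k] [X.Over (Spec (CommRingCat.of k))]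
  [IsProper (X ↘ Spec (CommRingCat.of k))] [Smooth (X ↘ Spec (CommRingCat.of k))] [IsIntegral X]

include k

/-- Modules pulled back from the base have degree zero on vertical curves. -/
theorem pr_pullback_vertical [IsAlgClosed k] (hdim : topologicalKrullDim X = 2) {C : Scheme.{u}}
    [C.Over (Spec (CommRingCat.of k))] [IsProper (C ↘ Spec (CommRingCat.of k))] (f : X ⟶ C) {P : C.Modules} (hP : PicF.IsInvertible P) {p : C}
    {Γ : X.IdealSheafData} (hΓ : IsCurve Γ) (hv : ∀ x ∈ (Γ.support : Set X), f x = p) :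
    pr k ((Scheme.Modules.pullback f).obj P) (ClSub.idealMod Γ) = 0 := by
  have hconst : ∀ y, (Γ.subschemeι ≫ f) y = p := fun y =>
    hv _ (by rw [← Scheme.IdealSheafData.range_subschemeι]; exact ⟨y, rfl⟩)
  haveI := hΓ.int
  have hPi := H11Ample.isInvertible_pullback f hP
  rw [pr_symm k]
  have hdeg := degOn_eq_pr k hdim hΓ hPi
  rw [degOn_eq_deg k hΓ hPi] at hdeg
  letI : Γ.subscheme.Over (Spec (CommRingCat.of k)) := ⟨Γ.subschemeι ≫ (X ↘ Spec (CommRingCat.of k))⟩
  haveI : IsProper (Γ.subscheme ↘ Spec (CommRingCat.of k)) :=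
    inferInstanceAs (IsProper (Γ.subschemeι ≫ (X ↘ Spec (CommRingCat.of k))))
  have h0 : H28Int.D k [(Scheme.Modules.pullback (Γ.subschemeι ≫ f)).obj P] (Coh.structureModule Γ.subscheme) = 0 :=
    H28Int.Curves.D_pullback_const k (Γ.subschemeι ≫ f) (x := p) hconst hP
  have h2 := H25Euler.euler_congr (k := k) ((Scheme.Modules.pullbackComp Γ.subschemeι f).app P)
  have h3 : Curv2.euler k Γ.subscheme (Coh.structureModule Γ.subscheme) - Curv2.euler k Γ.subscheme
      (CohB1.tensorMod ((Scheme.Modules.pullback (Γ.subschemeι ≫ f)).obj P) (Coh.structureModule Γ.subscheme)) = 0 := h0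
  rw [H25Euler.euler_congr (H10Coh.Tw.rightUnitIso _)] at h3
  rw [Curv2.deg, Nat.cast_one, one_mul] at hdeg
  simp only [Functor.comp_obj] at h2
  omega

/-- A fibre is isotropic, is the pullback of a point, and is negative on ample classes. -/
theorem fibre_facts [IsAlgClosed k] (hdim : topologicalKrullDim X = 2) {C : Scheme.{u}}
    [C.Over (Spec (CommRingCat.of k))] [IsProper (C ↘ Spec (CommRingCat.of k))]
    [Smooth (C ↘ Spec (CommRingCat.of k))] [IsIntegral C] (hdimC : topologicalKrullDim C = 1)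
    (f : X ⟶ C) [Surjective f] {p : C} (hp : IsClosed ({p} : Set C)) :
    pr k (ClSub.idealMod (f.fiberι p).ker) (ClSub.idealMod (f.fiberι p).ker) = 0 ∧
    (∀ Γ : X.IdealSheafData, IsCurve Γ → (∃ c, ∀ x ∈ (Γ.support : Set X), f x = c) →
      pr k (ClSub.idealMod (f.fiberι p).ker) (ClSub.idealMod Γ) = 0) ∧
    (∀ H : X.Modules, CohB1.IsAmple H → pr k (ClSub.idealMod (f.fiberι p).ker) H < 0) := by
  classical
  have hreg : ∀ x : X, IsRegularLocalRing (X.presheaf.stalk x) :=
    fun x => H19Grp.isRegularLocalRing_stalk_of_smooth (X ↘ Spec (CommRingCat.of k)) x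
  have hF := isEffCartier_fibre k hdimC f (hp := hp)
  have hIF := isInvertible_ideal k hF
  obtain ⟨M, hM, hMp⟩ := H28Surf.exists_multiset k hdim _ hF
  have hker := ker_fiberι f hp
  have hpt := isEffCartier_point k hdimC hp
  have hpi := H29Blow.isInvertible_of_isEffCartierIdeal _ hpt
  have hF' : BlowUp.IsEffCartierIdeal ((Scheme.IdealSheafData.vanishingIdeal ⟨{p}, hp⟩).comap f) := hker ▸ hF
  obtain ⟨ψ⟩ := H12Pic.CurveFam.nonempty_pullback_idealMod_comap f hpt hF'
  let ψ' := ψ ≪≫ eqToIso (congrArg ClSub.idealMod hker.symm)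
  have hsupp : ((f.fiberι p).ker.support : Set X) = f ⁻¹' {p} := by
    rw [hker, Scheme.IdealSheafData.support_comap]
    rw [Closeds.coe_preimage]
    rw [Scheme.IdealSheafData.coe_support_vanishingIdeal]
    rfl
  have hvert : ∀ D ∈ M, ∀ x ∈ (D.support : Set X), f x = p := fun D hD x hx => by
    have h1 : x ∈ ((f.fiberι p).ker.support : Set X) := by
      rw [← hMp]; exact (mem_support_prod k).2 ⟨D, hD, hx⟩
    rw [hsupp] at h1
    exact h1
  have hzero : ∀ Γ : X.IdealSheafData, IsCurve Γ → (∃ c, ∀ x ∈ (Γ.support : Set X), f x = c) →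
      pr k (ClSub.idealMod (f.fiberι p).ker) (ClSub.idealMod Γ) = 0 := by
    rintro Γ hΓ ⟨c, hc⟩
    rw [← pr_congr_left k (isInvertible_ideal k (isEffCartier_curve k hdim hΓ)) ψ']
    exact pr_pullback_vertical k hdim f hpi hΓ hc
  refine ⟨?_, hzero, fun H hH => ?_⟩
  · have h : pr k (ClSub.idealMod M.prod) (ClSub.idealMod (f.fiberι p).ker) = 0 := by
      rw [H28Reg.pr_prod_left k hreg hdim M hM hIF]
      refine Multiset.sum_eq_zero fun a ha => ?_
      obtain ⟨D, hD, rfl⟩ := Multiset.mem_map.1 ha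
      rw [pr_symm k]
      exact hzero D (hM D hD) ⟨p, hvert D hD⟩
    rwa [hMp] at h
  · have hHi := (H11Ample.isAmple_iff.1 hH).1
    rw [← hMp, H28Reg.pr_prod_left k hreg hdim M hM hHi]
    obtain ⟨x, hx⟩ := f.surjective p
    obtain ⟨D₀, hD₀, -⟩ := (mem_support_prod k (M := M)).1 (by rw [hMp, hsupp]; exact hx)
    have hneg : ∀ D ∈ M, pr k (ClSub.idealMod D) H < 0 := fun D hD => by
      have h1 := degOn_eq_pr k hdim (hM D hD) hHi
      have h2 := ample_deg_pos k hdim hH (hM D hD)
      omega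
    rw [← Multiset.cons_erase hD₀, Multiset.map_cons, Multiset.sum_cons]
    have h1 := hneg D₀ hD₀
    have h2 : ((M.erase D₀).map fun C => pr k (ClSub.idealMod C) H).sum ≤ ((M.erase D₀).map fun _ => (0 : ℤ)).sum :=
      Multiset.sum_map_le_sum_map _ _ fun D hD => (hneg D (Multiset.mem_of_mem_erase hD)).le
    simp only [Multiset.map_const', Multiset.sum_replicate, smul_zero] at h2
    omega

end Groth.Agent.H28RR
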